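import Cfsg.Agent.H37.SquareZero
import Cfsg.Agent.H37.Card

/-!
`PSL_3(4)`: one class of involutions, no elements of order 15, order 20160.
-/

set_option autoImplicit false

namespace H37

open Matrix Module

universe u

section invol

variable {F : Type u} [Field F] [Fintype F]

theorem charP_two_of_card_four (hF : Fintype.card F = 4) : CharP F 2 := by
  refine CharTwo.of_one_ne_zero_of_two_eq_zero one_ne_zero ?_
  have h := FiniteField.cast_card_eq_zero F
  rw [hF, show ((4 : ℕ) : F) = 2 * 2 by norm_num] at h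
  exact mul_self_eq_zero.1 h

theorem isConj_involutions_PSL34 (hF : Fintype.card F = 4)
    (x y : ProjectiveSpecialLinearGroup (Fin 3) F) (hx : orderOf x = 2) (hy : orderOf y = 2) :
    IsConj x y := by
  classical
  haveI := charP_two_of_card_four hF
  have lift : ∀ w : ProjectiveSpecialLinearGroup (Fin 3) F, orderOf w = 2 →
      ∃ h : Matrix.SpecialLinearGroup (Fin 3) F, QuotientGroup.mk h = w ∧
        (∀ v, Matrix.toLin' ((h : Matrix (Fin 3) (Fin 3) F) - 1)
          (Matrix.toLin' ((h : Matrix (Fin 3) (Fin 3) F) - 1) v) = 0) ∧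
        finrank F (LinearMap.range (Matrix.toLin' ((h : Matrix (Fin 3) (Fin 3) F) - 1))) = 1 := by
    intro w hw
    obtain ⟨g, rfl⟩ := QuotientGroup.mk_surjective w
    have hz : g * g ∈ Subgroup.center (Matrix.SpecialLinearGroup (Fin 3) F) := by
      rw [← QuotientGroup.eq_one_iff, QuotientGroup.mk_mul, ← sq, ← hw, pow_orderOf_eq_one]
    have hz3 : (g * g) * (g * g) * (g * g) = 1 := by
      obtain ⟨r, hr, hg⟩ := Matrix.SpecialLinearGroup.mem_center_iff.1 hz
      apply Subtype.ext
      simp only [Matrix.SpecialLinearGroup.coe_mul] at hg ⊢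
      rw [← hg, ← map_mul, ← map_mul, show r * r * r = 1 by rw [← hr]; simp [pow_succ], map_one,
        Matrix.SpecialLinearGroup.coe_one]
    set h := g * (g * g) with hh
    have hmk : (QuotientGroup.mk h : ProjectiveSpecialLinearGroup (Fin 3) F) = QuotientGroup.mk g := by
      rw [hh, QuotientGroup.mk_mul, (QuotientGroup.eq_one_iff (g * g)).2 hz, mul_one]
    have h2 : h * h = 1 := by rw [hh]; simpa [mul_assoc] using hz3
    have h1 : h ≠ 1 := by
      intro h1
      rw [← hmk, h1, QuotientGroup.mk_one, orderOf_one] at hw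
      omega
    set N := (h : Matrix (Fin 3) (Fin 3) F) - 1 with hN
    have h2' : (h : Matrix (Fin 3) (Fin 3) F) * (h : Matrix (Fin 3) (Fin 3) F) = 1 :=
      congrArg Subtype.val h2
    have hNN : N * N = 0 := by
      have htwo : ((h : Matrix (Fin 3) (Fin 3) F) - 1) + ((h : Matrix (Fin 3) (Fin 3) F) - 1) = 0 := by
        rw [← two_smul F, CharTwo.two_eq_zero, zero_smul]
      rw [hN, sub_mul, mul_sub, mul_sub, one_mul, mul_one, mul_one, h2']
      linear_combination (norm := abel) -htwo
    have hsq : ∀ v, Matrix.toLin' N (Matrix.toLin' N v) = 0 := fun v => by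
      rw [Matrix.toLin'_apply, Matrix.toLin'_apply, Matrix.mulVec_mulVec, hNN, Matrix.zero_mulVec]
    refine ⟨h, hmk, hsq, ?_⟩
    have hle : LinearMap.range (Matrix.toLin' N) ≤ LinearMap.ker (Matrix.toLin' N) := by
      rintro _ ⟨v, rfl⟩
      exact hsq v
    have hsum := LinearMap.finrank_range_add_finrank_ker (Matrix.toLin' N)
    have hmono := Submodule.finrank_mono hle
    rw [Module.finrank_fin_fun] at hsum
    have hpos : 0 < finrank F (LinearMap.range (Matrix.toLin' N)) := by
      rw [Nat.pos_iff_ne_zero, Ne, Submodule.finrank_eq_zero, LinearMap.range_eq_bot,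
        LinearEquiv.map_eq_zero_iff, hN, sub_eq_zero]
      exact fun e => h1 (Subtype.ext e)
    rw [← hN]; omega
  obtain ⟨a, rfl, ha, ra⟩ := lift x hx
  obtain ⟨b, rfl, hb, rb⟩ := lift y hy
  have hne : Matrix.toLin' ((a : Matrix (Fin 3) (Fin 3) F) - 1) ≠ 0 := by
    intro h0
    rw [h0, LinearMap.range_zero, finrank_bot] at ra
    omega
  obtain ⟨e, hdet, he⟩ := exists_det_one_intertwining_sq_zero
    (fun t => FiniteField.isSquare_of_char_two (ringChar.eq F 2) t) _ _ ha hb hne (ra.trans rb.symm)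
  let P : Matrix.SpecialLinearGroup (Fin 3) F :=
    ⟨LinearMap.toMatrix' e, by rw [LinearMap.det_toMatrix', hdet]⟩
  refine (QuotientGroup.mk' _).map_isConj (isConj_iff.2 ⟨P, ?_⟩)
  rw [mul_inv_eq_iff_eq_mul]
  apply Subtype.ext
  have h1 : LinearMap.toMatrix' e * ((a : Matrix (Fin 3) (Fin 3) F) - 1) =
      ((b : Matrix (Fin 3) (Fin 3) F) - 1) * LinearMap.toMatrix' e := by
    have : e.comp (Matrix.toLin' ((a : Matrix (Fin 3) (Fin 3) F) - 1)) =
        (Matrix.toLin' ((b : Matrix (Fin 3) (Fin 3) F) - 1)).comp e := LinearMap.ext he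
    simpa [LinearMap.toMatrix'_comp] using congrArg LinearMap.toMatrix' this
  rw [mul_sub, sub_mul, mul_one, one_mul, sub_left_inj] at h1
  exact h1

end invol

section order

/-- A computable field with four elements. -/
abbrev K4 : Type := QuadraticAlgebra (ZMod 2) 1 1

instance k4Fact : Fact (∀ r : ZMod 2, r ^ 2 ≠ (1 : ZMod 2) + 1 * r) := ⟨by decide⟩

instance k4Fintype : Fintype K4 := Fintype.ofEquiv _ (QuadraticAlgebra.equivProd (1 : ZMod 2) 1).symm

theorem card_K4 : Nat.card K4 = 4 := by
  rw [Nat.card_congr (QuadraticAlgebra.equivProd (1 : ZMod 2) 1)]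
  simp

/-- Coordinates of `g ^ n` in `g², g, 1` if `g³ = t g² + s g + 1`. -/
def cay {R : Type u} [CommRing R] (t s : R) : ℕ → R × R × R
  | 0 => (0, 0, 1)
  | n + 1 => ((cay t s n).1 * t + (cay t s n).2.1, (cay t s n).1 * s + (cay t s n).2.2, (cay t s n).1)

theorem cay_map {R : Type} {S : Type u} [CommRing R] [CommRing S] (f : R →+* S) (t s : R) (n : ℕ) :
    cay (f t) (f s) n = (f (cay t s n).1, f (cay t s n).2.1, f (cay t s n).2.2) := by
  induction n with
  | zero => simp [cay]
  | succ n ih => simp [cay, ih]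

theorem cay_K4 : ∀ t s : K4, ((cay t s 5).1 = 0 ∧ (cay t s 5).2.1 = 0) ∨
    cay t s 12 = (0, 0, 1) ∨ cay t s 63 = (0, 0, 1) := by decide +kernel

variable {F : Type u} [Field F] [Fintype F]

omit [Fintype F] in
theorem pow_eq_cay {M : Matrix (Fin 3) (Fin 3) F} {t s : F}
    (h : M ^ 3 = t • M ^ 2 + s • M + 1) (n : ℕ) :
    M ^ n = (cay t s n).1 • M ^ 2 + (cay t s n).2.1 • M + (cay t s n).2.2 • 1 := by
  induction n with
  | zero => simp [cay]
  | succ n ih =>
    rw [pow_succ, ih]
    simp only [cay, add_mul, smul_mul_assoc, one_mul]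
    rw [← pow_succ, h, ← sq]
    simp only [smul_add, smul_smul, add_smul]
    abel

theorem orderOf_ne_fifteen_PSL34 (hF : Fintype.card F = 4)
    (g : ProjectiveSpecialLinearGroup (Fin 3) F) : orderOf g ≠ 15 := by
  classical
  intro hord
  obtain ⟨h, rfl⟩ := QuotientGroup.mk_surjective g
  let e : K4 ≃+* F := FiniteField.ringEquivOfCardEq (by
    rw [hF, ← Nat.card_eq_fintype_card, card_K4])
  haveI := charP_two_of_card_four hF
  set M : Matrix (Fin 3) (Fin 3) F := (h : Matrix (Fin 3) (Fin 3) F) with hM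
  have hch : M ^ 3 = M.charpoly.coeff 2 • M ^ 2 + M.charpoly.coeff 1 • M + 1 := by
    have h0 := Matrix.aeval_self_charpoly M
    rw [Polynomial.aeval_eq_sum_range, M.charpoly_natDegree_eq_dim] at h0
    have h3 : M.charpoly.coeff 3 = 1 := by
      have := M.charpoly_monic.coeff_natDegree
      rwa [M.charpoly_natDegree_eq_dim, Fintype.card_fin] at this
    have hd : M.charpoly.coeff 0 = 1 := by
      have := Matrix.det_eq_sign_charpoly_coeff M
      rw [show M.det = 1 from h.2, Fintype.card_fin, CharTwo.neg_eq, one_pow, one_mul] at this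
      exact this.symm
    simp only [Fintype.card_fin, Finset.sum_range_succ, Finset.sum_range_zero, zero_add, h3, hd,
      pow_zero, pow_one, one_smul] at h0
    have hneg : ∀ X : Matrix (Fin 3) (Fin 3) F, -X = X := fun X => by
      ext i j; exact CharTwo.neg_eq _
    rw [← hneg (M ^ 3)]
    rw [neg_eq_iff_add_eq_zero, ← h0]
    abel
  obtain ⟨t, ht⟩ := e.surjective (M.charpoly.coeff 2)
  obtain ⟨s, hs⟩ := e.surjective (M.charpoly.coeff 1)
  have hp : ∀ n, M ^ n = (e (cay t s n).1) • M ^ 2 + (e (cay t s n).2.1) • M +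
      (e (cay t s n).2.2) • (1 : Matrix (Fin 3) (Fin 3) F) := fun n => by
    rw [pow_eq_cay hch n, ← ht, ← hs]
    have := cay_map (e : K4 →+* F) t s n
    simp only [RingEquiv.coe_toRingHom] at this
    rw [this]
  have hscal : ∀ n, (∃ c : F, M ^ n = c • (1 : Matrix (Fin 3) (Fin 3) F)) →
      orderOf (QuotientGroup.mk h : ProjectiveSpecialLinearGroup (Fin 3) F) ∣ n := by
    rintro n ⟨c, hc⟩
    apply orderOf_dvd_of_pow_eq_one
    rw [← QuotientGroup.mk_pow, QuotientGroup.eq_one_iff, Matrix.SpecialLinearGroup.mem_center_iff]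
    refine ⟨c, ?_, ?_⟩
    · have := (h ^ n).2
      rw [Matrix.SpecialLinearGroup.coe_pow, ← hM, hc, Matrix.det_smul, Matrix.det_one, mul_one] at this
      exact this
    · rw [Matrix.SpecialLinearGroup.coe_pow, ← hM, hc]
      simp [Matrix.smul_one_eq_diagonal, Matrix.scalar_apply]
  rcases cay_K4 t s with ⟨h1, h2⟩ | h1 | h1
  · have := hscal 5 ⟨e (cay t s 5).2.2, by rw [hp 5, h1, h2]; simp⟩
    rw [hord] at this
    norm_num at this
  · have := hscal 12 ⟨1, by rw [hp 12, h1]; simp⟩
    rw [hord] at this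
    norm_num at this
  · have := hscal 63 ⟨1, by rw [hp 63, h1]; simp⟩
    rw [hord] at this
    norm_num at this

end order

end H37
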