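import Cfsg.Agent.H39.Dickson
import Cfsg.Agent.H37.Card
import Cfsg.Agent.H37.Two
import Cfsg.Agent.H37.SmallIsoBase
import Cfsg.Agent.H70.SL2Facts

/-!
Dickson's generation theorem: `[[1,0],[1,1]]` and `[[1,λ],[0,1]]` generate `SL₂(q)`.
-/

set_option autoImplicit false

namespace H37

open Matrix
open scoped MatrixGroups commutatorElement

variable {F : Type*} [Field F] [Fintype F]

/-- The group in question. -/
def twoUnip (lam : F) : Subgroup SL(2, F) :=
  Subgroup.closure {lower2 1, upper2 lam}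

/-- Second coefficient of the `n`-th power of a matrix of trace `t`, determinant one. -/
def powCoef {R : Type*} [CommRing R] (t : R) : ℕ → R × R
  | 0 => (0, -1)
  | n + 1 => ((powCoef t n).1 * t - (powCoef t n).2, (powCoef t n).1)

omit [Fintype F] in
theorem pow_eq_powCoef (g : SL(2, F)) (n : ℕ) :
    ((g ^ n : SL(2, F)) : Matrix (Fin 2) (Fin 2) F) =
      (powCoef (H39.tr g) n).1 • (g : Matrix (Fin 2) (Fin 2) F) -
        (powCoef (H39.tr g) n).2 • (1 : Matrix (Fin 2) (Fin 2) F) := by
  induction n with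
  | zero => simp [powCoef]
  | succ n ih =>
    rw [pow_succ, Matrix.SpecialLinearGroup.coe_mul, ih, Matrix.sub_mul, Matrix.smul_mul,
      Matrix.smul_mul, Matrix.one_mul, H39.cayley]
    simp only [powCoef, sub_smul, smul_sub, smul_smul]
    abel

omit [Fintype F] in
/-- A non-scalar element with scalar `n`-th power has `powCoef = 0`. -/
theorem powCoef_eq_zero {g : SL(2, F)} (hg : (g : Matrix (Fin 2) (Fin 2) F) 1 0 ≠ 0) {n : ℕ}
    (h : H39.proj g ^ n = 1) : (powCoef (H39.tr g) n).1 = 0 := by
  rw [← map_pow, H39.proj_eq_one_iff, H39.mem_center_iff_isScalar2] at h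
  have h10 := h.2.1
  rw [pow_eq_powCoef] at h10
  simp at h10
  exact h10.resolve_right hg

omit [Fintype F] in
theorem powCoef_two (t : F) : (powCoef t 2).1 = t := by simp [powCoef]

omit [Fintype F] in
theorem powCoef_three (t : F) : (powCoef t 3).1 = t ^ 2 - 1 := by simp [powCoef]; ring

omit [Fintype F] in
theorem powCoef_four (t : F) : (powCoef t 4).1 = t * (t ^ 2 - 2) := by simp [powCoef]; ring

omit [Fintype F] in
theorem powCoef_five (t : F) : (powCoef t 5).1 = (t ^ 2) ^ 2 - 3 * t ^ 2 + 1 := by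
  simp [powCoef]; ring

theorem alt4_orders : ∀ g : alternatingGroup (Fin 4), g ^ 2 = 1 ∨ g ^ 3 = 1 := by decide +kernel

theorem sym4_orders : ∀ g : Equiv.Perm (Fin 4), g ^ 2 = 1 ∨ g ^ 3 = 1 ∨ g ^ 4 = 1 := by
  decide +kernel

theorem alt5_orders : ∀ g : alternatingGroup (Fin 5), g ^ 2 = 1 ∨ g ^ 3 = 1 ∨ g ^ 5 = 1 := by
  decide +kernel

omit [Fintype F] in
theorem closure_singleton_ne_top_of_mem {K : Subfield F} {lam : F}
    (hgen : Subfield.closure ({lam} : Set F) = ⊤) (h : lam ∈ K) : K = ⊤ :=
  top_unique (hgen ▸ Subfield.closure_le.2 (Set.singleton_subset_iff.2 h))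

omit [Fintype F] in
theorem upper2_natCast (lam : F) (k : ℕ) : upper2 lam ^ k = upper2 ((k : F) * lam) := by
  induction k with
  | zero =>
    ext i j
    fin_cases i <;> fin_cases j <;> simp
  | succ k ih =>
    rw [pow_succ, ih]
    ext i j
    fin_cases i <;> fin_cases j <;> simp [Matrix.mul_apply, Fin.sum_univ_two] <;> ring

omit [Fintype F] in
theorem lower2_natCast (lam : F) (k : ℕ) : lower2 lam ^ k = lower2 ((k : F) * lam) := by
  induction k with
  | zero =>
    ext i j
    fin_cases i <;> fin_cases j <;> simp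
  | succ k ih =>
    rw [pow_succ, ih]
    ext i j
    fin_cases i <;> fin_cases j <;> simp [Matrix.mul_apply, Fin.sum_univ_two] <;> ring

theorem twoUnip_eq_top_of_prime {p : ℕ} [Fact p.Prime] [CharP F p] {lam : F} (hlam : lam ≠ 0)
    (hp : Fintype.card F = p) : twoUnip lam = ⊤ := by
  have hsurj : ∀ c : F, ∃ k : ℕ, (k : F) = c := fun c => by
    obtain ⟨k, hk⟩ := (ZMod.ringEquivOfPrime F Fact.out hp).surjective c
    exact ⟨k.val, by rw [← hk, ← map_natCast (ZMod.ringEquivOfPrime F Fact.out hp), ZMod.natCast_zmod_val]⟩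
  refine eq_top_of_upper2_lower2 _ (fun c => ?_) (fun c => ?_)
  · obtain ⟨k, hk⟩ := hsurj (c / lam)
    have := pow_mem (Subgroup.subset_closure (Or.inr rfl) : upper2 lam ∈ twoUnip lam) k
    rwa [upper2_natCast, hk, div_mul_cancel₀ _ hlam] at this
  · obtain ⟨k, hk⟩ := hsurj c
    have := pow_mem (Subgroup.subset_closure (Or.inl rfl) : lower2 (1 : F) ∈ twoUnip lam) k
    rwa [lower2_natCast, hk, mul_one] at this

theorem two_unipotents_proj_eq_top (p : ℕ) [Fact p.Prime] [CharP F p] (hp2 : p ≠ 2) {lam : F}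
    (hlam : lam ≠ 0) (hgen : Subfield.closure ({lam} : Set F) = ⊤) (hcard : Fintype.card F ≠ p)
    (h9 : ¬ (Fintype.card F = 9 ∧ lam ^ 2 = -1)) :
    (twoUnip lam).map H39.proj = ⊤ := by
  classical
  have hp : p.Prime := Fact.out
  have h2 : (2 : F) ≠ 0 := by
    intro h
    have h' : ((2 : ℕ) : F) = 0 := by exact_mod_cast h
    rw [CharP.cast_eq_zero_iff F p] at h'
    exact hp2 ((Nat.prime_dvd_prime_iff_eq hp Nat.prime_two).1 h')
  set H := (twoUnip lam).map H39.proj with hH
  set u : SL(2, F) := lower2 1 with hu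
  set v : SL(2, F) := upper2 lam with hv
  have huH : H39.proj u ∈ H := Subgroup.mem_map_of_mem _ (Subgroup.subset_closure (Or.inl rfl))
  have hvH : H39.proj v ∈ H := Subgroup.mem_map_of_mem _ (Subgroup.subset_closure (Or.inr rfl))
  -- the two products
  have htr1 : H39.tr (u * v) = 2 + lam := by
    simp [H39.tr_def, hu, hv, Matrix.mul_apply, Fin.sum_univ_two]; ring
  have htr2 : H39.tr (u * v⁻¹) = 2 - lam := by
    simp [H39.tr_def, hu, hv, Matrix.mul_apply, Fin.sum_univ_two, Matrix.SpecialLinearGroup.coe_inv,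
      Matrix.adjugate_fin_two]
    ring
  have h10a : ((u * v : SL(2, F)) : Matrix (Fin 2) (Fin 2) F) 1 0 ≠ 0 := by
    simp [hu, hv, Matrix.mul_apply, Fin.sum_univ_two]
  have h10b : ((u * v⁻¹ : SL(2, F)) : Matrix (Fin 2) (Fin 2) F) 1 0 ≠ 0 := by
    simp [hu, hv, Matrix.mul_apply, Fin.sum_univ_two, Matrix.SpecialLinearGroup.coe_inv,
      Matrix.adjugate_fin_two]
  have haH : H39.proj (u * v) ∈ H := by rw [map_mul]; exact mul_mem huH hvH
  have hbH : H39.proj (u * v⁻¹) ∈ H := by
    rw [map_mul, map_inv]; exact mul_mem huH (inv_mem hvH)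
  -- elements of order `p`
  have hup : H39.proj u ^ p = 1 := (H39.pow_char_eq_one_iff p).2 (by simp [H39.tr_def, hu]; norm_num)
  have hvp : H39.proj v ^ p = 1 := (H39.pow_char_eq_one_iff p).2 (by simp [H39.tr_def, hv]; norm_num)
  have hu1 : H39.proj u ≠ 1 := by
    rw [Ne, H39.proj_eq_one_iff, H39.mem_center_iff_isScalar2]
    simp [H40.IsScalar2, hu]
  have hou : orderOf (⟨_, huH⟩ : H) = p := by
    rw [← Subgroup.orderOf_coe]; exact orderOf_eq_prime hup hu1
  have hpH : p ∣ Nat.card H := hou ▸ orderOf_dvd_natCard _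
  have hncomm : H39.proj u * H39.proj v ≠ H39.proj v * H39.proj u := by
    rw [← map_mul, ← map_mul, Ne, H39.proj_eq_proj_iff]
    have h01 : ((v * u : SL(2, F)) : Matrix (Fin 2) (Fin 2) F) 0 0 = 1 + lam := by
      simp [hu, hv, Matrix.mul_apply, Fin.sum_univ_two]
    rintro (h | h)
    · rw [h] at h01
      simp [hu, hv, Matrix.mul_apply, Fin.sum_univ_two] at h01
      exact hlam h01
    · have h10 := congrArg (fun g : SL(2, F) => (g : Matrix (Fin 2) (Fin 2) F) 1 0) h
      simp [hu, hv, Matrix.mul_apply, Fin.sum_univ_two] at h10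
      exact h2 (by linear_combination h10)
  -- orders and the field
  obtain ⟨n, -, hn⟩ := FiniteField.card F p
  have hq := Fintype.one_lt_card (α := F)
  have hnd : ∀ k, (k ∣ (Fintype.card F + 1) / Nat.gcd 2 (Fintype.card F - 1) ∨
      k ∣ (Fintype.card F - 1) / Nat.gcd 2 (Fintype.card F - 1)) → ¬ p ∣ k := by
    intro k hk hpk
    have hpq : p ∣ Fintype.card F := hn ▸ dvd_pow_self p n.ne_zero
    rcases hk with hk | hk
    · have h1 : p ∣ Fintype.card F + 1 :=
        (hpk.trans hk).trans (Nat.div_dvd_of_dvd (by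
          rw [show Fintype.card F + 1 = (Fintype.card F - 1) + 2 by omega]
          exact Nat.dvd_add (Nat.gcd_dvd_right _ _) (Nat.gcd_dvd_left _ _)))
      rw [Nat.dvd_add_right hpq] at h1
      exact hp.not_dvd_one h1
    · have h1 : p ∣ Fintype.card F - 1 := (hpk.trans hk).trans (Nat.div_dvd_of_dvd (Nat.gcd_dvd_right _ _))
      have h1' : p ∣ Fintype.card F - 1 + 1 := by rwa [Nat.sub_add_cancel hq.le]
      rw [Nat.dvd_add_right h1] at h1'
      exact hp.not_dvd_one h1'
  -- fixed points of the Frobenius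
  have hfix : ∀ m : ℕ, 0 < m → lam ^ p ^ m = lam → Fintype.card F ≤ p ^ m := by
    intro m hm hl
    have hall : ∀ x : F, x ^ p ^ m = x := by
      let K : Subfield F :=
        { carrier := {x | x ^ p ^ m = x}
          mul_mem' := fun {a b} (ha : a ^ p ^ m = a) (hb : b ^ p ^ m = b) => by
            show (a * b) ^ p ^ m = a * b; rw [mul_pow, ha, hb]
          one_mem' := one_pow _
          add_mem' := fun {a b} (ha : a ^ p ^ m = a) (hb : b ^ p ^ m = b) => by
            show (a + b) ^ p ^ m = a + b; rw [add_pow_char_pow, ha, hb]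
          zero_mem' := zero_pow (pow_ne_zero _ hp.ne_zero)
          neg_mem' := fun {a} (ha : a ^ p ^ m = a) => by
            show (-a) ^ p ^ m = -a
            rw [Odd.neg_pow ((hp.odd_of_ne_two hp2).pow), ha]
          inv_mem' := fun a (ha : a ^ p ^ m = a) => by
            show a⁻¹ ^ p ^ m = a⁻¹; rw [inv_pow, ha] }
      intro x
      have hK : K = ⊤ := closure_singleton_ne_top_of_mem hgen (show lam ∈ K from hl)
      exact (hK ▸ Subfield.mem_top x : x ∈ K)
    obtain ⟨g, hg⟩ := IsCyclic.exists_generator (α := Fˣ)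
    have h1 : g ^ (p ^ m - 1) = 1 := by
      apply mul_right_cancel (b := g)
      rw [← pow_succ, Nat.sub_add_cancel (Nat.one_le_pow _ _ hp.pos), one_mul]
      exact Units.ext (by simpa using hall g)
    have hpm : 1 < p ^ m := Nat.one_lt_pow (Nat.pos_iff_ne_zero.1 hm) hp.one_lt
    have := Nat.le_of_dvd (by omega) (orderOf_dvd_of_pow_eq_one h1)
    rw [orderOf_eq_card_of_forall_mem_zpowers hg, Nat.card_units, Nat.card_eq_fintype_card] at this
    omega
  have hbig : p ^ 2 ≤ Fintype.card F := by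
    rw [hn]
    refine Nat.pow_le_pow_right hp.pos ?_
    by_contra hlt
    have : (n : ℕ) = 1 := by have := n.pos; omega
    rw [this, pow_one] at hn
    exact hcard hn
  -- small groups
  have small : ∀ m : ℕ, m ∣ 120 → p ∣ m → p = 3 ∨ p = 5 := by
    intro m h120 hpm
    have hp120 := hpm.trans h120
    rw [show (120 : ℕ) = 2 ^ 3 * 3 * 5 by norm_num] at hp120
    rcases hp.dvd_mul.1 hp120 with h | h
    · rcases hp.dvd_mul.1 h with h | h
      · exact absurd ((Nat.prime_dvd_prime_iff_eq hp Nat.prime_two).1 (hp.dvd_of_dvd_pow h)) hp2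
      · exact Or.inl ((Nat.prime_dvd_prime_iff_eq hp Nat.prime_three).1 h)
    · exact Or.inr ((Nat.prime_dvd_prime_iff_eq hp Nat.prime_five).1 h)
  have h3only : ∀ (P : F → Prop), p = 3 →
      P ((2 + lam) ^ 2) → P ((2 - lam) ^ 2) →
      ((∀ a, P a → a = 0 ∨ a = 1 ∨ a = -1) ∨ (∀ a, P a → a = 0 ∨ a = 1 ∨ a ^ 2 = -1)) → False := by
    intro P hp3 ha hb hP
    subst hp3
    have h3 : (3 : F) = 0 := by exact_mod_cast CharP.cast_eq_zero F 3
    have h81 : Fintype.card F ≠ 3 := hcard
    have hnot3 : lam ^ 3 ≠ lam := fun h => by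
      have := hfix 1 one_pos (by simpa using h)
      omega
    have hdiff : lam = (2 - lam) ^ 2 - (2 + lam) ^ 2 := by linear_combination (3 * lam) * h3
    rcases hP with hP | hP
    · apply hnot3
      rw [hdiff]
      rcases hP _ ha with a1 | a1 | a1 <;> rcases hP _ hb with b1 | b1 | b1 <;> rw [a1, b1] <;>
        first
        | (ring1)
        | (linear_combination (2 : F) * h3)
        | (linear_combination (-2 : F) * h3)
    · -- `q = 9`
      have hsum : (2 - lam) ^ 2 + (2 + lam) ^ 2 = 2 - lam ^ 2 := by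
        linear_combination (2 + lam ^ 2) * h3
      set a := (2 + lam) ^ 2
      set b := (2 - lam) ^ 2
      have hl9 : lam ^ 9 = lam → Fintype.card F = 9 := fun h => by
        have := hfix 2 two_pos (by norm_num; exact h)
        omega
      have hm1 : lam ^ 2 = -1 → False := fun hl => h9 ⟨hl9 (by
        linear_combination (lam * (lam ^ 6 - lam ^ 4 + lam ^ 2 - 1)) * hl), hl⟩
      have hlb : lam = b - a := hdiff
      rcases hP _ ha with a1 | a1 | a1 <;> rcases hP _ hb with b1 | b1 | b1
      · exact hlam (by rw [hlb, a1, b1, sub_zero])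
      · exact hnot3 (by rw [hlb, a1, b1]; norm_num)
      · exact hm1 (by rw [hlb, a1, sub_zero]; exact b1)
      · exact hnot3 (by rw [hlb, a1, b1]; norm_num)
      · exact hlam (by rw [hlb, a1, b1, sub_self])
      · rw [a1] at hlb hsum
        rw [hlb] at hsum
        have hb2 : b = -1 := by linear_combination b1 - hsum
        rw [hb2] at b1
        exact h2 (by linear_combination b1)
      · exact hm1 (by rw [hlb, b1, zero_sub, neg_sq]; exact a1)
      · rw [b1] at hlb hsum
        rw [hlb] at hsum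
        have hb2 : a = -1 := by linear_combination a1 - hsum
        rw [hb2] at a1
        exact h2 (by linear_combination a1)
      · rcases mul_eq_zero.1 (show (b - a) * (b + a) = 0 by linear_combination b1 - a1) with h | h
        · exact hlam (hlb.trans h)
        · apply hm1
          rw [hlb]
          linear_combination 4 * a1 + (b - 3 * a) * h -
            h3
  cases H39.dickson p H with
  | cyclic hc hk => exact absurd hpH (hnd _ hk)
  | dihedral k hc hk =>
    exfalso
    obtain ⟨e⟩ := hc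
    rw [Nat.card_congr e.toEquiv, DihedralGroup.nat_card] at hpH
    rcases hp.dvd_mul.1 hpH with h | h
    · exact hp2 ((Nat.prime_dvd_prime_iff_eq hp Nat.prime_two).1 h)
    · exact hnd k hk h
  | borel P hB _ =>
    exfalso
    apply hncomm
    have key : ∀ g : SL(2, F), H39.proj g ∈ H → H39.proj g ^ p = 1 →
        ∃ s a : F, a ^ 2 = 1 ∧
          (H39.cjSL P g : Matrix (Fin 2) (Fin 2) F) = !![a, s; 0, a] := by
      intro g hg hgp
      have hm : H39.cjP P (H39.proj g) ∈ H39.borelP := hB (Subgroup.mem_map_of_mem _ hg)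
      rw [H39.cjP_proj, H39.proj_mem_borelP] at hm
      have htr : H39.tr (H39.cjSL P g) ^ 2 = 4 := by
        rw [← H39.pow_char_eq_one_iff p, ← H39.cjP_proj, ← map_pow, hgp, map_one]
      have hd := (H39.cjSL P g).2
      rw [Matrix.det_fin_two, hm, mul_zero, sub_zero] at hd
      rw [H39.tr_def] at htr
      set a := (H39.cjSL P g : Matrix (Fin 2) (Fin 2) F) 0 0
      set d := (H39.cjSL P g : Matrix (Fin 2) (Fin 2) F) 1 1
      have had : (a - d) ^ 2 = 0 := by linear_combination htr - 4 * hd
      have had' : a = d := sub_eq_zero.1 (pow_eq_zero_iff two_ne_zero |>.1 had)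
      refine ⟨(H39.cjSL P g : Matrix (Fin 2) (Fin 2) F) 0 1, a, ?_, ?_⟩
      · rw [← had'] at hd; rw [sq]; exact hd
      · ext i j
        fin_cases i <;> fin_cases j
        · rfl
        · rfl
        · exact hm
        · exact had'.symm
    obtain ⟨s, a, -, hs⟩ := key u huH hup
    obtain ⟨t, b, -, ht⟩ := key v hvH hvp
    rw [← map_mul, ← map_mul]
    congr 1
    apply (H39.cjSL P).injective
    rw [map_mul, map_mul]
    apply Subtype.ext
    show (H39.cjSL P u : Matrix (Fin 2) (Fin 2) F) * H39.cjSL P v =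
      (H39.cjSL P v : Matrix (Fin 2) (Fin 2) F) * H39.cjSL P u
    rw [hs, ht]
    ext i j
    fin_cases i <;> fin_cases j <;> simp [Matrix.mul_apply, Fin.sum_univ_two] <;> ring
  | a4 h =>
    exfalso
    obtain ⟨e⟩ := h
    have hc : Nat.card H = 12 := by
      rw [Nat.card_congr e.toEquiv, nat_card_alternatingGroup, Nat.card_fin]; norm_num [Nat.factorial]
    have hp3 : p = 3 := by
      rcases small 12 (by norm_num) (hc ▸ hpH) with h | h
      · exact h
      · rw [hc, h] at hpH; norm_num at hpH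
    have hord : ∀ g : SL(2, F), H39.proj g ∈ H → (g : Matrix (Fin 2) (Fin 2) F) 1 0 ≠ 0 →
        H39.tr g ^ 2 = 0 ∨ H39.tr g ^ 2 = 1 := by
      intro g hg h10
      have hk : ∀ k, (e ⟨_, hg⟩) ^ k = 1 → (powCoef (H39.tr g) k).1 = 0 := fun k hk => by
        rw [← map_pow, ← map_one e] at hk
        exact powCoef_eq_zero h10 (by simpa using congrArg Subtype.val (e.injective hk))
      rcases alt4_orders (e ⟨_, hg⟩) with h | h
      · left; have := hk _ h; rw [powCoef_two] at this; simp [this]
      · right; have := hk _ h; rw [powCoef_three] at this; linear_combination this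
    refine h3only (fun a => a = 0 ∨ a = 1) hp3 (htr1 ▸ hord _ haH h10a) (htr2 ▸ hord _ hbH h10b)
      (Or.inl fun a ha => ?_)
    tauto
  | s4 h =>
    exfalso
    obtain ⟨e⟩ := h
    have hc : Nat.card H = 24 := by
      rw [Nat.card_congr e.toEquiv, Nat.card_perm, Nat.card_fin]; norm_num [Nat.factorial]
    have hp3 : p = 3 := by
      rcases small 24 (by norm_num) (hc ▸ hpH) with h | h
      · exact h
      · rw [hc, h] at hpH; norm_num at hpH
    have h3 : (3 : F) = 0 := by subst hp3; exact_mod_cast CharP.cast_eq_zero F 3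
    have hord : ∀ g : SL(2, F), H39.proj g ∈ H → (g : Matrix (Fin 2) (Fin 2) F) 1 0 ≠ 0 →
        H39.tr g ^ 2 = 0 ∨ H39.tr g ^ 2 = 1 ∨ H39.tr g ^ 2 = -1 := by
      intro g hg h10
      have hk : ∀ k, (e ⟨_, hg⟩) ^ k = 1 → (powCoef (H39.tr g) k).1 = 0 := fun k hk => by
        rw [← map_pow, ← map_one e] at hk
        exact powCoef_eq_zero h10 (by simpa using congrArg Subtype.val (e.injective hk))
      rcases sym4_orders (e ⟨_, hg⟩) with h | h | h
      · left; have := hk _ h; rw [powCoef_two] at this; simp [this]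
      · right; left; have := hk _ h; rw [powCoef_three] at this; linear_combination this
      · have := hk _ h
        rw [powCoef_four] at this
        rcases mul_eq_zero.1 this with h' | h'
        · left; simp [h']
        · right; right; linear_combination h' + h3
    exact h3only (fun a => a = 0 ∨ a = 1 ∨ a = -1) hp3 (htr1 ▸ hord _ haH h10a)
      (htr2 ▸ hord _ hbH h10b) (Or.inl fun a ha => ha)
  | a5 h =>
    exfalso
    obtain ⟨e⟩ := h
    have hc : Nat.card H = 60 := by
      rw [Nat.card_congr e.toEquiv, nat_card_alternatingGroup, Nat.card_fin]; norm_num [Nat.factorial]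
    have hord : ∀ g : SL(2, F), H39.proj g ∈ H → (g : Matrix (Fin 2) (Fin 2) F) 1 0 ≠ 0 →
        H39.tr g ^ 2 = 0 ∨ H39.tr g ^ 2 = 1 ∨ (H39.tr g ^ 2) ^ 2 - 3 * H39.tr g ^ 2 + 1 = 0 := by
      intro g hg h10
      have hk : ∀ k, (e ⟨_, hg⟩) ^ k = 1 → (powCoef (H39.tr g) k).1 = 0 := fun k hk => by
        rw [← map_pow, ← map_one e] at hk
        exact powCoef_eq_zero h10 (by simpa using congrArg Subtype.val (e.injective hk))
      rcases alt5_orders (e ⟨_, hg⟩) with h | h | h
      · left; have := hk _ h; rw [powCoef_two] at this; simp [this]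
      · right; left; have := hk _ h; rw [powCoef_three] at this; linear_combination this
      · right; right; have := hk _ h; rwa [powCoef_five] at this
    rcases small 60 (by norm_num) (hc ▸ hpH) with hp3 | hp5
    · have h3 : (3 : F) = 0 := by subst hp3; exact_mod_cast CharP.cast_eq_zero F 3
      refine h3only (fun a => a = 0 ∨ a = 1 ∨ a ^ 2 - 3 * a + 1 = 0) hp3
        (htr1 ▸ hord _ haH h10a) (htr2 ▸ hord _ hbH h10b) (Or.inr fun a ha => ?_)
      rcases ha with h | h | h
      · exact Or.inl h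
      · exact Or.inr (Or.inl h)
      · exact Or.inr (Or.inr (by linear_combination h + a * h3))
    · subst hp5
      have h5 : (5 : F) = 0 := by exact_mod_cast CharP.cast_eq_zero F 5
      have hmem : ∀ g : SL(2, F), H39.proj g ∈ H → (g : Matrix (Fin 2) (Fin 2) F) 1 0 ≠ 0 →
          (H39.tr g ^ 2) ^ 5 = H39.tr g ^ 2 := by
        intro g hg h10
        rcases hord g hg h10 with h | h | h
        · simp [h]
        · simp [h]
        · have h' : (H39.tr g ^ 2 + 1) ^ 2 = 0 := by linear_combination h + H39.tr g ^ 2 * h5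
          have h'' : H39.tr g ^ 2 = -1 :=
            eq_neg_of_add_eq_zero_left (pow_eq_zero_iff two_ne_zero |>.1 h')
          rw [h'']; norm_num
      have ha := hmem _ haH h10a
      have hb := hmem _ hbH h10b
      rw [htr1] at ha
      rw [htr2] at hb
      have hdiff : 3 * lam = (2 + lam) ^ 2 - (2 - lam) ^ 2 := by linear_combination (-lam) * h5
      have h3l : (3 * lam) ^ 5 = 3 * lam := by rw [hdiff, sub_pow_char (p := 5), ha, hb]
      have hl5 : lam ^ 5 = lam := by
        have h3ne : (3 : F) ≠ 0 := fun h => h2 (by linear_combination h5 - h)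
        apply mul_left_cancel₀ h3ne
        linear_combination h3l - (48 * lam ^ 5) * h5
      have := hfix 1 one_pos (by simpa using hl5)
      omega
  | field P K hK he =>
    have hm : ∀ g : SL(2, F), H39.proj g ∈ H → H39.tr g ^ 2 ∈ K := by
      intro g hg
      have h1 := hK (Subgroup.mem_map_of_mem _ hg)
      rw [MulEquiv.coe_toMonoidHom, H39.cjP_proj] at h1
      have h3 := H39.tr_sq_mem h1
      have e : H39.tr (H39.cjSL P g) = H39.tr g := by
        unfold H39.tr
        show ((P : Matrix (Fin 2) (Fin 2) F) * g * ((P⁻¹ : GL (Fin 2) F) : Matrix (Fin 2) (Fin 2) F)).trace = _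
        exact Matrix.trace_units_conj P _
      rwa [e] at h3
    have h8 : 8 * lam ∈ K := by
      have := sub_mem (hm _ haH) (hm _ hbH)
      rw [htr1, htr2] at this
      convert this using 1
      ring
    have h8ne : (8 : F) ≠ 0 := by
      rw [show (8 : F) = 2 ^ 3 by norm_num]; exact pow_ne_zero _ h2
    have hlK : lam ∈ K := by
      have h8K : (8 : F) ∈ K := natCast_mem K 8
      have := mul_mem (inv_mem h8K) h8
      rwa [inv_mul_cancel_left₀ h8ne] at this
    have hKtop := closure_singleton_ne_top_of_mem hgen hlK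
    subst hKtop
    have e : (⊤ : Subfield F) ≃+* F := Subfield.topEquiv
    have hcardK : Nat.card (⊤ : Subfield F) = Nat.card F := Nat.card_congr e.toEquiv
    have hG := card_SL_eq_card_center_mul_card_PSL (n := Fin 2) (F := F)
    have hZ : Nat.card (Subgroup.center SL(2, F)) = 2 := by
      rw [card_center_SL, Fintype.card_fin, Nat.card_eq_fintype_card]
      have hodd : Odd (Fintype.card F) := hn ▸ (hp.odd_of_ne_two hp2).pow
      obtain ⟨r, hr⟩ := hodd
      rw [hr, Nat.add_sub_cancel, Nat.gcd_mul_right_right]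
    rw [hZ] at hG
    have hpos : 0 < Nat.card (Matrix.ProjectiveSpecialLinearGroup (Fin 2) F) := Nat.card_pos
    have hKcardSL : Nat.card SL(2, (⊤ : Subfield F)) = Nat.card SL(2, F) :=
      Nat.card_congr (slCongr e).toEquiv
    rcases he with he | he
    · exfalso
      obtain ⟨f⟩ := he
      have h1 := Nat.card_congr f.toEquiv
      rw [card_PGL_eq_card_SL, hKcardSL, hG] at h1
      have := Subgroup.card_le_card_group H
      omega
    · obtain ⟨f⟩ := he
      refine Subgroup.eq_top_of_card_eq _ ?_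
      rw [Nat.card_congr f.toEquiv]
      exact Nat.card_congr (pslCongr e).toEquiv

/-- Dickson's generation theorem. -/
theorem two_unipotents_eq_top {lam : F} (h2 : (2 : F) ≠ 0) (hlam : lam ≠ 0)
    (hgen : Subfield.closure ({lam} : Set F) = ⊤)
    (h9 : ¬ (Fintype.card F = 9 ∧ lam ^ 2 = -1)) : twoUnip lam = ⊤ := by
  obtain ⟨p, hpF⟩ := CharP.exists F
  haveI := hpF
  haveI : Fact p.Prime := ⟨CharP.char_is_prime F p⟩
  have hp2 : p ≠ 2 := by
    intro h
    subst h
    exact h2 (by exact_mod_cast CharP.cast_eq_zero F 2)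
  by_cases hcard : Fintype.card F = p
  · exact twoUnip_eq_top_of_prime hlam hcard
  have h := two_unipotents_proj_eq_top p hp2 hlam hgen hcard h9
  obtain ⟨n, -, hn⟩ := FiniteField.card F p
  have hq : 3 < Fintype.card F := by
    rw [hn] at hcard ⊢
    have hn2 : 2 ≤ (n : ℕ) := by
      by_contra hlt
      have : (n : ℕ) = 1 := by have := n.pos; omega
      exact hcard (by rw [this, pow_one])
    calc 3 < 2 ^ 2 := by norm_num
      _ ≤ p ^ 2 := Nat.pow_le_pow_left (Fact.out : p.Prime).two_le _
      _ ≤ _ := Nat.pow_le_pow_right (Fact.out : p.Prime).pos hn2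
  have hsup : twoUnip lam ⊔ Subgroup.center SL(2, F) = ⊤ := by
    have := congrArg (Subgroup.comap H39.proj) h
    rwa [Subgroup.comap_map_eq, QuotientGroup.ker_mk', Subgroup.comap_top] at this
  rw [eq_top_iff, ← H70.sl2_perfect hq, _root_.commutator_def, Subgroup.commutator_le]
  intro a _ b _
  have ha : a ∈ twoUnip lam ⊔ Subgroup.center SL(2, F) := hsup ▸ Subgroup.mem_top a
  have hb : b ∈ twoUnip lam ⊔ Subgroup.center SL(2, F) := hsup ▸ Subgroup.mem_top b
  rw [← SetLike.mem_coe, Subgroup.mul_normal, Set.mem_mul] at ha hb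
  obtain ⟨x, hx, z, hz, rfl⟩ := ha
  obtain ⟨y, hy, w, hw, rfl⟩ := hb
  have hz' : ∀ g, g * z = z * g := Subgroup.mem_center_iff.1 hz
  have hw' : ∀ g, g * w = w * g := Subgroup.mem_center_iff.1 hw
  have e : ⁅x * z, y * w⁆ = ⁅x, y⁆ := by
    simp only [commutatorElement_def]
    calc x * z * (y * w) * (x * z)⁻¹ * (y * w)⁻¹
        = x * (z * y) * w * z⁻¹ * x⁻¹ * w⁻¹ * y⁻¹ := by group
      _ = x * (y * z) * w * z⁻¹ * x⁻¹ * w⁻¹ * y⁻¹ := by rw [hz']
      _ = x * y * ((z * w) * z⁻¹ * x⁻¹) * w⁻¹ * y⁻¹ := by group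
      _ = x * y * ((w * z) * z⁻¹ * x⁻¹) * w⁻¹ * y⁻¹ := by rw [hw' z]
      _ = x * y * (w * x⁻¹) * w⁻¹ * y⁻¹ := by group
      _ = x * y * (x⁻¹ * w) * w⁻¹ * y⁻¹ := by rw [hw' x⁻¹]
      _ = x * y * x⁻¹ * y⁻¹ := by group
  rw [e, commutatorElement_def]
  exact mul_mem (mul_mem (mul_mem hx hy) (inv_mem hx)) (inv_mem hy)

end H37
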