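import Mathlib

/-!
Every faithful action of `A_7` on eight points has a fixed point.
-/

set_option autoImplicit false

namespace H37

open Equiv

universe u

/-- If `y ^ r = 1` and `y` conjugates `x`, of order five, to a power of `x`, then `x` and `y`
commute when `r` is prime to `4`. -/
theorem commute_of_conj_mem_zpowers_five {G : Type u} [Group G] [Finite G] {x y : G} {r : ℕ}
    (hx : orderOf x = 5) (hy : y ^ r = 1) (hr : r.Coprime 4)
    (h : y * x * y⁻¹ ∈ Subgroup.zpowers x) : Commute x y := by
  haveI : Fact (Nat.Prime 5) := ⟨by norm_num⟩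
  obtain ⟨k, hk⟩ := (isOfFinOrder_of_finite x).mem_powers_iff_mem_zpowers.2 h
  simp only at hk
  have hn : ∀ n : ℕ, y ^ n * x * (y ^ n)⁻¹ = x ^ (k ^ n) := by
    intro n
    induction n with
    | zero => simp
    | succ n ih =>
      rw [pow_succ', mul_inv_rev]
      calc y * y ^ n * x * ((y ^ n)⁻¹ * y⁻¹) = y * (y ^ n * x * (y ^ n)⁻¹) * y⁻¹ := by group
        _ = y * x ^ (k ^ n) * y⁻¹ := by rw [ih]
        _ = (y * x * y⁻¹) ^ (k ^ n) := (conj_pow ..).symm
        _ = _ := by rw [← hk, ← pow_mul, ← pow_succ']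
  have h1 := hn r
  rw [hy, inv_one, mul_one, one_mul] at h1
  have hm : k ^ r ≡ 1 [MOD 5] := hx ▸ pow_eq_pow_iff_modEq.1 ((h1.symm).trans (pow_one x).symm)
  have hk0 : (k : ZMod 5) ≠ 0 := by
    intro h0
    rw [ZMod.natCast_eq_zero_iff] at h0
    obtain ⟨t, rfl⟩ := h0
    rw [show x ^ (5 * t) = 1 by rw [pow_mul, ← hx, pow_orderOf_eq_one, one_pow]] at hk
    have : x = 1 := by
      calc x = y⁻¹ * (y * x * y⁻¹) * y := by group
        _ = 1 := by rw [← hk]; group
    rw [this, orderOf_one] at hx
    omega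
  have hk4 : (k : ZMod 5) ^ 4 = 1 := ZMod.pow_card_sub_one_eq_one hk0
  have hkr : (k : ZMod 5) ^ r = 1 := by
    have := (ZMod.natCast_eq_natCast_iff _ _ 5).2 hm
    simpa using this
  have hk1 : (k : ZMod 5) = 1 := by
    have h := pow_gcd_eq_one.2 ⟨hkr, hk4⟩
    rwa [hr, pow_one] at h
  have : x ^ k = x := by
    conv_rhs => rw [← pow_one x]
    rw [pow_eq_pow_iff_modEq, hx, ← ZMod.natCast_eq_natCast_iff]
    simpa using hk1
  rw [this] at hk
  exact (eq_mul_inv_iff_mul_eq.1 hk)

theorem not_orderOf_fifteen_or_thirtyFive (g : Perm (Fin 7)) :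
    orderOf g ≠ 15 ∧ orderOf g ≠ 35 := by
  have key : ∀ p q : ℕ, p.Prime → q.Prime → p ≠ q → 7 < p + q → 7 < p * q →
      orderOf g ≠ p * q := by
    intro p q hp hq hpq hsum hmul h
    have hlcm : g.cycleType.lcm = p * q := by rw [Equiv.Perm.lcm_cycleType, h]
    have hmem : ∀ r : ℕ, r.Prime → r ∣ p * q → ∃ m ∈ g.cycleType, r ∣ m := by
      intro r hr hd
      rw [← hlcm] at hd
      have := hd.trans (Multiset.lcm_dvd.2 fun b hb => Multiset.dvd_prod hb)
      exact hr.prime.exists_mem_multiset_dvd this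
    obtain ⟨a, ha, hpa⟩ := hmem p hp (dvd_mul_right _ _)
    obtain ⟨b, hb, hqb⟩ := hmem q hq (dvd_mul_left _ _)
    have hle : g.cycleType.sum ≤ 7 := by
      rw [Equiv.Perm.sum_cycleType]
      exact g.support.card_le_univ.trans (by simp)
    by_cases hab : a = b
    · subst hab
      have h1 : p * q ∣ a := Nat.Coprime.mul_dvd_of_dvd_of_dvd ((Nat.coprime_primes hp hq).2 hpq) hpa hqb
      have h2 := Nat.le_of_dvd (by have := Equiv.Perm.two_le_of_mem_cycleType ha; omega) h1
      have h3 := Multiset.single_le_sum (fun _ _ => Nat.zero_le _) _ ha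
      omega
    · have h2 := Nat.le_of_dvd (by have := Equiv.Perm.two_le_of_mem_cycleType ha; omega) hpa
      have h3 := Nat.le_of_dvd (by have := Equiv.Perm.two_le_of_mem_cycleType hb; omega) hqb
      have hb' : b ∈ g.cycleType.erase a := (Multiset.mem_erase_of_ne (Ne.symm hab)).2 hb
      have h5 := Multiset.single_le_sum (fun _ _ => Nat.zero_le _) _ hb'
      have h6 : g.cycleType.sum = a + (g.cycleType.erase a).sum := by
        rw [← Multiset.sum_cons, Multiset.cons_erase ha]
      omega
  exact ⟨key 3 5 (by norm_num) (by norm_num) (by norm_num) (by norm_num) (by norm_num),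
    key 5 7 (by norm_num) (by norm_num) (by norm_num) (by norm_num) (by norm_num)⟩

theorem not_card_subgroup_alternating_seven (K : Subgroup (alternatingGroup (Fin 7))) :
    Nat.card K ≠ 315 := by
  intro hK
  haveI h5 : Fact (Nat.Prime 5) := ⟨by norm_num⟩
  haveI h7 : Fact (Nat.Prime 7) := ⟨by norm_num⟩
  haveI h3 : Fact (Nat.Prime 3) := ⟨by norm_num⟩
  have hno : ∀ z : K, orderOf z ≠ 15 ∧ orderOf z ≠ 35 := fun z => by
    have := not_orderOf_fifteen_or_thirtyFive ((z : alternatingGroup (Fin 7)) : Perm (Fin 7))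
    rwa [Subgroup.orderOf_coe, Subgroup.orderOf_coe] at this
  obtain ⟨P⟩ : Nonempty (Sylow 5 K) := inferInstance
  have hP : Nat.card P = 5 := by
    rw [P.card_eq_multiplicity, hK]
    have : Nat.factorization 315 5 = 1 := by
      rw [Nat.factorization_def _ h5.out]
      rw [show (315 : ℕ) = 5 * 63 by norm_num, padicValNat.mul (by norm_num) (by norm_num),
        padicValNat.self (by norm_num), padicValNat.eq_zero_of_not_dvd (by norm_num)]
    rw [this, pow_one]
  obtain ⟨x, hx⟩ := exists_prime_orderOf_dvd_card' (G := (P : Subgroup K)) 5 (by rw [hP])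
  have hxo : orderOf (x : K) = 5 := by rwa [Subgroup.orderOf_coe]
  have hPx : Subgroup.zpowers (x : K) = (P : Subgroup K) := by
    apply Subgroup.eq_of_le_of_card_ge
    · exact Subgroup.zpowers_le.2 x.2
    · rw [Nat.card_zpowers, hxo, hP]
  set N := Subgroup.normalizer ((P : Subgroup K) : Set K) with hN
  have hidx : Nat.card N * Nat.card (Sylow 5 K) = 315 := by
    have := Subgroup.card_mul_index N
    rw [hK] at this
    rw [Sylow.card_eq_index_normalizer P]
    exact this
  have hmod := card_sylow_modEq_one 5 K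
  have h5N : 5 ∣ Nat.card N := hP ▸ Subgroup.card_dvd_of_le Subgroup.le_normalizer
  have hcase : 3 ∣ Nat.card N ∨ 7 ∣ Nat.card N := by
    by_contra hne
    push Not at hne
    obtain ⟨c, hc⟩ := h5N
    have hd : c * Nat.card (Sylow 5 K) = 63 := by
      rw [hc] at hidx
      linarith
    have hcd : c ∣ 63 := ⟨_, hd.symm⟩
    have hc1 : c = 1 := by
      have hle := Nat.le_of_dvd (by norm_num) hcd
      interval_cases c <;> omega
    rw [hc1, one_mul] at hd
    rw [hd] at hmod
    exact absurd hmod (by decide)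
  have main : ∀ r, r.Prime → r.Coprime 4 → r ≠ 5 → r ∣ Nat.card N → ∃ z : K, orderOf z = 5 * r := by
    intro r hr hr4 hr5 hd
    haveI : Fact r.Prime := ⟨hr⟩
    obtain ⟨y, hy⟩ := exists_prime_orderOf_dvd_card' (G := N) r hd
    have hyo : orderOf (y : K) = r := by rwa [Subgroup.orderOf_coe]
    have hc : Commute (x : K) (y : K) := commute_of_conj_mem_zpowers_five hxo
      (hyo ▸ pow_orderOf_eq_one _) hr4 (by
        rw [hPx]
        exact (Subgroup.mem_normalizer_iff.1 y.2 _).1 x.2)
    refine ⟨(x : K) * y, ?_⟩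
    rw [hc.orderOf_mul_eq_mul_orderOf_of_coprime, hxo, hyo]
    rw [hxo, hyo]
    exact (Nat.coprime_primes h5.out hr).2 (Ne.symm hr5)
  rcases hcase with h | h
  · obtain ⟨z, hz⟩ := main 3 h3.out (by norm_num) (by norm_num) h
    exact (hno z).1 (by omega)
  · obtain ⟨z, hz⟩ := main 7 h7.out (by norm_num) (by norm_num) h
    exact (hno z).2 (by omega)

/-- A faithful action of `A_7` on eight points fixes a point. -/
theorem exists_fixed_alternating_seven (ι : alternatingGroup (Fin 7) →* Perm (Fin 8))
    (hι : Function.Injective ι) : ∃ c, ∀ g, ι g c = c := by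
  classical
  haveI := alternatingGroup.isSimpleGroup (α := Fin 7) (by simp)
  have hA : Nat.card (alternatingGroup (Fin 7)) = 2520 := by
    rw [nat_card_alternatingGroup, Nat.card_fin]
    norm_num [Nat.factorial]
  letI : MulAction (alternatingGroup (Fin 7)) (Fin 8) := MulAction.compHom _ ι
  by_contra hne
  push Not at hne
  have hbig : ∀ c : Fin 8, 7 ≤ (MulAction.orbit (alternatingGroup (Fin 7)) c).ncard := by
    intro c
    set O := MulAction.orbit (alternatingGroup (Fin 7)) c
    by_contra hlt
    push Not at hlt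
    let φ := MulAction.toPermHom (alternatingGroup (Fin 7)) O
    obtain ⟨g, hg⟩ := hne c
    have hφ : Function.Injective φ := by
      rw [← MonoidHom.ker_eq_bot_iff]
      refine (Subgroup.Normal.eq_bot_or_eq_top (H := φ.ker) inferInstance).resolve_right fun ht => ?_
      have h1 : φ g = 1 := MonoidHom.mem_ker.1 (ht.symm ▸ Subgroup.mem_top g)
      exact hg (congrArg Subtype.val (Equiv.congr_fun h1 ⟨c, MulAction.mem_orbit_self c⟩))
    have := Nat.card_le_card_of_injective φ hφ
    rw [hA, Nat.card_perm, Nat.card_coe_set_eq] at this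
    have h2 := Nat.factorial_le (Nat.le_of_lt_succ hlt)
    norm_num [Nat.factorial] at h2
    omega
  -- a single orbit
  obtain ⟨c, hc⟩ : ∃ c : Fin 8, MulAction.orbit (alternatingGroup (Fin 7)) c = Set.univ := by
    refine ⟨0, Set.eq_univ_of_forall fun d => ?_⟩
    by_contra hd
    have hdisj : Disjoint (MulAction.orbit (alternatingGroup (Fin 7)) (0 : Fin 8))
        (MulAction.orbit (alternatingGroup (Fin 7)) d) := by
      rw [Set.disjoint_left]
      intro z hz hz'
      apply hd
      rw [← MulAction.orbit_eq_iff.2 hz, MulAction.orbit_eq_iff.2 hz']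
      exact MulAction.mem_orbit_self d
    have h1 := Set.ncard_union_eq hdisj
    have h2 := Set.ncard_le_card (MulAction.orbit (alternatingGroup (Fin 7)) (0 : Fin 8) ∪
      MulAction.orbit (alternatingGroup (Fin 7)) d)
    have := hbig 0
    have := hbig d
    rw [Nat.card_fin] at h2
    omega
  have h8 := MulAction.index_stabilizer (alternatingGroup (Fin 7)) c
  rw [hc, Set.ncard_univ, Nat.card_fin] at h8
  have := Subgroup.card_mul_index (MulAction.stabilizer (alternatingGroup (Fin 7)) c)
  rw [h8, hA] at this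
  exact not_card_subgroup_alternating_seven (MulAction.stabilizer (alternatingGroup (Fin 7)) c)
    (by omega)

end H37
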