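import Cfsg.Agent.H40.SL2Tori
import Cfsg.Agent.H40.SL2Sylow
import Cfsg.Agent.H37.Two

/-!
`SL_2(q)`, `q` even, is `A U A` with `A` a non-split torus.
-/

set_option autoImplicit false

namespace H37

open Matrix

universe u

variable {F : Type u} [Field F] [Fintype F] [CharP F 2]

local notation "S2" => Matrix.SpecialLinearGroup (Fin 2) F

theorem sl2_card_add_one {q : ℕ} (h : 2 ≤ q) : (q - 2) * (q + 1) + 2 = q * q - q := by
  obtain ⟨k, rfl⟩ : ∃ k, q = k + 2 := ⟨q - 2, by omega⟩
  have : (k + 2) * (k + 2) - (k + 2) = (k + 2) * (k + 1) := by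
    rw [← Nat.mul_sub_one]
    rfl
  rw [this, Nat.add_sub_cancel]
  ring

/-- `SL_2(q) = A U A` for `q` even. -/
theorem exists_ABA_sl2 :
    ∃ A B : Subgroup S2, IsCyclic A ∧ Nat.card A = Fintype.card F + 1 ∧ IsMulCommutative B ∧
      (∀ b ∈ B, b * b = 1) ∧ Nat.card B = Fintype.card F ∧
      ∀ g : S2, ∃ a ∈ A, ∃ b ∈ B, ∃ c ∈ A, g = a * b * c := by
  classical
  obtain ⟨g₀, hg₀, hne⟩ := H40.exists_nonsplit (F := F)
  set t := (g₀ : Matrix (Fin 2) (Fin 2) F).trace with ht
  let T : S2 := ⟨!![0, 1; 1, t], by simp [det_fin_two_of, CharTwo.neg_eq]⟩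
  have hTm : (T : Matrix (Fin 2) (Fin 2) F) = !![0, 1; 1, t] := rfl
  have hTt : (T : Matrix (Fin 2) (Fin 2) F).trace = t := by simp [hTm, Matrix.trace_fin_two]
  have hns : ¬ H40.IsScalar2 (T : Matrix (Fin 2) (Fin 2) F) := by
    intro h
    have := h.1
    simp [hTm] at this
  have hT : H40.Reg2 T := ⟨hns, by rw [hTt]; exact hg₀.2⟩
  have hne' : ∀ c : F, c ^ 2 - c * (T : Matrix (Fin 2) (Fin 2) F).trace + 1 ≠ 0 := by
    rw [hTt]; exact hne
  set A := H40.tor T with hA
  have hcA : Nat.card A = Fintype.card F + 1 := H40.card_tor_of_noEig hT hne'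
  have hcyc : IsCyclic A := H40.isCyclic_tor hT
  have hsq : ∀ a : F, upper2 a * upper2 a = (1 : S2) := fun a => by
    apply Subtype.ext
    show (upper2 a : Matrix (Fin 2) (Fin 2) F) * upper2 a = 1
    rw [coe_upper2]
    ext i j
    fin_cases i <;> fin_cases j <;> simp [Matrix.mul_apply, Fin.sum_univ_two, CharTwo.add_self_eq_zero]
  have hmulU : ∀ a b : F, upper2 a * upper2 b = (upper2 (a + b) : S2) := fun a b => by
    apply Subtype.ext
    show (upper2 a : Matrix (Fin 2) (Fin 2) F) * upper2 b = upper2 (a + b)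
    simp only [coe_upper2]
    ext i j
    fin_cases i <;> fin_cases j <;> simp [Matrix.mul_apply, Fin.sum_univ_two, add_comm]
  let B : Subgroup S2 :=
    { carrier := Set.range upper2
      mul_mem' := by rintro _ _ ⟨a, rfl⟩ ⟨b, rfl⟩; exact ⟨a + b, (hmulU a b).symm⟩
      one_mem' := ⟨0, Subtype.ext (by rw [coe_upper2]; ext i j; fin_cases i <;> fin_cases j <;> simp)⟩
      inv_mem' := by rintro _ ⟨a, rfl⟩; exact ⟨a, (inv_eq_of_mul_eq_one_right (hsq a)).symm⟩ }
  -- the conjugates of `T`
  let X : F → Matrix (Fin 2) (Fin 2) F := fun a => !![a, a * a + a * t + 1; 1, t + a]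
  have hX : ∀ a : F, ((upper2 a * T * (upper2 a)⁻¹ : S2) : Matrix (Fin 2) (Fin 2) F) = X a := by
    intro a
    rw [inv_eq_of_mul_eq_one_right (hsq a)]
    simp only [Matrix.SpecialLinearGroup.coe_mul, coe_upper2, hTm, X]
    ext i j
    fin_cases i <;> fin_cases j <;> simp [Matrix.mul_apply, Fin.sum_univ_two] <;> ring
  let Y : F → S2 := fun a => upper2 a * T * (upper2 a)⁻¹
  let f : S2 → F := fun g => ((T : Matrix (Fin 2) (Fin 2) F) * g).trace
  have hfinv : ∀ c ∈ A, ∀ g, f (c * g * c⁻¹) = f g := by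
    intro c hc g
    have hcT : (T : Matrix (Fin 2) (Fin 2) F) * (c : Matrix (Fin 2) (Fin 2) F) =
        (c : Matrix (Fin 2) (Fin 2) F) * T :=
      (congrArg Subtype.val (H40.mem_tor.1 hc)).symm
    simp only [f, Matrix.SpecialLinearGroup.coe_mul]
    rw [← Matrix.mul_assoc, ← Matrix.mul_assoc, hcT, Matrix.trace_mul_comm, ← Matrix.mul_assoc,
      ← Matrix.mul_assoc, ← Matrix.SpecialLinearGroup.coe_mul c⁻¹ c, inv_mul_cancel,
      Matrix.SpecialLinearGroup.coe_one, Matrix.one_mul]
  have hfY : ∀ a, f (Y a) = a ^ 2 + (1 + t * t + 1) := by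
    intro a
    simp only [f, Y]
    rw [hX, hTm, Matrix.trace_fin_two]
    simp [X, Matrix.mul_apply, Fin.sum_univ_two]
    have h2 : a * t + a * t = 0 := CharTwo.add_self_eq_zero _
    linear_combination h2
  have hfinj : ∀ a b, f (Y a) = f (Y b) → a = b := by
    intro a b h
    rw [hfY, hfY, add_left_inj, ← sub_eq_zero, CharTwo.sub_eq_add, ← CharTwo.add_sq, sq_eq_zero_iff,
      ← CharTwo.sub_eq_add, sub_eq_zero] at h
    exact h
  let orb : F → Finset S2 := fun a => (Finset.univ.filter (· ∈ A)).image fun c => c * Y a * c⁻¹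
  have hone : ∀ a, 1 ≤ (orb a).card := fun a =>
    Finset.card_pos.2 ⟨_, Finset.mem_image.2 ⟨1, by simp [one_mem], rfl⟩⟩
  have hfree : ∀ a, a ≠ 0 → a ≠ t → Fintype.card F + 1 ≤ (orb a).card := by
    intro a ha0 hat
    rw [Finset.card_image_of_injOn, ← hcA, Nat.card_eq_fintype_card, Fintype.card_subtype]
    intro c hc d hd hcd
    simp only [Finset.coe_filter, Finset.mem_univ, true_and, Set.mem_setOf_eq] at hc hd
    simp only at hcd
    set e := d⁻¹ * c with he
    have heA : e ∈ A := mul_mem (inv_mem hd) hc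
    have heY : e * Y a = Y a * e := by
      rw [he]
      calc d⁻¹ * c * Y a = d⁻¹ * (c * Y a * c⁻¹) * c := by group
        _ = d⁻¹ * (d * Y a * d⁻¹) * c := by rw [hcd]
        _ = _ := by group
    by_cases hes : H40.IsScalar2 (e : Matrix (Fin 2) (Fin 2) F)
    · rcases H40.eq_pm_of_scalar hes with h | h
      · exact (inv_mul_eq_one.1 h).symm
      · have : e = 1 := by
          rw [h]
          ext i j
          simp [CharTwo.neg_eq]
        exact (inv_mul_eq_one.1 this).symm
    · exfalso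
      have h1 : (Y a : Matrix (Fin 2) (Fin 2) F) * e = (e : Matrix (Fin 2) (Fin 2) F) * Y a :=
        congrArg Subtype.val heY.symm
      obtain ⟨x, y, hxy⟩ := H40.comm_eq_poly hes h1
      obtain ⟨r, s, hrs⟩ := H40.exists_poly_of_mem_tor hT heA
      rw [hrs, hX] at hxy
      have e01 := congrFun (congrFun hxy 0) 1
      have e10 := congrFun (congrFun hxy 1) 0
      simp [X, hTm] at e01 e10
      have : a * (a + t) = 0 := by linear_combination e01 - e10
      rcases mul_eq_zero.1 this with h | h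
      · exact ha0 h
      · rw [← CharTwo.sub_eq_add, sub_eq_zero] at h
        exact hat h
  have hdisj : (Set.univ : Set F).PairwiseDisjoint orb := by
    intro a _ b _ hab
    simp only [Function.onFun]
    rw [Finset.disjoint_left]
    intro x hxa hxb
    simp only [orb, Finset.mem_image, Finset.mem_filter, Finset.mem_univ, true_and] at hxa hxb
    obtain ⟨c, hc, rfl⟩ := hxa
    obtain ⟨d, hd, h⟩ := hxb
    have := congrArg f h
    rw [hfinv d hd, hfinv c hc] at this
    exact hab (hfinj _ _ this.symm)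
  have hunion : Fintype.card F * Fintype.card F - Fintype.card F ≤
      (Finset.univ.biUnion orb).card := by
    rw [Finset.card_biUnion (fun a _ b _ hab => hdisj (Set.mem_univ a) (Set.mem_univ b) hab)]
    have ht0 : t ≠ 0 := fun h => hg₀.2 (by
      rw [← ht, h]
      have : (2 : F) = 0 := CharTwo.two_eq_zero
      linear_combination (-2) * this)
    rw [← Finset.sum_add_sum_compl ({0, t} : Finset F)]
    have hpair : ({0, t} : Finset F).card = 2 := Finset.card_pair (Ne.symm ht0)
    have hs1 : 2 ≤ ∑ a ∈ ({0, t} : Finset F), (orb a).card := by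
      have := Finset.card_nsmul_le_sum ({0, t} : Finset F) (fun a => (orb a).card) 1 fun a _ => hone a
      rw [hpair] at this
      simpa using this
    have hs2 : (Fintype.card F - 2) * (Fintype.card F + 1) ≤
        ∑ a ∈ ({0, t} : Finset F)ᶜ, (orb a).card := by
      have := Finset.card_nsmul_le_sum ({0, t} : Finset F)ᶜ (fun a => (orb a).card)
        (Fintype.card F + 1) fun a ha => by
          simp only [Finset.mem_compl, Finset.mem_insert, Finset.mem_singleton, not_or] at ha
          exact hfree a ha.1 ha.2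
      rw [Finset.card_compl, hpair, smul_eq_mul] at this
      exact this
    have := sl2_card_add_one (q := Fintype.card F) Fintype.one_lt_card
    omega
  set Ω : Finset S2 := Finset.univ.image fun g => g * T * g⁻¹ with hΩ
  have hΩcard : Ω.card ≤ Fintype.card F * Fintype.card F - Fintype.card F := by
    have hsurj : Function.Surjective (fun x : S2 ⧸ A =>
        (⟨x.out * T * x.out⁻¹, by rw [hΩ, Finset.mem_image]; exact ⟨x.out, Finset.mem_univ _, rfl⟩⟩ : Ω)) := by
      rintro ⟨y, hy⟩
      obtain ⟨g, -, rfl⟩ := Finset.mem_image.1 hy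
      refine ⟨QuotientGroup.mk g, Subtype.ext ?_⟩
      obtain ⟨c, hc⟩ := QuotientGroup.mk_out_eq_mul A g
      have hcT : (c : S2) * T = T * c := H40.mem_tor.1 c.2
      simp only [hc, _root_.mul_inv_rev]
      calc g * c * T * ((c : S2)⁻¹ * g⁻¹) = g * (c * T) * (c : S2)⁻¹ * g⁻¹ := by group
        _ = g * (T * c) * (c : S2)⁻¹ * g⁻¹ := by rw [hcT]
        _ = g * T * g⁻¹ := by group
    have := Nat.card_le_card_of_surjective _ hsurj
    rw [Nat.card_eq_fintype_card (α := Ω), Fintype.card_coe] at this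
    refine this.trans (le_of_eq ?_)
    change A.index = _
    have h1 := A.card_mul_index
    rw [hcA, H40.card_SL2] at h1
    have hq := Fintype.one_lt_card (α := F)
    obtain ⟨k, hk⟩ : ∃ k, Fintype.card F = k + 1 := ⟨Fintype.card F - 1, by omega⟩
    rw [hk] at h1 ⊢
    apply Nat.eq_of_mul_eq_mul_left (Nat.succ_pos (k + 1))
    rw [h1]
    have e1 : (k + 1) * (k + 1) - (k + 1) = (k + 1) * k := by
      rw [← Nat.mul_sub_one, Nat.add_sub_cancel]
    have e2 : (k + 1) ^ 2 - 1 = (k + 2) * k := by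
      have : (k + 1) ^ 2 = (k + 2) * k + 1 := by ring
      omega
    rw [e1, e2]
    simp only [Nat.succ_eq_add_one]
    ring
  have hEq : Finset.univ.biUnion orb = Ω := by
    refine Finset.eq_of_subset_of_card_le ?_ (hΩcard.trans hunion)
    intro x hx
    simp only [Finset.mem_biUnion, orb, Finset.mem_image, Finset.mem_filter] at hx
    obtain ⟨a, -, c, -, rfl⟩ := hx
    refine Finset.mem_image.2 ⟨c * upper2 a, Finset.mem_univ _, ?_⟩
    simp only [Y]
    group
  have hinj : Function.Injective (upper2 : F → S2) := fun a b h => by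
    have := congrFun (congrFun (congrArg Subtype.val h) 0) 1
    simpa [coe_upper2] using this
  refine ⟨A, B, hcyc, hcA, ⟨⟨?_⟩⟩, ?_, ?_, ?_⟩
  · rintro ⟨_, a, rfl⟩ ⟨_, b, rfl⟩
    exact Subtype.ext (show upper2 a * upper2 b = upper2 b * upper2 a by rw [hmulU, hmulU, add_comm])
  · rintro _ ⟨a, rfl⟩
    exact hsq a
  · rw [← Nat.card_eq_fintype_card (α := F), Nat.card_congr (Equiv.ofInjective upper2 hinj)]
    rfl
  · intro g
    have hg : g * T * g⁻¹ ∈ Finset.univ.biUnion orb := hEq ▸ Finset.mem_image.2 ⟨g, Finset.mem_univ _, rfl⟩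
    simp only [Finset.mem_biUnion, orb, Finset.mem_image, Finset.mem_filter, Finset.mem_univ, true_and,
      Y] at hg
    obtain ⟨a, c, hc, h⟩ := hg
    refine ⟨c, hc, upper2 a, ⟨a, rfl⟩, (c * upper2 a)⁻¹ * g, ?_, by group⟩
    refine H40.mem_tor.2 ?_
    calc (c * upper2 a)⁻¹ * g * T = (c * upper2 a)⁻¹ * (g * T * g⁻¹) * g := by group
      _ = (c * upper2 a)⁻¹ * (c * (upper2 a * T * (upper2 a)⁻¹) * c⁻¹) * g := by rw [h]
      _ = T * ((c * upper2 a)⁻¹ * g) := by group

end H37
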