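import Cfsg.Agent.H37.SmallIsoBig
import Cfsg.Agent.H37.A7InA8

/-!
Subgroups `A_7` of `GL_4(2)`: they exist and are two-transitive on non-zero vectors.
-/

set_option autoImplicit false

namespace H37

open Matrix

local notation "G4'" => Matrix.SpecialLinearGroup (Fin 4) (ZMod 2)

instance fact_prime_two_gl42 : Fact (Nat.Prime 2) := ⟨Nat.prime_two⟩

/-- The action of `SL_4(2)` on eight blocks. -/
noncomputable def rho8 : G4' →* Equiv.Perm (Fin 8) := blockHom block4_injective block4_stab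

theorem rho8_transvection {i j : Fin 4} (hij : i ≠ j) {a b : Fin 8}
    (h : ∀ x ∈ T4 a, code4 (bAct i j (bits4 x)) ∈ T4 b) :
    rho8 (Matrix.SpecialLinearGroup.transvection hij 1) a = b := by
  apply block4_injective
  rw [rho8, ← blockHom_spec block4_injective block4_stab]
  refine Finset.eq_of_subset_of_card_le (fun y hy => ?_) (by rw [Finset.card_map, card_block4, card_block4])
  obtain ⟨z, hz, rfl⟩ := Finset.mem_map.1 hy
  obtain ⟨x, hx, rfl⟩ := List.mem_map.1 (List.mem_toFinset.1 hz)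
  rw [Equiv.coe_toEmbedding, congrPerm_alt4 hij (T4_lt a x hx)]
  exact List.mem_toFinset.2 (List.mem_map.2 ⟨_, h x hx, rfl⟩)

theorem rho8_injective : Function.Injective rho8 := by
  haveI := isSimpleGroup_PSL (ι := Fin 4) (F := ZMod 2) (by simp)
  have hc : Subgroup.center G4' = ⊥ := by rw [← Subgroup.card_eq_one, card_center_SL]; simp
  let e : G4' ≃* ProjectiveSpecialLinearGroup (Fin 4) (ZMod 2) :=
    MulEquiv.ofBijective (QuotientGroup.mk' _) ⟨by
      rw [← MonoidHom.ker_eq_bot_iff, QuotientGroup.ker_mk', hc], QuotientGroup.mk'_surjective _⟩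
  haveI : IsSimpleGroup G4' := MulEquiv.isSimpleGroup e
  obtain ⟨a, x, hx, hxa⟩ : ∃ a, ∃ x ∈ T4 a, code4 (bAct 0 1 (bits4 x)) ∉ T4 a := by decide +kernel
  obtain ⟨b, hb⟩ := T4_act 0 1 (by decide) a
  refine injective_of_simple rho8 ⟨Matrix.SpecialLinearGroup.transvection
    (show (0 : Fin 4) ≠ 1 by decide) 1, fun h => ?_⟩
  have := rho8_transvection (show (0 : Fin 4) ≠ 1 by decide) hb
  rw [h, Equiv.Perm.one_apply] at this
  exact hxa (this ▸ hb x hx)

theorem card_G4' : Nat.card G4' = 20160 := by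
  have := card_SL_fin (F := ZMod 2) 4 (by norm_num)
  rw [Nat.card_zmod] at this
  norm_num [Fin.prod_univ_four, -Nat.card_eq_fintype_card] at this
  omega

theorem rho8_sign (g : G4') : Equiv.Perm.sign (rho8 g) = 1 := by
  have hle : commutator G4' ≤ (Equiv.Perm.sign.comp rho8).ker := by
    rw [_root_.commutator_def, Subgroup.commutator_le]
    intro a _ b _
    rw [MonoidHom.mem_ker, map_commutatorElement, commutatorElement_eq_one_iff_mul_comm, mul_comm]
  exact hle ((commutator_SL_eq_top (ι := Fin 4) (F := ZMod 2) (by simp)).symm ▸ Subgroup.mem_top g)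

/-- `SL_4(2) ≅ A_8`. -/
noncomputable def rho8A : G4' ≃* alternatingGroup (Fin 8) :=
  MulEquiv.ofBijective (rho8.codRestrict (alternatingGroup (Fin 8)) fun g =>
    Equiv.Perm.mem_alternatingGroup.2 (rho8_sign g)) (by
      refine (Nat.bijective_iff_injective_and_card _).2
        ⟨fun a b h => rho8_injective (congrArg Subtype.val h), ?_⟩
      rw [card_G4', nat_card_alternatingGroup, Nat.card_fin]
      norm_num [Nat.factorial])

theorem rho8A_coe (g : G4') : (rho8A g : Equiv.Perm (Fin 8)) = rho8 g := rfl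

/-- The stabiliser of a point in `SL_4(2)`. -/
noncomputable def pointStab (c : Fin 8) : Subgroup G4' :=
  (MulAction.stabilizer (Equiv.Perm (Fin 8)) c).comap rho8

theorem mem_pointStab {c : Fin 8} {g : G4'} : g ∈ pointStab c ↔ rho8 g c = c := Iff.rfl

/-- The fixer of `e₀` and `e₁`. -/
def pairFixer : Subgroup G4' where
  carrier := {g | (g : Matrix (Fin 4) (Fin 4) (ZMod 2)).mulVec (Pi.single 0 1) = Pi.single 0 1 ∧
    (g : Matrix (Fin 4) (Fin 4) (ZMod 2)).mulVec (Pi.single 1 1) = Pi.single 1 1}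
  one_mem' := by simp only [Set.mem_setOf_eq, Matrix.SpecialLinearGroup.coe_one, Matrix.one_mulVec, and_self]
  mul_mem' {a b} ha hb := by
    simp only [Set.mem_setOf_eq, Matrix.SpecialLinearGroup.coe_mul, ← Matrix.mulVec_mulVec] at *
    rw [hb.1, hb.2]
    exact ha
  inv_mem' {a} ha := by
    have key : ∀ v : Fin 4 → ZMod 2, (a : Matrix (Fin 4) (Fin 4) (ZMod 2)).mulVec v = v →
        ((a⁻¹ : G4') : Matrix (Fin 4) (Fin 4) (ZMod 2)).mulVec v = v := fun v hv => by
      conv_lhs => rw [← hv, Matrix.mulVec_mulVec, ← Matrix.SpecialLinearGroup.coe_mul, inv_mul_cancel,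
        Matrix.SpecialLinearGroup.coe_one, Matrix.one_mulVec]
    exact ⟨key _ ha.1, key _ ha.2⟩

theorem mem_pairFixer {g : G4'} :
    g ∈ pairFixer ↔ (g : Matrix (Fin 4) (Fin 4) (ZMod 2)).mulVec (Pi.single 0 1) = Pi.single 0 1 ∧
      (g : Matrix (Fin 4) (Fin 4) (ZMod 2)).mulVec (Pi.single 1 1) = Pi.single 1 1 := Iff.rfl

theorem transvection_mem_pairFixer {i j : Fin 4} (hij : i ≠ j) (hj : 2 ≤ j) (c : ZMod 2) :
    Matrix.SpecialLinearGroup.transvection hij c ∈ pairFixer := by
  have key : ∀ k : Fin 4, k ≠ j →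
      ((Matrix.SpecialLinearGroup.transvection hij c : G4') : Matrix (Fin 4) (Fin 4) (ZMod 2)).mulVec
        (Pi.single k 1) = Pi.single k 1 := fun k hk => by
    have := transvection_smul hij c (Pi.single k (1 : ZMod 2))
    rw [Pi.single_eq_of_ne (Ne.symm hk), mul_zero, Pi.single_zero, add_zero] at this
    exact this
  exact ⟨key 0 (by rintro rfl; exact absurd hj (by decide)),
    key 1 (by rintro rfl; exact absurd hj (by decide))⟩

/-- Blocks reachable from block `0` by transvections fixing `e₀, e₁`. -/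
def reach8 : ℕ → Finset (Fin 8)
  | 0 => {0}
  | n + 1 => reach8 n ∪ Finset.univ.filter fun b => ∃ a ∈ reach8 n, ∃ i j : Fin 4,
      i ≠ j ∧ 2 ≤ j ∧ ∀ x ∈ T4 a, code4 (bAct i j (bits4 x)) ∈ T4 b

theorem reach8_eq : reach8 4 = Finset.univ := by decide +kernel

theorem pairFixer_transitive (b : Fin 8) : ∃ g ∈ pairFixer, rho8 g 0 = b := by
  have : ∀ n, ∀ b ∈ reach8 n, ∃ g ∈ pairFixer, rho8 g 0 = b := by
    intro n
    induction n with
    | zero =>
      intro b hb
      rw [reach8, Finset.mem_singleton] at hb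
      exact ⟨1, one_mem _, by simp [hb]⟩
    | succ n ih =>
      intro b hb
      rw [reach8, Finset.mem_union, Finset.mem_filter] at hb
      rcases hb with hb | ⟨-, a, ha, i, j, hij, hj, h⟩
      · exact ih b hb
      · obtain ⟨g, hg, hga⟩ := ih a ha
        refine ⟨Matrix.SpecialLinearGroup.transvection hij 1 * g,
          mul_mem (transvection_mem_pairFixer hij hj 1) hg, ?_⟩
        rw [map_mul, Equiv.Perm.mul_apply, hga]
        exact rho8_transvection hij h
  exact this 4 b (reach8_eq ▸ Finset.mem_univ b)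

theorem index_pointStab (c : Fin 8) : Nat.card (pointStab c) = 2520 := by
  letI : MulAction G4' (Fin 8) := MulAction.compHom _ rho8
  have horb : MulAction.orbit G4' c = Set.univ := by
    refine Set.eq_univ_of_forall fun d => ?_
    obtain ⟨g, -, hg⟩ := pairFixer_transitive c
    obtain ⟨h, -, hh⟩ := pairFixer_transitive d
    refine ⟨h * g⁻¹, ?_⟩
    show rho8 (h * g⁻¹) c = d
    rw [map_mul, map_inv, Equiv.Perm.mul_apply, ← hg, Equiv.Perm.inv_def, Equiv.symm_apply_apply, hh]
  have h8 := MulAction.index_stabilizer G4' c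
  rw [horb, Set.ncard_univ, Nat.card_fin] at h8
  have := Subgroup.card_mul_index (MulAction.stabilizer G4' c)
  rw [h8, card_G4'] at this
  change Nat.card (MulAction.stabilizer G4' c) = 2520
  omega

theorem exists_pair_map {v w : Fin 4 → ZMod 2} (hv : v ≠ 0) (hw : w ≠ 0) (hvw : v ≠ w) :
    ∃ g : G4', (g : Matrix (Fin 4) (Fin 4) (ZMod 2)).mulVec (Pi.single 0 1) = v ∧
      (g : Matrix (Fin 4) (Fin 4) (ZMod 2)).mulVec (Pi.single 1 1) = w := by
  have h2 : LinearIndependent (ZMod 2) ![v, w] := by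
    rw [LinearIndependent.pair_iff]
    intro s t hst
    rcases (by decide : ∀ a : ZMod 2, a = 0 ∨ a = 1) s with rfl | rfl <;>
      rcases (by decide : ∀ a : ZMod 2, a = 0 ∨ a = 1) t with rfl | rfl <;>
      simp only [zero_smul, one_smul, zero_add, add_zero] at hst
    · exact ⟨rfl, rfl⟩
    · exact absurd hst hw
    · exact absurd hst hv
    · refine absurd ?_ hvw
      rw [eq_neg_of_add_eq_zero_left hst]
      funext i
      exact CharTwo.neg_eq (w i)
  obtain ⟨x, h3⟩ := exists_linearIndependent_snoc_of_lt_finrank h2 (by simp)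
  obtain ⟨y, h4⟩ := exists_linearIndependent_snoc_of_lt_finrank h3 (by simp)
  set u : Fin 4 → Fin 4 → ZMod 2 := Fin.snoc (Fin.snoc ![v, w] x) y with hu
  have hrow : LinearIndependent (ZMod 2) (Matrix.row (Matrix.of u)) := h4
  have hunit := (Matrix.linearIndependent_rows_iff_isUnit.1 hrow)
  rw [Matrix.isUnit_iff_isUnit_det] at hunit
  have hdet : (Matrix.of u).det = 1 :=
    (by decide : ∀ a : ZMod 2, a ≠ 0 → a = 1) _ hunit.ne_zero
  refine ⟨⟨(Matrix.of u)ᵀ, by rw [Matrix.det_transpose, hdet]⟩, ?_, ?_⟩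
  · rw [Matrix.mulVec_single_one]
    rfl
  · rw [Matrix.mulVec_single_one]
    rfl

/-- Every subgroup isomorphic to `A_7` is two-transitive on non-zero vectors. -/
theorem alternating_seven_two_transitive (H : Subgroup G4')
    (hH : Nonempty (H ≃* alternatingGroup (Fin 7))) {v w v' w' : Fin 4 → ZMod 2} (hv : v ≠ 0)
    (hw : w ≠ 0) (hvw : v ≠ w) (hv' : v' ≠ 0) (hw' : w' ≠ 0) (hvw' : v' ≠ w') :
    ∃ g ∈ H, (g : Matrix (Fin 4) (Fin 4) (ZMod 2)).mulVec v = v' ∧
      (g : Matrix (Fin 4) (Fin 4) (ZMod 2)).mulVec w = w' := by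
  obtain ⟨e⟩ := hH
  obtain ⟨c, hc⟩ := exists_fixed_alternating_seven (rho8.comp (H.subtype.comp e.symm.toMonoidHom))
    (rho8_injective.comp (H.subtype_injective.comp e.symm.injective))
  have hle : H ≤ pointStab c := fun g hg => by
    have := hc (e ⟨g, hg⟩)
    simpa [mem_pointStab] using this
  have hEq : H = pointStab c := Subgroup.eq_of_le_of_card_ge hle (by
    rw [index_pointStab, Nat.card_congr e.toEquiv, nat_card_alternatingGroup, Nat.card_fin]
    norm_num [Nat.factorial])
  obtain ⟨a, ha1, ha2⟩ := exists_pair_map hv hw hvw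
  obtain ⟨b, hb1, hb2⟩ := exists_pair_map hv' hw' hvw'
  obtain ⟨k₁, hk₁, hk₁c⟩ := pairFixer_transitive (rho8 a⁻¹ c)
  obtain ⟨k₂, hk₂, hk₂c⟩ := pairFixer_transitive (rho8 b⁻¹ c)
  have hk : k₂ * k₁⁻¹ ∈ pairFixer := mul_mem hk₂ (inv_mem hk₁)
  refine ⟨b * (k₂ * k₁⁻¹) * a⁻¹, ?_, ?_, ?_⟩
  · rw [hEq, mem_pointStab]
    simp only [map_mul, Equiv.Perm.mul_apply]
    rw [← hk₁c, map_inv rho8 k₁, Equiv.Perm.inv_def, Equiv.symm_apply_apply, hk₂c, map_inv rho8 b,
      Equiv.Perm.inv_def, Equiv.apply_symm_apply]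
  · rw [← ha1]
    simp only [Matrix.mulVec_mulVec, ← Matrix.SpecialLinearGroup.coe_mul, inv_mul_cancel_right]
    rw [Matrix.SpecialLinearGroup.coe_mul, ← Matrix.mulVec_mulVec, (mem_pairFixer.1 hk).1, hb1]
  · rw [← ha2]
    simp only [Matrix.mulVec_mulVec, ← Matrix.SpecialLinearGroup.coe_mul, inv_mul_cancel_right]
    rw [Matrix.SpecialLinearGroup.coe_mul, ← Matrix.mulVec_mulVec, (mem_pairFixer.1 hk).2, hb2]

/-- `SL_4(2)` contains `A_7`. -/
theorem exists_alternating_seven :
    ∃ H : Subgroup G4', Nonempty (H ≃* alternatingGroup (Fin 7)) := by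
  classical
  let s : Fin 7 ↪ Fin 8 := Fin.castSuccEmb
  let f : Equiv.Perm (Fin 7) →* Equiv.Perm (Fin 8) := Equiv.Perm.viaEmbeddingHom s
  have hf : Function.Injective f := Equiv.Perm.viaEmbeddingHom_injective s
  have hfA : ∀ g : alternatingGroup (Fin 7), f (g : Equiv.Perm (Fin 7)) ∈ alternatingGroup (Fin 8) := by
    intro g
    haveI := alternatingGroup.isSimpleGroup (α := Fin 7) (by simp)
    rw [Equiv.Perm.mem_alternatingGroup]
    by_contra hne
    let ψ := (Equiv.Perm.sign.comp f).comp (alternatingGroup (Fin 7)).subtype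
    have hinj : Function.Injective ψ := injective_of_simple ψ ⟨g, hne⟩
    have := Nat.card_le_card_of_injective ψ hinj
    rw [nat_card_alternatingGroup, Nat.card_fin, Nat.card_eq_fintype_card, Fintype.card_units_int] at this
    norm_num [Nat.factorial] at this
  let φ : alternatingGroup (Fin 7) →* G4' := rho8A.symm.toMonoidHom.comp
    ((f.comp (alternatingGroup (Fin 7)).subtype).codRestrict _ hfA)
  have hφ : Function.Injective φ := by
    intro a b hab
    have := congrArg Subtype.val (rho8A.symm.injective hab)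
    exact Subtype.ext (hf this)
  exact ⟨φ.range, ⟨(MonoidHom.ofInjective hφ).symm⟩⟩

end H37
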