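import Cfsg.Agent.H37.Generation

/-!
A subgroup of `GL_n(F)` normalised by `SL_n(F)` is scalar or contains `SL_n(F)`,
as soon as `SL_n(F)` is perfect with simple central quotient.
-/

set_option autoImplicit false

namespace H37

open Matrix
open scoped commutatorElement

universe u v

variable {ι : Type u} [Fintype ι] [DecidableEq ι] {F : Type v} [Field F]

/-- A matrix commuting with all elements of `SL_n` is scalar. -/
theorem exists_eq_smul_one_of_commute_SL [Nonempty ι] (g : GL ι F)
    (h : ∀ s : SpecialLinearGroup ι F,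
      SpecialLinearGroup.toGL s * g = g * SpecialLinearGroup.toGL s) :
    ∃ c : F, (g : Matrix ι ι F) = c • (1 : Matrix ι ι F) := by
  obtain ⟨c, hc⟩ := Matrix.mem_range_scalar_of_commute_transvectionStruct
    (M := (g : Matrix ι ι F)) (fun t => by
      have := congrArg Units.val (h ⟨t.toMatrix, by simp⟩)
      exact this)
  exact ⟨c, by rw [← hc]; simp [Matrix.smul_one_eq_diagonal, Matrix.scalar_apply]⟩

/-- Perfect `SL` and simple `PSL` : an `SL`-normalised subgroup is scalar or contains `SL`. -/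
theorem scalar_or_toGL_range_le [Nonempty ι]
    (hperf : commutator (SpecialLinearGroup ι F) = ⊤)
    (hsimp : IsSimpleGroup (ProjectiveSpecialLinearGroup ι F))
    (G : Subgroup (GL ι F))
    (hG : ∀ s : SpecialLinearGroup ι F, ∀ g ∈ G,
      SpecialLinearGroup.toGL s * g * (SpecialLinearGroup.toGL s)⁻¹ ∈ G) :
    (∀ g ∈ G, ∃ c : F, (g : Matrix ι ι F) = c • (1 : Matrix ι ι F)) ∨
      (SpecialLinearGroup.toGL : SpecialLinearGroup ι F →* _).range ≤ G := by
  classical
  set φ : SpecialLinearGroup ι F →* GL ι F := SpecialLinearGroup.toGL with hφ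
  have hinj : Function.Injective φ := fun a b hab =>
    Subtype.ext (congrArg (fun u : GL ι F => (u : Matrix ι ι F)) hab)
  set Z := Subgroup.center (SpecialLinearGroup ι F) with hZ
  -- the trace of `G` on `SL`
  set N : Subgroup (SpecialLinearGroup ι F) := G.comap φ with hN
  have hNn : N.Normal := ⟨fun n hn s => by
    show φ (s * n * s⁻¹) ∈ G
    rw [map_mul, map_mul, map_inv]
    exact hG s _ hn⟩
  by_cases hNZ : N ≤ Z
  · left
    intro g hg
    have hker : ∀ s : SpecialLinearGroup ι F, φ s * g * (φ s)⁻¹ * g⁻¹ ∈ φ.range := by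
      intro s
      have hdet : ∀ u : GL ι F, (u : Matrix ι ι F).det = 1 → u ∈ φ.range := fun u hu =>
        ⟨⟨(u : Matrix ι ι F), hu⟩, Units.ext rfl⟩
      apply hdet
      have h1 : (Matrix.GeneralLinearGroup.det (φ s * g * (φ s)⁻¹ * g⁻¹) : Fˣ) = 1 := by
        simp only [map_mul, map_inv]
        rw [mul_comm (Matrix.GeneralLinearGroup.det (φ s))]
        simp
      exact congrArg Units.val h1
    choose κ hκ using hker
    have hκG : ∀ s, κ s ∈ N := fun s => by
      show φ (κ s) ∈ G
      rw [hκ]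
      exact mul_mem (hG s g hg) (inv_mem hg)
    have hκmul : ∀ a b, κ (a * b) = κ a * κ b := by
      intro a b
      apply hinj
      have hc : φ (κ b) * φ a = φ a * φ (κ b) := by
        rw [← map_mul, ← map_mul, Subgroup.mem_center_iff.1 (hNZ (hκG b)) a]
      rw [map_mul, hκ, hκ, hκ, map_mul]
      have e : φ a * φ b * g * (φ a * φ b)⁻¹ * g⁻¹
          = φ a * (φ b * g * (φ b)⁻¹ * g⁻¹) * g * (φ a)⁻¹ * g⁻¹ := by group
      rw [e, ← hκ, ← hc]
      rw [← hκ a]
      have hc2 : φ (κ b) * φ (κ a) = φ (κ a) * φ (κ b) := by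
        rw [← map_mul, ← map_mul, Subgroup.mem_center_iff.1 (hNZ (hκG b)) (κ a)]
      rw [← hc2, hκ a]
      group
    let κh : SpecialLinearGroup ι F →* Z :=
      MonoidHom.mk' (fun s => ⟨κ s, hNZ (hκG s)⟩) (fun a b => Subtype.ext (hκmul a b))
    have htriv : ∀ s, κ s = 1 := by
      intro s
      have hle : commutator (SpecialLinearGroup ι F) ≤ κh.ker := by
        rw [_root_.commutator_def, Subgroup.commutator_le]
        intro a _ b _
        rw [MonoidHom.mem_ker, map_commutatorElement, commutatorElement_eq_one_iff_mul_comm]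
        exact Subtype.ext (Subgroup.mem_center_iff.1 (κh b).2 _)
      have := hle (hperf ▸ Subgroup.mem_top s)
      exact congrArg Subtype.val this
    refine exists_eq_smul_one_of_commute_SL g fun s => ?_
    have := hκ s
    rw [htriv s, map_one] at this
    calc φ s * g = (φ s * g * (φ s)⁻¹ * g⁻¹) * g * φ s := by group
      _ = g * φ s := by rw [← this, one_mul]
  · right
    have hsup : N ⊔ Z = ⊤ := by
      haveI : (N.map (QuotientGroup.mk' Z)).Normal :=
        Subgroup.Normal.map hNn _ (QuotientGroup.mk'_surjective Z)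
      rcases hsimp.eq_bot_or_eq_top_of_normal (N.map (QuotientGroup.mk' Z)) inferInstance with h | h
      · exact absurd ((Subgroup.map_eq_bot_iff _).1 h |>.trans_eq (QuotientGroup.ker_mk' Z)) hNZ
      · have := congrArg (Subgroup.comap (QuotientGroup.mk' Z)) h
        rwa [Subgroup.comap_map_eq, QuotientGroup.ker_mk', Subgroup.comap_top] at this
    have hcomm : commutator (SpecialLinearGroup ι F) ≤ N := by
      rw [_root_.commutator_def, Subgroup.commutator_le]
      intro a _ b _
      have ha : a ∈ N ⊔ Z := hsup ▸ Subgroup.mem_top a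
      have hb : b ∈ N ⊔ Z := hsup ▸ Subgroup.mem_top b
      haveI := hNn
      rw [← SetLike.mem_coe, Subgroup.normal_mul, Set.mem_mul] at ha hb
      obtain ⟨n, hn, z, hz, rfl⟩ := ha
      obtain ⟨m, hm, w, hw, rfl⟩ := hb
      have hz' : ∀ x, x * z = z * x := Subgroup.mem_center_iff.1 hz
      have hw' : ∀ x, x * w = w * x := Subgroup.mem_center_iff.1 hw
      have : ⁅n * z, m * w⁆ = ⁅n, m⁆ := by
        simp only [commutatorElement_def, _root_.mul_inv_rev]
        calc n * z * (m * w) * (z⁻¹ * n⁻¹) * (w⁻¹ * m⁻¹)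
            = n * (z * m) * w * z⁻¹ * n⁻¹ * w⁻¹ * m⁻¹ := by group
          _ = n * (m * z) * w * z⁻¹ * n⁻¹ * w⁻¹ * m⁻¹ := by rw [hz']
          _ = n * m * ((z * w) * z⁻¹ * n⁻¹) * w⁻¹ * m⁻¹ := by group
          _ = n * m * ((w * z) * z⁻¹ * n⁻¹) * w⁻¹ * m⁻¹ := by rw [hw' z]
          _ = n * m * (w * n⁻¹) * w⁻¹ * m⁻¹ := by group
          _ = n * m * (n⁻¹ * w) * w⁻¹ * m⁻¹ := by rw [hw' n⁻¹]
          _ = n * m * n⁻¹ * m⁻¹ := by group
      rw [this, commutatorElement_def]
      exact mul_mem (mul_mem (mul_mem hn hm) (inv_mem hn)) (inv_mem hm)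
    rintro x ⟨s, rfl⟩
    exact hcomm (hperf ▸ Subgroup.mem_top s)

end H37
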