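import Cfsg.Agent.H37.SmallIso
import Cfsg.Agent.H37.Two

/-!
For `q = 9` and `λ² = -1` the two unipotents generate a subgroup of order 120 of `SL₂(9)`.
-/

set_option autoImplicit false

namespace H37

open Matrix
open scoped MatrixGroups

abbrev Q9 : Type := K9 × K9 × K9 × K9

/-- Product of `2 × 2` matrices written as quadruples. -/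
def mulT (a b : Q9) : Q9 :=
  (a.1 * b.1 + a.2.1 * b.2.2.1, a.1 * b.2.1 + a.2.1 * b.2.2.2,
    a.2.2.1 * b.1 + a.2.2.2 * b.2.2.1, a.2.2.1 * b.2.1 + a.2.2.2 * b.2.2.2)

def listA9 : List Q9 := [(⟨1,0⟩, ⟨0,0⟩, ⟨0,0⟩, ⟨1,0⟩), (⟨1,0⟩, ⟨0,0⟩, ⟨1,0⟩, ⟨1,0⟩), (⟨1,0⟩, ⟨0,1⟩, ⟨0,0⟩, ⟨1,0⟩), (⟨1,0⟩, ⟨0,0⟩, ⟨2,0⟩, ⟨1,0⟩), (⟨1,0⟩, ⟨0,1⟩, ⟨1,0⟩, ⟨1,1⟩), (⟨1,1⟩, ⟨0,1⟩, ⟨1,0⟩, ⟨1,0⟩), (⟨1,0⟩, ⟨0,2⟩, ⟨0,0⟩, ⟨1,0⟩), (⟨1,0⟩, ⟨0,1⟩, ⟨2,0⟩, ⟨1,2⟩), (⟨1,1⟩, ⟨0,1⟩, ⟨2,1⟩, ⟨1,1⟩), (⟨1,0⟩, ⟨0,2⟩, ⟨1,0⟩, ⟨1,2⟩), (⟨1,2⟩, ⟨0,1⟩, ⟨2,0⟩, ⟨1,0⟩), (⟨1,1⟩, ⟨2,2⟩, ⟨1,0⟩, ⟨1,1⟩), (⟨1,2⟩, ⟨0,2⟩, ⟨1,0⟩, ⟨1,0⟩), (⟨1,1⟩, ⟨0,1⟩, ⟨0,2⟩, ⟨1,2⟩), (⟨1,0⟩, ⟨0,2⟩, ⟨2,0⟩, ⟨1,1⟩), (⟨1,2⟩, ⟨0,1⟩,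 ⟨0,2⟩, ⟨1,1⟩), (⟨1,1⟩, ⟨2,2⟩, ⟨2,1⟩, ⟨0,0⟩), (⟨1,2⟩, ⟨0,2⟩, ⟨2,2⟩, ⟨1,2⟩), (⟨1,2⟩, ⟨1,2⟩, ⟨2,0⟩, ⟨1,2⟩), (⟨0,0⟩, ⟨2,2⟩, ⟨2,1⟩, ⟨1,1⟩), (⟨1,1⟩, ⟨1,0⟩, ⟨1,0⟩, ⟨1,2⟩), (⟨1,1⟩, ⟨0,2⟩, ⟨2,0⟩, ⟨1,0⟩), (⟨1,2⟩, ⟨1,0⟩, ⟨1,0⟩, ⟨1,1⟩), (⟨1,2⟩, ⟨0,1⟩, ⟨1,1⟩, ⟨1,2⟩), (⟨1,1⟩, ⟨2,2⟩, ⟨0,2⟩, ⟨2,2⟩), (⟨1,2⟩, ⟨0,2⟩, ⟨0,1⟩, ⟨1,1⟩), (⟨1,2⟩, ⟨1,2⟩, ⟨0,2⟩, ⟨2,1⟩), (⟨0,0⟩, ⟨2,2⟩, ⟨2,1⟩, ⟨0,0⟩), (⟨1,1⟩, ⟨1,0⟩, ⟨2,1⟩, ⟨2,2⟩), (⟨1,1⟩, ⟨0,2⟩, ⟨0,1⟩, ⟨1,2⟩), (⟨1,2⟩, ⟨1,0⟩, ⟨2,2⟩, ⟨2,1⟩), (⟨2,1⟩, ⟨1,2⟩, ⟨0,2⟩, ⟨1,2⟩), (⟨1,2⟩, ⟨2,0⟩, ⟨2,0⟩, ⟨1,1⟩), (⟨2,2⟩, ⟨2,2⟩, ⟨0,2⟩, ⟨1,1⟩), (⟨2,1⟩, ⟨1,0⟩, ⟨2,2⟩, ⟨1,2⟩), (⟨1,1⟩, ⟨2,0⟩, ⟨2,0⟩, ⟨1,2⟩), (⟨2,2⟩, ⟨1,0⟩, ⟨2,1⟩, ⟨1,1⟩), (⟨1,2⟩,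 ⟨2,1⟩, ⟨1,0⟩, ⟨1,2⟩), (⟨1,2⟩, ⟨1,2⟩, ⟨1,1⟩, ⟨0,0⟩), (⟨0,0⟩, ⟨2,2⟩, ⟨2,1⟩, ⟨2,2⟩), (⟨1,1⟩, ⟨1,0⟩, ⟨0,2⟩, ⟨0,2⟩), (⟨1,1⟩, ⟨0,2⟩, ⟨1,2⟩, ⟨1,1⟩), (⟨1,2⟩, ⟨1,0⟩, ⟨0,1⟩, ⟨0,1⟩), (⟨2,1⟩, ⟨1,2⟩, ⟨2,0⟩, ⟨2,1⟩), (⟨1,2⟩, ⟨2,0⟩, ⟨0,2⟩, ⟨0,1⟩), (⟨2,2⟩, ⟨2,2⟩, ⟨2,1⟩, ⟨0,0⟩), (⟨2,1⟩, ⟨1,0⟩, ⟨1,0⟩, ⟨2,2⟩), (⟨1,1⟩, ⟨2,0⟩, ⟨0,1⟩, ⟨0,2⟩), (⟨2,2⟩, ⟨1,0⟩, ⟨1,0⟩, ⟨2,1⟩), (⟨1,2⟩, ⟨2,1⟩, ⟨2,2⟩, ⟨0,0⟩), (⟨0,0⟩, ⟨1,2⟩, ⟨1,1⟩, ⟨1,2⟩), (⟨2,1⟩, ⟨0,1⟩, ⟨0,2⟩, ⟨2,2⟩), (⟨0,2⟩, ⟨2,0⟩, ⟨0,1⟩, ⟨1,1⟩), (⟨2,2⟩, ⟨0,1⟩, ⟨0,2⟩, ⟨2,1⟩), (⟨0,1⟩, ⟨1,0⟩, ⟨0,1⟩, ⟨1,2⟩), (⟨2,1⟩, ⟨0,2⟩, ⟨2,2⟩, ⟨2,1⟩), (⟨0,1⟩, ⟨2,0⟩, ⟨0,2⟩, ⟨1,2⟩), (⟨1,1⟩, ⟨1,1⟩, ⟨2,0⟩, ⟨1,1⟩), (⟨0,2⟩, ⟨1,0⟩, ⟨0,2⟩, ⟨1,1⟩), (⟨0,0⟩,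 ⟨2,1⟩, ⟨2,2⟩, ⟨1,2⟩), (⟨2,1⟩, ⟨1,2⟩, ⟨1,1⟩, ⟨0,0⟩), (⟨1,2⟩, ⟨2,0⟩, ⟨1,1⟩, ⟨2,1⟩), (⟨2,2⟩, ⟨2,2⟩, ⟨1,0⟩, ⟨2,2⟩), (⟨2,1⟩, ⟨1,0⟩, ⟨0,1⟩, ⟨0,2⟩), (⟨1,1⟩, ⟨2,0⟩, ⟨1,2⟩, ⟨2,2⟩), (⟨2,2⟩, ⟨1,0⟩, ⟨0,2⟩, ⟨0,1⟩), (⟨1,2⟩, ⟨2,1⟩, ⟨0,1⟩, ⟨2,1⟩), (⟨0,0⟩, ⟨1,2⟩, ⟨1,1⟩, ⟨2,1⟩), (⟨2,1⟩, ⟨0,1⟩, ⟨2,0⟩, ⟨2,0⟩), (⟨0,2⟩, ⟨2,0⟩, ⟨0,0⟩, ⟨0,1⟩), (⟨2,2⟩, ⟨0,1⟩, ⟨2,1⟩, ⟨2,2⟩), (⟨0,1⟩, ⟨1,0⟩, ⟨0,2⟩, ⟨2,2⟩), (⟨2,1⟩, ⟨0,2⟩, ⟨1,0⟩, ⟨2,0⟩), (⟨0,1⟩, ⟨2,0⟩, ⟨0,0⟩, ⟨0,2⟩), (⟨1,1⟩, ⟨1,1⟩, ⟨0,1⟩, ⟨2,2⟩), (⟨0,2⟩, ⟨1,0⟩, ⟨0,1⟩, ⟨2,1⟩), (⟨0,0⟩, ⟨2,1⟩, ⟨2,2⟩, ⟨0,0⟩), (⟨0,0⟩, ⟨1,2⟩, ⟨1,1⟩, ⟨0,0⟩), (⟨2,1⟩, ⟨2,0⟩, ⟨0,2⟩, ⟨0,2⟩), (⟨2,2⟩, ⟨2,0⟩, ⟨1,2⟩, ⟨1,1⟩), (⟨0,2⟩, ⟨0,0⟩, ⟨0,1⟩, ⟨0,1⟩), (⟨2,0⟩,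 ⟨0,1⟩, ⟨2,0⟩, ⟨2,1⟩), (⟨0,1⟩, ⟨0,0⟩, ⟨0,1⟩, ⟨0,2⟩), (⟨2,0⟩, ⟨0,2⟩, ⟨1,0⟩, ⟨2,1⟩), (⟨2,1⟩, ⟨2,1⟩, ⟨2,2⟩, ⟨0,0⟩), (⟨2,1⟩, ⟨2,0⟩, ⟨1,1⟩, ⟨1,2⟩), (⟨2,2⟩, ⟨1,1⟩, ⟨0,1⟩, ⟨1,1⟩), (⟨0,2⟩, ⟨2,0⟩, ⟨0,2⟩, ⟨2,1⟩), (⟨2,1⟩, ⟨2,1⟩, ⟨0,1⟩, ⟨1,2⟩), (⟨0,0⟩, ⟨2,1⟩, ⟨2,2⟩, ⟨2,1⟩), (⟨2,1⟩, ⟨0,1⟩, ⟨1,1⟩, ⟨2,1⟩), (⟨2,2⟩, ⟨0,1⟩, ⟨1,0⟩, ⟨2,0⟩), (⟨0,1⟩, ⟨1,0⟩, ⟨0,0⟩, ⟨0,2⟩), (⟨2,1⟩, ⟨0,2⟩, ⟨0,1⟩, ⟨2,2⟩), (⟨0,1⟩, ⟨2,0⟩, ⟨0,1⟩, ⟨2,2⟩), (⟨1,1⟩, ⟨1,1⟩, ⟨1,2⟩, ⟨0,0⟩), (⟨0,2⟩, ⟨1,0⟩, ⟨0,0⟩, ⟨0,1⟩), (⟨2,1⟩, ⟨2,0⟩, ⟨2,0⟩, ⟨2,2⟩), (⟨2,2⟩, ⟨2,0⟩, ⟨0,1⟩, ⟨0,1⟩), (⟨0,2⟩, ⟨0,0⟩, ⟨0,0⟩, ⟨0,1⟩), (⟨2,0⟩, ⟨0,1⟩, ⟨1,0⟩, ⟨2,2⟩), (⟨0,1⟩, ⟨0,0⟩, ⟨0,2⟩, ⟨0,2⟩), (⟨2,0⟩, ⟨0,2⟩, ⟨0,0⟩, ⟨2,0⟩), (⟨2,1⟩,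 ⟨2,1⟩, ⟨1,0⟩, ⟨2,1⟩), (⟨2,2⟩, ⟨1,1⟩, ⟨2,0⟩, ⟨2,2⟩), (⟨2,2⟩, ⟨0,2⟩, ⟨1,2⟩, ⟨2,2⟩), (⟨0,2⟩, ⟨0,0⟩, ⟨0,2⟩, ⟨0,1⟩), (⟨2,0⟩, ⟨0,0⟩, ⟨2,0⟩, ⟨2,0⟩), (⟨0,1⟩, ⟨0,0⟩, ⟨0,0⟩, ⟨0,2⟩), (⟨2,2⟩, ⟨0,2⟩, ⟨0,1⟩, ⟨2,1⟩), (⟨0,0⟩, ⟨1,1⟩, ⟨1,2⟩, ⟨1,1⟩), (⟨2,2⟩, ⟨2,0⟩, ⟨2,0⟩, ⟨2,1⟩), (⟨2,0⟩, ⟨0,1⟩, ⟨0,0⟩, ⟨2,0⟩), (⟨2,0⟩, ⟨0,2⟩, ⟨2,0⟩, ⟨2,2⟩), (⟨2,2⟩, ⟨1,1⟩, ⟨1,2⟩, ⟨0,0⟩), (⟨2,0⟩, ⟨0,0⟩, ⟨1,0⟩, ⟨2,0⟩), (⟨2,2⟩, ⟨0,2⟩, ⟨2,0⟩, ⟨2,0⟩), (⟨0,0⟩, ⟨1,1⟩, ⟨1,2⟩, ⟨2,2⟩), (⟨2,0⟩, ⟨0,0⟩, ⟨0,0⟩, ⟨2,0⟩), (⟨0,0⟩, ⟨1,1⟩, ⟨1,2⟩, ⟨0,0⟩)]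

def parA9 : List (ℕ × Bool) := [(0,false), (0,false), (0,true), (1,false), (1,true), (2,false), (2,true), (3,true), (4,false), (4,true), (5,false), (5,true), (6,false), (7,false), (7,true), (8,false), (8,true), (9,false), (10,true), (11,false), (11,true), (12,false), (12,true), (13,false), (13,true), (14,false), (15,true), (16,false), (16,true), (17,false), (17,true), (18,false), (18,true), (19,false), (20,false), (21,true), (22,false), (22,true), (23,true), (24,false), (24,true), (25,false), (25,true), (26,false), (26,true), (27,false), (28,false), (29,true), (30,false), (30,true), (31,false), (31,true), (32,false), (33,true), (34,false), (34,true),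 (35,false), (35,true), (36,false), (37,false), (38,false), (38,true), (39,false), (40,false), (41,true), (42,false), (42,true), (43,false), (43,true), (44,false), (45,true), (46,false), (46,true), (47,false), (47,true), (48,false), (49,false), (50,true), (51,true), (52,false), (52,true), (53,false), (54,true), (55,false), (55,true), (56,false), (57,false), (58,true), (59,false), (59,true), (60,true), (62,true), (63,false), (63,true), (64,false), (64,true), (65,false), (68,true), (69,false), (69,true), (70,false), (71,true), (72,false), (72,true), (74,false), (79,true), (80,false), (81,true), (82,false), (83,false), (86,false), (87,false), (91,false),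 (93,false), (95,false), (100,true), (102,false), (104,false), (112,true), (114,false)]

def nextA9 : List (ℕ × ℕ) := [(1,2), (3,4), (5,6), (0,7), (8,9), (10,11), (12,0), (13,14), (15,16), (17,1), (2,18), (19,20), (21,22), (23,24), (25,3), (4,26), (27,28), (29,30), (31,32), (33,27), (34,5), (6,35), (36,37), (7,38), (39,40), (41,42), (43,44), (45,39), (46,8), (9,47), (48,49), (50,51), (52,10), (11,53), (54,55), (56,57), (58,45), (59,12), (60,61), (62,19), (63,13), (14,64), (65,66), (67,68), (69,15), (16,70), (71,72), (73,74), (75,62), (76,17), (18,77), (70,78), (79,80), (81,65), (20,82), (83,84), (85,71), (86,21), (22,87), (88,89), (77,90), (87,23),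 (24,91), (92,93), (94,95), (96,33), (89,25), (26,50), (91,97), (98,99), (100,36), (28,101), (102,103), (78,92), (104,29), (30,52), (84,59), (38,67), (47,31), (32,105), (106,75), (90,107), (108,94), (109,100), (49,34), (35,60), (110,98), (111,106), (37,63), (103,76), (53,85), (112,48), (40,108), (113,88), (97,54), (114,41), (42,69), (64,43), (44,109), (80,96), (51,115), (82,56), (116,112), (66,46), (117,111), (93,114), (99,58), (115,113), (101,73), (55,86), (57,117), (61,116), (68,118), (105,81), (119,79), (118,83), (72,104), (74,119), (107,102), (95,110)]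

def listB9 : List Q9 := [(⟨1,0⟩, ⟨0,0⟩, ⟨0,0⟩, ⟨1,0⟩), (⟨1,0⟩, ⟨0,0⟩, ⟨1,0⟩, ⟨1,0⟩), (⟨1,0⟩, ⟨0,2⟩, ⟨0,0⟩, ⟨1,0⟩), (⟨1,0⟩, ⟨0,0⟩, ⟨2,0⟩, ⟨1,0⟩), (⟨1,0⟩, ⟨0,2⟩, ⟨1,0⟩, ⟨1,2⟩), (⟨1,2⟩, ⟨0,2⟩, ⟨1,0⟩, ⟨1,0⟩), (⟨1,0⟩, ⟨0,1⟩, ⟨0,0⟩, ⟨1,0⟩), (⟨1,0⟩, ⟨0,2⟩, ⟨2,0⟩, ⟨1,1⟩), (⟨1,2⟩, ⟨0,2⟩, ⟨2,2⟩, ⟨1,2⟩), (⟨1,0⟩, ⟨0,1⟩, ⟨1,0⟩, ⟨1,1⟩), (⟨1,1⟩, ⟨0,2⟩, ⟨2,0⟩, ⟨1,0⟩), (⟨1,2⟩, ⟨2,1⟩, ⟨1,0⟩, ⟨1,2⟩), (⟨1,1⟩, ⟨0,1⟩, ⟨1,0⟩, ⟨1,0⟩), (⟨1,2⟩, ⟨0,2⟩, ⟨0,1⟩, ⟨1,1⟩), (⟨1,0⟩, ⟨0,1⟩, ⟨2,0⟩, ⟨1,2⟩), (⟨1,1⟩, ⟨0,2⟩, ⟨0,1⟩, ⟨1,2⟩), (⟨1,2⟩, ⟨2,1⟩, ⟨2,2⟩, ⟨0,0⟩), (⟨1,1⟩, ⟨0,1⟩, ⟨2,1⟩, ⟨1,1⟩), (⟨1,1⟩, ⟨1,1⟩, ⟨2,0⟩, ⟨1,1⟩), (⟨0,0⟩, ⟨2,1⟩, ⟨2,2⟩, ⟨1,2⟩), (⟨1,2⟩, ⟨1,0⟩, ⟨1,0⟩, ⟨1,1⟩),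 (⟨1,2⟩, ⟨0,1⟩, ⟨2,0⟩, ⟨1,0⟩), (⟨1,1⟩, ⟨1,0⟩, ⟨1,0⟩, ⟨1,2⟩), (⟨1,1⟩, ⟨0,2⟩, ⟨1,2⟩, ⟨1,1⟩), (⟨1,2⟩, ⟨2,1⟩, ⟨0,1⟩, ⟨2,1⟩), (⟨1,1⟩, ⟨0,1⟩, ⟨0,2⟩, ⟨1,2⟩), (⟨1,1⟩, ⟨1,1⟩, ⟨0,1⟩, ⟨2,2⟩), (⟨0,0⟩, ⟨2,1⟩, ⟨2,2⟩, ⟨0,0⟩), (⟨1,2⟩, ⟨1,0⟩, ⟨2,2⟩, ⟨2,1⟩), (⟨1,2⟩, ⟨0,1⟩, ⟨0,2⟩, ⟨1,1⟩), (⟨1,1⟩, ⟨1,0⟩, ⟨2,1⟩, ⟨2,2⟩), (⟨2,2⟩, ⟨1,1⟩, ⟨0,1⟩, ⟨1,1⟩), (⟨1,1⟩, ⟨2,0⟩, ⟨2,0⟩, ⟨1,2⟩), (⟨2,1⟩, ⟨2,1⟩, ⟨0,1⟩, ⟨1,2⟩), (⟨2,2⟩, ⟨1,0⟩, ⟨2,1⟩, ⟨1,1⟩), (⟨1,2⟩, ⟨2,0⟩, ⟨2,0⟩, ⟨1,1⟩), (⟨2,1⟩, ⟨1,0⟩, ⟨2,2⟩, ⟨1,2⟩), (⟨1,1⟩, ⟨2,2⟩, ⟨1,0⟩, ⟨1,1⟩), (⟨1,1⟩, ⟨1,1⟩, ⟨1,2⟩, ⟨0,0⟩), (⟨0,0⟩, ⟨2,1⟩, ⟨2,2⟩, ⟨2,1⟩), (⟨1,2⟩, ⟨1,0⟩, ⟨0,1⟩, ⟨0,1⟩), (⟨1,2⟩, ⟨0,1⟩, ⟨1,1⟩, ⟨1,2⟩), (⟨1,1⟩, ⟨1,0⟩, ⟨0,2⟩, ⟨0,2⟩),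 (⟨2,2⟩, ⟨1,1⟩, ⟨2,0⟩, ⟨2,2⟩), (⟨1,1⟩, ⟨2,0⟩, ⟨0,1⟩, ⟨0,2⟩), (⟨2,1⟩, ⟨2,1⟩, ⟨2,2⟩, ⟨0,0⟩), (⟨2,2⟩, ⟨1,0⟩, ⟨1,0⟩, ⟨2,1⟩), (⟨1,2⟩, ⟨2,0⟩, ⟨0,2⟩, ⟨0,1⟩), (⟨2,1⟩, ⟨1,0⟩, ⟨1,0⟩, ⟨2,2⟩), (⟨1,1⟩, ⟨2,2⟩, ⟨2,1⟩, ⟨0,0⟩), (⟨0,0⟩, ⟨1,1⟩, ⟨1,2⟩, ⟨1,1⟩), (⟨2,2⟩, ⟨0,2⟩, ⟨0,1⟩, ⟨2,1⟩), (⟨0,1⟩, ⟨2,0⟩, ⟨0,2⟩, ⟨1,2⟩), (⟨2,1⟩, ⟨0,2⟩, ⟨0,1⟩, ⟨2,2⟩), (⟨0,2⟩, ⟨1,0⟩, ⟨0,2⟩, ⟨1,1⟩), (⟨2,2⟩, ⟨0,1⟩, ⟨2,1⟩, ⟨2,2⟩), (⟨0,2⟩, ⟨2,0⟩, ⟨0,1⟩, ⟨1,1⟩), (⟨1,2⟩, ⟨1,2⟩, ⟨2,0⟩, ⟨1,2⟩), (⟨0,1⟩, ⟨1,0⟩, ⟨0,1⟩, ⟨1,2⟩), (⟨0,0⟩, ⟨2,2⟩, ⟨2,1⟩, ⟨1,1⟩), (⟨2,2⟩, ⟨1,1⟩, ⟨1,2⟩, ⟨0,0⟩), (⟨1,1⟩, ⟨2,0⟩, ⟨1,2⟩, ⟨2,2⟩), (⟨2,1⟩, ⟨2,1⟩, ⟨1,0⟩, ⟨2,1⟩), (⟨2,2⟩, ⟨1,0⟩, ⟨0,2⟩, ⟨0,1⟩), (⟨1,2⟩, ⟨2,0⟩, ⟨1,1⟩, ⟨2,1⟩),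 (⟨2,1⟩, ⟨1,0⟩, ⟨0,1⟩, ⟨0,2⟩), (⟨1,1⟩, ⟨2,2⟩, ⟨0,2⟩, ⟨2,2⟩), (⟨0,0⟩, ⟨1,1⟩, ⟨1,2⟩, ⟨2,2⟩), (⟨2,2⟩, ⟨0,2⟩, ⟨2,0⟩, ⟨2,0⟩), (⟨0,1⟩, ⟨2,0⟩, ⟨0,0⟩, ⟨0,2⟩), (⟨2,1⟩, ⟨0,2⟩, ⟨2,2⟩, ⟨2,1⟩), (⟨0,2⟩, ⟨1,0⟩, ⟨0,1⟩, ⟨2,1⟩), (⟨2,2⟩, ⟨0,1⟩, ⟨1,0⟩, ⟨2,0⟩), (⟨0,2⟩, ⟨2,0⟩, ⟨0,0⟩, ⟨0,1⟩), (⟨1,2⟩, ⟨1,2⟩, ⟨0,2⟩, ⟨2,1⟩), (⟨0,1⟩, ⟨1,0⟩, ⟨0,2⟩, ⟨2,2⟩), (⟨0,0⟩, ⟨2,2⟩, ⟨2,1⟩, ⟨0,0⟩), (⟨0,0⟩, ⟨1,1⟩, ⟨1,2⟩, ⟨0,0⟩), (⟨2,2⟩, ⟨2,0⟩, ⟨0,1⟩, ⟨0,1⟩), (⟨2,1⟩, ⟨2,0⟩, ⟨1,1⟩, ⟨1,2⟩), (⟨0,1⟩, ⟨0,0⟩, ⟨0,2⟩, ⟨0,2⟩), (⟨2,0⟩, ⟨0,2⟩, ⟨2,0⟩, ⟨2,2⟩), (⟨0,2⟩, ⟨0,0⟩, ⟨0,2⟩, ⟨0,1⟩), (⟨2,0⟩, ⟨0,1⟩, ⟨1,0⟩, ⟨2,2⟩), (⟨2,2⟩, ⟨2,2⟩, ⟨2,1⟩, ⟨0,0⟩), (⟨2,2⟩, ⟨2,0⟩, ⟨1,2⟩, ⟨1,1⟩), (⟨2,1⟩, ⟨1,2⟩, ⟨0,2⟩, ⟨1,2⟩),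 (⟨0,1⟩, ⟨2,0⟩, ⟨0,1⟩, ⟨2,2⟩), (⟨2,2⟩, ⟨2,2⟩, ⟨0,2⟩, ⟨1,1⟩), (⟨0,0⟩, ⟨2,2⟩, ⟨2,1⟩, ⟨2,2⟩), (⟨2,2⟩, ⟨0,2⟩, ⟨1,2⟩, ⟨2,2⟩), (⟨2,1⟩, ⟨0,2⟩, ⟨1,0⟩, ⟨2,0⟩), (⟨0,2⟩, ⟨1,0⟩, ⟨0,0⟩, ⟨0,1⟩), (⟨2,2⟩, ⟨0,1⟩, ⟨0,2⟩, ⟨2,1⟩), (⟨0,2⟩, ⟨2,0⟩, ⟨0,2⟩, ⟨2,1⟩), (⟨1,2⟩, ⟨1,2⟩, ⟨1,1⟩, ⟨0,0⟩), (⟨0,1⟩, ⟨1,0⟩, ⟨0,0⟩, ⟨0,2⟩), (⟨2,2⟩, ⟨2,0⟩, ⟨2,0⟩, ⟨2,1⟩), (⟨2,1⟩, ⟨2,0⟩, ⟨0,2⟩, ⟨0,2⟩), (⟨0,1⟩, ⟨0,0⟩, ⟨0,0⟩, ⟨0,2⟩), (⟨2,0⟩, ⟨0,2⟩, ⟨1,0⟩, ⟨2,1⟩), (⟨0,2⟩, ⟨0,0⟩, ⟨0,1⟩, ⟨0,1⟩), (⟨2,0⟩, ⟨0,1⟩, ⟨0,0⟩, ⟨2,0⟩), (⟨2,2⟩, ⟨2,2⟩, ⟨1,0⟩, ⟨2,2⟩), (⟨2,1⟩, ⟨1,2⟩, ⟨2,0⟩, ⟨2,1⟩), (⟨2,1⟩, ⟨0,1⟩, ⟨1,1⟩, ⟨2,1⟩), (⟨0,1⟩, ⟨0,0⟩, ⟨0,1⟩, ⟨0,2⟩), (⟨2,0⟩, ⟨0,0⟩, ⟨2,0⟩, ⟨2,0⟩), (⟨0,2⟩, ⟨0,0⟩, ⟨0,0⟩, ⟨0,1⟩),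 (⟨2,1⟩, ⟨0,1⟩, ⟨0,2⟩, ⟨2,2⟩), (⟨0,0⟩, ⟨1,2⟩, ⟨1,1⟩, ⟨1,2⟩), (⟨2,1⟩, ⟨2,0⟩, ⟨2,0⟩, ⟨2,2⟩), (⟨2,0⟩, ⟨0,2⟩, ⟨0,0⟩, ⟨2,0⟩), (⟨2,0⟩, ⟨0,1⟩, ⟨2,0⟩, ⟨2,1⟩), (⟨2,1⟩, ⟨1,2⟩, ⟨1,1⟩, ⟨0,0⟩), (⟨2,0⟩, ⟨0,0⟩, ⟨1,0⟩, ⟨2,0⟩), (⟨2,1⟩, ⟨0,1⟩, ⟨2,0⟩, ⟨2,0⟩), (⟨0,0⟩, ⟨1,2⟩, ⟨1,1⟩, ⟨2,1⟩), (⟨2,0⟩, ⟨0,0⟩, ⟨0,0⟩, ⟨2,0⟩), (⟨0,0⟩, ⟨1,2⟩, ⟨1,1⟩, ⟨0,0⟩)]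

def parB9 : List (ℕ × Bool) := [(0,false), (0,false), (0,true), (1,false), (1,true), (2,false), (2,true), (3,true), (4,false), (4,true), (5,false), (5,true), (6,false), (7,false), (7,true), (8,false), (8,true), (9,false), (10,true), (11,false), (11,true), (12,false), (12,true), (13,false), (13,true), (14,false), (15,true), (16,false), (16,true), (17,false), (17,true), (18,false), (18,true), (19,false), (20,false), (21,true), (22,false), (22,true), (23,true), (24,false), (24,true), (25,false), (25,true), (26,false), (26,true), (27,false), (28,false), (29,true), (30,false), (30,true), (31,false), (31,true), (32,false), (33,true), (34,false), (34,true),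 (35,false), (35,true), (36,false), (37,false), (38,false), (38,true), (39,false), (40,false), (41,true), (42,false), (42,true), (43,false), (43,true), (44,false), (45,true), (46,false), (46,true), (47,false), (47,true), (48,false), (49,false), (50,true), (51,true), (52,false), (52,true), (53,false), (54,true), (55,false), (55,true), (56,false), (57,false), (58,true), (59,false), (59,true), (60,true), (62,true), (63,false), (63,true), (64,false), (64,true), (65,false), (68,true), (69,false), (69,true), (70,false), (71,true), (72,false), (72,true), (74,false), (79,true), (80,false), (81,true), (82,false), (83,false), (86,false), (87,false), (91,false),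 (93,false), (95,false), (100,true), (102,false), (104,false), (112,true), (114,false)]

def nextB9 : List (ℕ × ℕ) := [(1,2), (3,4), (5,6), (0,7), (8,9), (10,11), (12,0), (13,14), (15,16), (17,1), (2,18), (19,20), (21,22), (23,24), (25,3), (4,26), (27,28), (29,30), (31,32), (33,27), (34,5), (6,35), (36,37), (7,38), (39,40), (41,42), (43,44), (45,39), (46,8), (9,47), (48,49), (50,51), (52,10), (11,53), (54,55), (56,57), (58,45), (59,12), (60,61), (62,19), (63,13), (14,64), (65,66), (67,68), (69,15), (16,70), (71,72), (73,74), (75,62), (76,17), (18,77), (70,78), (79,80), (81,65), (20,82), (83,84), (85,71), (86,21), (22,87), (88,89), (77,90), (87,23),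 (24,91), (92,93), (94,95), (96,33), (89,25), (26,50), (91,97), (98,99), (100,36), (28,101), (102,103), (78,92), (104,29), (30,52), (84,59), (38,67), (47,31), (32,105), (106,75), (90,107), (108,94), (109,100), (49,34), (35,60), (110,98), (111,106), (37,63), (103,76), (53,85), (112,48), (40,108), (113,88), (97,54), (114,41), (42,69), (64,43), (44,109), (80,96), (51,115), (82,56), (116,112), (66,46), (117,111), (93,114), (99,58), (115,113), (101,73), (55,86), (57,117), (61,116), (68,118), (105,81), (119,79), (118,83), (72,104), (74,119), (107,102), (95,110)]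

/-- Correctness of a list of the generated group with its tables. -/
structure GenTable (l : K9) (L : List Q9) (par : List (ℕ × Bool)) (nx : List (ℕ × ℕ)) : Prop where
  len : L.length = 120
  nodup : L.Nodup
  zero : L.getD 0 0 = (1, 0, 0, 1)
  parent : ∀ i : Fin 120, i.val ≠ 0 → (par.getD i.val (0, false)).1 < i.val ∧
    L.getD i.val 0 = mulT (L.getD (par.getD i.val (0, false)).1 0)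
      (if (par.getD i.val (0, false)).2 then (1, l, 0, 1) else (1, 0, 1, 1))
  next : ∀ i : Fin 120, (nx.getD i.val (0, 0)).1 < 120 ∧ (nx.getD i.val (0, 0)).2 < 120 ∧
    mulT (L.getD i.val 0) (1, 0, 1, 1) = L.getD (nx.getD i.val (0, 0)).1 0 ∧
    mulT (L.getD i.val 0) (1, l, 0, 1) = L.getD (nx.getD i.val (0, 0)).2 0

theorem genTableA : GenTable ⟨0, 1⟩ listA9 parA9 nextA9 := by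
  constructor <;> decide +kernel

theorem genTableB : GenTable ⟨0, 2⟩ listB9 parB9 nextB9 := by
  constructor <;> decide +kernel

theorem exists_genTable : ∀ l : K9, l ^ 2 = -1 → ∃ L par nx, GenTable l L par nx := by
  have h : ∀ l : K9, l ^ 2 = -1 → l = ⟨0, 1⟩ ∨ l = ⟨0, 2⟩ := by decide +kernel
  intro l hl
  rcases h l hl with rfl | rfl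
  · exact ⟨_, _, _, genTableA⟩
  · exact ⟨_, _, _, genTableB⟩

variable {F : Type*} [Field F] [Fintype F]

theorem card_twoUnip_nine (hF : Fintype.card F = 9) {lam : F} (hlam : lam ^ 2 = -1) :
    Nat.card (Subgroup.closure ({lower2 1, upper2 lam} : Set SL(2, F))) = 120 := by
  classical
  have hK : Fintype.card F = Fintype.card K9 := by rw [hF, ← Nat.card_eq_fintype_card, card_K9]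
  let e : F ≃+* K9 := FiniteField.ringEquivOfCardEq hK
  let t : SL(2, F) → Q9 := fun g => (e (g 0 0), e (g 0 1), e (g 1 0), e (g 1 1))
  have htinj : Function.Injective t := by
    intro a b h
    simp only [t, Prod.mk.injEq, e.injective.eq_iff] at h
    ext i j
    fin_cases i <;> fin_cases j <;> simp [h.1, h.2.1, h.2.2.1, h.2.2.2]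
  have htmul : ∀ a b, t (a * b) = mulT (t a) (t b) := by
    intro a b
    simp [t, mulT, Matrix.mul_apply, Fin.sum_univ_two]
  have ht1 : t 1 = (1, 0, 0, 1) := by simp [t]
  have htu : t (lower2 1) = (1, 0, 1, 1) := by simp [t]
  have htv : t (upper2 lam) = (1, e lam, 0, 1) := by simp [t]
  set l := e lam with hl
  obtain ⟨L, par, nx, T⟩ := exists_genTable l (by rw [hl, ← map_pow, hlam, map_neg, map_one])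
  set H := Subgroup.closure ({lower2 1, upper2 lam} : Set SL(2, F)) with hH
  have hget : ∀ i, i < 120 → L.getD i 0 ∈ L := fun i hi => by
    rw [List.getD_eq_getElem _ _ (by rw [T.len]; exact hi)]
    exact List.getElem_mem _
  have hidx : ∀ y ∈ L, ∃ i, i < 120 ∧ L.getD i 0 = y := fun y hy => by
    obtain ⟨i, hi, rfl⟩ := List.getElem_of_mem hy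
    exact ⟨i, T.len ▸ hi, List.getD_eq_getElem _ _ hi⟩
  have hreach : ∀ n, n < 120 → ∃ g ∈ H, t g = L.getD n 0 := by
    intro n
    induction n using Nat.strong_induction_on with
    | _ n ih =>
      intro hn
      rcases Nat.eq_zero_or_pos n with rfl | hpos
      · exact ⟨1, one_mem _, by rw [ht1, T.zero]⟩
      obtain ⟨hj, he⟩ := T.parent ⟨n, hn⟩ (Nat.pos_iff_ne_zero.1 hpos)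
      obtain ⟨g, hg, hgt⟩ := ih _ hj (hj.trans hn)
      cases hb : (par.getD n (0, false)).2
      · refine ⟨g * lower2 1, mul_mem hg (Subgroup.subset_closure (Or.inl rfl)), ?_⟩
        simp only at hgt he
        rw [hb, if_neg Bool.false_ne_true, ← hgt] at he
        rw [htmul, htu, he]
      · refine ⟨g * upper2 lam, mul_mem hg (Subgroup.subset_closure (Or.inr rfl)), ?_⟩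
        simp only at hgt he
        rw [hb, if_pos rfl, ← hgt] at he
        rw [htmul, htv, he]
  have hstep : ∀ g, t g ∈ L → t (g * lower2 1) ∈ L ∧ t (g * upper2 lam) ∈ L := by
    intro g hg
    obtain ⟨i, hi, he⟩ := hidx _ hg
    obtain ⟨h1, h2, h3, h4⟩ := T.next ⟨i, hi⟩
    rw [htmul, htmul, htu, htv, ← he]
    exact ⟨h3 ▸ hget _ h1, h4 ▸ hget _ h2⟩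
  have h3 : (3 : F) = 0 := e.injective (by
    rw [map_ofNat, map_zero]
    decide)
  have hinv : ∀ c : F, (lower2 c : SL(2, F))⁻¹ = lower2 c * lower2 c ∧
      (upper2 c : SL(2, F))⁻¹ = upper2 c * upper2 c := by
    intro c
    constructor <;> apply inv_eq_of_mul_eq_one_right <;> ext i j <;> fin_cases i <;> fin_cases j <;>
      simp [Matrix.mul_apply, Fin.sum_univ_two] <;> linear_combination c * h3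
  have hle : ∀ g ∈ H, t g ∈ L := by
    intro g hg
    induction hg using Subgroup.closure_induction_right with
    | one => rw [ht1, ← T.zero]; exact hget 0 (by norm_num)
    | mul_right a _ b hb ih =>
      rcases hb with rfl | rfl
      · exact (hstep a ih).1
      · exact (hstep a ih).2
    | mul_inv_cancel a _ b hb ih =>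
      rcases hb with rfl | rfl
      · rw [(hinv 1).1, ← mul_assoc]; exact (hstep _ (hstep a ih).1).1
      · rw [(hinv lam).2, ← mul_assoc]; exact (hstep _ (hstep a ih).2).2
  have himg : Set.image t (H : Set SL(2, F)) = (L.toFinset : Set Q9) := by
    ext y
    rw [List.coe_toFinset]
    refine ⟨fun ⟨g, hg, h⟩ => h ▸ hle g hg, fun hy => ?_⟩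
    obtain ⟨i, hi, rfl⟩ := hidx y hy
    exact (hreach i hi).imp fun g h => h
  rw [← T.len, ← List.toFinset_card_of_nodup T.nodup, ← Set.ncard_coe_finset, ← himg,
    Set.ncard_image_of_injective _ htinj, ← Nat.card_coe_set_eq]
  rfl

end H37
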