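import Cfsg.Agent.H37.SL3Root
import Cfsg.Agent.H37.PSL34

/-!
Certificates: `SL₃(3)`, `SL₃(4)` are generated by two conjugate regular unipotent elements.
-/

set_option autoImplicit false

namespace H37

open Matrix
open scoped MatrixGroups

universe u

/-- Product of a word in `J` and `P J P⁻¹`. -/
def wordMat {R : Type} [CommRing R] (P Q : Matrix (Fin 3) (Fin 3) R) :
    List Bool → Matrix (Fin 3) (Fin 3) R
  | [] => 1
  | false :: w => !![1, 1, 0; 0, 1, 1; 0, 0, 1] * wordMat P Q w
  | true :: w => P * !![1, 1, 0; 0, 1, 1; 0, 0, 1] * Q * wordMat P Q w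

theorem jordanUp_zero {F : Type u} [Field F] :
    ((jordanUp 0 : Matrix.SpecialLinearGroup (Fin (0 + 3)) F) : Matrix (Fin 3) (Fin 3) F) =
      !![1, 1, 0; 0, 1, 1; 0, 0, 1] := by
  rw [coe_jordanUp]
  ext i j
  fin_cases i <;> fin_cases j <;> simp

/-- `Q` inverts `M`, of determinant one. -/
def CertInv {K : Type} [Field K] (M Q : Matrix (Fin 3) (Fin 3) K) : Prop := M * Q = 1 ∧ M.det = 1

/-- The word gives an elementary transvection. -/
def CertAt {K : Type} [Field K] (M Q : Matrix (Fin 3) (Fin 3) K) (w : List Bool) (i j : Fin 3)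
    (c : K) : Prop := wordMat M Q w = 1 + Matrix.single i j c

/-- The element of `SL₃` of a certified matrix. -/
def CertInv.el {K : Type} [Field K] {M Q : Matrix (Fin 3) (Fin 3) K} (hM : CertInv M Q) : SL(3, K) :=
  ⟨M, hM.2⟩

theorem wordMat_mem {K : Type} [Field K] {P : SL(3, K)} (Q : Matrix (Fin 3) (Fin 3) K)
    (hQ : (P : Matrix (Fin 3) (Fin 3) K) * Q = 1) (w : List Bool) :
    ∃ x ∈ Subgroup.closure ({jordanUp 0, P * jordanUp 0 * P⁻¹} : Set SL(3, K)),
      (x : Matrix (Fin 3) (Fin 3) K) = wordMat (P : Matrix (Fin 3) (Fin 3) K) Q w := by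
  have hPi : ((P⁻¹ : SL(3, K)) : Matrix (Fin 3) (Fin 3) K) = Q := by
    calc ((P⁻¹ : SL(3, K)) : Matrix (Fin 3) (Fin 3) K)
        = ((P⁻¹ : SL(3, K)) : Matrix (Fin 3) (Fin 3) K) * ((P : Matrix (Fin 3) (Fin 3) K) * Q) := by
          rw [hQ, Matrix.mul_one]
      _ = Q := by rw [← Matrix.mul_assoc, ← Matrix.SpecialLinearGroup.coe_mul, inv_mul_cancel,
            Matrix.SpecialLinearGroup.coe_one, Matrix.one_mul]
  induction w with
  | nil => exact ⟨1, one_mem _, rfl⟩
  | cons b w ih =>
    obtain ⟨x, hx, hxm⟩ := ih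
    cases b
    · refine ⟨jordanUp 0 * x, mul_mem (Subgroup.subset_closure (Or.inl rfl)) hx, ?_⟩
      rw [Matrix.SpecialLinearGroup.coe_mul, hxm, jordanUp_zero]; rfl
    · refine ⟨P * jordanUp 0 * P⁻¹ * x, mul_mem (Subgroup.subset_closure (Or.inr rfl)) hx, ?_⟩
      rw [Matrix.SpecialLinearGroup.coe_mul, Matrix.SpecialLinearGroup.coe_mul,
        Matrix.SpecialLinearGroup.coe_mul, hxm, hPi, jordanUp_zero]; rfl

/-- Transport along a ring isomorphism. -/
theorem exists_conj_generate_transport {K : Type} [Field K] {F : Type u} [Field F] (e : K ≃+* F)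
    (P : SL(3, K))
    (h : Subgroup.closure ({jordanUp 0, P * jordanUp 0 * P⁻¹} : Set SL(3, K)) = ⊤) :
    ∃ g : SL(3, F), Subgroup.closure ({jordanUp 0, g * jordanUp 0 * g⁻¹} : Set SL(3, F)) = ⊤ := by
  set f := (slCongr (n := Fin 3) e).toMonoidHom with hf
  have hJ : f (jordanUp 0) = jordanUp 0 := by
    apply Subtype.ext
    ext i j
    show e ((jordanUp 0 : SL(3, K)) i j) = (jordanUp 0 : SL(3, F)) i j
    rw [jordanUp_zero, jordanUp_zero]
    fin_cases i <;> fin_cases j <;> simp
  refine ⟨f P, ?_⟩
  have := congrArg (Subgroup.map f) h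
  rw [MonoidHom.map_closure, Set.image_insert_eq, Set.image_singleton, map_mul, map_mul, map_inv,
    hJ] at this
  exact this.trans (Subgroup.map_top_of_surjective f (slCongr (n := Fin 3) e).surjective)

/-- Conjugating matrix. -/
def cjMat3 : Matrix (Fin 3) (Fin 3) (ZMod 3) := !![1, 1, 2; 1, 2, 0; 0, 1, 2]

/-- Its inverse. -/
def cjInv3 : Matrix (Fin 3) (Fin 3) (ZMod 3) := !![1, 0, 2; 1, 2, 2; 1, 2, 1]

theorem cert3_h01 : CertAt cjMat3 cjInv3 [false, true, true, false, true, false, false, true, false, true] 0 1 (1 : (ZMod 3)) := by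
  unfold CertAt; decide +kernel

theorem cert3_h10 : CertAt cjMat3 cjInv3 [true, false, false, true, false, true, false, true, true, false, true, false, true, false, true, false, true] 1 0 (1 : (ZMod 3)) := by
  unfold CertAt; decide +kernel

theorem cert3_h12 : CertAt cjMat3 cjInv3 [true, false, true, false, false, true, false, true, false, true, false, false, true, false] 1 2 (1 : (ZMod 3)) := by
  unfold CertAt; decide +kernel

theorem cert3_h21 : CertAt cjMat3 cjInv3 [false, true, false, false, true, false, true, false, true, true] 2 1 (1 : (ZMod 3)) := by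
  unfold CertAt; decide +kernel

/-- Conjugating matrix. -/
def cjMat4 : Matrix (Fin 3) (Fin 3) K4 := !![⟨1, 1⟩, 1, ⟨0, 1⟩; ⟨1, 1⟩, 1, 1; ⟨0, 1⟩, 0, 1]

/-- Its inverse. -/
def cjInv4 : Matrix (Fin 3) (Fin 3) K4 := !![1, 1, ⟨1, 1⟩; 1, 0, ⟨0, 1⟩; ⟨0, 1⟩, ⟨0, 1⟩, 0]

theorem cert4_h01 : CertAt cjMat4 cjInv4 [false, true, false, false, false, true, false, true, true, true, false, false, true, false, false, false, true, false, true, true, true] 0 1 (1 : K4) := by
  unfold CertAt; decide +kernel

theorem cert4_h01w : CertAt cjMat4 cjInv4 [true, false, false, true, false, true, true, true, false, true, true, false, false, true] 0 1 (⟨0, 1⟩ : K4) := by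
  unfold CertAt; decide +kernel

theorem cert4_h10 : CertAt cjMat4 cjInv4 [true, false, false, true, true, false, false, true, false, true, true, true, false, true] 1 0 (1 : K4) := by
  unfold CertAt; decide +kernel

theorem cert4_h10w : CertAt cjMat4 cjInv4 [false, false, true, true, true, false, false, true, true, true, false, false, true, false, false, false, true, false, true, true] 1 0 (⟨0, 1⟩ : K4) := by
  unfold CertAt; decide +kernel

theorem cert4_h12 : CertAt cjMat4 cjInv4 [true, false, false, false, true, true, false, true, false, true, true, false, false, true, false, true, true, false, true, true] 1 2 (1 : K4) := by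
  unfold CertAt; decide +kernel

theorem cert4_h12w : CertAt cjMat4 cjInv4 [true, true, false, true, true, false, false, true, false, true, true, false, true, true] 1 2 (⟨0, 1⟩ : K4) := by
  unfold CertAt; decide +kernel

theorem cert4_h21 : CertAt cjMat4 cjInv4 [true, false, true, true, true, false, true, true, false, false, true, false, false, true, false, false] 2 1 (1 : K4) := by
  unfold CertAt; decide +kernel

theorem cert4_h21w : CertAt cjMat4 cjInv4 [false, false, true, true, false, true, true, false, false, false, true, true, false, false] 2 1 (⟨0, 1⟩ : K4) := by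
  unfold CertAt; decide +kernel

theorem transvection_mem_of_word {K : Type} [Field K] {M Q : Matrix (Fin 3) (Fin 3) K}
    (hM : CertInv M Q) {i j : Fin 3} (hij : i ≠ j) {c : K} {w : List Bool} (h : CertAt M Q w i j c) :
    Matrix.SpecialLinearGroup.transvection hij c ∈
      Subgroup.closure ({jordanUp 0, hM.el * jordanUp 0 * hM.el⁻¹} :
        Set SL(3, K)) := by
  obtain ⟨x, hx, hxm⟩ := wordMat_mem (P := hM.el) Q hM.1 w
  convert hx using 1
  apply Subtype.ext
  rw [hxm, Matrix.SpecialLinearGroup.transvection_coe]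
  exact h.symm

theorem forall_transvection_mem {K : Type} [Field K] {H : Subgroup SL(3, K)} {i j : Fin 3}
    (hij : i ≠ j) {a b : K} (ha : Matrix.SpecialLinearGroup.transvection hij a ∈ H)
    (hb : Matrix.SpecialLinearGroup.transvection hij b ∈ H)
    (hspan : ∀ c : K, c = 0 ∨ c = a ∨ c = b ∨ c = a + b) (c : K) :
    Matrix.SpecialLinearGroup.transvection hij c ∈ H := by
  rcases hspan c with rfl | rfl | rfl | rfl
  · rw [Matrix.SpecialLinearGroup.transvection_coeff_zero]; exact one_mem _
  · exact ha
  · exact hb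
  · rw [Matrix.SpecialLinearGroup.transvection_add]; exact mul_mem ha hb

instance fact_prime_three_cert : Fact (Nat.Prime 3) := ⟨Nat.prime_three⟩

theorem certInv3 : CertInv cjMat3 cjInv3 := by unfold CertInv; decide +kernel

theorem certInv4 : CertInv cjMat4 cjInv4 := by unfold CertInv; decide +kernel

theorem exists_generate_of_cert {K : Type} [Field K] {F : Type u} [Field F] (e : K ≃+* F)
    {M Q : Matrix (Fin 3) (Fin 3) K} (hM : CertInv M Q) {a b : K}
    (hspan : ∀ c : K, c = 0 ∨ c = a ∨ c = b ∨ c = a + b) {w1 w1' w2 w2' w3 w3' w4 w4' : List Bool}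
    (c1 : CertAt M Q w1 0 1 a) (c1' : CertAt M Q w1' 0 1 b) (c2 : CertAt M Q w2 1 0 a)
    (c2' : CertAt M Q w2' 1 0 b) (c3 : CertAt M Q w3 1 2 a) (c3' : CertAt M Q w3' 1 2 b)
    (c4 : CertAt M Q w4 2 1 a) (c4' : CertAt M Q w4' 2 1 b) :
    ∃ g : SL(3, F), Subgroup.closure ({jordanUp 0, g * jordanUp 0 * g⁻¹} : Set SL(3, F)) = ⊤ := by
  refine exists_conj_generate_transport e hM.el (sl3_top_of_four _ ?_ ?_ ?_ ?_)
  · exact forall_transvection_mem _ (transvection_mem_of_word hM _ c1)
      (transvection_mem_of_word hM _ c1') hspan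
  · exact forall_transvection_mem _ (transvection_mem_of_word hM _ c2)
      (transvection_mem_of_word hM _ c2') hspan
  · exact forall_transvection_mem _ (transvection_mem_of_word hM _ c3)
      (transvection_mem_of_word hM _ c3') hspan
  · exact forall_transvection_mem _ (transvection_mem_of_word hM _ c4)
      (transvection_mem_of_word hM _ c4') hspan

theorem exists_two_regular_generate_three {F : Type u} [Field F] [Fintype F]
    (hF : Fintype.card F = 3) :
    ∃ g : SL(3, F), Subgroup.closure ({jordanUp 0, g * jordanUp 0 * g⁻¹} : Set SL(3, F)) = ⊤ :=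
  exists_generate_of_cert (a := 1) (b := 1) (ZMod.ringEquivOfPrime F Fact.out hF) certInv3
    (by decide) cert3_h01 cert3_h01 cert3_h10 cert3_h10 cert3_h12 cert3_h12 cert3_h21 cert3_h21

theorem exists_two_regular_generate_four {F : Type u} [Field F] [Fintype F]
    (hF : Fintype.card F = 4) :
    ∃ g : SL(3, F), Subgroup.closure ({jordanUp 0, g * jordanUp 0 * g⁻¹} : Set SL(3, F)) = ⊤ :=
  exists_generate_of_cert (a := 1) (b := ⟨0, 1⟩)
    (FiniteField.ringEquivOfCardEq (by rw [hF, ← Nat.card_eq_fintype_card, card_K4])) certInv4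
    (by decide +kernel) cert4_h01 cert4_h01w cert4_h10 cert4_h10w cert4_h12 cert4_h12w cert4_h21
    cert4_h21w

end H37
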