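import Cfsg.Agent.H37.SL3Cert

/-!
`SL₃(q)` is generated by two conjugate regular unipotent elements.
-/

set_option autoImplicit false

namespace H37

open Matrix
open scoped MatrixGroups

universe u

section generic

variable {F : Type u} [Field F]

/-- The conjugating matrix of parameter `t`, with `s = t⁻¹`. -/
def parP (t s : F) : Matrix (Fin 3) (Fin 3) F :=
  !![0, 0, s ^ 2; t, s ^ 2 * (t ^ 3 + 4), 0; 0, t, 0]

/-- Its inverse. -/
def parQ (t s : F) : Matrix (Fin 3) (Fin 3) F :=
  !![0, s, -((t ^ 3 + 4) * s ^ 4); 0, 0, s; t ^ 2, 0, 0]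

theorem parP_det {t s : F} (hts : t * s = 1) : (parP t s).det = 1 := by
  rw [Matrix.det_fin_three]
  simp [parP]
  linear_combination (t * s + 1) * hts

/-- The conjugating element. -/
def parEl (t s : F) (hts : t * s = 1) : SL(3, F) :=
  ⟨parP t s, parP_det hts⟩

/-- The second element. -/
def parV (t s : F) (hts : t * s = 1) : SL(3, F) :=
  parEl t s hts * jordanUp 0 * (parEl t s hts)⁻¹

/-- The group. -/
def parH (t s : F) (hts : t * s = 1) : Subgroup SL(3, F) :=
  Subgroup.closure {jordanUp 0, parV t s hts}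

theorem coe_inv_of_mul_eq_one {x : SL(3, F)} {Y : Matrix (Fin 3) (Fin 3) F}
    (h : (x : Matrix (Fin 3) (Fin 3) F) * Y = 1) :
    ((x⁻¹ : SL(3, F)) : Matrix (Fin 3) (Fin 3) F) = Y := by
  calc ((x⁻¹ : SL(3, F)) : Matrix (Fin 3) (Fin 3) F)
      = ((x⁻¹ : SL(3, F)) : Matrix (Fin 3) (Fin 3) F) * ((x : Matrix (Fin 3) (Fin 3) F) * Y) := by
        rw [h, Matrix.mul_one]
    _ = Y := by rw [← Matrix.mul_assoc, ← Matrix.SpecialLinearGroup.coe_mul, inv_mul_cancel,
          Matrix.SpecialLinearGroup.coe_one, Matrix.one_mul]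

theorem coe_parV {t s : F} (hts : t * s = 1) :
    ((parV t s hts : SL(3, F)) : Matrix (Fin 3) (Fin 3) F) =
      !![1, 0, 0; t ^ 3 + 4, 1, 1; t ^ 3, 0, 1] := by
  set V : Matrix (Fin 3) (Fin 3) F := !![1, 0, 0; t ^ 3 + 4, 1, 1; t ^ 3, 0, 1] with hV
  have e : parP t s * !![1, 1, 0; 0, 1, 1; 0, 0, 1] = V * parP t s := by
    ext i j
    fin_cases i <;> fin_cases j <;> simp [parP, hV, Matrix.mul_apply, Fin.sum_univ_three] <;>
      first
      | ring1
      | linear_combination (-(t ^ 2 * s + t)) * hts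
      | linear_combination (t ^ 2 * s + t) * hts
  rw [parV, Matrix.SpecialLinearGroup.coe_mul, Matrix.SpecialLinearGroup.coe_mul, jordanUp_zero]
  show parP t s * _ * _ = V
  rw [e, Matrix.mul_assoc]
  show V * (((parEl t s hts : SL(3, F)) : Matrix (Fin 3) (Fin 3) F) * _) = V
  rw [← Matrix.SpecialLinearGroup.coe_mul, mul_inv_cancel, Matrix.SpecialLinearGroup.coe_one,
    Matrix.mul_one]

theorem parH_hasTv {t s : F} (hts : t * s = 1) :
    HasTv (parH t s hts) (-![-2, 4, t ^ 3]) ![2, 1, 0] := by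
  set w := (jordanUp 0 : SL(3, F))⁻¹ * parV t s hts with hw
  have hwH : w ∈ parH t s hts :=
    mul_mem (inv_mem (Subgroup.subset_closure (Or.inl rfl))) (Subgroup.subset_closure (Or.inr rfl))
  set W : Matrix (Fin 3) (Fin 3) F := !![-3, -1, 0; 4, 1, 0; t ^ 3, 0, 1] with hW
  have hwm : (w : Matrix (Fin 3) (Fin 3) F) = W := by
    have e : !![1, 1, 0; 0, 1, 1; 0, 0, 1] * W = ((parV t s hts : SL(3, F)) : Matrix (Fin 3) (Fin 3) F) := by
      rw [coe_parV, hW]
      ext i j
      fin_cases i <;> fin_cases j <;> simp [Matrix.mul_apply, Fin.sum_univ_three] <;> ring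
    rw [hw, Matrix.SpecialLinearGroup.coe_mul, ← e, ← jordanUp_zero, ← Matrix.mul_assoc,
      ← Matrix.SpecialLinearGroup.coe_mul, inv_mul_cancel, Matrix.SpecialLinearGroup.coe_one,
      Matrix.one_mul]
  refine ⟨w * w, mul_mem hwH hwH, ?_⟩
  rw [Matrix.SpecialLinearGroup.coe_mul, hwm, hW]
  ext i j
  fin_cases i <;> fin_cases j <;>
    simp [Matrix.mul_apply, Fin.sum_univ_three, vecMulVec_apply, Matrix.one_apply] <;> ring

variable [Fintype F]

/-- The numerical conditions on the parameter `t` and the element with matrix `M`, inverse `Mi`. -/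
def ParamOK (t : F) (M Mi : Matrix (Fin 3) (Fin 3) F) (γ₁ γ₂ : F) : Prop :=
  M * Mi = 1 ∧ (![2, 1, 0] : Fin 3 → F) ⬝ᵥ (M *ᵥ ![-2, 4, t ^ 3]) = γ₁ ∧
    (![2, 1, 0] : Fin 3 → F) ⬝ᵥ (Mi *ᵥ ![-2, 4, t ^ 3]) = γ₂ ∧
    (Matrix.of ![![-2, 4, t ^ 3], M *ᵥ ![-2, 4, t ^ 3], (M * M) *ᵥ ![-2, 4, t ^ 3]]).det ≠ 0 ∧
    (Matrix.of ![![2, 1, 0], (![2, 1, 0] : Fin 3 → F) ᵥ* Mi,
      (![2, 1, 0] : Fin 3 → F) ᵥ* (Mi * Mi)]).det ≠ 0

theorem parH_eq_top (h2 : (2 : F) ≠ 0) {t s : F} (hts : t * s = 1) {h : SL(3, F)}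
    (hh : h ∈ parH t s hts) {M Mi : Matrix (Fin 3) (Fin 3) F}
    (hM : (h : Matrix (Fin 3) (Fin 3) F) = M) {γ₁ γ₂ : F} (hok : ParamOK t M Mi γ₁ γ₂)
    (hγ : γ₁ * γ₂ ≠ 0) (hgen : Subfield.closure ({γ₁ * γ₂} : Set F) = ⊤)
    (h9 : ¬ (Fintype.card F = 9 ∧ (γ₁ * γ₂) ^ 2 = -1)) : parH t s hts = ⊤ := by
  obtain ⟨hinv, e₁, e₂, hc, ha⟩ := hok
  subst hM
  have hi := coe_inv_of_mul_eq_one hinv
  refine sl3_top_of_root h2 _ (by rw [dot3]; simp; ring) (parH_hasTv hts) hh e₁ (by rw [hi]; exact e₂) hγ hgen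
    h9 ?_ ?_
  · rw [Matrix.SpecialLinearGroup.coe_mul]; exact hc
  · rw [Matrix.SpecialLinearGroup.coe_mul, hi]; exact ha

end generic

section large

variable {F : Type u} [Field F] [Fintype F]

theorem sq_card_subfield_le {K : Subfield F} (h : K ≠ ⊤) :
    Nat.card K * Nat.card K ≤ Fintype.card F := by
  haveI := Fintype.ofFinite K
  have hd : 1 < Module.finrank K F := by
    by_contra hlt
    apply h
    have h1 : Module.finrank K F = 1 := by
      have := Module.finrank_pos (R := K) (M := F)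
      omega
    have hc := Module.card_eq_pow_finrank (K := K) (V := F)
    rw [h1, pow_one] at hc
    exact SetLike.coe_injective (Set.eq_univ_of_forall fun x => by
      have hs : Function.Surjective (Subtype.val : K → F) :=
        ((Fintype.bijective_iff_injective_and_card _).2 ⟨Subtype.val_injective, hc.symm⟩).2
      obtain ⟨y, rfl⟩ := hs x
      exact y.2)
  rw [Module.card_eq_pow_finrank (K := K) (V := F), Nat.card_eq_fintype_card, ← sq]
  exact Nat.pow_le_pow_right Fintype.card_pos hd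

/-- An element of multiplicative order at least `(q-1)/k` lies in no proper subfield for large `q`. -/
theorem card_le_of_pow_mem {g : Fˣ} (hg : ∀ x : Fˣ, x ∈ Subgroup.zpowers g) {K : Subfield F}
    (hK : K ≠ ⊤) {k : ℕ} (hk : 0 < k) (h : (g : F) ^ k ∈ K) :
    Fintype.card F ≤ k * (k - 2) + 1 ∨ k = 1 := by
  classical
  haveI := Fintype.ofFinite K
  have hq := Fintype.one_lt_card (α := F)
  have hsq := sq_card_subfield_le hK
  have hKp : 1 < Nat.card K := Finite.one_lt_card
  set a := Nat.card K with ha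
  have hne : (g : F) ^ k ≠ 0 := pow_ne_zero _ g.ne_zero
  have h1 : g ^ (k * (a - 1)) = 1 := by
    apply Units.ext
    push_cast
    rw [pow_mul]
    have := FiniteField.pow_card_sub_one_eq_one (⟨_, h⟩ : K)
      (fun h0 => hne (congrArg Subtype.val h0))
    rw [← Nat.card_eq_fintype_card, ← ha] at this
    simpa using congrArg Subtype.val this
  have hle := Nat.le_of_dvd (Nat.mul_pos hk (by omega)) (orderOf_dvd_of_pow_eq_one h1)
  rw [orderOf_eq_card_of_forall_mem_zpowers hg, Nat.card_units, Nat.card_eq_fintype_card] at hle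
  by_cases hk1 : k = 1
  · exact Or.inr hk1
  left
  obtain ⟨c, hc⟩ : ∃ c, a = c + 2 := ⟨a - 2, by omega⟩
  obtain ⟨l, hl⟩ : ∃ l, k = l + 2 := ⟨k - 2, by omega⟩
  subst hl
  rw [hc] at hsq hle
  rw [Nat.add_sub_cancel, show c + 2 - 1 = c + 1 by omega] at *
  have hcl : c + 1 ≤ l := by
    by_contra hlt
    have : (c + 2) * (c + 2) ≤ (l + 2) * (c + 1) + 1 := by omega
    nlinarith
  have : (l + 2) * (c + 1) ≤ (l + 2) * l := Nat.mul_le_mul_left _ hcl
  omega

theorem closure_eq_top_of_forall {lam : F}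
    (h : ∀ K : Subfield F, lam ∈ K → K = ⊤) : Subfield.closure ({lam} : Set F) = ⊤ :=
  h _ (Subfield.subset_closure rfl)

theorem parH_top_of_param (h2 : (2 : F) ≠ 0) {t : F} (ht : t ≠ 0) (hne : t ^ 6 - 64 ≠ 0)
    (hgen : ∀ K : Subfield F, t ^ 6 ∈ K → K = ⊤)
    (h9 : ¬ (Fintype.card F = 9 ∧ (t ^ 6 - 64) ^ 2 = -1)) :
    parH t t⁻¹ (mul_inv_cancel₀ ht) = ⊤ := by
  have e : (t ^ 3 + 8) * (t ^ 3 - 8) = t ^ 6 - 64 := by ring
  refine parH_eq_top h2 _ (h := jordanUp 0) (Subgroup.subset_closure (Or.inl rfl))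
    (M := !![1, 1, 0; 0, 1, 1; 0, 0, 1]) (Mi := !![1, -1, 1; 0, 1, -1; 0, 0, 1]) jordanUp_zero
    (γ₁ := t ^ 3 + 8) (γ₂ := t ^ 3 - 8) ⟨?_, ?_, ?_, ?_, ?_⟩ (e ▸ hne) ?_ (e ▸ h9)
  · ext i j
    fin_cases i <;> fin_cases j <;> simp [Matrix.mul_apply, Fin.sum_univ_three]
  · simp [dotProduct, Matrix.mulVec, Fin.sum_univ_three]; ring
  · simp [dotProduct, Matrix.mulVec, Fin.sum_univ_three]; ring
  · have h3 : -(t ^ 3) ^ 3 ≠ 0 := neg_ne_zero.2 (pow_ne_zero _ (pow_ne_zero _ ht))
    convert h3 using 1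
    rw [Matrix.det_fin_three]
    simp [dot3, Matrix.mulVec, Matrix.mul_apply, Fin.sum_univ_three]
    ring
  · have h8 : (-(2 ^ 3) : F) ≠ 0 := neg_ne_zero.2 (pow_ne_zero _ h2)
    convert h8 using 1
    rw [Matrix.det_fin_three]
    simp [dot3, Matrix.vecMul, Matrix.mul_apply, Fin.sum_univ_three, dotProduct]
    ring
  · rw [e]
    refine closure_eq_top_of_forall fun K hK => hgen K ?_
    have := add_mem hK (natCast_mem K 64)
    simpa using this

end large

section words

/-- The conditions for a word, decidable in a concrete field. -/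
def WordOK {K : Type} [Field K] (t s : K) (w wi : List Bool) (γ₁ γ₂ : K) : Prop :=
  t * s = 1 ∧ parP t s * parQ t s = 1 ∧
    ParamOK t (wordMat (parP t s) (parQ t s) w) (wordMat (parP t s) (parQ t s) wi) γ₁ γ₂ ∧
    γ₁ * γ₂ ≠ 0

theorem exists_generate_of_word {K : Type} [Field K] [Fintype K] {F : Type u} [Field F]
    (e : K ≃+* F) (h2 : (2 : K) ≠ 0) {t s : K} {w wi : List Bool} {γ₁ γ₂ : K}
    (hw : WordOK t s w wi γ₁ γ₂) (hgen : Subfield.closure ({γ₁ * γ₂} : Set K) = ⊤)
    (h9 : Fintype.card K ≠ 9) :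
    ∃ g : SL(3, F), Subgroup.closure ({jordanUp 0, g * jordanUp 0 * g⁻¹} : Set SL(3, F)) = ⊤ := by
  obtain ⟨hts, hPQ, hok, hγ⟩ := hw
  obtain ⟨h, hh, hM⟩ := wordMat_mem (P := parEl t s hts) (parQ t s) hPQ w
  exact exists_conj_generate_transport e (parEl t s hts)
    (parH_eq_top h2 hts (h := h) hh hM hok hγ hgen fun h => h9 h.1)

/-- The field with 25 elements. -/
abbrev K25 : Type := QuadraticAlgebra (ZMod 5) 2 0

instance k25Fact : Fact (∀ r : ZMod 5, r ^ 2 ≠ (2 : ZMod 5) + 0 * r) := ⟨by decide⟩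

instance fact_prime_five_sl3gen : Fact (Nat.Prime 5) := ⟨Nat.prime_five⟩

instance fact_prime_seven_sl3gen : Fact (Nat.Prime 7) := ⟨by norm_num⟩

instance k25Fintype : Fintype K25 := Fintype.ofEquiv _ (QuadraticAlgebra.equivProd (2 : ZMod 5) 0).symm

theorem card_K25 : Nat.card K25 = 25 := by
  rw [Nat.card_congr (QuadraticAlgebra.equivProd (2 : ZMod 5) 0)]
  simp

theorem wordOK25 : WordOK (⟨0, 1⟩ : K25) ⟨0, 3⟩
    [false, true, true, true, true, false, false, false, false]
    [false, true, false, false, false, false]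
    ((![2, 1, 0] : Fin 3 → K25) ⬝ᵥ (wordMat (parP ⟨0, 1⟩ ⟨0, 3⟩) (parQ ⟨0, 1⟩ ⟨0, 3⟩)
      [false, true, true, true, true, false, false, false, false] *ᵥ ![-2, 4, (⟨0, 1⟩ : K25) ^ 3]))
    ((![2, 1, 0] : Fin 3 → K25) ⬝ᵥ (wordMat (parP ⟨0, 1⟩ ⟨0, 3⟩) (parQ ⟨0, 1⟩ ⟨0, 3⟩)
      [false, true, false, false, false, false] *ᵥ ![-2, 4, (⟨0, 1⟩ : K25) ^ 3])) := by
  unfold WordOK ParamOK
  decide +kernel

theorem wordOK7 : WordOK (1 : ZMod 7) 1 [false, false] [false, false, false, false, false] 6 2 := by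
  unfold WordOK ParamOK
  decide +kernel

theorem gen7 : Subfield.closure ({(6 : ZMod 7) * 2} : Set (ZMod 7)) = ⊤ :=
  eq_top_iff.2 fun x _ => by
    rw [← ZMod.natCast_zmod_val x]
    exact natCast_mem _ _

theorem exists_two_regular_generate_seven {F : Type u} [Field F] [Fintype F]
    (hF : Fintype.card F = 7) :
    ∃ g : SL(3, F), Subgroup.closure ({jordanUp 0, g * jordanUp 0 * g⁻¹} : Set SL(3, F)) = ⊤ :=
  exists_generate_of_word (ZMod.ringEquivOfPrime F Fact.out hF) (by decide) wordOK7 gen7 (by simp)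

theorem span25 : ∀ (c : K25), ∃ i j : Fin 5, c = (i.val : K25) + (j.val : K25) * (⟨3, 3⟩ : K25) := by
  decide +kernel

theorem exists_two_regular_generate_twentyFive {F : Type u} [Field F] [Fintype F]
    (hF : Fintype.card F = 25) :
    ∃ g : SL(3, F), Subgroup.closure ({jordanUp 0, g * jordanUp 0 * g⁻¹} : Set SL(3, F)) = ⊤ := by
  refine exists_generate_of_word
    (FiniteField.ringEquivOfCardEq (by rw [hF, ← Nat.card_eq_fintype_card, card_K25]))
    (by decide +kernel) wordOK25 (closure_eq_top_of_forall fun K hK => eq_top_iff.2 fun c _ => ?_)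
    (by rw [← Nat.card_eq_fintype_card, card_K25]; norm_num)
  obtain ⟨i, j, rfl⟩ := span25 c
  refine add_mem (natCast_mem _ _) (mul_mem (natCast_mem _ _) ?_)
  convert hK using 1
  decide +kernel

end words

section char_two

variable {F : Type u} [Field F] [CharP F 2]

theorem transvection_eq_vec {n : ℕ} {H : Subgroup (Matrix.SpecialLinearGroup (Fin n) F)}
    {i j : Fin n} (hij : i ≠ j) (c : F) :
    Matrix.SpecialLinearGroup.transvection hij c ∈ H ↔ HasTv H (c • Pi.single i 1) (Pi.single j 1) :=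
  (hasTv_single_iff hij).symm

/-- In characteristic two, `[[1,0,0],[1,1,0],[0,ν,1]]` and `J` generate if `ν` is a generator. -/
theorem char_two_top [Fintype F] (H : Subgroup SL(3, F)) {L : SL(3, F)} {ν : F}
    (hν : ν ≠ 0) (hJ : jordanUp 0 ∈ H) (hLH : L ∈ H)
    (hL : (L : Matrix (Fin 3) (Fin 3) F) = !![1, 0, 0; 1, 1, 0; 0, ν, 1])
    (hgen : Subfield.closure ({ν} : Set F) = ⊤) : H = ⊤ := by
  classical
  have htwo : (1 : F) + 1 = 0 := CharTwo.add_self_eq_zero 1
  have hneg : ∀ a : F, -a = a := CharTwo.neg_eq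
  set Jm : Matrix (Fin 3) (Fin 3) F := !![1, 1, 0; 0, 1, 1; 0, 0, 1] with hJm
  set J : SL(3, F) := jordanUp 0 with hJdef
  have hJc : (J : Matrix (Fin 3) (Fin 3) F) = Jm := jordanUp_zero
  have hLi : ((L⁻¹ : SL(3, F)) : Matrix (Fin 3) (Fin 3) F) = !![1, 0, 0; 1, 1, 0; ν, ν, 1] :=
    coe_inv_of_mul_eq_one (by
      rw [hL]; ext i j
      fin_cases i <;> fin_cases j <;>
        simp [Matrix.mul_apply, Fin.sum_univ_three, CharTwo.add_self_eq_zero])
  have hJi : ((J⁻¹ : SL(3, F)) : Matrix (Fin 3) (Fin 3) F) = !![1, 1, 1; 0, 1, 1; 0, 0, 1] :=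
    coe_inv_of_mul_eq_one (by
      rw [hJc, hJm]; ext i j
      fin_cases i <;> fin_cases j <;>
        simp [Matrix.mul_apply, Fin.sum_univ_three, CharTwo.add_self_eq_zero])
  set φ : Fin 3 → F := Pi.single 2 1 with hφ
  -- the scalars of the root subgroup at `(0, 2)`
  let C : AddSubgroup F :=
    { carrier := {c | HasTv H (c • Pi.single 0 1) φ}
      zero_mem' := by simpa using hasTv_zero (H := H) φ
      add_mem' := fun {a b} ha hb => by
        show HasTv H ((a + b) • Pi.single 0 1) φ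
        rw [add_smul]
        exact hasTv_add ha hb (by simp [hφ])
      neg_mem' := fun {a} ha => by show HasTv H ((-a) • Pi.single 0 1) φ; rw [hneg]; exact ha }
  have h1 : (1 : F) ∈ C := by
    refine ⟨J * J, mul_mem hJ hJ, ?_⟩
    rw [Matrix.SpecialLinearGroup.coe_mul, hJc, hJm, hφ]
    ext i j
    fin_cases i <;> fin_cases j <;>
      simp [Matrix.mul_apply, Fin.sum_univ_three, vecMulVec_apply, Matrix.one_apply,
        CharTwo.add_self_eq_zero]
  have hboth : ∀ c c', c ∈ C → c' ∈ C → c * c' * ν ∈ C ∧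
      HasTv H ((c * c' * ν) • (![1, 1, 0] : Fin 3 → F)) φ := by
    intro c c' hc hc'
    have hconj := hasTv_conj hLH hc
    have eL : (L : Matrix (Fin 3) (Fin 3) F) *ᵥ (c • Pi.single 0 1) = c • (![1, 1, 0] : Fin 3 → F) := by
      rw [hL, Matrix.mulVec_smul, Matrix.mulVec_single_one]
      congr 1
      funext i; fin_cases i <;> simp
    have eφ : φ ᵥ* ((L⁻¹ : SL(3, F)) : Matrix (Fin 3) (Fin 3) F) = ![ν, ν, 1] := by
      rw [hLi, hφ, single_one_vecMul]
      funext i; fin_cases i <;> simp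
    rw [eL, eφ] at hconj
    have h := hasTv_comm hc' hconj (by simp [hφ]) (by simp [hφ, dot3])
      (by rw [dot3]; simp; rw [← mul_add, CharTwo.add_self_eq_zero, mul_zero])
    rw [smul_smul] at h
    have e : (![ν, ν, 1] : Fin 3 → F) ⬝ᵥ (c' • Pi.single 0 1) * c = c * c' * ν := by
      simp; ring
    rw [e] at h
    refine ⟨?_, h⟩
    have h' := hasTv_conj hJ h
    have eJ : (J : Matrix (Fin 3) (Fin 3) F) *ᵥ ((c * c' * ν) • (![1, 1, 0] : Fin 3 → F)) =
        (c * c' * ν) • (![0, 1, 0] : Fin 3 → F) := by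
      rw [hJc, hJm, Matrix.mulVec_smul]
      congr 1
      funext i; fin_cases i <;> simp [Matrix.mulVec, dot3, CharTwo.add_self_eq_zero]
    have eJφ : φ ᵥ* ((J⁻¹ : SL(3, F)) : Matrix (Fin 3) (Fin 3) F) = φ := by
      rw [hJi, hφ, single_one_vecMul]
      funext i; fin_cases i <;> simp
    rw [eJ, eJφ] at h'
    have hs := hasTv_add h' h (by simp [hφ])
    show HasTv H ((c * c' * ν) • Pi.single 0 1) φ
    convert hs using 1
    funext i; fin_cases i <;> simp [CharTwo.add_self_eq_zero]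
  have hpow : ∀ k, ν ^ k ∈ C := by
    intro k
    induction k with
    | zero => simpa using h1
    | succ k ih => simpa [pow_succ] using (hboth _ _ ih h1).1
  have hC : ∀ c : F, c ∈ C := by
    let K : Subring F :=
      { carrier := {x | ∀ c ∈ C, x * c ∈ C}
        one_mem' := fun c hc => by simpa using hc
        mul_mem' := fun {a b} ha hb c hc => by rw [mul_assoc]; exact ha _ (hb c hc)
        zero_mem' := fun c _ => by simp [C.zero_mem]
        add_mem' := fun {a b} ha hb c hc => by rw [add_mul]; exact add_mem (ha c hc) (hb c hc)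
        neg_mem' := fun {a} ha c hc => by rw [neg_mul]; exact neg_mem (ha c hc) }
    have hνK : ν ∈ K := fun c hc => by
      have := (hboth c 1 hc h1).1
      rwa [mul_one, mul_comm] at this
    let L' : Subfield F :=
      { K with
        inv_mem' := fun x hx => by
          rcases eq_or_ne x 0 with rfl | hx0
          · rw [_root_.inv_zero]; exact K.zero_mem
          have : x⁻¹ = x ^ (Fintype.card F - 2) := by
            refine inv_eq_of_mul_eq_one_right ?_
            rw [← pow_succ']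
            rw [show Fintype.card F - 2 + 1 = Fintype.card F - 1 by
              have := Fintype.one_lt_card (α := F); omega]
            exact FiniteField.pow_card_sub_one_eq_one x hx0
          rw [this]
          exact pow_mem (show x ∈ K from hx) _ }
    have hL' : L' = ⊤ := top_unique (hgen ▸ Subfield.closure_le.2 (Set.singleton_subset_iff.2 hνK))
    intro c
    have : c ∈ L' := hL' ▸ Subfield.mem_top c
    simpa using this 1 h1
  have h02 : ∀ c : F,
      Matrix.SpecialLinearGroup.transvection (show (0 : Fin 3) ≠ 2 by decide) c ∈ H := fun c =>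
    (hasTv_single_iff _).1 (hC c)
  have h12 : ∀ c : F,
      Matrix.SpecialLinearGroup.transvection (show (1 : Fin 3) ≠ 2 by decide) c ∈ H := by
    intro c
    have h := (hboth (c / ν) 1 (hC _) h1).2
    rw [mul_one, div_mul_cancel₀ _ hν] at h
    have hs := hasTv_add h (hC c) (by simp [hφ])
    refine (hasTv_single_iff _).1 ?_
    convert hs using 1
    funext i; fin_cases i <;> simp [CharTwo.add_self_eq_zero]
  have hcomm : ∀ a b, a ∈ H → b ∈ H → a * b * a⁻¹ * b⁻¹ ∈ H := fun a b ha hb =>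
    mul_mem (mul_mem (mul_mem ha hb) (inv_mem ha)) (inv_mem hb)
  have h01one : Matrix.SpecialLinearGroup.transvection (show (0 : Fin 3) ≠ 1 by decide) (1 : F) ∈ H := by
    have := mul_mem (mul_mem hJ (h12 1)) (h02 1)
    convert this using 1
    apply Subtype.ext
    rw [Matrix.SpecialLinearGroup.coe_mul, Matrix.SpecialLinearGroup.coe_mul, hJc, hJm]
    simp only [Matrix.SpecialLinearGroup.transvection_coe]
    ext i j
    fin_cases i <;> fin_cases j <;>
      simp only [Matrix.mul_apply, Fin.sum_univ_three, Matrix.add_apply] <;>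
      simp [Matrix.one_apply, Matrix.single_apply, CharTwo.add_self_eq_zero]
  have h20ν : Matrix.SpecialLinearGroup.transvection (show (2 : Fin 3) ≠ 0 by decide) ν ∈ H := by
    have := mul_mem hLH hLH
    convert this using 1
    apply Subtype.ext
    rw [Matrix.SpecialLinearGroup.coe_mul, hL, Matrix.SpecialLinearGroup.transvection_coe]
    ext i j
    fin_cases i <;> fin_cases j <;>
      simp [Matrix.mul_apply, Fin.sum_univ_three, Matrix.one_apply, Matrix.single_apply,
        CharTwo.add_self_eq_zero]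
  have h10 : ∀ c : F,
      Matrix.SpecialLinearGroup.transvection (show (1 : Fin 3) ≠ 0 by decide) c ∈ H := fun c => by
    have := hcomm _ _ (h12 (c / ν)) h20ν
    rwa [← commutatorElement_def, commutator_transvection (show (1 : Fin 3) ≠ 2 by decide)
      (show (2 : Fin 3) ≠ 0 by decide) (show (1 : Fin 3) ≠ 0 by decide), div_mul_cancel₀ _ hν] at this
  have h21ν : Matrix.SpecialLinearGroup.transvection (show (2 : Fin 3) ≠ 1 by decide) ν ∈ H := by
    have := mul_mem (h10 1) hLH
    convert this using 1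
    apply Subtype.ext
    rw [Matrix.SpecialLinearGroup.coe_mul, hL]
    simp only [Matrix.SpecialLinearGroup.transvection_coe]
    ext i j
    fin_cases i <;> fin_cases j <;>
      simp [Matrix.mul_apply, Fin.sum_univ_three, Matrix.one_apply, Matrix.single_apply,
        CharTwo.add_self_eq_zero]
  have h20 : ∀ c : F,
      Matrix.SpecialLinearGroup.transvection (show (2 : Fin 3) ≠ 0 by decide) c ∈ H := fun c => by
    have := hcomm _ _ h21ν (h10 (c / ν))
    rwa [← commutatorElement_def, commutator_transvection (show (2 : Fin 3) ≠ 1 by decide)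
      (show (1 : Fin 3) ≠ 0 by decide) (show (2 : Fin 3) ≠ 0 by decide), mul_div_cancel₀ _ hν] at this
  refine sl3_top_of_four H (fun c => ?_) h10 h12 (fun c => ?_)
  · have := hcomm _ _ (h02 (c / ν)) h21ν
    rwa [← commutatorElement_def, commutator_transvection (show (0 : Fin 3) ≠ 2 by decide)
      (show (2 : Fin 3) ≠ 1 by decide) (show (0 : Fin 3) ≠ 1 by decide), div_mul_cancel₀ _ hν] at this
  · have := hcomm _ _ (h20 c) h01one
    rwa [← commutatorElement_def, commutator_transvection (show (2 : Fin 3) ≠ 0 by decide)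
      (show (0 : Fin 3) ≠ 1 by decide) (show (2 : Fin 3) ≠ 1 by decide), mul_one] at this

/-- The conjugating matrix in characteristic two. -/
theorem exists_conj_char_two {s : F} (hs : s ≠ 0) :
    ∃ P : SL(3, F), ((P * jordanUp 0 * P⁻¹ : SL(3, F)) : Matrix (Fin 3) (Fin 3) F) =
      !![1, 0, 0; 1, 1, 0; 0, s ^ 3, 1] := by
  have hd : (!![0, 0, s⁻¹; 0, s⁻¹, 0; s ^ 2, 0, 0] : Matrix (Fin 3) (Fin 3) F).det = 1 := by
    rw [Matrix.det_fin_three]
    simp [CharTwo.neg_eq]
    field_simp
  set P : SL(3, F) := ⟨_, hd⟩ with hP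
  refine ⟨P, ?_⟩
  have e : !![0, 0, s⁻¹; 0, s⁻¹, 0; s ^ 2, 0, 0] * !![1, 1, 0; 0, 1, 1; 0, 0, 1] =
      (!![1, 0, 0; 1, 1, 0; 0, s ^ 3, 1] : Matrix (Fin 3) (Fin 3) F) *
        (P : Matrix (Fin 3) (Fin 3) F) := by
    show _ = _ * !![0, 0, s⁻¹; 0, s⁻¹, 0; s ^ 2, 0, 0]
    ext i j
    fin_cases i <;> fin_cases j <;> simp [Matrix.mul_apply, Fin.sum_univ_three] <;> field_simp
  rw [Matrix.SpecialLinearGroup.coe_mul, Matrix.SpecialLinearGroup.coe_mul, jordanUp_zero]
  show !![0, 0, s⁻¹; 0, s⁻¹, 0; s ^ 2, 0, 0] * _ * _ = _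
  rw [e, Matrix.mul_assoc, ← Matrix.SpecialLinearGroup.coe_mul, mul_inv_cancel,
    Matrix.SpecialLinearGroup.coe_one, Matrix.mul_one]

end char_two

/-- `SL₃(q)` is generated by two conjugate regular unipotent elements. -/
theorem exists_two_regular_generate_sl3 (F : Type u) [Field F] [Fintype F] :
    ∃ g : SL(3, F), Subgroup.closure ({jordanUp 0, g * jordanUp 0 * g⁻¹} : Set SL(3, F)) = ⊤ := by
  classical
  obtain ⟨p, hpF⟩ := CharP.exists F
  haveI := hpF
  haveI : Fact p.Prime := ⟨CharP.char_is_prime F p⟩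
  obtain ⟨n, -, hn⟩ := FiniteField.card F p
  obtain ⟨g, hg⟩ := IsCyclic.exists_generator (α := Fˣ)
  have hq := Fintype.one_lt_card (α := F)
  by_cases hp2 : p = 2
  · subst hp2
    by_cases h4 : Fintype.card F = 4
    · exact exists_two_regular_generate_four h4
    obtain ⟨P, hP⟩ := exists_conj_char_two (F := F) g.ne_zero
    refine ⟨P, char_two_top _ (ν := (g : F) ^ 3) (pow_ne_zero _ g.ne_zero)
      (Subgroup.subset_closure (Or.inl rfl)) (Subgroup.subset_closure (Or.inr rfl)) hP ?_⟩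
    refine closure_eq_top_of_forall fun K hK => ?_
    by_contra hne
    rcases card_le_of_pow_mem hg hne (by norm_num) hK with h | h
    · have h2 : 4 ∣ Fintype.card F → False := fun hd => by
        obtain ⟨c, hc⟩ := hd
        omega
      rcases (show (n : ℕ) = 1 ∨ 2 ≤ (n : ℕ) by have := n.pos; omega) with h1 | h1
      · have := sq_card_subfield_le hne
        have hKp : 1 < Nat.card K := Finite.one_lt_card
        rw [hn, h1, pow_one] at this
        nlinarith
      · exact h2 (hn ▸ pow_dvd_pow 2 h1)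
    · omega
  have h2 : (2 : F) ≠ 0 := by
    intro h
    have h' : ((2 : ℕ) : F) = 0 := by exact_mod_cast h
    rw [CharP.cast_eq_zero_iff F p] at h'
    exact hp2 ((Nat.prime_dvd_prime_iff_eq Fact.out Nat.prime_two).1 h')
  by_cases h3 : Fintype.card F = 3
  · exact exists_two_regular_generate_three h3
  by_cases h7 : Fintype.card F = 7
  · exact exists_two_regular_generate_seven h7
  by_cases h25 : Fintype.card F = 25
  · exact exists_two_regular_generate_twentyFive h25
  have main : ∀ t : F, t ≠ 0 → t ^ 6 - 64 ≠ 0 → (∀ K : Subfield F, t ^ 6 ∈ K → K = ⊤) →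
      ¬ (Fintype.card F = 9 ∧ (t ^ 6 - 64) ^ 2 = -1) →
      ∃ g : SL(3, F), Subgroup.closure ({jordanUp 0, g * jordanUp 0 * g⁻¹} : Set SL(3, F)) = ⊤ :=
    fun t ht a b c => ⟨parEl t t⁻¹ (mul_inv_cancel₀ ht), parH_top_of_param h2 ht a b c⟩
  by_cases hn1 : (n : ℕ) = 1
  · -- prime field
    rw [hn1, pow_one] at hn
    have htop : ∀ K : Subfield F, K = ⊤ := fun K => eq_top_iff.2 fun x _ => by
      obtain ⟨k, hk⟩ := (ZMod.ringEquivOfPrime F Fact.out hn).surjective x
      rw [← hk, ← ZMod.natCast_zmod_val k, map_natCast]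
      exact natCast_mem _ _
    refine main 1 one_ne_zero (fun h => ?_) (fun K _ => htop K) (fun h => by
      rw [hn] at h
      exact (Fact.out : p.Prime).ne_one (by
        have := h.1; subst this; exact absurd (Fact.out : Nat.Prime 9) (by norm_num)))
    have h63 : ((63 : ℕ) : F) = 0 := by push_cast; linear_combination -h
    rw [CharP.cast_eq_zero_iff F p] at h63
    rw [show (63 : ℕ) = 3 * 3 * 7 by norm_num] at h63
    rcases (Fact.out : p.Prime).dvd_mul.1 h63 with h | h
    · rcases (Fact.out : p.Prime).dvd_mul.1 h with h | h <;>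
        exact h3 (hn.trans ((Nat.prime_dvd_prime_iff_eq Fact.out Nat.prime_three).1 h))
    · exact h7 (hn.trans ((Nat.prime_dvd_prime_iff_eq Fact.out (by norm_num)).1 h))
  have hn2 : 2 ≤ (n : ℕ) := by have := n.pos; omega
  -- non-prime field, `t` primitive
  have hsub : ∀ K : Subfield F, (g : F) ^ 6 ∈ K → K ≠ ⊤ → Fintype.card F = 9 := by
    intro K hK hne
    rcases card_le_of_pow_mem hg hne (by norm_num) hK with h | h
    · have hp3 : 3 ≤ p := by
        have := (Fact.out : p.Prime).two_le; omega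
      have hp25 : p ^ 2 ≤ 25 := (Nat.pow_le_pow_right (by omega) hn2).trans (hn ▸ h)
      have : p ≤ 5 := by nlinarith
      have hn3 : (n : ℕ) < 3 := by
        by_contra hge
        have h27 : 3 ^ 3 ≤ p ^ (n : ℕ) :=
          (Nat.pow_le_pow_left hp3 3).trans (Nat.pow_le_pow_right (by omega) (by omega))
        rw [← hn] at h27
        omega
      have hn' : (n : ℕ) = 2 := by omega
      rw [hn'] at hn
      interval_cases p
      · exact hn
      · exact absurd (Fact.out : Nat.Prime 4) (by norm_num)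
      · exact absurd hn h25
    · omega
  by_cases h9 : Fintype.card F = 9
  · have hp3 : p = 3 := by
      have : p ∣ 3 ^ 2 := by
        rw [show (3 : ℕ) ^ 2 = 9 by norm_num, ← h9, hn]
        exact dvd_pow_self p (by omega)
      exact (Nat.prime_dvd_prime_iff_eq Fact.out Nat.prime_three).1
        ((Fact.out : p.Prime).dvd_of_dvd_pow this)
    subst hp3
    have hz : (3 : F) = 0 := by exact_mod_cast CharP.cast_eq_zero F 3
    have ho : orderOf g = 8 := by
      rw [orderOf_eq_card_of_forall_mem_zpowers hg, Nat.card_units, Nat.card_eq_fintype_card, h9]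
    have h8 : (g : F) ^ 8 = 1 := by
      rw [← Units.val_pow_eq_pow_val, ← ho, pow_orderOf_eq_one, Units.val_one]
    have h4 : (g : F) ^ 4 = -1 := by
      have : ((g : F) ^ 4 - 1) * ((g : F) ^ 4 + 1) = 0 := by linear_combination h8
      rcases mul_eq_zero.1 this with h | h
      · exfalso
        have h' : g ^ 4 = 1 := Units.ext (by rw [Units.val_pow_eq_pow_val, Units.val_one]; exact sub_eq_zero.1 h)
        have := Nat.le_of_dvd (by norm_num) (orderOf_dvd_of_pow_eq_one h')
        omega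
      · exact eq_neg_of_add_eq_zero_left h
    refine main (g : F) g.ne_zero ?_ ?_ ?_
    · intro h
      have h12 : ((g : F) ^ 6) ^ 2 = -1 := by
        linear_combination (g : F) ^ 4 * h8 + h4
      rw [sub_eq_zero.1 h] at h12
      exact h2 (by linear_combination h12 - 1365 * hz)
    · intro K hK
      by_contra hne
      haveI := Fintype.ofFinite K
      have hle := sq_card_subfield_le hne
      have hKp : 1 < Nat.card K := Finite.one_lt_card
      have hK3 : Nat.card K ≤ 3 := by nlinarith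
      have hne0 : (⟨_, hK⟩ : K) ≠ 0 := fun h0 => pow_ne_zero 6 g.ne_zero (congrArg Subtype.val h0)
      have hu := congrArg Subtype.val (FiniteField.pow_card_sub_one_eq_one (⟨_, hK⟩ : K) hne0)
      rw [Nat.card_eq_fintype_card] at hKp hK3
      simp only [SubmonoidClass.coe_pow, OneMemClass.coe_one] at hu
      have : g ^ (6 * (Fintype.card K - 1)) = 1 := Units.ext (by
        rw [Units.val_pow_eq_pow_val, pow_mul]; exact hu)
      have hd := orderOf_dvd_of_pow_eq_one this
      rw [ho] at hd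
      obtain ⟨c, hc⟩ := hd
      omega
    · rintro ⟨-, h⟩
      have h12 : (g : F) ^ 12 = -1 := by linear_combination (g : F) ^ 4 * h8 + h4
      have g6 : (g : F) ^ 6 = -1 := by
        linear_combination h - h12 + (43 * (g : F) ^ 6 - 1365) * hz
      exact h2 (by linear_combination h12 - ((g : F) ^ 6 - 1) * g6)
  refine main (g : F) g.ne_zero (fun h => ?_) (fun K hK => ?_) (fun h => h9 h.1)
  · have hK : (g : F) ^ 6 ∈ (⊥ : Subfield F) := by
      rw [sub_eq_zero.1 h]; exact natCast_mem _ 64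
    refine h9 (hsub ⊥ hK fun hbot => hn1 ?_)
    have hcard : Nat.card (⊥ : Subfield F) = p := Subfield.card_bot F p
    rw [hbot, Nat.card_congr (Subfield.topEquiv (K := F)).toEquiv, Nat.card_eq_fintype_card, hn] at hcard
    exact Nat.pow_right_injective (Fact.out : p.Prime).two_le (hcard.trans (pow_one p).symm)
  · by_contra hne
    exact h9 (hsub K hK hne)

end H37
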