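import Cfsg.Agent.H37.ThreeRegular
import Cfsg.Agent.H37.SL2Gen

/-!
Criteria for a subgroup of `SL₃(q)` containing transvections to be everything.
-/

set_option autoImplicit false

namespace H37

open Matrix
open scoped MatrixGroups commutatorElement

universe u

variable {F : Type u} [Field F]

theorem hasTv_axis_add {n : ℕ} {H : Subgroup (Matrix.SpecialLinearGroup (Fin n) F)}
    {a φ ψ : Fin n → F} (ha : HasTv H a φ) (hb : HasTv H a ψ) (h : φ ⬝ᵥ a = 0) :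
    HasTv H a (φ + ψ) := by
  obtain ⟨x, hx, hxm⟩ := ha
  obtain ⟨y, hy, hym⟩ := hb
  refine ⟨x * y, mul_mem hx hy, ?_⟩
  rw [Matrix.SpecialLinearGroup.coe_mul, hxm, hym, one_add_vecMulVec_mul, h, zero_smul, add_zero,
    vecMulVec_add, add_assoc]

theorem hasTv_smul_swap {n : ℕ} {H : Subgroup (Matrix.SpecialLinearGroup (Fin n) F)} {c : F}
    {a φ : Fin n → F} : HasTv H (c • a) φ ↔ HasTv H a (c • φ) := by
  simp only [HasTv, smul_vecMulVec, vecMulVec_smul]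

theorem hasTv_single_iff {n : ℕ} {H : Subgroup (Matrix.SpecialLinearGroup (Fin n) F)}
    {i j : Fin n} (hij : i ≠ j) {c : F} :
    HasTv H (c • Pi.single i 1) (Pi.single j 1) ↔
      Matrix.SpecialLinearGroup.transvection hij c ∈ H := by
  constructor
  · rintro ⟨h, hh, hm⟩
    convert hh using 1
    apply Subtype.ext
    rw [hm, Matrix.SpecialLinearGroup.transvection_coe, single_eq_vecMulVec]
  · intro h
    exact ⟨_, h, by rw [Matrix.SpecialLinearGroup.transvection_coe, single_eq_vecMulVec]⟩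

/-- Four families of elementary transvections generate. -/
theorem sl3_top_of_four (H : Subgroup SL(3, F))
    (h01 : ∀ c : F, Matrix.SpecialLinearGroup.transvection (show (0 : Fin 3) ≠ 1 by decide) c ∈ H)
    (h10 : ∀ c : F, Matrix.SpecialLinearGroup.transvection (show (1 : Fin 3) ≠ 0 by decide) c ∈ H)
    (h12 : ∀ c : F, Matrix.SpecialLinearGroup.transvection (show (1 : Fin 3) ≠ 2 by decide) c ∈ H)
    (h21 : ∀ c : F, Matrix.SpecialLinearGroup.transvection (show (2 : Fin 3) ≠ 1 by decide) c ∈ H) :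
    H = ⊤ := by
  have hcomm : ∀ a b, a ∈ H → b ∈ H → ⁅a, b⁆ ∈ H := fun a b ha hb => by
    rw [commutatorElement_def]
    exact mul_mem (mul_mem (mul_mem ha hb) (inv_mem ha)) (inv_mem hb)
  have h02 : ∀ c : F,
      Matrix.SpecialLinearGroup.transvection (show (0 : Fin 3) ≠ 2 by decide) c ∈ H := fun c => by
    have := hcomm _ _ (h01 c) (h12 1)
    rwa [commutator_transvection (show (0 : Fin 3) ≠ 1 by decide) (show (1 : Fin 3) ≠ 2 by decide)
      (show (0 : Fin 3) ≠ 2 by decide), mul_one] at this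
  have h20 : ∀ c : F,
      Matrix.SpecialLinearGroup.transvection (show (2 : Fin 3) ≠ 0 by decide) c ∈ H := fun c => by
    have := hcomm _ _ (h21 c) (h10 1)
    rwa [commutator_transvection (show (2 : Fin 3) ≠ 1 by decide) (show (1 : Fin 3) ≠ 0 by decide)
      (show (2 : Fin 3) ≠ 0 by decide), mul_one] at this
  refine eq_top_of_transvection_mem H fun i j hij c => ?_
  fin_cases i <;> fin_cases j <;> first
    | exact absurd rfl hij
    | exact h01 c
    | exact h10 c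
    | exact h02 c
    | exact h20 c
    | exact h12 c
    | exact h21 c

theorem dot3 (a b : Fin 3 → F) : a ⬝ᵥ b = a 0 * b 0 + a 1 * b 1 + a 2 * b 2 := by
  rw [dotProduct, Fin.sum_univ_three]

/-- `SL₂`-block with one more transvection in general position. -/
theorem sl3_top_of_block_tv (H : Subgroup SL(3, F))
    (h01 : ∀ c : F, Matrix.SpecialLinearGroup.transvection (show (0 : Fin 3) ≠ 1 by decide) c ∈ H)
    (h10 : ∀ c : F, Matrix.SpecialLinearGroup.transvection (show (1 : Fin 3) ≠ 0 by decide) c ∈ H)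
    {b f : Fin 3 → F} (hR : HasTv H b f) (hfb : f ⬝ᵥ b = 0) (hb : b 2 ≠ 0) (hf : f 2 ≠ 0) :
    H = ⊤ := by
  classical
  -- conjugate until `b 1 = 0` and `f 1 = 0`
  have step : ∀ {i j : Fin 3} (hij : i ≠ j) (s : F),
      Matrix.SpecialLinearGroup.transvection hij s ∈ H → ∀ {b f : Fin 3 → F}, HasTv H b f →
        f ⬝ᵥ b = 0 →
        HasTv H (b + Pi.single i (s * b j)) (f - Pi.single j (s * f i)) ∧
          (f - Pi.single j (s * f i)) ⬝ᵥ (b + Pi.single i (s * b j)) = 0 := by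
    intro i j hij s hT b f hR hfb
    have h := hasTv_conj hT hR
    have e1 : ((Matrix.SpecialLinearGroup.transvection hij s : SL(3, F)) : Matrix (Fin 3) (Fin 3) F) *ᵥ b
        = b + Pi.single i (s * b j) := transvection_smul hij s b
    have e2 : f ᵥ* (((Matrix.SpecialLinearGroup.transvection hij s)⁻¹ : SL(3, F)) :
        Matrix (Fin 3) (Fin 3) F) = f - Pi.single j (s * f i) := by
      rw [Matrix.SpecialLinearGroup.transvection_inv, Matrix.SpecialLinearGroup.transvection_coe,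
        Matrix.vecMul_add, Matrix.vecMul_one, single_eq_vecMulVec, vecMul_vecMulVec,
        dotProduct_smul, dotProduct_single, mul_one, smul_eq_mul, sub_eq_add_neg]
      congr 1
      rw [← Pi.single_smul, smul_eq_mul, mul_one, ← Pi.single_neg, neg_mul]
    rw [e1, e2] at h
    refine ⟨h, ?_⟩
    rw [← e1, ← e2, ← dotProduct_mulVec, Matrix.mulVec_mulVec, ← Matrix.SpecialLinearGroup.coe_mul,
      inv_mul_cancel, Matrix.SpecialLinearGroup.coe_one, Matrix.one_mulVec, hfb]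
  obtain ⟨b, f, hR, hfb, hb, hf, hb0⟩ : ∃ b f : Fin 3 → F, HasTv H b f ∧ f ⬝ᵥ b = 0 ∧ b 2 ≠ 0 ∧
      f 2 ≠ 0 ∧ b 0 ≠ 0 := by
    by_cases h0 : b 0 = 0
    · have hb1 : b 1 ≠ 0 := by
        intro h1
        rw [dot3, h0, h1, mul_zero, mul_zero, zero_add, zero_add] at hfb
        exact mul_ne_zero hf hb hfb
      obtain ⟨h, h'⟩ := step (show (0 : Fin 3) ≠ 1 by decide) 1 (h01 1) hR hfb
      exact ⟨_, _, h, h', by simpa [Fin.ext_iff] using hb, by simpa [Fin.ext_iff] using hf,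
        by simpa [h0] using hb1⟩
    · exact ⟨b, f, hR, hfb, hb, hf, h0⟩
  obtain ⟨b, f, hR, hfb, hb, hf, hb0, hb1⟩ : ∃ b f : Fin 3 → F, HasTv H b f ∧ f ⬝ᵥ b = 0 ∧ b 2 ≠ 0 ∧
      f 2 ≠ 0 ∧ b 0 ≠ 0 ∧ b 1 = 0 := by
    obtain ⟨h, h'⟩ := step (show (1 : Fin 3) ≠ 0 by decide) (-(b 1 / b 0)) (h10 _) hR hfb
    exact ⟨_, _, h, h', by simpa [Fin.ext_iff] using hb, by simpa [Fin.ext_iff] using hf,
      by simpa using hb0, by simp [neg_mul, div_mul_cancel₀ _ hb0]⟩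
  have hf0 : f 0 ≠ 0 := by
    intro h
    rw [dot3, h, hb1, zero_mul, mul_zero, zero_add, zero_add] at hfb
    exact mul_ne_zero hf hb hfb
  obtain ⟨b, f, hR, hfb, hb, hf, hb0, hb1, hf0, hf1⟩ : ∃ b f : Fin 3 → F, HasTv H b f ∧ f ⬝ᵥ b = 0 ∧
      b 2 ≠ 0 ∧ f 2 ≠ 0 ∧ b 0 ≠ 0 ∧ b 1 = 0 ∧ f 0 ≠ 0 ∧ f 1 = 0 := by
    obtain ⟨h, h'⟩ := step (show (0 : Fin 3) ≠ 1 by decide) (f 1 / f 0) (h01 _) hR hfb
    exact ⟨_, _, h, h', by simpa [Fin.ext_iff] using hb, by simpa [Fin.ext_iff] using hf,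
      by simpa [hb1] using hb0, by simpa using hb1, by simpa using hf0,
      by simp [div_mul_cancel₀ _ hf0]⟩
  obtain ⟨R, hRH, hRm⟩ := hR
  have hRi : ((R⁻¹ : SL(3, F)) : Matrix (Fin 3) (Fin 3) F) = 1 + vecMulVec (-b) f :=
    coe_inv_of_tv hRm hfb
  refine sl3_top_of_four H h01 h10 ?_ ?_
  · -- `T₁₂`
    intro c
    have key : ∀ d : F, HasTv H (d • Pi.single 1 1) (-(b 0) • f) := by
      intro d
      have h := hasTv_conj hRH ((hasTv_single_iff (show (1 : Fin 3) ≠ 0 by decide)).2 (h10 d))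
      rw [hRm, hRi, Matrix.add_mulVec, Matrix.one_mulVec, vecMulVec_mulVec, Matrix.vecMul_add,
        Matrix.vecMul_one, vecMul_vecMulVec, dotProduct_smul, dotProduct_single, hf1, zero_mul,
        smul_zero, MulOpposite.op_zero, zero_smul, add_zero, single_dotProduct, one_mul] at h
      have h2 := hasTv_neg ((hasTv_single_iff (show (1 : Fin 3) ≠ 0 by decide)).2 (h10 d)) (by simp)
      -- subtract the axis `e₀`
      have h3 : HasTv H (d • Pi.single 1 1) (-(Pi.single 0 1) : Fin 3 → F) := by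
        rw [← neg_one_smul F (Pi.single 0 1 : Fin 3 → F), ← hasTv_smul_swap]
        simpa using h2
      have h4 := hasTv_axis_add h3 h (by simp)
      rw [← add_assoc, neg_add_cancel, zero_add] at h4
      simpa using h4
    have key2 : ∀ d : F, HasTv H (d • Pi.single 1 1) (Pi.single 0 (-(b 0) * f 0)) := by
      intro d
      rw [show (Pi.single 0 (-(b 0) * f 0) : Fin 3 → F) = (-(b 0) * f 0) • Pi.single 0 1 by
        rw [← Pi.single_smul, smul_eq_mul, mul_one], ← hasTv_smul_swap, smul_smul]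
      exact (hasTv_single_iff (show (1 : Fin 3) ≠ 0 by decide)).2 (h10 _)
    -- only the entry at `2` is left
    set d := c / (-(b 0) * f 2) with hd
    have hk := key d
    have hk2 := hasTv_neg (key2 d) (by simp)
    have hk3 : HasTv H (d • Pi.single 1 1) (-(Pi.single 0 (-(b 0) * f 0)) : Fin 3 → F) := by
      rw [← neg_one_smul F (Pi.single 0 (-(b 0) * f 0) : Fin 3 → F), ← hasTv_smul_swap]
      simpa using hk2
    have hfin := hasTv_axis_add hk3 hk (by simp)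
    have heq : (-(Pi.single 0 (-(b 0) * f 0)) + -(b 0) • f : Fin 3 → F) =
        (-(b 0) * f 2) • Pi.single 2 1 := by
      funext i
      fin_cases i <;> simp [hf1]
    rw [heq, ← hasTv_smul_swap, smul_smul, hd, mul_div_cancel₀ _ (by simp [hb0, hf])] at hfin
    exact (hasTv_single_iff (show (1 : Fin 3) ≠ 2 by decide)).1 hfin
  · -- `T₂₁`
    intro c
    set d := c / (f 0 * b 2) with hd
    have h := hasTv_conj hRH ((hasTv_single_iff (show (0 : Fin 3) ≠ 1 by decide)).2 (h01 d))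
    rw [hRm, hRi, Matrix.add_mulVec, Matrix.one_mulVec, vecMulVec_mulVec, Matrix.vecMul_add,
      Matrix.vecMul_one, vecMul_vecMulVec, op_smul_eq_smul, dotProduct_smul, dotProduct_single,
      mul_one, smul_eq_mul, single_dotProduct, one_mul, Pi.neg_apply, hb1, neg_zero, zero_smul,
      add_zero] at h
    have h2 := hasTv_add h
      ((hasTv_single_iff (show (0 : Fin 3) ≠ 1 by decide)).2 (h01 (-d - d * f 0 * b 0))) (by simp)
    have heq : d • (Pi.single 0 1 : Fin 3 → F) + (d * f 0) • b + (-d - d * f 0 * b 0) • Pi.single 0 1 =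
        (d * f 0 * b 2) • Pi.single 2 1 := by
      funext i
      fin_cases i <;> simp [hb1] <;> ring
    rw [heq, hd, div_mul_eq_mul_div, div_mul_eq_mul_div, mul_assoc,
      mul_div_cancel_right₀ _ (mul_ne_zero hf0 hb)] at h2
    exact (hasTv_single_iff (show (2 : Fin 3) ≠ 1 by decide)).1 h2

/-- `SL₂` in the upper left block, conjugated by `diag(1, γ)`. -/
def blockSL2 (γ : F) (hγ : γ ≠ 0) : SL(2, F) →* SL(3, F) :=
  MonoidHom.mk'
    (fun s => ⟨!![s 0 0, s 0 1 * γ⁻¹, 0; γ * s 1 0, s 1 1, 0; 0, 0, 1], by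
      have h := s.2
      rw [Matrix.det_fin_two] at h
      rw [Matrix.det_fin_three]
      simp
      linear_combination h - (s 0 1 * s 1 0) * (inv_mul_cancel₀ hγ)⟩)
    (fun s t => by
      have h1 := mul_inv_cancel₀ hγ
      apply Subtype.ext
      show !![(s * t) 0 0, (s * t) 0 1 * γ⁻¹, 0; γ * (s * t) 1 0, (s * t) 1 1, 0; 0, 0, 1] =
        !![s 0 0, s 0 1 * γ⁻¹, 0; γ * s 1 0, s 1 1, 0; 0, 0, 1] *
          !![t 0 0, t 0 1 * γ⁻¹, 0; γ * t 1 0, t 1 1, 0; 0, 0, 1]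
      ext i j
      fin_cases i <;> fin_cases j <;>
        simp [Matrix.mul_apply, Fin.sum_univ_three, Fin.sum_univ_two] <;>
        first
        | ring1
        | linear_combination (-(s 0 1 * t 1 0)) * h1
        | linear_combination (-(s 1 0 * t 0 1)) * h1)

theorem coe_blockSL2 (γ : F) (hγ : γ ≠ 0) (s : SL(2, F)) :
    (blockSL2 γ hγ s : Matrix (Fin 3) (Fin 3) F) =
      !![s 0 0, s 0 1 * γ⁻¹, 0; γ * s 1 0, s 1 1, 0; 0, 0, 1] := rfl

theorem blockSL2_upper (γ : F) (hγ : γ ≠ 0) (t : F) :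
    blockSL2 γ hγ (upper2 t) =
      Matrix.SpecialLinearGroup.transvection (show (0 : Fin 3) ≠ 1 by decide) (t * γ⁻¹) := by
  apply Subtype.ext
  rw [coe_blockSL2]
  ext i j
  fin_cases i <;> fin_cases j <;>
    simp [Matrix.SpecialLinearGroup.transvection_coe, Matrix.single_apply]

theorem blockSL2_lower (γ : F) (hγ : γ ≠ 0) (t : F) :
    blockSL2 γ hγ (lower2 t) =
      Matrix.SpecialLinearGroup.transvection (show (1 : Fin 3) ≠ 0 by decide) (γ * t) := by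
  apply Subtype.ext
  rw [coe_blockSL2]
  ext i j
  fin_cases i <;> fin_cases j <;>
    simp [Matrix.SpecialLinearGroup.transvection_coe, Matrix.single_apply]

variable [Fintype F]

/-- The criterion: one transvection and one further element in general position. -/
theorem sl3_top_of_root (h2 : (2 : F) ≠ 0) (H : Subgroup SL(3, F)) {c g : Fin 3 → F}
    (hgc : g ⬝ᵥ c = 0) (hT : HasTv H (-c) g) {h : SL(3, F)} (hh : h ∈ H) {γ₁ γ₂ : F}
    (e₁ : g ⬝ᵥ ((h : Matrix (Fin 3) (Fin 3) F) *ᵥ c) = γ₁)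
    (e₂ : g ⬝ᵥ (((h⁻¹ : SL(3, F)) : Matrix (Fin 3) (Fin 3) F) *ᵥ c) = γ₂)
    (hγ : γ₁ * γ₂ ≠ 0) (hgen : Subfield.closure ({γ₁ * γ₂} : Set F) = ⊤)
    (h9 : ¬ (Fintype.card F = 9 ∧ (γ₁ * γ₂) ^ 2 = -1))
    (hcent : (Matrix.of ![c, (h : Matrix (Fin 3) (Fin 3) F) *ᵥ c,
      ((h * h : SL(3, F)) : Matrix (Fin 3) (Fin 3) F) *ᵥ c]).det ≠ 0)
    (haxis : (Matrix.of ![g, g ᵥ* ((h⁻¹ : SL(3, F)) : Matrix (Fin 3) (Fin 3) F),
      g ᵥ* ((h⁻¹ * h⁻¹ : SL(3, F)) : Matrix (Fin 3) (Fin 3) F)]).det ≠ 0) :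
    H = ⊤ := by
  classical
  obtain ⟨hγ1, hγ2⟩ := mul_ne_zero_iff.1 hγ
  set hm := ((h : SL(3, F)) : Matrix (Fin 3) (Fin 3) F)
  set hi := ((h⁻¹ : SL(3, F)) : Matrix (Fin 3) (Fin 3) F)
  have hih : hi * hm = 1 := by
    rw [← Matrix.SpecialLinearGroup.coe_mul, inv_mul_cancel, Matrix.SpecialLinearGroup.coe_one]
  set c₁ := hm *ᵥ c with hc₁
  set c₂ := hm *ᵥ c₁ with hc₂
  set g₁ := g ᵥ* hi with hg₁
  set g₂ := g₁ ᵥ* hi with hg₂
  have hcent' : (Matrix.of ![c, c₁, c₂]).det ≠ 0 := by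
    rwa [hc₂, Matrix.mulVec_mulVec, ← Matrix.SpecialLinearGroup.coe_mul]
  have haxis' : (Matrix.of ![g, g₁, g₂]).det ≠ 0 := by
    rwa [hg₂, hg₁, Matrix.vecMul_vecMul, ← Matrix.SpecialLinearGroup.coe_mul]
  have a1c : g₁ ⬝ᵥ c = γ₂ := by rw [hg₁, ← dotProduct_mulVec, e₂]
  have a1c1 : g₁ ⬝ᵥ c₁ = 0 := by
    rw [hg₁, hc₁, ← dotProduct_mulVec, Matrix.mulVec_mulVec, hih, Matrix.one_mulVec, hgc]
  have a1c2 : g₁ ⬝ᵥ c₂ = γ₁ := by
    rw [hg₁, hc₂, ← dotProduct_mulVec, Matrix.mulVec_mulVec, hih, Matrix.one_mulVec, hc₁, e₁]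
  have a2c2 : g₂ ⬝ᵥ c₂ = 0 := by
    rw [hg₂, hc₂, ← dotProduct_mulVec, Matrix.mulVec_mulVec, hih, Matrix.one_mulVec, a1c1]
  set β := -(g ⬝ᵥ c₂) / γ₁ with hβ
  set α := -γ₁ / γ₂ with hα
  set z := c₂ + α • c + β • c₁ with hz
  have hgz : g ⬝ᵥ z = 0 := by
    rw [hz, dotProduct_add, dotProduct_add, dotProduct_smul, dotProduct_smul, hgc, e₁, smul_zero,
      add_zero, hβ, smul_eq_mul, div_mul_cancel₀ _ hγ1, add_neg_cancel]
  have hg₁z : g₁ ⬝ᵥ z = 0 := by
    rw [hz, dotProduct_add, dotProduct_add, dotProduct_smul, dotProduct_smul, a1c, a1c1, a1c2,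
      smul_zero, add_zero, hα, smul_eq_mul, div_mul_cancel₀ _ hγ2, add_neg_cancel]
  set B : Matrix (Fin 3) (Fin 3) F := (Matrix.of ![c, c₁, z])ᵀ with hB
  have hBdet : B.det ≠ 0 := by
    rw [hB, Matrix.det_transpose]
    convert hcent' using 1
    rw [Matrix.det_fin_three, Matrix.det_fin_three]
    simp [hz]
    ring
  have hg2z : g₂ ⬝ᵥ z ≠ 0 := by
    intro h0
    have h1 : Matrix.of ![g, g₁, g₂] *ᵥ z = 0 := by
      funext i
      show (Matrix.of ![g, g₁, g₂]) i ⬝ᵥ z = 0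
      fin_cases i
      · exact hgz
      · exact hg₁z
      · exact h0
    have hz0 : z = 0 := Matrix.eq_zero_of_mulVec_eq_zero haxis' h1
    apply hBdet
    rw [hB, Matrix.det_transpose]
    exact Matrix.det_eq_zero_of_row_eq_zero 2 fun j => by simp [hz0]
  -- change of basis
  set U : (Matrix (Fin 3) (Fin 3) F)ˣ := Matrix.GeneralLinearGroup.mkOfDetNeZero B hBdet with hU
  have hUv : (U : Matrix (Fin 3) (Fin 3) F) = B := rfl
  let κ : SL(3, F) →* SL(3, F) := MonoidHom.mk'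
    (fun s => ⟨(U : Matrix (Fin 3) (Fin 3) F) * s * (↑U⁻¹ : Matrix (Fin 3) (Fin 3) F), by
      rw [Matrix.det_units_conj]; exact s.2⟩)
    (fun s t => Subtype.ext (by
      show (U : Matrix (Fin 3) (Fin 3) F) * ((s * t : SL(3, F)) : Matrix (Fin 3) (Fin 3) F) *
          (↑U⁻¹ : Matrix (Fin 3) (Fin 3) F) =
        ((U : Matrix (Fin 3) (Fin 3) F) * s * (↑U⁻¹ : Matrix (Fin 3) (Fin 3) F)) *
          ((U : Matrix (Fin 3) (Fin 3) F) * t * (↑U⁻¹ : Matrix (Fin 3) (Fin 3) F))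
      simp [Matrix.mul_assoc]))
  have hκ : Function.Surjective κ := fun s =>
    ⟨⟨(↑U⁻¹ : Matrix (Fin 3) (Fin 3) F) * s * (U : Matrix (Fin 3) (Fin 3) F), by
      rw [Matrix.det_units_conj']; exact s.2⟩, Subtype.ext (by
      show (U : Matrix (Fin 3) (Fin 3) F) * ((↑U⁻¹ : Matrix (Fin 3) (Fin 3) F) * s *
        (U : Matrix (Fin 3) (Fin 3) F)) * (↑U⁻¹ : Matrix (Fin 3) (Fin 3) F) = s
      simp [Matrix.mul_assoc])⟩
  suffices hK : H.comap κ = ⊤ by
    rw [eq_top_iff]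
    intro s _
    obtain ⟨r, rfl⟩ := hκ s
    exact (hK.symm ▸ Subgroup.mem_top r : r ∈ H.comap κ)
  have pull : ∀ {a φ : Fin 3 → F}, φ ⬝ᵥ (B *ᵥ a) = 0 → HasTv H (B *ᵥ a) φ →
      HasTv (H.comap κ) a (φ ᵥ* B) := by
    rintro a φ ha ⟨x, hx, hxm⟩
    have hd : (1 + vecMulVec a (φ ᵥ* B)).det = 1 := by
      rw [vecMulVec_eq Unit, Matrix.det_one_add_replicateCol_mul_replicateRow, ← dotProduct_mulVec,
        ha, add_zero]
    refine ⟨⟨_, hd⟩, ?_, rfl⟩
    show κ ⟨_, hd⟩ ∈ H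
    convert hx using 1
    apply Subtype.ext
    show (U : Matrix (Fin 3) (Fin 3) F) * (1 + vecMulVec a (φ ᵥ* B)) * (↑U⁻¹ : Matrix (Fin 3) (Fin 3) F) = _
    rw [hxm, Matrix.mul_add, Matrix.mul_one, Matrix.add_mul, Units.mul_inv, mul_vecMulVec,
      vecMulVec_mul, Matrix.vecMul_vecMul, ← hUv, Units.mul_inv, Matrix.vecMul_one]
  have hcol : ∀ a : Fin 3 → F, B *ᵥ a = a 0 • c + a 1 • c₁ + a 2 • z := by
    intro a
    funext i
    simp [hB, Matrix.mulVec, dotProduct, Fin.sum_univ_three]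
    ring
  have hrow : ∀ φ : Fin 3 → F, φ ᵥ* B = ![φ ⬝ᵥ c, φ ⬝ᵥ c₁, φ ⬝ᵥ z] := by
    intro φ
    funext i
    fin_cases i <;> simp [hB, Matrix.vecMul, dotProduct]
  -- the three transvections
  have hT1 : HasTv H (-c₁) g₁ := by
    have := hasTv_conj hh hT
    rwa [Matrix.mulVec_neg] at this
  have hT2 : HasTv H (-c₂) g₂ := by
    have := hasTv_conj hh hT1
    rwa [Matrix.mulVec_neg] at this
  have X0 : HasTv (H.comap κ) (-Pi.single 0 1) ![0, γ₁, 0] := by
    have hb : B *ᵥ (-Pi.single 0 1 : Fin 3 → F) = -c := by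
      rw [Matrix.mulVec_neg, hcol]; simp
    have := pull (φ := g) (by rw [hb, dotProduct_neg, hgc, neg_zero]) (hb.symm ▸ hT)
    rwa [hrow, hgc, e₁, hgz] at this
  have X1 : HasTv (H.comap κ) (-Pi.single 1 1) ![γ₂, 0, 0] := by
    have hb : B *ᵥ (-Pi.single 1 1 : Fin 3 → F) = -c₁ := by
      rw [Matrix.mulVec_neg, hcol]; simp
    have := pull (φ := g₁) (by rw [hb, dotProduct_neg, a1c1, neg_zero]) (hb.symm ▸ hT1)
    rwa [hrow, a1c, a1c1, hg₁z] at this
  have X2 : ∃ a f : Fin 3 → F, HasTv (H.comap κ) a f ∧ f ⬝ᵥ a = 0 ∧ a 2 ≠ 0 ∧ f 2 ≠ 0 := by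
    have hb : B *ᵥ (![α, β, -1] : Fin 3 → F) = -c₂ := by
      rw [hcol]; simp [hz]; abel
    have hd : g₂ ⬝ᵥ (B *ᵥ (![α, β, -1] : Fin 3 → F)) = 0 := by
      rw [hb, dotProduct_neg, a2c2, neg_zero]
    refine ⟨_, _, pull hd (hb.symm ▸ hT2), by rw [← dotProduct_mulVec]; exact hd, by simp, ?_⟩
    rw [hrow]
    exact hg2z
  -- the block
  have hn : -γ₂ ≠ 0 := neg_ne_zero.2 hγ2
  set ψ := blockSL2 (-γ₂) hn with hψdef
  have hψ : (H.comap κ).comap ψ = ⊤ := by
    rw [eq_top_iff, ← two_unipotents_eq_top h2 hγ hgen h9, twoUnip, Subgroup.closure_le]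
    rintro x (rfl | rfl)
    · show ψ (lower2 1) ∈ H.comap κ
      rw [hψdef, blockSL2_lower, mul_one, ← hasTv_single_iff, hasTv_smul_swap]
      rw [neg_smul]
      have e : (![γ₂, 0, 0] : Fin 3 → F) = γ₂ • Pi.single 0 1 := by
        funext i; fin_cases i <;> simp
      rw [e, ← neg_one_smul F (Pi.single 1 1 : Fin 3 → F), hasTv_smul_swap, smul_smul, neg_one_mul,
        neg_smul] at X1
      exact X1
    · show ψ (upper2 (γ₁ * γ₂)) ∈ H.comap κ
      rw [hψdef, blockSL2_upper, ← hasTv_single_iff, hasTv_smul_swap]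
      have e : (![0, γ₁, 0] : Fin 3 → F) = γ₁ • Pi.single 1 1 := by
        funext i; fin_cases i <;> simp
      rw [e, ← neg_one_smul F (Pi.single 0 1 : Fin 3 → F), hasTv_smul_swap, smul_smul, neg_one_mul] at X0
      rwa [inv_neg, mul_neg, mul_inv_cancel_right₀ hγ2]
  have hmem : ∀ s, ψ s ∈ H.comap κ := fun s => (hψ.symm ▸ Subgroup.mem_top s : s ∈ (H.comap κ).comap ψ)
  obtain ⟨a, f, hR, hfa, ha, hf⟩ := X2
  refine sl3_top_of_block_tv _ (fun s => ?_) (fun s => ?_) hR hfa ha hf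
  · have := hmem (upper2 (s * -γ₂))
    rwa [hψdef, blockSL2_upper, mul_inv_cancel_right₀ hn] at this
  · have := hmem (lower2 ((-γ₂)⁻¹ * s))
    rwa [hψdef, blockSL2_lower, mul_inv_cancel_left₀ hn] at this

end H37
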