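import Cfsg.Agent.H50.Generation
import Cfsg.Agent.H50.SU3Borel

/-!
A criterion for a subgroup of `SU₃(q)` to be everything: a fixed isotropic point with a rich torus
multiplier, and an element moving it.
-/

set_option autoImplicit false

namespace H37

open Matrix Cfsg H50

universe u

variable {F : Type u} [Field F] [Fintype F] {q : ℕ}

/-- A hyperbolic frame `e, z, f`. -/
structure UFrame (q : ℕ) (e z f : Fin 3 → F) : Prop where
  hyp : IsHyp q e f
  zz : hermForm 3 F q z z = 1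
  ze : hermForm 3 F q z e = 0
  zf : hermForm 3 F q z f = 0

/-- `g` acts as the Eichler transformation with parameters `c, γ` fixing `e`. -/
def IsEi (e z : Fin 3 → F) (g : SU 3 F q) (c γ : F) : Prop :=
  ∀ x, suMat g *ᵥ x = x + (hermForm 3 F q x e * c) • z +
    (γ * hermForm 3 F q x e - c ^ q * hermForm 3 F q x z) • e

variable (hF : Fintype.card F = q ^ 2) {e z f : Fin 3 → F}

include hF

theorem UFrame.symm (Φ : UFrame q e z f) : UFrame q f z e :=
  ⟨Φ.hyp.symm hF, Φ.zz, Φ.zf, Φ.ze⟩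

theorem UFrame.dec (Φ : UFrame q e z f) (x : Fin 3 → F) :
    x = hermForm 3 F q x f • e + hermForm 3 F q x z • z + hermForm 3 F q x e • f := by
  conv_lhs => rw [eq_of_triple hF Φ.hyp Φ.zz Φ.ze Φ.zf x]
  abel

theorem UFrame.ez (Φ : UFrame q e z f) : hermForm 3 F q e z = 0 := (h_eq_zero_comm hF).1 Φ.ze

theorem UFrame.fz (Φ : UFrame q e z f) : hermForm 3 F q f z = 0 := (h_eq_zero_comm hF).1 Φ.zf

theorem UFrame.fe (Φ : UFrame q e z f) : hermForm 3 F q f e = 1 := (Φ.hyp.symm hF).2.2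

/-- Coordinates of a combination. -/
theorem UFrame.coords (Φ : UFrame q e z f) (a b c : F) :
    hermForm 3 F q (a • e + b • z + c • f) e = c ∧ hermForm 3 F q (a • e + b • z + c • f) z = b ∧
      hermForm 3 F q (a • e + b • z + c • f) f = a := by
  simp [h_add_left, h_smul_left, Φ.hyp.1, Φ.hyp.2.1, Φ.hyp.2.2, Φ.fe hF, Φ.zz, Φ.ze, Φ.zf,
    Φ.ez hF, Φ.fz hF]

theorem IsEi.apply_comb (Φ : UFrame q e z f) {g : SU 3 F q} {c γ : F} (h : IsEi e z g c γ)
    (x₁ x₂ x₃ : F) : suMat g *ᵥ (x₁ • e + x₂ • z + x₃ • f) =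
      (x₁ + γ * x₃ - c ^ q * x₂) • e + (x₂ + c * x₃) • z + x₃ • f := by
  obtain ⟨c1, c2, c3⟩ := Φ.coords hF x₁ x₂ x₃
  rw [h, c1, c2]
  module

theorem IsEi.trace (Φ : UFrame q e z f) {g : SU 3 F q} {c γ : F} (h : IsEi e z g c γ) :
    γ + γ ^ q + c * c ^ q = 0 := by
  have h1 := suMat_h g f f
  have h2 : suMat g *ᵥ f = γ • e + c • z + (1 : F) • f := by
    have := h.apply_comb hF Φ 0 0 1
    simpa using this
  rw [h2, Φ.hyp.2.1] at h1
  simp [h_add_left, h_add_right hF, h_smul_left, h_smul_right hF, Φ.hyp.1, Φ.hyp.2.1, Φ.hyp.2.2,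
    Φ.fe hF, Φ.zz, Φ.ze, Φ.zf, Φ.ez hF, Φ.fz hF] at h1
  linear_combination h1

theorem IsEi.mul (Φ : UFrame q e z f) {g g' : SU 3 F q} {c γ c' γ' : F} (h : IsEi e z g c γ)
    (h' : IsEi e z g' c' γ') : IsEi e z (g * g') (c + c') (γ + γ' - c ^ q * c') := by
  intro x
  obtain ⟨x₁, x₂, x₃, rfl⟩ : ∃ a b d : F, x = a • e + b • z + d • f := ⟨_, _, _, Φ.dec hF x⟩
  obtain ⟨c1, c2, c3⟩ := Φ.coords hF x₁ x₂ x₃
  rw [suMat_mulVec_mul, h'.apply_comb hF Φ, h.apply_comb hF Φ, c1, c2, add_pow_q hF]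
  module

theorem IsEi.inv (Φ : UFrame q e z f) {g : SU 3 F q} {c γ : F} (h : IsEi e z g c γ) :
    IsEi e z g⁻¹ (-c) (γ ^ q) := by
  intro x
  obtain ⟨x₁, x₂, x₃, rfl⟩ : ∃ a b d : F, x = a • e + b • z + d • f := ⟨_, _, _, Φ.dec hF x⟩
  obtain ⟨c1, c2, c3⟩ := Φ.coords hF x₁ x₂ x₃
  rw [c1, c2]
  have ht := h.trace hF Φ
  have e1 : x₁ • e + x₂ • z + x₃ • f + (x₃ * -c) • z + (γ ^ q * x₃ - (-c) ^ q * x₂) • e =
      (x₁ + (γ ^ q * x₃ + c ^ q * x₂)) • e + (x₂ - c * x₃) • z + x₃ • f := by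
    rw [neg_pow_q hF]; module
  rw [e1]
  conv_lhs =>
    rw [show x₁ • e + x₂ • z + x₃ • f = suMat g *ᵥ ((x₁ + (γ ^ q * x₃ + c ^ q * x₂)) • e +
      (x₂ - c * x₃) • z + x₃ • f) by
        rw [h.apply_comb hF Φ,
          show x₁ + (γ ^ q * x₃ + c ^ q * x₂) + γ * x₃ - c ^ q * (x₂ - c * x₃) = x₁ by
            linear_combination x₃ * ht,
          sub_add_cancel], suMat_inv_mulVec]

theorem IsEi.congr_c {g : SU 3 F q} {c c' γ : F} (h : IsEi e z g c γ) (hc : c = c') :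
    IsEi e z g c' γ := hc ▸ h

/-- An element with the given parameters. -/
theorem exists_isEi (Φ : UFrame q e z f) {c γ : F} (h : γ + γ ^ q + c * c ^ q = 0) :
    ∃ g : SU 3 F q, IsEi e z g c γ := by
  refine ⟨eich hF e (c • z) γ Φ.hyp.1 (by rw [h_smul_left, Φ.ze, mul_zero])
    (by rw [h_smul_left, h_smul_right hF, Φ.zz]; linear_combination h), fun x => ?_⟩
  rw [suMat_eich, h_smul_right hF, smul_smul]

theorem det_of_frame (Φ : UFrame q e z f) {M D : Matrix (Fin 3) (Fin 3) F}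
    (h0 : M *ᵥ e = D 0 0 • e + D 1 0 • z + D 2 0 • f) (h1 : M *ᵥ z = D 0 1 • e + D 1 1 • z + D 2 1 • f)
    (h2 : M *ᵥ f = D 0 2 • e + D 1 2 • z + D 2 2 • f) : M.det = D.det := by
  let P : Matrix (Fin 3) (Fin 3) F := Matrix.of fun k j => ![e, z, f] j k
  have hMP : M * P = P * D := by
    ext i j
    fin_cases j
    · have := congrFun h0 i
      simp [mulVec, dotProduct, Fin.sum_univ_three] at this
      simp [P, Matrix.mul_apply, Fin.sum_univ_three]
      linear_combination this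
    · have := congrFun h1 i
      simp [mulVec, dotProduct, Fin.sum_univ_three] at this
      simp [P, Matrix.mul_apply, Fin.sum_univ_three]
      linear_combination this
    · have := congrFun h2 i
      simp [mulVec, dotProduct, Fin.sum_univ_three] at this
      simp [P, Matrix.mul_apply, Fin.sum_univ_three]
      linear_combination this
  have hP : P.det ≠ 0 := by
    intro h
    obtain ⟨y, hy0, hy⟩ := Matrix.exists_mulVec_eq_zero_iff.2 h
    have hy' : y 0 • e + y 1 • z + y 2 • f = 0 := by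
      rw [← hy]
      funext i
      simp [P, mulVec, dotProduct, Fin.sum_univ_three]
      ring
    obtain ⟨c1, c2, c3⟩ := Φ.coords hF (y 0) (y 1) (y 2)
    rw [hy', h_zero_left] at c1 c2 c3
    apply hy0
    funext i
    fin_cases i <;> simp [← c1, ← c2, ← c3]
  have := congrArg Matrix.det hMP
  rw [Matrix.det_mul, Matrix.det_mul, mul_comm P.det] at this
  exact mul_right_cancel₀ hP this

/-- An element mapping `e` to `L e` maps `z` to `L^(q-1) z` modulo `e`. -/
theorem fix_point_action (Φ : UFrame q e z f) {g : SU 3 F q} {L : F}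
    (hg : suMat g *ᵥ e = L • e) :
    L ≠ 0 ∧ ∃ μ κ : F, suMat g *ᵥ z = κ • e + μ • z + (0 : F) • f ∧ μ * L = L ^ q := by
  have hL : L ≠ 0 := by
    intro h0
    rw [h0, zero_smul] at hg
    have := suMat_inv_mulVec g e
    rw [hg, mulVec_zero] at this
    exact Φ.hyp.fst_ne_zero hF this.symm
  have hLq : L ^ q ≠ 0 := pow_ne_zero _ hL
  have ke : ∀ x, hermForm 3 F q (suMat g *ᵥ x) e * L ^ q = hermForm 3 F q x e := by
    intro x
    rw [← suMat_h g x e, hg, h_smul_right hF, mul_comm]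
  have hz := Φ.dec hF (suMat g *ᵥ z)
  have hzz : hermForm 3 F q (suMat g *ᵥ z) e = 0 := by
    have := ke z
    rw [Φ.ze, mul_eq_zero] at this
    exact this.resolve_right hLq
  rw [hzz] at hz
  refine ⟨hL, _, _, hz, ?_⟩
  have hd : (suMat g).det = 1 := g.1.2
  rw [det_of_frame hF Φ (D := !![L, hermForm 3 F q (suMat g *ᵥ z) f, hermForm 3 F q (suMat g *ᵥ f) f;
      0, hermForm 3 F q (suMat g *ᵥ z) z, hermForm 3 F q (suMat g *ᵥ f) z;
      0, 0, hermForm 3 F q (suMat g *ᵥ f) e])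
    (by simpa using hg) (by simpa using hz) (by simpa using Φ.dec hF (suMat g *ᵥ f)),
    Matrix.det_fin_three] at hd
  have hf := ke f
  rw [Φ.fe hF] at hf
  simp at hd
  linear_combination (-(hermForm 3 F q (suMat g *ᵥ z) z * L)) * hf + L ^ q * hd

theorem conj_isEi (Φ : UFrame q e z f) {g E : SU 3 F q} {c γ L : F} (hg : suMat g *ᵥ e = L • e)
    (hE : IsEi e z E c γ) : ∃ γ', IsEi e z (g * E * g⁻¹) (c * L ^ (2 * q - 1)) γ' := by
  obtain ⟨hL, μ, κ, hz, hμ⟩ := fix_point_action hF Φ hg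
  rw [zero_smul, add_zero] at hz
  have hc : c * L ^ (2 * q - 1) = L ^ q * c * μ := by
    have hq := two_le hF
    refine mul_right_cancel₀ hL ?_
    rw [mul_assoc c, ← pow_succ, show 2 * q - 1 + 1 = q + q by omega, pow_add]
    linear_combination -(L ^ q * c) * hμ
  refine ⟨L ^ q * c * κ + γ * (L * L ^ q) - L * (c ^ q * κ ^ q), fun x => ?_⟩
  set y := suMat g⁻¹ *ᵥ x with hy
  have hx : suMat g *ᵥ y = x := suMat_mulVec_inv g x
  have hye : hermForm 3 F q y e = hermForm 3 F q x e * L ^ q := by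
    rw [← suMat_h g y e, hx, hg, h_smul_right hF, mul_comm]
  have hyz : hermForm 3 F q y z = hermForm 3 F q x e * κ ^ q + hermForm 3 F q x z * μ ^ q := by
    rw [← suMat_h g y z, hx, hz, h_add_right hF, h_smul_right hF, h_smul_right hF]
    ring
  rw [suMat_mulVec_mul, suMat_mulVec_mul, ← hy, hE, hye, hyz, mulVec_add, mulVec_add, mulVec_smul,
    mulVec_smul, hx, hg, hz, hc, mul_pow, mul_pow, pow_q_pow_q hF, smul_add, smul_smul, smul_smul,
    smul_smul]
  module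

/-- A frame point with rich multiplier, and an element moving it, give everything. -/
theorem su3_top (Φ : UFrame q e z f) (h2 : q ≠ 2) (H : Subgroup (SU 3 F q)) {E V g : SU 3 F q}
    {a β a' β' L : F} (hE : IsEi e z E a β) (hEH : E ∈ H) (ha : a ≠ 0) (hV : IsEi f z V a' β')
    (hVH : V ∈ H) (ha' : a' ≠ 0) (hgH : g ∈ H) (hg : suMat g *ᵥ e = L • e)
    (hgen : Subfield.closure ({L ^ (2 * q - 1)} : Set F) = ⊤) : H = ⊤ := by
  classical
  set ν := L ^ (2 * q - 1) with hν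
  let A : AddSubgroup F :=
    { carrier := {c | ∃ E ∈ H, ∃ γ, IsEi e z E c γ}
      zero_mem' := ⟨1, one_mem _, 0, fun x => by
        rw [suMat_one, one_mulVec, zero_pow (q_ne_zero hF)]; simp⟩
      add_mem' := by
        rintro c c' ⟨E, hE, γ, h⟩ ⟨E', hE', γ', h'⟩
        exact ⟨E * E', mul_mem hE hE', _, h.mul hF Φ h'⟩
      neg_mem' := by
        rintro c ⟨E, hE, γ, h⟩
        exact ⟨E⁻¹, inv_mem hE, _, h.inv hF Φ⟩ }
  let K : Subring F :=
    { carrier := {x | ∀ s ∈ A, x * s ∈ A}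
      one_mem' := fun s hs => by simpa using hs
      mul_mem' := fun {a b} ha hb s hs => by rw [mul_assoc]; exact ha _ (hb s hs)
      zero_mem' := fun s _ => by simp [A.zero_mem]
      add_mem' := fun {a b} ha hb s hs => by rw [add_mul]; exact add_mem (ha s hs) (hb s hs)
      neg_mem' := fun {a} ha s hs => by rw [neg_mul]; exact neg_mem (ha s hs) }
  have hνK : ν ∈ K := by
    rintro s ⟨E, hE, γ, h⟩
    obtain ⟨γ', h'⟩ := conj_isEi hF Φ hg h
    exact ⟨_, mul_mem (mul_mem hgH hE) (inv_mem hgH), γ', h'.congr_c hF (mul_comm _ _)⟩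
  let L' : Subfield F :=
    { K with
      inv_mem' := fun x hx => by
        rcases eq_or_ne x 0 with rfl | hx0
        · rw [_root_.inv_zero]; exact K.zero_mem
        have : x⁻¹ = x ^ (Fintype.card F - 2) := by
          refine inv_eq_of_mul_eq_one_right ?_
          rw [← pow_succ', show Fintype.card F - 2 + 1 = Fintype.card F - 1 by
            have := Fintype.one_lt_card (α := F); omega]
          exact FiniteField.pow_card_sub_one_eq_one x hx0
        rw [this]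
        exact pow_mem (show x ∈ K from hx) _ }
  have hL' : L' = ⊤ := top_unique (hgen ▸ Subfield.closure_le.2 (Set.singleton_subset_iff.2 hνK))
  have hA : ∀ c, ∃ E ∈ H, ∃ γ, IsEi e z E c γ := fun c => by
    have h : c / a ∈ L' := hL' ▸ Subfield.mem_top _
    have := h a ⟨E, hEH, β, hE⟩
    rwa [div_mul_cancel₀ _ ha] at this
  -- the centre
  have hZ : ∀ d, d + d ^ q = 0 → ∃ E ∈ H, IsEi e z E 0 d := by
    intro d hd
    obtain ⟨θ, hθ⟩ := exists_trace_eq hF (one_pow q)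
    obtain ⟨A₁, hA₁, γ₁, h₁⟩ := hA (θ * d)
    obtain ⟨A₂, hA₂, γ₂, h₂⟩ := hA 1
    refine ⟨A₁ * A₂ * A₁⁻¹ * A₂⁻¹, mul_mem (mul_mem (mul_mem hA₁ hA₂) (inv_mem hA₁)) (inv_mem hA₂), ?_⟩
    have h := ((h₁.mul hF Φ h₂).mul hF Φ (h₁.inv hF Φ)).mul hF Φ (h₂.inv hF Φ)
    have t1 := h₁.trace hF Φ
    have t2 := h₂.trace hF Φ
    have hdq : d ^ q = -d := by linear_combination hd
    have ec : θ * d + 1 + -(θ * d) + -(1 : F) = 0 := by ring
    have eg : γ₁ + γ₂ - (θ * d) ^ q * 1 + γ₁ ^ q - (θ * d + 1) ^ q * -(θ * d) + γ₂ ^ q -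
        (θ * d + 1 + -(θ * d)) ^ q * -1 = d := by
      simp only [add_pow_q hF, neg_pow_q hF, mul_pow, one_pow, hdq] at t1 t2 ⊢
      linear_combination t1 + t2 + d * hθ
    rw [ec, eg] at h
    exact h
  have hAll : ∀ c γ, γ + γ ^ q + c * c ^ q = 0 → ∃ E ∈ H, IsEi e z E c γ := by
    intro c γ h
    obtain ⟨E₁, hE₁, γ₁, h₁⟩ := hA c
    obtain ⟨E₂, hE₂, h₂⟩ := hZ (γ - γ₁) (by
      rw [sub_pow_q hF]; linear_combination h - h₁.trace hF Φ)
    refine ⟨E₂ * E₁, mul_mem hE₂ hE₁, ?_⟩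
    have h3 := h₂.mul hF Φ h₁
    rwa [zero_add, zero_pow (q_ne_zero hF), zero_mul, sub_zero, sub_add_cancel] at h3
  -- orbit of `e`
  have orbitf : ∀ x, hermForm 3 F q x x = 0 → hermForm 3 F q x e ≠ 0 →
      ∃ E ∈ H, suMat E *ᵥ (hermForm 3 F q x e • f) = x := by
    intro x hx hxe
    have hd := Φ.dec hF x
    set x₁ := hermForm 3 F q x f
    set x₂ := hermForm 3 F q x z
    set x₃ := hermForm 3 F q x e
    have hiso : x₁ * x₃ ^ q + x₂ * x₂ ^ q + x₃ * x₁ ^ q = 0 := by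
      rw [hd] at hx
      simp [h_add_left, h_add_right hF, h_smul_left, h_smul_right hF, Φ.hyp.1, Φ.hyp.2.1, Φ.hyp.2.2,
        Φ.fe hF, Φ.zz, Φ.ze, Φ.zf, Φ.ez hF, Φ.fz hF] at hx
      linear_combination hx
    have hq3 : x₃ ^ q ≠ 0 := pow_ne_zero _ hxe
    obtain ⟨E, hE, h⟩ := hAll (x₂ / x₃) (x₁ / x₃) (by
      rw [div_pow, div_pow]
      field_simp
      linear_combination hiso)
    refine ⟨E, hE, ?_⟩
    have := h.apply_comb hF Φ 0 0 x₃
    simp only [zero_smul, zero_add, mul_zero, sub_zero, div_mul_cancel₀ _ hxe] at this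
    rw [this, ← hd]
  have hVe : suMat V *ᵥ e = (1 : F) • e + a' • z + β' • f := by
    have := hV.apply_comb hF (Φ.symm hF) 0 0 1
    simp only [zero_smul, zero_add, mul_zero, sub_zero, mul_one] at this
    rw [one_smul] at this ⊢
    rw [this]; abel
  have hVi : hermForm 3 F q (suMat V *ᵥ e) (suMat V *ᵥ e) = 0 := by rw [suMat_h]; exact Φ.hyp.1
  have hVn : hermForm 3 F q (suMat V *ᵥ e) e ≠ 0 := by
    rw [hVe, (Φ.coords hF 1 a' β').1]
    intro h
    have := hV.trace hF (Φ.symm hF)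
    rw [h, zero_pow (q_ne_zero hF), zero_add, zero_add, mul_eq_zero] at this
    rcases this with h | h
    · exact ha' h
    · exact ha' (eq_zero_of_pow_eq_zero h)
  obtain ⟨E₀, hE₀, hE₀f⟩ := orbitf _ hVi hVn
  have hef : ∃ k ∈ H, ∃ l : F, suMat k *ᵥ (l • e) = f := by
    refine ⟨E₀⁻¹ * V, mul_mem (inv_mem hE₀) hVH, (hermForm 3 F q (suMat V *ᵥ e) e)⁻¹, ?_⟩
    rw [suMat_mulVec_mul, mulVec_smul, mulVec_smul,
      show suMat E₀⁻¹ *ᵥ (suMat V *ᵥ e) = hermForm 3 F q (suMat V *ᵥ e) e • f by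
        conv_lhs => rw [← hE₀f]
        rw [suMat_inv_mulVec],
      smul_smul, inv_mul_cancel₀ hVn, one_smul]
  have orbit : ∀ x, hermForm 3 F q x x = 0 → ∃ k ∈ H, ∃ l : F, suMat k *ᵥ (l • e) = x := by
    intro x hx
    by_cases hxe : hermForm 3 F q x e = 0
    · have hd := Φ.dec hF x
      have h2' : hermForm 3 F q x z = 0 := by
        rw [hd] at hx
        simp [h_add_left, h_add_right hF, h_smul_left, h_smul_right hF, Φ.hyp.1, Φ.hyp.2.1,
          Φ.hyp.2.2, Φ.fe hF, Φ.zz, Φ.ze, Φ.zf, Φ.ez hF, Φ.fz hF, hxe, zero_pow (q_ne_zero hF)] at hx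
        rcases hx with h | h <;> first | exact h | exact h.1
      refine ⟨1, one_mem _, hermForm 3 F q x f, ?_⟩
      rw [suMat_one, one_mulVec]
      conv_rhs => rw [hd, hxe, h2', zero_smul, zero_smul, add_zero, add_zero]
    · obtain ⟨E, hE, hEx⟩ := orbitf x hx hxe
      obtain ⟨k, hk, l, hkl⟩ := hef
      refine ⟨E * k, mul_mem hE hk, hermForm 3 F q x e * l, ?_⟩
      rw [suMat_mulVec_mul, mul_smul, mulVec_smul, hkl, hEx]
  -- all transvections
  refine eq_top_iff.2 ?_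
  rw [← transSub_eq_top hF 3 (by norm_num) (fun h => h2 h.2)]
  refine (Subgroup.closure_le H).2 ?_
  rintro T ⟨v, c, hv, hT⟩
  by_cases hv0 : v = 0
  · have : T = 1 := suMat_ext fun x => by
      rw [hT, hv0, ut_mulVec, smul_zero, add_zero, suMat_one, one_mulVec]
    rw [this]; exact one_mem H
  have hc : c + c ^ q = 0 := by
    have hi : IsIso q (unitaryTransvection 3 q v c) := hT ▸ SU_isIso T
    have := (ut_isIso_iff hF hv0).1 hi
    rwa [hv, mul_zero, add_zero] at this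
  obtain ⟨k, hk, l, hkl⟩ := orbit v hv
  obtain ⟨E₁, hE₁, h₁⟩ := hZ (c * (l * l ^ q)) (by
    rw [mul_pow, mul_pow, pow_q_pow_q hF]; linear_combination (l * l ^ q) * hc)
  have : T = k * E₁ * k⁻¹ := suMat_ext fun x => by
    rw [hT, ut_mulVec, suMat_mulVec_mul, suMat_mulVec_mul, h₁, suMat_inv_h, ← hkl,
      zero_pow (q_ne_zero hF)]
    simp only [mulVec_smul, h_smul_right hF, mulVec_add, suMat_mulVec_inv, mul_zero, zero_smul,
      zero_mul, sub_zero, smul_smul, add_zero]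
    congr 2
    ring
  rw [this]
  exact mul_mem (mul_mem hk hE₁) (inv_mem hk)

end H37
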