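import Cfsg.Agent.H37.SU3Frame
import Cfsg.Agent.H37.SL3Gen

/-!
`SU₃(q)`, `q ≥ 3`, is generated by two conjugate regular unipotent elements.
-/

set_option autoImplicit false

namespace H37

open Matrix Cfsg H50

universe u

variable {F : Type u} [Field F] [Fintype F] {q : ℕ} (hF : Fintype.card F = q ^ 2)
  {e z f : Fin 3 → F}

include hF

theorem exists_uframe : ∃ e z f : Fin 3 → F, UFrame q e z f := by
  obtain ⟨c, hc⟩ := exists_norm_eq hF (c := (-1 : F)) (by rw [neg_pow_q hF, one_pow])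
  set e : Fin 3 → F := ![1, c, 0] with he
  have hiso : hermForm 3 F q e e = 0 := by
    simp [hermForm, he, Fin.sum_univ_three, zero_pow (q_ne_zero hF)]
    rw [← pow_succ', hc]
    ring
  have h0 : e ≠ 0 := fun h => by simpa [he] using congrFun h 0
  obtain ⟨f, hf⟩ := exists_hyp_partner hF h0 hiso
  obtain ⟨z, hz, hze, hzf⟩ := exists_norm_one_perp_hyp hF le_rfl hf
  exact ⟨e, z, f, hf, hz, hze, hzf⟩

/-- The element swapping the two isotropic points. -/
theorem exists_swap (Φ : UFrame q e z f) {s : F} (hs : s ≠ 0) :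
    ∃ k : SU 3 F q, suMat k *ᵥ e = s • f ∧ suMat k *ᵥ z = (-s ^ (q - 1)) • z := by
  set ε := -s ^ (q - 1) with hε
  set s' := (s ^ q)⁻¹ with hs'
  have hsq : s ^ q ≠ 0 := pow_ne_zero _ hs
  have hεε : ε * ε ^ q = 1 := by
    rw [hε, neg_pow_q hF, neg_mul_neg, ← pow_succ', ← pow_mul]
    have := FiniteField.pow_card_sub_one_eq_one s hs
    rw [hF] at this
    rw [← this]
    congr 1
    have := two_le hF
    have e1 : q ^ 2 - 1 = (q - 1) * (q + 1) := by
      obtain ⟨r, rfl⟩ : ∃ r, q = r + 1 := ⟨q - 1, by omega⟩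
      have h1 : (r + 1) ^ 2 = r * (r + 1 + 1) + 1 := by ring
      rw [h1]
      simp
    omega
  set M : Matrix (Fin 3) (Fin 3) F := vecMulVec (s • f) (fun j => f j ^ q) +
    vecMulVec (ε • z) (fun j => z j ^ q) + vecMulVec (s' • e) (fun j => e j ^ q) with hM
  have hMx : ∀ x, M *ᵥ x = (hermForm 3 F q x e * s') • e + (hermForm 3 F q x z * ε) • z +
      (hermForm 3 F q x f * s) • f := by
    intro x
    rw [hM, add_mulVec, add_mulVec, vecMulVec_pow_mulVec, vecMulVec_pow_mulVec, vecMulVec_pow_mulVec,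
      smul_smul, smul_smul, smul_smul]
    abel
  have hiso : IsIso q M := by
    intro x y
    conv_rhs => rw [Φ.dec hF x, Φ.dec hF y]
    rw [hMx, hMx]
    simp only [h_add_left, h_add_right hF, h_smul_left, h_smul_right hF, Φ.hyp.1, Φ.hyp.2.1,
      Φ.hyp.2.2, Φ.fe hF, Φ.zz, Φ.ze, Φ.zf, Φ.ez hF, Φ.fz hF, mul_pow]
    have h1 : s' * s ^ q = 1 := inv_mul_cancel₀ hsq
    have h2 : s * s' ^ q = 1 := by
      rw [hs', inv_pow, pow_q_pow_q hF, mul_inv_cancel₀ hs]
    linear_combination (hermForm 3 F q x e * hermForm 3 F q y f ^ q) * h1 +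
      (hermForm 3 F q x f * hermForm 3 F q y e ^ q) * h2 +
      (hermForm 3 F q x z * hermForm 3 F q y z ^ q) * hεε
  have hdet : M.det = 1 := by
    rw [det_of_frame hF Φ (D := !![0, 0, s'; 0, ε, 0; s, 0, 0])
      (by rw [hMx]; simp [Φ.hyp.1, Φ.ez hF, Φ.hyp.2.2])
      (by rw [hMx]; simp [Φ.zz, Φ.ze, Φ.zf])
      (by rw [hMx]; simp [Φ.hyp.2.1, Φ.fe hF, Φ.fz hF]), Matrix.det_fin_three]
    simp
    have e1 : s * s ^ (q - 1) = s ^ q := by
      rw [← pow_succ', show q - 1 + 1 = q by have := two_le hF; omega]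
    rw [hε, hs']
    field_simp
    linear_combination e1
  refine ⟨mkSU M hiso hdet, ?_, ?_⟩
  · show M *ᵥ e = _
    rw [hMx, Φ.hyp.1, Φ.ez hF, Φ.hyp.2.2]; simp
  · show M *ᵥ z = _
    rw [hMx, Φ.zz, Φ.ze, Φ.zf]; simp [hε]

/-- Conjugating to the opposite root group with prescribed parameters. -/
theorem exists_conj_opposite (Φ : UFrame q e z f) {E : SU 3 F q} {a β a' β' s : F}
    (hE : IsEi e z E a β) (hs : s ≠ 0) (ha : a' = -(a * s ^ (2 * q - 1))) (ha' : a' ≠ 0)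
    (htr : β' + β' ^ q + a' * a' ^ q = 0) :
    ∃ k : SU 3 F q, IsEi f z (k * E * k⁻¹) a' β' := by
  obtain ⟨k, hke, hkz⟩ := exists_swap hF Φ hs
  set ε := -s ^ (q - 1) with hε
  have ha2 : a' = s ^ q * a * ε := by
    rw [ha, hε, show 2 * q - 1 = q + (q - 1) by have := two_le hF; omega, pow_add]; ring
  have h0 : IsEi f z (k * E * k⁻¹) a' (β * (s * s ^ q)) := by
    intro x
    set y := suMat k⁻¹ *ᵥ x with hy
    have hx : suMat k *ᵥ y = x := suMat_mulVec_inv k x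
    have hye : hermForm 3 F q y e = hermForm 3 F q x f * s ^ q := by
      rw [← suMat_h k y e, hx, hke, h_smul_right hF, mul_comm]
    have hyz : hermForm 3 F q y z = hermForm 3 F q x z * ε ^ q := by
      rw [← suMat_h k y z, hx, hkz, h_smul_right hF, mul_comm]
    rw [suMat_mulVec_mul, suMat_mulVec_mul, ← hy, hE, hye, hyz, mulVec_add, mulVec_add, mulVec_smul,
      mulVec_smul, hx, hke, hkz, ha2, mul_pow, mul_pow, pow_q_pow_q hF, smul_smul, smul_smul]
    module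
  set β₀ := β * (s * s ^ q)
  have htr0 := h0.trace hF (Φ.symm hF)
  set d := β' - β₀ with hd
  have hdq : d ^ q = -d := by
    rw [hd, sub_pow_q hF]; linear_combination htr - htr0
  obtain ⟨θ, hθ⟩ := exists_trace_eq hF (one_pow q)
  have haq : a' ^ q ≠ 0 := pow_ne_zero _ ha'
  set c := θ * d / a' ^ q with hc
  obtain ⟨γ, hγ⟩ := exists_trace_eq hF (c := -(c * c ^ q)) (by
    rw [neg_pow_q hF, mul_pow, pow_q_pow_q hF, mul_comm])
  obtain ⟨g, hg⟩ := exists_isEi hF (Φ.symm hF) (c := c) (γ := γ) (by linear_combination hγ)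
  refine ⟨g * k, ?_⟩
  have h1 := (hg.mul hF (Φ.symm hF) h0).mul hF (Φ.symm hF) (hg.inv hF (Φ.symm hF))
  rw [show g * (k * E * k⁻¹) * g⁻¹ = g * k * E * (g * k)⁻¹ by group] at h1
  have ec : c + a' + -c = a' := by ring
  have h3 : c ^ q = θ ^ q * -d / a' := by rw [hc, div_pow, mul_pow, hdq, pow_q_pow_q hF]
  have k1 : θ ^ q * -d / a' * a' = θ ^ q * -d := div_mul_cancel₀ _ ha'
  have k2 : a' ^ q * c = θ * d := by rw [hc, mul_comm, div_mul_cancel₀ _ haq]
  have eg : γ + β₀ - c ^ q * a' + γ ^ q - (c + a') ^ q * -c = β' := by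
    rw [h3] at hγ
    rw [add_pow_q hF, h3]
    linear_combination hγ - k1 + k2 + d * hθ + hd
  rw [ec, eg] at h1
  exact h1

theorem regular_isEi (Φ : UFrame q e z f) {E : SU 3 F q} {a β : F} (hE : IsEi e z E a β)
    (ha : a ≠ 0) :
    IsNilpotent (suMat E - 1) ∧ (suMat E - 1) ^ (3 - 1) ≠ 0 := by
  refine ⟨⟨3, Borel3.sub_one_cube hF (Φ.hyp.fst_ne_zero hF) Φ.hyp.1 ?_⟩, fun h => ?_⟩
  · rw [hE, Φ.hyp.1, Φ.ez hF]; simp
  have hD : ∀ x, (suMat E - 1) *ᵥ x = (hermForm 3 F q x e * a) • z +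
      (β * hermForm 3 F q x e - a ^ q * hermForm 3 F q x z) • e := fun x => by
    rw [sub_mulVec, one_mulVec, hE]; abel
  have := congrArg (fun M => hermForm 3 F q (M *ᵥ f) f) h
  simp only [show (3 : ℕ) - 1 = 2 from rfl, pow_two, ← mulVec_mulVec, hD, zero_mulVec, h_zero_left] at this
  simp [h_add_left, h_smul_left, Φ.hyp.1, Φ.hyp.2.2, Φ.fe hF, Φ.zz, Φ.ze, Φ.zf, Φ.ez hF, Φ.fz hF,
    ha, pow_q_eq_zero hF] at this
  rw [← neg_smul, h_smul_left, Φ.hyp.2.2] at this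
  simp [ha, pow_q_eq_zero hF] at this

theorem stepE (Φ : UFrame q e z f) {g : SU 3 F q} {c γ : F} (h : IsEi e z g c γ)
    (x₁ x₂ x₃ : F) {y₁ y₂ : F} (e1 : x₁ + γ * x₃ - c ^ q * x₂ = y₁) (e2 : x₂ + c * x₃ = y₂) :
    suMat g *ᵥ (x₁ • e + x₂ • z + x₃ • f) = y₁ • e + y₂ • z + x₃ • f := by
  rw [h.apply_comb hF Φ, e1, e2]

theorem stepF (Φ : UFrame q e z f) {g : SU 3 F q} {c γ : F} (h : IsEi f z g c γ)
    (x₁ x₂ x₃ : F) {y₂ y₃ : F} (e2 : x₂ + c * x₁ = y₂) (e3 : x₃ + γ * x₁ - c ^ q * x₂ = y₃) :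
    suMat g *ᵥ (x₁ • e + x₂ • z + x₃ • f) = x₁ • e + y₂ • z + y₃ • f := by
  rw [show x₁ • e + x₂ • z + x₃ • f = x₃ • f + x₂ • z + x₁ • e by abel, h.apply_comb hF (Φ.symm hF),
    e2, e3]
  abel

omit hF in
/-- The conclusion. -/
def SU3Two (F : Type u) [Field F] [Fintype F] (q : ℕ) : Prop :=
  ∃ u g : SU 3 F q, (IsNilpotent (suMat u - 1) ∧ (suMat u - 1) ^ (3 - 1) ≠ 0) ∧
    Subgroup.closure ({u, g * u * g⁻¹} : Set (SU 3 F q)) = ⊤

omit hF in
/-- Two root elements at opposite points generating everything. -/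
def SU3Pair (F : Type u) [Field F] [Fintype F] (q : ℕ) : Prop :=
  ∃ (e z f : Fin 3 → F) (a β a' β' : F), UFrame q e z f ∧ a ≠ 0 ∧ a' ≠ 0 ∧
    β + β ^ q + a * a ^ q = 0 ∧ β' + β' ^ q + a' * a' ^ q = 0 ∧
    ((2 : F) = 0 ∨ a' / a + (a' / a) ^ q ≠ 0) ∧
    ∀ E V : SU 3 F q, IsEi e z E a β → IsEi f z V a' β' →
      Subgroup.closure ({E, V} : Set (SU 3 F q)) = ⊤

/-- Assembling from parameters and a word. -/
theorem su3Two_of (Φ : UFrame q e z f) (h2 : q ≠ 2) {a β a' β' s L : F}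
    (htr : β + β ^ q + a * a ^ q = 0) (ha : a ≠ 0) (hs : s ≠ 0)
    (has : a' = -(a * s ^ (2 * q - 1))) (htr' : β' + β' ^ q + a' * a' ^ q = 0)
    (hM : (2 : F) = 0 ∨ a' / a + (a' / a) ^ q ≠ 0)
    (hgen : Subfield.closure ({L ^ (2 * q - 1)} : Set F) = ⊤)
    (hword : ∀ E V : SU 3 F q, IsEi e z E a β → IsEi f z V a' β' →
      ∃ g ∈ Subgroup.closure ({E, V} : Set (SU 3 F q)), suMat g *ᵥ e = L • e) :
    SU3Two F q ∧ SU3Pair F q := by
  have ha' : a' ≠ 0 := by rw [has]; exact neg_ne_zero.2 (mul_ne_zero ha (pow_ne_zero _ hs))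
  obtain ⟨E, hE⟩ := exists_isEi hF Φ htr
  obtain ⟨k, hk⟩ := exists_conj_opposite hF Φ hE hs has ha' htr'
  have key : ∀ E V : SU 3 F q, IsEi e z E a β → IsEi f z V a' β' →
      Subgroup.closure ({E, V} : Set (SU 3 F q)) = ⊤ := fun E V hE hV => by
    obtain ⟨g, hg, hge⟩ := hword E V hE hV
    exact su3_top hF Φ h2 _ hE (Subgroup.subset_closure (Or.inl rfl)) ha hV
      (Subgroup.subset_closure (Or.inr rfl)) ha' hg hge hgen
  exact ⟨⟨E, k, regular_isEi hF Φ hE ha, key E _ hE hk⟩,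
    e, z, f, a, β, a', β', Φ, ha, ha', htr, htr', hM, key⟩

omit hF in
theorem su3_arith (q : ℕ) (hq : q < 25) (k : ℕ) (hk : k < 9) : 2 ≤ k → k ^ 3 ≤ q ^ 2 →
    q + 1 ∣ 3 * (k - 1) → k ∣ q ^ 2 → q = 2 ∨ q = 5 ∨ q = 8 := by
  have key : ∀ q : Fin 25, ∀ k : Fin 9, 2 ≤ k.1 → k.1 ^ 3 ≤ q.1 ^ 2 →
      q.1 + 1 ∣ 3 * (k.1 - 1) → k.1 ∣ q.1 ^ 2 → q.1 = 2 ∨ q.1 = 5 ∨ q.1 = 8 := by decide +kernel
  exact key ⟨q, hq⟩ ⟨k, hk⟩

/-- The generic case. -/
theorem su3Two_generic (hq : 3 ≤ q) (h5 : q ≠ 5) (h8 : q ≠ 8) :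
    SU3Two F q ∧ SU3Pair F q := by
  classical
  obtain ⟨e, z, f, Φ⟩ := exists_uframe hF
  obtain ⟨g, hg⟩ := IsCyclic.exists_generator (α := Fˣ)
  have hord : orderOf g = q ^ 2 - 1 := by
    rw [orderOf_eq_card_of_forall_mem_zpowers hg, Nat.card_units, Nat.card_eq_fintype_card, hF]
  have hsub : q ^ 2 - 1 = (q - 1) * (q + 1) := by
    obtain ⟨r, rfl⟩ : ∃ r, q = r + 1 := ⟨q - 1, by omega⟩
    have h1 : (r + 1) ^ 2 = r * (r + 1 + 1) + 1 := by ring
    rw [h1]; simp
  set x := (g : F) with hx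
  have hx0 : x ≠ 0 := g.ne_zero
  set B := x ^ q with hB
  have hBq : B ^ q = x := pow_q_pow_q hF x
  have hB0 : B ≠ 0 := pow_ne_zero _ hx0
  have hT : B + x ≠ 0 := by
    intro h
    have h' : (g ^ (2 * (q - 1)) : Fˣ) = 1 := by
      apply Units.ext
      rw [Units.val_pow_eq_pow_val, Units.val_one, mul_comm, pow_mul]
      have e1 : x ^ (q - 1) * x = -x := by
        rw [← pow_succ, show q - 1 + 1 = q by omega, ← hB]; linear_combination h
      have e2 : x ^ (q - 1) = -1 := mul_right_cancel₀ hx0 (by rw [e1]; ring)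
      rw [e2]; ring
    have := Nat.le_of_dvd (by omega) (orderOf_dvd_of_pow_eq_one h')
    rw [hord, hsub] at this
    have h3 : (q - 1) * (q + 1) ≤ (q - 1) * 2 := by rw [mul_comm (q - 1) 2]; exact this
    have := Nat.le_of_mul_le_mul_left h3 (by omega)
    omega
  set n := -(B + x) with hn
  have hn0 : n ≠ 0 := neg_ne_zero.2 hT
  have hnq : n ^ q = n := by rw [hn, neg_pow_q hF, add_pow_q hF, hBq, ← hB]; ring
  obtain ⟨a', ha'⟩ := exists_norm_eq hF hnq
  have hN : a' * a' ^ q = n := by rw [← pow_succ', ha']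
  have ha'0 : a' ≠ 0 := fun h => hn0 (by rw [← hN, h, zero_mul])
  set r := B * x with hr
  have hr0 : r ≠ 0 := mul_ne_zero hB0 hx0
  have hrq : r ^ q = r := by rw [hr, mul_pow, hBq, ← hB, mul_comm]
  set a := a' * n / r with ha
  set L := B / x with hL
  set β := (L - 1 + a' * a ^ q) / B with hβ
  have haq : a ^ q = a' ^ q * n / r := by rw [ha, div_pow, mul_pow, hnq, hrq]
  have hLq : L ^ q = x / B := by rw [hL, div_pow, hBq, ← hB]
  set s := -(r / n) with hs
  have hsq : s ^ q = s := by rw [hs, neg_pow_q hF, div_pow, hnq, hrq]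
  have hspow : s ^ (2 * q - 1) = s := by
    have hs0 : s ≠ 0 := neg_ne_zero.2 (div_ne_zero hr0 hn0)
    refine mul_right_cancel₀ hs0 ?_
    rw [← pow_succ, show 2 * q - 1 + 1 = q + q by omega, pow_add, hsq]
  have htr : β + β ^ q + a * a ^ q = 0 := by
    rw [hβ, haq, div_pow, add_pow_q hF, sub_pow_q hF, one_pow, hBq, hLq, mul_pow, div_pow, mul_pow, hrq, hnq, pow_q_pow_q hF, ha]
    have hN' := hN
    rw [hr, hL]
    field_simp
    have hne : n + B + x = 0 := by rw [hn]; ring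
    linear_combination (n * (B + x + n)) * hN' + (n ^ 2) * hne
  refine su3Two_of hF Φ (by omega) (a := a) (β := β) (a' := a') (β' := B) (s := s) (L := L) htr
    (div_ne_zero (mul_ne_zero ha'0 hn0) hr0) (neg_ne_zero.2 (div_ne_zero hr0 hn0)) ?_ ?_ ?_ ?_ ?_
  · rw [hspow, ha, hs]; field_simp
  · rw [hBq, hN, hn]; ring
  · refine or_iff_not_imp_left.2 fun h2 => ?_
    have e1 : a' / a = r / n := by rw [ha]; field_simp
    rw [e1, div_pow, hrq, hnq, ← two_mul]
    exact mul_ne_zero h2 (div_ne_zero hr0 hn0)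
  · refine closure_eq_top_of_forall fun K hK => ?_
    by_contra hne
    haveI := Fintype.ofFinite K
    have hL3 : L ^ 3 ∈ K := by
      have h1 : L * L ^ q = 1 := by rw [hLq, hL]; field_simp
      have h2 : L ^ (2 * q - 1) * L ^ 3 = 1 := by
        rw [← pow_add, show 2 * q - 1 + 3 = (q + 1) * 2 by omega, pow_mul, pow_succ' L, h1, one_pow]
      rw [eq_inv_of_mul_eq_one_right h2]
      exact K.inv_mem hK
    have hLg : L = ((g ^ (q - 1) : Fˣ) : F) := by
      rw [Units.val_pow_eq_pow_val, hL, eq_comm, eq_div_iff hx0, ← pow_succ,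
        show q - 1 + 1 = q by omega]
    set k := Fintype.card K with hk
    have hk1 : 1 < k := Fintype.one_lt_card
    have hdvd : q + 1 ∣ 3 * (k - 1) := by
      have hne0 : (⟨_, hL3⟩ : K) ≠ 0 := fun h0 => by
        have := congrArg Subtype.val h0
        simp [hLg] at this
      have hu := congrArg Subtype.val (FiniteField.pow_card_sub_one_eq_one (⟨_, hL3⟩ : K) hne0)
      simp only [SubmonoidClass.coe_pow, OneMemClass.coe_one] at hu
      have h' : g ^ ((q - 1) * (3 * (k - 1))) = 1 := Units.ext (by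
        rw [pow_mul, pow_mul, Units.val_pow_eq_pow_val, Units.val_pow_eq_pow_val, ← hLg, hk]
        exact hu)
      have := orderOf_dvd_of_pow_eq_one h'
      rw [hord, hsub] at this
      exact Nat.dvd_of_mul_dvd_mul_left (by omega) this
    have hkk := sq_card_subfield_le hne
    rw [Nat.card_eq_fintype_card, hF, ← sq, ← hk] at hkk
    have hkq : k ≤ q := by nlinarith
    have hd := Module.card_eq_pow_finrank (K := K) (V := F)
    rw [hF, ← hk] at hd
    set d := Module.finrank K F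
    rcases eq_or_lt_of_le hkq with hkq' | hlt
    · rw [hkq'] at hdvd
      have h6 : q + 1 ∣ 6 := by
        have hh : q + 1 ∣ 3 * (q - 1) + 6 - 3 * (q - 1) := by
          refine Nat.dvd_sub ?_ hdvd
          rw [show 3 * (q - 1) + 6 = (q + 1) * 3 by omega]
          exact Dvd.intro _ rfl
        simpa using hh
      have := Nat.le_of_dvd (by norm_num) h6
      have hq6 : q ≤ 5 := by omega
      interval_cases q <;> omega
    · have hd3 : 3 ≤ d := by
        by_contra hlt'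
        have h1 : k ^ d ≤ k ^ 2 := Nat.pow_le_pow_right (by omega) (by omega)
        rw [← hd] at h1
        nlinarith
      have hk3 : k ^ 3 ≤ q ^ 2 := hd ▸ Nat.pow_le_pow_right (by omega) hd3
      have hle := Nat.le_of_dvd (by omega) hdvd
      have hq25 : q < 25 := by
        by_contra hge
        have h3 : q + 4 ≤ 3 * k := by omega
        have h4 : (q + 4) ^ 3 ≤ (3 * k) ^ 3 := Nat.pow_le_pow_left h3 3
        nlinarith
      have hk9 : k < 9 := by
        by_contra hge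
        have h4 : 9 ^ 3 ≤ k ^ 3 := Nat.pow_le_pow_left (by omega) 3
        nlinarith
      rcases su3_arith q hq25 k hk9 hk1 hk3 hdvd (hd ▸ dvd_pow_self k (by omega)) with h | h | h <;>
        omega
  · intro E V hE hV
    refine ⟨V * E * V, mul_mem (mul_mem (Subgroup.subset_closure (Or.inr rfl))
      (Subgroup.subset_closure (Or.inl rfl))) (Subgroup.subset_closure (Or.inr rfl)), ?_⟩
    have he : e = (1 : F) • e + (0 : F) • z + (0 : F) • f := by simp
    rw [suMat_mulVec_mul, suMat_mulVec_mul]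
    conv_lhs => rw [he]
    have hne : n + B + x = 0 := by rw [hn]; ring
    rw [stepF hF Φ hV 1 0 0 (y₂ := a') (y₃ := B) (by ring) (by ring),
      stepE hF Φ hE 1 a' B (y₁ := L) (y₂ := -(L * a'))
        (by rw [hβ, div_mul_cancel₀ _ hB0]; ring)
        (by rw [ha, hL, hr]; field_simp; linear_combination hne),
      stepF hF Φ hV L (-(L * a')) B (y₂ := 0) (y₃ := 0) (by ring)
        (by rw [hL]; field_simp; linear_combination B * hN + B * hne)]
    simp

theorem closure_of_ne_frob {ν : F} {S : ℕ → Prop} (hS : ∀ K : Subfield F, ν ∈ K → K ≠ ⊤ →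
    ∃ k, S k ∧ ν ^ k = ν) (hν : ∀ k, S k → ν ^ k ≠ ν) :
    Subfield.closure ({ν} : Set F) = ⊤ := by
  refine closure_eq_top_of_forall fun K hK => by_contra fun hne => ?_
  obtain ⟨k, hk, h⟩ := hS K hK hne
  exact hν k hk h

theorem subfield_frob {K : Subfield F} {ν : F} (hK : ν ∈ K) (hne : K ≠ ⊤) :
    ∃ k, (2 ≤ k ∧ k ≤ q ∧ k ∣ q ^ 2) ∧ ν ^ k = ν := by
  haveI := Fintype.ofFinite K
  refine ⟨Fintype.card K, ⟨Fintype.one_lt_card, ?_, ?_⟩, ?_⟩
  · have hkk := sq_card_subfield_le hne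
    rw [Nat.card_eq_fintype_card, hF] at hkk
    nlinarith
  · rw [← hF, Module.card_eq_pow_finrank (K := K) (V := F)]
    exact dvd_pow_self _ (Module.finrank_pos.ne')
  · exact congrArg Subtype.val (FiniteField.pow_card (⟨ν, hK⟩ : K))

theorem su3Two_five (h5' : q = 5) : SU3Two F q ∧ SU3Pair F q := by
  subst h5'
  classical
  obtain ⟨e, z, f, Φ⟩ := exists_uframe hF
  obtain ⟨p, n, hp, hn⟩ := H50.exists_prime_pow hF
  have h5 : (5 : F) = 0 := by
    have h25 : ((25 : ℕ) : F) = 0 := by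
      have := FiniteField.cast_card_eq_zero F
      rwa [hF] at this
    exact eq_zero_of_pow_eq_zero (n := 2) (by rw [← h25]; norm_num)
  have h2 : (2 : F) ≠ 0 := fun h => one_ne_zero (α := F) (by linear_combination h5 - 2 * h)
  have h3 : (3 : F) ≠ 0 := fun h => h2 (by linear_combination h5 - h)
  obtain ⟨r, hr⟩ : IsSquare (3 : F) := by
    have hc : ringChar F ≠ 2 := fun hc => h2 (by
      haveI := ringChar.of_eq hc
      exact_mod_cast CharP.cast_eq_zero F 2)
    rw [FiniteField.isSquare_iff hc h3, hF]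
    norm_num
    linear_combination (106288 : F) * h5
  obtain ⟨β, hβ⟩ : ∃ β : F, β ^ 2 + β + 2 = 0 :=
    ⟨(r - 1) / 2, by field_simp; linear_combination -hr + 2 * h5⟩
  have hb5 : β ^ 5 = -1 - β := by linear_combination (β ^ 3 - β ^ 2 - β + 3) * hβ - h5
  have hν : (2 + 2 * β) ^ 9 = β + 3 := by
    have p2 : (2 + 2 * β) ^ 2 = 1 + 4 * β := by linear_combination 4 * hβ - h5
    have p4 : (2 + 2 * β) ^ 4 = 4 + 2 * β := by
      rw [show (4 : ℕ) = 2 + 2 from rfl, pow_add, p2]; linear_combination 16 * hβ + (-7 - 2 * β) * h5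
    have p8 : (2 + 2 * β) ^ 8 = 3 + 2 * β := by
      rw [show (8 : ℕ) = 4 + 4 from rfl, pow_add, p4]; linear_combination 4 * hβ + (1 + 2 * β) * h5
    rw [pow_succ, p8]; linear_combination 4 * hβ + (-1 + β) * h5
  refine su3Two_of hF Φ (by norm_num) (a := 1) (β := β) (a' := 1) (β' := β) (s := -1) (L := 2 + 2 * β)
    (by rw [hb5]; ring) one_ne_zero (neg_ne_zero.2 one_ne_zero) (by norm_num) (by rw [hb5]; ring)
    (Or.inr (by rw [div_one, one_pow]; norm_num; exact h2)) ?_ ?_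
  · refine closure_of_ne_frob hF (S := fun k => 2 ≤ k ∧ k ≤ 5 ∧ k ∣ 5 ^ 2)
      (fun K hK hne => subfield_frob hF hK hne) ?_
    rw [show 2 * 5 - 1 = 9 from rfl, hν]
    rintro k ⟨hk2, hk5, hk⟩ h
    interval_cases k
    · norm_num at hk
    · norm_num at hk
    · norm_num at hk
    · -- `x ↦ x ^ 5` moves `β`
      have hfr : (β + 3) ^ 5 = 2 - β := by
        rw [add_pow_q hF, hb5]; linear_combination (48 : F) * h5
      rw [hfr] at h
      have hb : 2 * β + 1 = 0 := by linear_combination -h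
      exact h2 (by linear_combination (4 : F) * hβ - (2 * β + 1) * hb - h5)
  · intro E V hE hV
    have hEH : E ∈ Subgroup.closure ({E, V} : Set (SU 3 F 5)) := Subgroup.subset_closure (Or.inl rfl)
    have hVH : V ∈ Subgroup.closure ({E, V} : Set (SU 3 F 5)) := Subgroup.subset_closure (Or.inr rfl)
    refine ⟨V * E⁻¹ * (V * V * V) * E⁻¹ * (V * V * V), mul_mem (mul_mem (mul_mem (mul_mem hVH
      (inv_mem hEH)) (mul_mem (mul_mem hVH hVH) hVH)) (inv_mem hEH)) (mul_mem (mul_mem hVH hVH) hVH), ?_⟩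
    have hE' : IsEi e z E⁻¹ (-1) (-1 - β) := hb5 ▸ hE.inv hF Φ
    have hV3 : IsEi f z (V * V * V) 3 (3 * β - 3) := by
      have := (hV.mul hF (Φ.symm hF) hV).mul hF (Φ.symm hF) hV
      rw [one_pow, show (1 : F) + 1 + 1 = 3 by norm_num, add_pow_q hF, one_pow,
        show β + β - 1 * 1 + β - (1 + 1) * 1 = 3 * β - 3 by ring] at this
      exact this
    have t5 : (3 : F) ^ 5 = 3 := by linear_combination (48 : F) * h5
    have he : e = (1 : F) • e + (0 : F) • z + (0 : F) • f := by simp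
    rw [suMat_mulVec_mul, suMat_mulVec_mul, suMat_mulVec_mul, suMat_mulVec_mul]
    conv_lhs => rw [he]
    rw [stepF hF Φ hV3 1 0 0 (y₂ := 3) (y₃ := 2 + 3 * β) (by ring) (by linear_combination (-1) * h5),
      stepE hF Φ hE' 1 3 (2 + 3 * β) (y₁ := 3 + 3 * β) (y₂ := 1 + 2 * β)
        (by rw [Odd.neg_one_pow (by decide : Odd 5)]; linear_combination (-3) * hβ + (1 - β) * h5)
        (by linear_combination (-β) * h5),
      stepF hF Φ hV3 (3 + 3 * β) (1 + 2 * β) (2 + 3 * β) (y₂ := β) (y₃ := 2 + 3 * β)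
        (by linear_combination (2 + 2 * β) * h5)
        (by rw [t5]; linear_combination 9 * hβ + (-6 - 3 * β) * h5),
      stepE hF Φ hE' (3 + 3 * β) β (2 + 3 * β) (y₁ := 2 + 2 * β) (y₂ := 3 + 3 * β)
        (by rw [Odd.neg_one_pow (by decide : Odd 5)]; linear_combination (-3) * hβ + h5)
        (by linear_combination (-1 - β) * h5),
      stepF hF Φ hV (2 + 2 * β) (3 + 3 * β) (2 + 3 * β) (y₂ := 0) (y₃ := 0)
        (by linear_combination (1 + β) * h5)
        (by rw [one_pow]; linear_combination 2 * hβ - h5)]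
    simp

theorem su3Two_eight (h8' : q = 8) : SU3Two F q ∧ SU3Pair F q := by
  subst h8'
  classical
  obtain ⟨e, z, f, Φ⟩ := exists_uframe hF
  obtain ⟨g, hg⟩ := IsCyclic.exists_generator (α := Fˣ)
  have hord : orderOf g = 63 := by
    rw [orderOf_eq_card_of_forall_mem_zpowers hg, Nat.card_units, Nat.card_eq_fintype_card, hF]
    norm_num
  have h2 : (2 : F) = 0 := by
    have h64 : ((64 : ℕ) : F) = 0 := by
      have := FiniteField.cast_card_eq_zero F
      rwa [hF] at this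
    exact eq_zero_of_pow_eq_zero (n := 6) (by rw [← h64]; norm_num)
  have h63 : (g : F) ^ 63 = 1 := by
    rw [← Units.val_pow_eq_pow_val, ← hord, pow_orderOf_eq_one, Units.val_one]
  have hne : ∀ i, 0 < i → i < 63 → (g : F) ^ i ≠ 1 := fun i h0 h h' => by
    have := Nat.le_of_dvd h0 (orderOf_dvd_of_pow_eq_one (Units.ext (by
      rw [Units.val_pow_eq_pow_val, h', Units.val_one]) : g ^ i = 1))
    omega
  obtain ⟨r, hr⟩ : ∃ r, r = (g : F) ^ 7 := ⟨_, rfl⟩
  have hr0 : r ≠ 0 := hr ▸ pow_ne_zero _ g.ne_zero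
  obtain ⟨ω, hω'⟩ : ∃ ω, ω = r ^ 3 := ⟨_, rfl⟩
  have hω : ω ^ 2 + ω + 1 = 0 := by
    have h1 : (ω - 1) * (ω ^ 2 + ω + 1) = 0 := by
      have : ω ^ 3 = 1 := by rw [hω', hr, ← pow_mul, ← pow_mul, h63]
      linear_combination this
    refine (mul_eq_zero.1 h1).resolve_left (sub_ne_zero.2 ?_)
    rw [hω', hr, ← pow_mul]; exact hne _ (by norm_num) (by norm_num)
  obtain ⟨t, ht, ht1⟩ : ∃ t : F, t ^ 3 + t + 1 = 0 ∧ t ≠ 0 := by
    set s := (g : F) ^ 9 with hs
    have hs0 : s ≠ 0 := pow_ne_zero _ g.ne_zero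
    have h7 : s ^ 7 = 1 := by rw [hs, ← pow_mul, h63]
    have hs1 : s ≠ 1 := hne _ (by norm_num) (by norm_num)
    have h : (s - 1) * ((s ^ 3 + s + 1) * (s ^ 3 + s ^ 2 + 1)) = 0 := by
      linear_combination h7 + (s ^ 4 - s ^ 3) * h2
    rcases mul_eq_zero.1 h with h | h
    · exact absurd (sub_eq_zero.1 h) hs1
    rcases mul_eq_zero.1 h with h | h
    · exact ⟨s, h, hs0⟩
    · refine ⟨s⁻¹, ?_, inv_ne_zero hs0⟩
      field_simp
      linear_combination h
  have t8 : t ^ 8 = t := by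
    linear_combination (t ^ 5 - t ^ 3 - t ^ 2 + t + 2) * ht + (-1 - 2 * t) * h2
  have w8 : ω ^ 8 = ω ^ 2 := by
    linear_combination (ω ^ 6 - ω ^ 5 + ω ^ 3 - ω ^ 2) * hω
  set L := 1 + ω * t with hL
  have hν : L ^ 15 = ω + ω * t ^ 2 := by
    have p2 : L ^ 2 = 1 + t ^ 2 + ω * t ^ 2 := by
      rw [hL]; linear_combination t ^ 2 * hω + (-t ^ 2 + ω * t - ω * t ^ 2) * h2
    have p3 : L ^ 3 = t + t ^ 2 + ω * t + ω * t ^ 2 := by
      rw [pow_succ, p2, hL]; linear_combination t ^ 3 * hω + (-1) * ht + 1 * h2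
    have p6 : L ^ 6 = ω * t := by
      rw [show (6 : ℕ) = 3 + 3 from rfl, pow_add, p3]
      linear_combination (t ^ 2 + 2 * t ^ 3 + t ^ 4) * hω + (2 * ω + ω * t) * ht +
        (-ω - 2 * ω * t) * h2
    have p12 : L ^ 12 = t ^ 2 + ω * t ^ 2 := by
      rw [show (12 : ℕ) = 6 + 6 from rfl, pow_add, p6]
      linear_combination t ^ 2 * hω + (-t ^ 2 - ω * t ^ 2) * h2
    rw [show (15 : ℕ) = 12 + 3 from rfl, pow_add, p12, p3]
    linear_combination (t ^ 3 + t ^ 4) * hω + (ω + ω * t) * ht + (-ω - ω * t - ω * t ^ 2) * h2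
  have hne1 : t ^ 2 ≠ t := fun h => by
    rcases mul_eq_zero.1 (show t * (t - 1) = 0 by linear_combination h) with h | h
    · exact ht1 h
    · exact one_ne_zero (α := F) (by
        have e := sub_eq_zero.1 h
        rw [e] at ht
        linear_combination ht - h2)
  have hωt2 : (ω * t) ^ 8 = ω ^ 2 * t := by rw [mul_pow, w8, t8]
  refine su3Two_of hF Φ (by norm_num) (a := 1) (β := ω) (a' := ω * t) (β' := t ^ 2 * ω ^ 2)
    (s := r ^ 2 * t) (L := L) ?_ one_ne_zero (mul_ne_zero (pow_ne_zero _ hr0) ht1) ?_ ?_ (Or.inl h2) ?_ ?_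
  · rw [w8, one_pow]; linear_combination hω
  · rw [show 2 * 8 - 1 = 15 from rfl, mul_pow, show t ^ 15 = t ^ 8 * t ^ 7 from by rw [← pow_add], t8,
      ← pow_succ', t8, ← pow_mul, one_mul,
      show r ^ (2 * 15) = r ^ 3 * (r ^ 9) ^ 3 by rw [← pow_mul, ← pow_add],
      show r ^ 9 = 1 by rw [hr, ← pow_mul, h63], one_pow, mul_one, ← hω']
    linear_combination (ω * t) * h2
  · rw [mul_pow (t ^ 2), ← pow_mul ω, mul_comm 2 8, pow_mul ω, w8, ← pow_mul t, mul_comm 2 8, pow_mul,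
      t8, hωt2]
    linear_combination (t ^ 2 * ω ^ 2) * hω + (-t ^ 2 * ω ^ 3 + t ^ 2 * ω ^ 3) * h2
  · refine closure_of_ne_frob hF (S := fun k => 2 ≤ k ∧ k ≤ 8 ∧ k ∣ 8 ^ 2)
      (fun K hK hne => subfield_frob hF hK hne) ?_
    rw [show 2 * 8 - 1 = 15 from rfl, hν]
    rintro k ⟨hk2, hk8, hk⟩ h
    set ν := ω + ω * t ^ 2 with hν'
    have n8 : ν ^ 8 = ω ^ 2 * (1 + t ^ 2) := by
      rw [hν', add_pow_q hF, mul_pow, w8, ← pow_mul, mul_comm 2 8, pow_mul, t8]; ring
    have n4 : ν ^ 4 = ω * (1 + t) := by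
      linear_combination (ω ^ 2 * (1 + t ^ 2) ^ 4 - ω * (1 + t ^ 2) ^ 4) * hω + ω * t8 +
        (ω * (2 * t ^ 2 + 3 * t ^ 4 + 2 * t ^ 6)) * h2
    have hω0 : ω ≠ 0 := hω' ▸ pow_ne_zero _ hr0
    have bad4 : ν ^ 4 ≠ ν := fun h4 => hne1 (by
      rw [n4, hν'] at h4
      exact mul_left_cancel₀ hω0 (by linear_combination -h4))
    interval_cases k
    · exact bad4 (by rw [show (4 : ℕ) = 2 * 2 from rfl, pow_mul, h, h])
    · norm_num at hk
    · exact bad4 h
    · norm_num at hk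
    · norm_num at hk
    · norm_num at hk
    · rw [n8, hν'] at h
      have h3 : (1 + t ^ 2) * (ω * (ω - 1)) = 0 := by linear_combination h
      rcases mul_eq_zero.1 h3 with h | h
      · exact hne1 (by
          have e : t ^ 2 = 1 := by linear_combination h - h2
          have e2 : t * t ^ 2 + t + 1 = 0 := by linear_combination ht
          rw [e] at e2
          exact absurd e2 (fun e2 => one_ne_zero (α := F) (by linear_combination e2 - t * h2)))
      · rcases mul_eq_zero.1 h with h | h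
        · exact hω0 h
        · exact one_ne_zero (α := F) (by linear_combination hω - (ω + 2) * h - h2)
  · intro E V hE hV
    have hEH : E ∈ Subgroup.closure ({E, V} : Set (SU 3 F 8)) := Subgroup.subset_closure (Or.inl rfl)
    have hVH : V ∈ Subgroup.closure ({E, V} : Set (SU 3 F 8)) := Subgroup.subset_closure (Or.inr rfl)
    refine ⟨V * E * V * E * V * E * (V * V), mul_mem (mul_mem (mul_mem (mul_mem (mul_mem (mul_mem hVH
      hEH) hVH) hEH) hVH) hEH) (mul_mem hVH hVH), ?_⟩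
    have hV2 : IsEi f z (V * V) 0 (t ^ 2) := by
      have := hV.mul hF (Φ.symm hF) hV
      rw [show ω * t + ω * t = 0 by linear_combination (ω * t) * h2, hωt2,
        show t ^ 2 * ω ^ 2 + t ^ 2 * ω ^ 2 - ω ^ 2 * t * (ω * t) = t ^ 2 by
          linear_combination (-t ^ 2 * (ω - 1)) * hω + (t ^ 2 * ω ^ 2 - t ^ 2) * h2] at this
      exact this
    have he : e = (1 : F) • e + (0 : F) • z + (0 : F) • f := by simp
    rw [suMat_mulVec_mul, suMat_mulVec_mul, suMat_mulVec_mul, suMat_mulVec_mul, suMat_mulVec_mul,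
      suMat_mulVec_mul]
    conv_lhs => rw [he]
    rw [stepF hF Φ hV2 1 0 0 (y₂ := 0) (y₃ := t ^ 2) (by ring) (by ring),
      stepE hF Φ hE 1 0 (t ^ 2) (y₁ := 1 + ω * t ^ 2) (y₂ := t ^ 2) (by ring) (by ring),
      stepF hF Φ hV (1 + ω * t ^ 2) (t ^ 2) (t ^ 2) (y₂ := 1 + t + t ^ 2 + ω)
        (y₃ := 1 + t ^ 2 + ω + ω * t + ω * t ^ 2)
        (by linear_combination t ^ 3 * hω + (-1 - ω) * ht + (ω * t) * h2)
        (by rw [hωt2]; linear_combination (t ^ 2 - t ^ 3 - t ^ 4 + ω * t ^ 4) * hω + (1 + t + ω) * ht +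
          (-1 - t - t ^ 2 - ω - ω * t - ω * t ^ 2) * h2),
      stepE hF Φ hE (1 + ω * t ^ 2) (1 + t + t ^ 2 + ω) (1 + t ^ 2 + ω + ω * t + ω * t ^ 2)
        (y₁ := 1 + ω + ω * t + ω * t ^ 2) (y₂ := t + ω * t + ω * t ^ 2)
        (by rw [one_pow]; linear_combination (1 + t + t ^ 2) * hω + (-1 - t - t ^ 2 - ω - ω * t) * h2)
        (by linear_combination (1 + t ^ 2 + ω) * h2),
      stepF hF Φ hV (1 + ω + ω * t + ω * t ^ 2) (t + ω * t + ω * t ^ 2)
        (1 + t ^ 2 + ω + ω * t + ω * t ^ 2) (y₂ := 1 + t + t ^ 2 + ω)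
        (y₃ := 1 + t + ω + ω * t + ω * t ^ 2)
        (by linear_combination (t + t ^ 2 + t ^ 3) * hω + (-1 - ω) * ht + (-t ^ 2 + ω * t) * h2)
        (by rw [hωt2]; linear_combination (-t ^ 4 + ω * t ^ 4) * hω + t * ht + (-t) * h2),
      stepE hF Φ hE (1 + ω + ω * t + ω * t ^ 2) (1 + t + t ^ 2 + ω) (1 + t + ω + ω * t + ω * t ^ 2)
        (y₁ := 1 + ω * t) (y₂ := t ^ 2 + ω * t + ω * t ^ 2)
        (by rw [one_pow]; linear_combination (1 + t + t ^ 2) * hω + (-1 - t - t ^ 2) * h2)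
        (by linear_combination (1 + t + ω) * h2),
      stepF hF Φ hV (1 + ω * t) (t ^ 2 + ω * t + ω * t ^ 2) (1 + t + ω + ω * t + ω * t ^ 2)
        (y₂ := 0) (y₃ := 0)
        (by linear_combination t ^ 2 * hω + (ω * t) * h2)
        (by rw [hωt2]; linear_combination (2 * t ^ 2 - t ^ 3 - ω * t ^ 2) * hω + (1 + ω) * ht +
          (-t ^ 2) * h2)]
    simp [hL]

theorem exists_su3Two_pair (hq : 3 ≤ q) : SU3Two F q ∧ SU3Pair F q := by
  by_cases h5 : q = 5
  · exact su3Two_five hF h5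
  by_cases h8 : q = 8
  · exact su3Two_eight hF h8
  exact su3Two_generic hF hq h5 h8

theorem exists_su3Two (hq : 3 ≤ q) : SU3Two F q := (exists_su3Two_pair hF hq).1

theorem exists_su3Pair (hq : 3 ≤ q) : SU3Pair F q := (exists_su3Two_pair hF hq).2

end H37
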