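import Cfsg.Agent.H50.Hyperbolic
import Cfsg.Agent.H50.Transvection
import Cfsg.Agent.H51.UnipotentGU

/-!
A regular unipotent of `SU_n`, `n = 2m + 1`, with its chain basis and Gram relations.
-/

set_option autoImplicit false

namespace H37

open Matrix Cfsg H50

universe u

variable {F : Type u} [Field F] {q n : ℕ}

/-- The chain basis `ε k = (u - 1) ^ k x` of a regular unipotent. -/
structure RChain (u : SU n F q) (ε : ℕ → Fin n → F) : Prop where
  step : ∀ k, suMat u *ᵥ ε k = ε k + ε (k + 1)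
  vanish : ∀ k, n ≤ k → ε k = 0
  li : LinearIndependent F fun i : Fin n => ε i

/-- The span of the chain from level `a` on. -/
def chainTail (ε : ℕ → Fin n → F) (a : ℕ) : Submodule F (Fin n → F) :=
  Submodule.span F (ε '' Set.Ici a)

theorem mem_chainTail {ε : ℕ → Fin n → F} {a k : ℕ} (h : a ≤ k) : ε k ∈ chainTail ε a :=
  Submodule.subset_span ⟨k, h, rfl⟩

theorem chainTail_anti {ε : ℕ → Fin n → F} {a b : ℕ} (h : a ≤ b) :
    chainTail ε b ≤ chainTail ε a :=
  Submodule.span_mono (Set.image_mono (Set.Ici_subset_Ici.2 h))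

variable {u : SU n F q} {ε : ℕ → Fin n → F}

/-- `u - 1` as a linear map. -/
def nilMap (u : SU n F q) : (Fin n → F) →ₗ[F] (Fin n → F) := (suMat u - 1).mulVecLin

theorem nilMap_apply (u : SU n F q) (x : Fin n → F) : nilMap u x = suMat u *ᵥ x - x := by
  rw [nilMap, Matrix.mulVecLin_apply, Matrix.sub_mulVec, Matrix.one_mulVec]

theorem RChain.nil (C : RChain u ε) (k : ℕ) : nilMap u (ε k) = ε (k + 1) := by
  rw [nilMap_apply, C.step, add_sub_cancel_left]

theorem RChain.nil_iterate (C : RChain u ε) (j k : ℕ) : (nilMap u ^ j) (ε k) = ε (k + j) := by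
  induction j generalizing k with
  | zero => simp
  | succ j ih => rw [pow_succ, Module.End.mul_apply, C.nil, ih]; congr 1; omega

theorem RChain.span_top (C : RChain u ε) : chainTail ε 0 = ⊤ := by
  refine Submodule.eq_top_of_finrank_eq (le_antisymm (Submodule.finrank_le _) ?_)
  have h := finrank_span_eq_card C.li
  rw [Fintype.card_fin] at h
  rw [Module.finrank_fin_fun]
  refine h.symm.le.trans ?_
  refine Submodule.finrank_mono (Submodule.span_le.2 ?_)
  rintro _ ⟨i, rfl⟩
  exact mem_chainTail (Nat.zero_le _)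

theorem RChain.ext_lin (C : RChain u ε) {M : Type*} [AddCommGroup M] [Module F M]
    {f g : (Fin n → F) →ₗ[F] M} (h : ∀ k, k < n → f (ε k) = g (ε k)) : f = g := by
  refine LinearMap.ext_on (s := Set.range ε) (by
    have := C.span_top
    rwa [chainTail, Set.Ici, show {x | 0 ≤ x} = Set.univ from Set.eq_univ_of_forall Nat.zero_le,
      Set.image_univ] at this) ?_
  rintro _ ⟨k, rfl⟩
  by_cases hk : k < n
  · exact h k hk
  · show f (ε k) = g (ε k)
    rw [C.vanish k (by omega), map_zero, map_zero]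

theorem RChain.nil_tail (C : RChain u ε) {a : ℕ} {x : Fin n → F} (hx : x ∈ chainTail ε a) :
    nilMap u x ∈ chainTail ε (a + 1) := by
  have : chainTail ε a ≤ (chainTail ε (a + 1)).comap (nilMap u) := by
    refine Submodule.span_le.2 ?_
    rintro _ ⟨k, hk, rfl⟩
    show nilMap u (ε k) ∈ chainTail ε (a + 1)
    rw [C.nil]
    exact mem_chainTail (Nat.succ_le_succ hk)
  exact this hx

theorem RChain.exists_preimage (C : RChain u ε) {a : ℕ} {y : Fin n → F}
    (hy : y ∈ chainTail ε (a + 1)) : ∃ x ∈ chainTail ε a, nilMap u x = y := by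
  have : chainTail ε (a + 1) ≤ (chainTail ε a).map (nilMap u) := by
    refine Submodule.span_le.2 ?_
    rintro _ ⟨k, hk, rfl⟩
    obtain ⟨k, rfl⟩ := Nat.exists_eq_add_of_le (Set.mem_Ici.1 hk)
    exact ⟨ε (a + k), mem_chainTail (Nat.le_add_right _ _), by rw [C.nil]; congr 1; omega⟩
  obtain ⟨x, hx, h⟩ := this hy
  exact ⟨x, hx, h⟩

theorem RChain.fix (C : RChain u ε) (hn : 0 < n) : suMat u *ᵥ ε (n - 1) = ε (n - 1) := by
  rw [C.step, C.vanish (n - 1 + 1) (by omega), add_zero]

theorem RChain.isRegular (C : RChain u ε) (hn : 0 < n) :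
    IsNilpotent (suMat u - 1) ∧ (suMat u - 1) ^ (n - 1) ≠ 0 := by
  have hp : ∀ j, ((suMat u - 1) ^ j).mulVecLin = nilMap u ^ j := by
    intro j
    induction j with
    | zero => simp [Matrix.mulVecLin_one]; rfl
    | succ j ih => rw [pow_succ, pow_succ, Matrix.mulVecLin_mul, ih]; rfl
  refine ⟨⟨n, ?_⟩, fun h => ?_⟩
  · refine Matrix.toLin'.injective ?_
    rw [map_zero]
    show ((suMat u - 1) ^ n).mulVecLin = 0
    rw [hp]
    refine C.ext_lin fun k _ => ?_
    rw [C.nil_iterate, C.vanish _ (Nat.le_add_left _ _), LinearMap.zero_apply]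
  · have h1 := LinearMap.congr_fun (hp (n - 1)) (ε 0)
    rw [h, C.nil_iterate, Nat.zero_add] at h1
    refine C.li.ne_zero (⟨n - 1, by omega⟩ : Fin n) ?_
    simpa using h1.symm

section Finite

variable [Fintype F] (hF : Fintype.card F = q ^ 2)
include hF

omit hF in
theorem h_nil (u : SU n F q) (x y : Fin n → F) (hF : Fintype.card F = q ^ 2) :
    hermForm n F q (nilMap u x) y + hermForm n F q x (nilMap u y) +
      hermForm n F q (nilMap u x) (nilMap u y) = 0 := by
  have h := suMat_h u x y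
  rw [show suMat u *ᵥ x = x + nilMap u x by rw [nilMap_apply]; abel,
    show suMat u *ᵥ y = y + nilMap u y by rw [nilMap_apply]; abel, h_add_left, h_add_right hF,
    h_add_right hF] at h
  linear_combination h

/-- A regular unipotent with a chain exists. -/
theorem exists_rchain (hn : 0 < n) : ∃ (u : SU n F q) (ε : ℕ → Fin n → F), RChain u ε := by
  classical
  let e : ((_ : Fin 1) × Fin n) ≃ Fin n := Equiv.uniqueSigma _
  obtain ⟨u0, hu0⟩ := H51.exists_GU_of_type hF (fun _ : Fin 1 => n) e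
  set U0 := ((u0 : GL (Fin n) F) : Matrix (Fin n) (Fin n) F) with hU0
  have hrk : ∀ j, ((U0 - 1) ^ j).rank = n - j := fun j => by
    rw [H51.rank_of_isConj_jordanType e hu0 j]; simp
  have hz : (U0 - 1) ^ n = 0 := by rw [← H51.matrix_rank_eq_zero_iff, hrk, Nat.sub_self]
  have hnz : (U0 - 1) ^ (n - 1) ≠ 0 := fun h => by
    have := hrk (n - 1)
    rw [h, Matrix.rank_zero] at this
    omega
  obtain ⟨x, hx⟩ : ∃ x, (U0 - 1) ^ (n - 1) *ᵥ x ≠ 0 := by
    by_contra hno
    push Not at hno
    exact hnz (Matrix.ext_of_mulVec_single fun i => by rw [hno, Matrix.zero_mulVec])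
  set u := mkSU U0 (mem_GU.1 u0.2) (det_eq_one_of_sub_nilpotent ⟨n, hz⟩)
  set ε : ℕ → Fin n → F := fun k => (U0 - 1) ^ k *ᵥ x with hε
  have hvan : ∀ k, n ≤ k → ε k = 0 := fun k hk => by
    rw [hε]; simp [pow_eq_zero_of_le hk hz]
  refine ⟨u, ε, fun k => ?_, hvan, ?_⟩
  · show U0 *ᵥ ε k = ε k + (U0 - 1) ^ (k + 1) *ᵥ x
    rw [pow_succ', ← Matrix.mulVec_mulVec, Matrix.sub_mulVec, Matrix.one_mulVec]
    simp only [hε]
    abel
  · rw [Fintype.linearIndependent_iff]
    intro c hc i
    by_contra hi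
    obtain ⟨i₀, hi₀, hmin⟩ :=
      Finset.exists_min_image (Finset.univ.filter fun j => c j ≠ 0) (fun j : Fin n => (j : ℕ))
        ⟨i, by simpa using hi⟩
    simp only [Finset.mem_filter, Finset.mem_univ, true_and] at hi₀ hmin
    have h := congrArg (fun v => (U0 - 1) ^ (n - 1 - (i₀ : ℕ)) *ᵥ v) hc
    simp only [Matrix.mulVec_sum, Matrix.mulVec_smul, Matrix.mulVec_zero, hε,
      Matrix.mulVec_mulVec, ← pow_add] at h
    rw [Finset.sum_eq_single i₀] at h
    · rw [show n - 1 - (i₀ : ℕ) + i₀ = n - 1 by omega] at h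
      exact hx ((smul_eq_zero.1 h).resolve_left hi₀)
    · intro j _ hj
      by_cases hcj : c j = 0
      · rw [hcj, zero_smul]
      · have := hmin j hcj
        have hne : (j : ℕ) ≠ i₀ := fun h => hj (Fin.ext h)
        rw [pow_eq_zero_of_le (by omega) hz, Matrix.zero_mulVec, smul_zero]
    · simp

theorem RChain.h_fix_nil (C : RChain u ε) (hn : 0 < n) (x : Fin n → F) :
    hermForm n F q (nilMap u x) (ε (n - 1)) = 0 := by
  have h := h_nil u x (ε (n - 1)) hF
  rw [C.nil, C.vanish (n - 1 + 1) (by omega), h_zero_right hF, h_zero_right hF] at h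
  linear_combination h

theorem RChain.gram_vanish (C : RChain u ε) {a b : ℕ} (hab : n ≤ a + b) :
    hermForm n F q (ε a) (ε b) = 0 := by
  by_cases ha : n ≤ a
  · rw [C.vanish a ha, h_zero_left]
  suffices H : ∀ k a b, a < n → n ≤ a + b → n ≤ b + k → hermForm n F q (ε a) (ε b) = 0 from
    H n a b (by omega) hab (by omega)
  intro k
  induction k with
  | zero => intro a b _ _ hb; rw [C.vanish b (by omega), h_zero_right hF]
  | succ k ih =>
    intro a b ha hab hb
    by_cases hb' : n ≤ b + k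
    · exact ih a b ha hab hb'
    obtain ⟨a, rfl⟩ : ∃ a', a = a' + 1 := ⟨a - 1, by omega⟩
    have h := h_nil u (ε a) (ε b) hF
    rw [C.nil, C.nil, ih a (b + 1) (by omega) (by omega) (by omega),
      ih (a + 1) (b + 1) ha (by omega) (by omega)] at h
    linear_combination h

theorem RChain.tail_orth (C : RChain u ε) {a b : ℕ} {x y : Fin n → F} (hx : x ∈ chainTail ε a)
    (hy : y ∈ chainTail ε b) (hab : n ≤ a + b) : hermForm n F q x y = 0 := by
  have h1 : ∀ k, a ≤ k → hermForm n F q (ε k) y = 0 := by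
    intro k hk
    rw [h_eq_zero_comm hF]
    have : chainTail ε b ≤ LinearMap.ker (hLeft n q (ε k)) := by
      refine Submodule.span_le.2 ?_
      rintro _ ⟨l, hl, rfl⟩
      exact C.gram_vanish hF (by have := Set.mem_Ici.1 hl; omega)
    exact this hy
  have : chainTail ε a ≤ LinearMap.ker (hLeft n q y) := by
    refine Submodule.span_le.2 ?_
    rintro _ ⟨k, hk, rfl⟩
    exact h1 k hk
  exact this hx

theorem RChain.gram_anti (C : RChain u ε) {a b : ℕ} (hab : a + b + 1 = n) :
    hermForm n F q (ε a) (ε b) = (-1) ^ a * hermForm n F q (ε 0) (ε (n - 1)) := by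
  induction a generalizing b with
  | zero => rw [show b = n - 1 by omega, pow_zero, one_mul]
  | succ a ih =>
    have h := h_nil u (ε a) (ε b) hF
    rw [C.nil, C.nil, ih (b := b + 1) (by omega),
      C.gram_vanish hF (a := a + 1) (b := b + 1) (by omega)] at h
    rw [pow_succ]
    linear_combination h

theorem RChain.lead_ne_zero (C : RChain u ε) (hn : 0 < n) :
    hermForm n F q (ε 0) (ε (n - 1)) ≠ 0 := by
  intro h0
  refine C.li.ne_zero (⟨n - 1, by omega⟩ : Fin n) (eq_zero_of_h_right hF fun x => ?_)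
  have : chainTail ε 0 ≤ LinearMap.ker (hLeft n q (ε (n - 1))) := by
    refine Submodule.span_le.2 ?_
    rintro _ ⟨k, -, rfl⟩
    show hermForm n F q (ε k) (ε (n - 1)) = 0
    rcases Nat.eq_zero_or_pos k with rfl | hk
    · exact h0
    · exact C.gram_vanish hF (by omega)
  rw [C.span_top] at this
  exact this (Submodule.mem_top (x := x))

/-- The top power of `u - 1` reads off the product with the fixed vector. -/
theorem RChain.nil_top (C : RChain u ε) (hn : 0 < n) (x : Fin n → F) :
    (nilMap u ^ (n - 1)) x =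
      (hermForm n F q x (ε (n - 1)) / hermForm n F q (ε 0) (ε (n - 1))) • ε (n - 1) := by
  have := C.ext_lin (f := nilMap u ^ (n - 1))
    (g := ((hermForm n F q (ε 0) (ε (n - 1)))⁻¹ • hLeft n q (ε (n - 1))).smulRight (ε (n - 1)))
    (fun k _ => by
      rw [C.nil_iterate, LinearMap.smulRight_apply, LinearMap.smul_apply, hLeft_apply, smul_eq_mul]
      rcases Nat.eq_zero_or_pos k with rfl | hk
      · rw [inv_mul_cancel₀ (C.lead_ne_zero hF hn), one_smul, Nat.zero_add]
      · rw [C.vanish (k + (n - 1)) (by omega), C.gram_vanish hF (a := k) (b := n - 1) (by omega),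
          mul_zero, zero_smul])
  rw [this, LinearMap.smulRight_apply, LinearMap.smul_apply, hLeft_apply, smul_eq_mul,
    div_eq_inv_mul]

/-- The kernel of `u - 1` is the line of the fixed vector. -/
theorem RChain.ker_nil (C : RChain u ε) (hn : 0 < n) {x : Fin n → F} (hx : nilMap u x = 0) :
    ∃ c : F, x = c • ε (n - 1) := by
  set c0 := hermForm n F q (ε (n - 1)) (ε 0)
  have hc0 : c0 ≠ 0 := fun h => C.lead_ne_zero hF hn ((h_eq_zero_comm hF).1 h)
  refine ⟨hermForm n F q x (ε 0) / c0, sub_eq_zero.1 (eq_zero_of_h_left hF fun y => ?_)⟩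
  set w := x - (hermForm n F q x (ε 0) / c0) • ε (n - 1) with hw
  have hx' : ∀ k, hermForm n F q x (ε (k + 1)) = 0 := fun k => by
    have h := h_nil u x (ε k) hF
    rw [hx, h_zero_left, h_zero_left, C.nil] at h
    linear_combination h
  have : chainTail ε 0 ≤ LinearMap.ker (hLeft n q w) := by
    refine Submodule.span_le.2 ?_
    rintro _ ⟨k, -, rfl⟩
    show hermForm n F q (ε k) w = 0
    rw [h_eq_zero_comm hF, hw, h_sub_left, h_smul_left]
    rcases k with _ | k
    · rw [div_mul_cancel₀ _ hc0, sub_self]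
    · rw [hx', C.gram_vanish hF (a := n - 1) (by omega), mul_zero, sub_zero]
  rw [C.span_top] at this
  exact (h_eq_zero_comm hF).1 (this (Submodule.mem_top (x := y)))

/-- Prescribing the products of a vector with itself and its image, one level at a time. -/
theorem RChain.step_solve (C : RChain u ε) {m j : ℕ} (hn : n = 2 * m + 1) (hj : 1 ≤ j)
    (hjm : j ≤ m) {Q₀ : Fin n → F} (hQ : Q₀ - ε (m - j) ∈ chainTail ε (m - j + 1)) {d N₀ : F}
    (hd : d + d ^ q + hermForm n F q (nilMap u Q₀) (nilMap u Q₀) = 0) (hN : N₀ ^ q = N₀) :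
    ∃ Q, Q - Q₀ ∈ chainTail ε (m + j - 1) ∧ hermForm n F q Q (nilMap u Q) = d ∧
      hermForm n F q Q Q = N₀ := by
  set c₀ := hermForm n F q (ε (m - j)) (ε (m + j)) with hc₀
  have hc : c₀ ≠ 0 := by
    rw [hc₀, C.gram_anti hF (by omega)]
    exact mul_ne_zero (pow_ne_zero _ (neg_ne_zero.2 one_ne_zero)) (C.lead_ne_zero hF (by omega))
  have hsym : hermForm n F q (ε (m + j - 1)) (ε (m - j + 1)) = -c₀ ^ q := by
    have h := h_nil u (ε (m + j - 1)) (ε (m - j)) hF
    rw [C.nil, C.nil, show m + j - 1 + 1 = m + j by omega,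
      C.gram_vanish hF (a := m + j) (b := m - j + 1) (by omega), h_symm hF (ε (m - j)), ← hc₀] at h
    linear_combination h
  have hQ0 : ∀ k, m + j ≤ k → hermForm n F q Q₀ (ε k) = hermForm n F q (ε (m - j)) (ε k) := by
    intro k hk
    have := C.tail_orth hF hQ (mem_chainTail hk) (by omega)
    rw [h_sub_left] at this
    linear_combination this
  have hNQ0 : nilMap u Q₀ - ε (m - j + 1) ∈ chainTail ε (m - j + 2) := by
    have := C.nil_tail hQ
    rwa [map_sub, C.nil] at this
  have hQ0' : nilMap u Q₀ ∈ chainTail ε (m - j + 1) := by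
    have := add_mem (chainTail_anti (show m - j + 1 ≤ m - j + 2 by omega) hNQ0)
      (mem_chainTail (ε := ε) (le_refl (m - j + 1)))
    rwa [sub_add_cancel] at this
  -- first fix the product with the image
  set diff := d - hermForm n F q Q₀ (nilMap u Q₀) with hdiff
  have hdq : diff + diff ^ q = 0 := by
    have h := h_nil u Q₀ Q₀ hF
    rw [h_symm hF Q₀ (nilMap u Q₀)] at h
    rw [hdiff, sub_pow_q hF]
    linear_combination hd - h
  obtain ⟨θ, hθ⟩ := exists_trace_eq hF (one_pow q)
  set b' := θ * diff with hb'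
  set a := (b' / c₀) ^ q with ha
  have haq : a ^ q = b' / c₀ := by rw [ha, pow_q_pow_q hF]
  obtain ⟨Q₁, hQ1⟩ : ∃ Q₁, Q₁ = Q₀ + a • ε (m + j - 1) := ⟨_, rfl⟩
  have hNQ1 : nilMap u Q₁ = nilMap u Q₀ + a • ε (m + j) := by
    rw [hQ1, map_add, map_smul, C.nil]; congr 3; omega
  have hd1 : hermForm n F q Q₁ (nilMap u Q₁) = d := by
    have h1 : hermForm n F q (ε (m + j - 1)) (nilMap u Q₀) = -c₀ ^ q := by
      have := C.tail_orth hF (mem_chainTail (ε := ε) (le_refl (m + j - 1))) hNQ0 (by omega)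
      rw [h_sub_right hF, hsym] at this
      linear_combination this
    rw [hNQ1, hQ1, h_add_left, h_add_right hF, h_add_right hF, h_smul_left, h_smul_left,
      h_smul_right hF, h_smul_right hF, hQ0 _ le_rfl, ← hc₀, h1,
      C.gram_vanish hF (a := m + j - 1) (b := m + j) (by omega), haq]
    have e1 : b' / c₀ * c₀ = b' := div_mul_cancel₀ _ hc
    have e2 : a * c₀ ^ q = b' ^ q := by rw [ha, ← mul_pow, e1]
    have e3 : diff ^ q = -diff := by linear_combination hdq
    rw [hb', mul_pow, e3] at e2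
    linear_combination e1 - e2 + diff * hθ + hdiff + hb'
  -- then the norm
  set N₁ := hermForm n F q Q₁ Q₁
  obtain ⟨t, ht⟩ := exists_trace_eq hF (c := N₀ - N₁)
    (by rw [sub_pow_q hF, hN, h_self_fixed hF])
  set b := (t / c₀) ^ q with hb
  have hbq : b ^ q = t / c₀ := by rw [hb, pow_q_pow_q hF]
  have hQ1k : ∀ k, m + j ≤ k → hermForm n F q Q₁ (ε k) = hermForm n F q (ε (m - j)) (ε k) := by
    intro k hk
    rw [hQ1, h_add_left, h_smul_left, hQ0 k hk, C.gram_vanish hF (a := m + j - 1) (by omega),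
      mul_zero, add_zero]
  refine ⟨Q₁ + b • ε (m + j), ?_, ?_, ?_⟩
  · rw [hQ1, show Q₀ + a • ε (m + j - 1) + b • ε (m + j) - Q₀ =
      a • ε (m + j - 1) + b • ε (m + j) by abel]
    exact add_mem (Submodule.smul_mem _ _ (mem_chainTail le_rfl))
      (Submodule.smul_mem _ _ (mem_chainTail (by omega)))
  · have h1 : hermForm n F q (ε (m + j)) (nilMap u Q₁) = 0 := by
      refine C.tail_orth hF (mem_chainTail le_rfl) ?_ (show n ≤ m + j + (m - j + 1) by omega)
      rw [hNQ1]
      exact add_mem hQ0' (Submodule.smul_mem _ _ (mem_chainTail (by omega)))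
    rw [map_add, map_smul, C.nil, h_add_left, h_add_right hF, h_add_right hF, h_smul_left,
      h_smul_left, h_smul_right hF, h_smul_right hF, hd1, h1, hQ1k _ (by omega),
      C.gram_vanish hF (a := m - j) (b := m + j + 1) (by omega),
      C.gram_vanish hF (a := m + j) (b := m + j + 1) (by omega)]
    ring
  · have e1 : hermForm n F q Q₁ (ε (m + j)) = c₀ := hQ1k _ le_rfl
    rw [h_add_left, h_add_right hF, h_add_right hF, h_smul_left, h_smul_left, h_smul_right hF,
      h_smul_right hF, h_symm hF Q₁ (ε (m + j)), e1,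
      C.gram_vanish hF (a := m + j) (b := m + j) (by omega), hbq]
    have e2 : t / c₀ * c₀ = t := div_mul_cancel₀ _ hc
    have e3 : b * c₀ ^ q = t ^ q := by rw [hb, ← mul_pow, e2]
    linear_combination ht + e2 + e3

/-- Two levels: a vector with prescribed first Gram entries. -/
theorem RChain.exists_window (C : RChain u ε) {m : ℕ} (hn : n = 2 * m + 1) (hm : 2 ≤ m)
    {N₀ d d₂ : F} (hN : N₀ ^ q = N₀)
    (hd₂ : d₂ + d₂ ^ q + hermForm n F q (ε m) (ε m) = 0) :
    ∃ Q, Q - ε (m - 2) ∈ chainTail ε (m - 1) ∧ hermForm n F q Q Q = N₀ ∧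
      hermForm n F q Q (nilMap u Q) = d ∧
      hermForm n F q (nilMap u Q) (nilMap u Q) = -(d + d ^ q) ∧
      hermForm n F q (nilMap u Q) (nilMap u (nilMap u Q)) = d₂ := by
  obtain ⟨P, hP, hPd, hPN⟩ := C.step_solve hF hn le_rfl (by omega : 1 ≤ m)
    (Q₀ := ε (m - 1)) (by simp) (d := d₂) (N₀ := -(d + d ^ q))
    (by rw [C.nil, show m - 1 + 1 = m by omega]; exact hd₂)
    (by rw [neg_pow_q hF, trace_fixed hF])
  have hP' : P - ε (m - 1) ∈ chainTail ε m := chainTail_anti (by omega) hP
  obtain ⟨R, hR, hNR⟩ := C.exists_preimage (a := m - 1)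
    (chainTail_anti (show m - 1 + 1 ≤ m by omega) hP')
  have hN0 : nilMap u (ε (m - 2) + R) = P := by
    rw [map_add, C.nil, hNR, show m - 2 + 1 = m - 1 by omega]; abel
  obtain ⟨Q, hQ, hQd, hQN⟩ := C.step_solve hF hn (by omega : 1 ≤ 2) hm (Q₀ := ε (m - 2) + R)
    (by rw [add_sub_cancel_left]; exact chainTail_anti (by omega) hR) (d := d) (N₀ := N₀)
    (by rw [hN0, hPN]; ring) hN
  have hPt : P ∈ chainTail ε (m - 1) := by
    have := add_mem (chainTail_anti (show m - 1 ≤ m by omega) hP')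
      (mem_chainTail (ε := ε) (le_refl (m - 1)))
    rwa [sub_add_cancel] at this
  have hD : nilMap u Q - P ∈ chainTail ε (m + 2) := by
    have := C.nil_tail hQ
    rw [map_sub, hN0] at this
    exact chainTail_anti (by omega) this
  refine ⟨Q, ?_, hQN, hQd, ?_, ?_⟩
  · have := add_mem (chainTail_anti (show m - 1 ≤ m + 2 - 1 by omega) hQ) hR
    rwa [show Q - (ε (m - 2) + R) + R = Q - ε (m - 2) by abel] at this
  · obtain ⟨r, hr, hrP⟩ : ∃ r ∈ chainTail ε (m + 2), nilMap u Q = P + r :=
      ⟨_, hD, by abel⟩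
    rw [hrP, h_add_left, h_add_right hF, h_add_right hF, hPN,
      C.tail_orth hF hPt hr (by omega), C.tail_orth hF hr hPt (by omega),
      C.tail_orth hF hr hr (by omega)]
    ring
  · obtain ⟨r, hr, hrP⟩ : ∃ r ∈ chainTail ε (m + 2), nilMap u Q = P + r :=
      ⟨_, hD, by abel⟩
    have h1 := C.nil_tail hr
    have h2 := C.nil_tail hPt
    rw [hrP, map_add, h_add_left, h_add_right hF, h_add_right hF, hPd,
      C.tail_orth hF hPt h1 (by omega), C.tail_orth hF hr h2 (by omega),
      C.tail_orth hF hr h1 (by omega)]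
    ring

end Finite

end H37
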