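import Cfsg.Agent.H37.SURad
import Cfsg.Agent.H37.SU3Gen

/-!
`SU₃` on a non-degenerate three-space of the `n`-dimensional hermitian space.
-/

set_option autoImplicit false

namespace H37

open Matrix Cfsg H50

universe u

variable {F : Type u} [Field F] [Fintype F] {q n : ℕ} (hF : Fintype.card F = q ^ 2)

/-- The map `x ↦ h(x,a) u + h(x,b) v + h(x,c) w`. -/
def frameMap (q : ℕ) {k l : ℕ} (a b c : Fin k → F) (u v w : Fin l → F) :
    (Fin k → F) →ₗ[F] (Fin l → F) :=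
  (hLeft k q a).smulRight u + (hLeft k q b).smulRight v + (hLeft k q c).smulRight w

omit [Fintype F] in
theorem frameMap_apply {k l : ℕ} (a b c : Fin k → F) (u v w : Fin l → F) (x : Fin k → F) :
    frameMap q a b c u v w x =
      hermForm k F q x a • u + hermForm k F q x b • v + hermForm k F q x c • w := rfl

variable {e₃ z₃ f₃ : Fin 3 → F} {e z f : Fin n → F}

include hF

/-- `SU₃` acting on the span of `e, z, f` and fixing its orthogonal. -/
theorem exists_frameEmb (Φ : UFrame q e₃ z₃ f₃) (hf : IsHyp q e f)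
    (hzz : hermForm n F q z z = 1) (hze : hermForm n F q z e = 0)
    (hzf : hermForm n F q z f = 0) :
    ∃ ι : SU 3 F q →* SU n F q, ∀ g y, suMat (ι g) *ᵥ y = y +
      frameMap q f₃ z₃ e₃ e z f (suMat g *ᵥ frameMap q f z e e₃ z₃ f₃ y -
        frameMap q f z e e₃ z₃ f₃ y) := by
  set J := frameMap q f₃ z₃ e₃ e z f with hJ
  set J' := frameMap q f z e e₃ z₃ f₃ with hJ'
  have hfe : hermForm n F q f e = 1 := (hf.symm hF).2.2
  have hez := (h_eq_zero_comm hF).1 hze
  have hfz := (h_eq_zero_comm hF).1 hzf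
  have hback : ∀ x, J' (J x) = x := fun x => by
    conv_rhs => rw [Φ.dec hF x]
    rw [hJ', frameMap_apply, hJ, frameMap_apply]
    simp [h_add_left, h_smul_left, hf.1, hf.2.1, hf.2.2, hfe, hzz, hze, hzf, hez, hfz]
  have hadj : ∀ x y, hermForm n F q (J x) y = hermForm 3 F q x (J' y) := fun x y => by
    rw [hJ, frameMap_apply, hJ', frameMap_apply]
    simp only [h_add_left, h_add_right hF, h_smul_left, h_smul_right hF]
    rw [h_symm hF y e, h_symm hF y z, h_symm hF y f]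
    ring
  have hsplit : ∀ x y, hermForm n F q (J x) (y - J (J' y)) = 0 := fun x y => by
    rw [h_sub_right hF, hadj, hadj, hback, sub_self]
  let M : SU 3 F q → Matrix (Fin n) (Fin n) F := fun g =>
    1 + LinearMap.toMatrix' J * (suMat g - 1) * LinearMap.toMatrix' J'
  have hM : ∀ g y, M g *ᵥ y = y + J (suMat g *ᵥ J' y - J' y) := fun g y => by
    simp only [M, Matrix.add_mulVec, Matrix.one_mulVec, ← Matrix.mulVec_mulVec,
      LinearMap.toMatrix'_mulVec, Matrix.sub_mulVec]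
  have hiso : ∀ g, IsIso q (M g) := fun g x y => by
    have e1 : ∀ y, M g *ᵥ y = J (suMat g *ᵥ J' y) + (y - J (J' y)) := fun y => by
      rw [hM, map_sub]; abel
    have e2 : ∀ y, y = J (J' y) + (y - J (J' y)) := fun y => by abel
    conv_rhs => rw [e2 x, e2 y]
    rw [e1, e1]
    simp only [h_add_left, h_add_right hF, hsplit, (h_eq_zero_comm hF).1 (hsplit _ _), hadj _ (J _),
      hback, suMat_h]
  have hdet : ∀ g, (M g).det = 1 := fun g => by
    have hBA : LinearMap.toMatrix' J' * LinearMap.toMatrix' J = 1 := by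
      rw [← LinearMap.toMatrix'_comp, show J' ∘ₗ J = LinearMap.id from LinearMap.ext hback,
        LinearMap.toMatrix'_id]
    rw [show M g = 1 + (LinearMap.toMatrix' J * (suMat g - 1)) * LinearMap.toMatrix' J' from rfl,
      Matrix.det_one_add_mul_comm, ← Matrix.mul_assoc, hBA, Matrix.one_mul, add_sub_cancel]
    exact (g : Matrix.SpecialLinearGroup (Fin 3) F).2
  refine ⟨MonoidHom.mk' (fun g => mkSU (M g) (hiso g) (hdet g)) fun g g' => suMat_ext fun y => ?_,
    fun g y => hM g y⟩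
  rw [suMat_mulVec_mul]
  show M (g * g') *ᵥ y = M g *ᵥ (M g' *ᵥ y)
  rw [hM g', hM g, hM (g * g'), map_add, hback, add_sub_cancel, suMat_mulVec_mul, map_sub, map_sub,
    map_sub]
  abel

theorem frameEmb_isEich (Φ : UFrame q e₃ z₃ f₃) {ι : SU 3 F q →* SU n F q}
    (hι : ∀ g y, suMat (ι g) *ᵥ y = y +
      frameMap q f₃ z₃ e₃ e z f (suMat g *ᵥ frameMap q f z e e₃ z₃ f₃ y -
        frameMap q f z e e₃ z₃ f₃ y)) {g : SU 3 F q} {c γ : F} :
    (IsEi e₃ z₃ g c γ → IsEich e (c • z) γ (ι g)) ∧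
      (IsEi f₃ z₃ g c γ → IsEich f (c • z) γ (ι g)) := by
  have hJe : frameMap q f₃ z₃ e₃ e z f e₃ = e := by
    rw [frameMap_apply, Φ.hyp.2.2, Φ.ez hF, Φ.hyp.1]; simp
  have hJf : frameMap q f₃ z₃ e₃ e z f f₃ = f := by
    rw [frameMap_apply, Φ.hyp.2.1, Φ.fz hF, Φ.fe hF]; simp
  have hJz : frameMap q f₃ z₃ e₃ e z f z₃ = z := by
    rw [frameMap_apply, Φ.zf, Φ.zz, Φ.ze]; simp
  have hc : ∀ y, hermForm 3 F q (frameMap q f z e e₃ z₃ f₃ y) e₃ = hermForm n F q y e ∧
      hermForm 3 F q (frameMap q f z e e₃ z₃ f₃ y) z₃ = hermForm n F q y z ∧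
      hermForm 3 F q (frameMap q f z e e₃ z₃ f₃ y) f₃ = hermForm n F q y f := fun y => by
    rw [frameMap_apply]; exact Φ.coords hF _ _ _
  constructor <;> intro hg y
  · obtain ⟨c1, c2, -⟩ := hc y
    rw [hι, hg, c1, c2, h_smul_right hF, add_assoc (frameMap q f z e e₃ z₃ f₃ y),
      add_sub_cancel_left, map_add, map_smul, map_smul, hJz, hJe, smul_smul, ← add_assoc]
  · obtain ⟨-, c2, c3⟩ := hc y
    rw [hι, hg, c3, c2, h_smul_right hF, add_assoc (frameMap q f z e e₃ z₃ f₃ y),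
      add_sub_cancel_left, map_add, map_smul, map_smul, hJz, hJf, smul_smul, ← add_assoc]

/-- What a generating pair on the three-space gives. -/
theorem pair_consequences {a β a' β' : F} (Φ : UFrame q e₃ z₃ f₃)
    (hgen : ∀ E V : SU 3 F q, IsEi e₃ z₃ E a β → IsEi f₃ z₃ V a' β' →
      Subgroup.closure ({E, V} : Set (SU 3 F q)) = ⊤)
    (htr : β + β ^ q + a * a ^ q = 0) (htr' : β' + β' ^ q + a' * a' ^ q = 0)
    (hf : IsHyp q e f) (hzz : hermForm n F q z z = 1) (hze : hermForm n F q z e = 0)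
    (hzf : hermForm n F q z f = 0) {H : Subgroup (SU n F q)} {g₁ g₂ : SU n F q}
    (hg₁ : g₁ ∈ H) (h₁ : IsEich e (a • z) β g₁) (hg₂ : g₂ ∈ H) (h₂ : IsEich f (a' • z) β' g₂) :
    (∀ d : F, d + d ^ q = 0 → ∃ g ∈ H, IsEich e 0 d g) ∧
    (∀ d : F, d + d ^ q = 0 → ∃ g ∈ H, IsEich f 0 d g) ∧
    (∀ c : F, c • z ∈ radParts H e f) := by
  obtain ⟨ι, hι⟩ := exists_frameEmb hF Φ hf hzz hze hzf
  obtain ⟨E, hE⟩ := exists_isEi hF Φ htr
  obtain ⟨V, hV⟩ := exists_isEi hF (Φ.symm hF) htr'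
  have htop : H.comap ι = ⊤ := by
    refine top_unique ((hgen E V hE hV).ge.trans ((Subgroup.closure_le _).2 ?_))
    rintro x (rfl | rfl)
    · show ι x ∈ H
      rwa [((frameEmb_isEich hF Φ hι).1 hE).unique h₁]
    · show ι x ∈ H
      rwa [((frameEmb_isEich hF Φ hι).2 hV).unique h₂]
  have hmem : ∀ x, ι x ∈ H := fun x => (htop ▸ Subgroup.mem_top x : x ∈ H.comap ι)
  have h00 : ∀ d : F, d + d ^ q = 0 → d + d ^ q + (0 : F) * 0 ^ q = 0 := fun d hd => by
    rw [zero_mul, add_zero, hd]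
  refine ⟨fun d hd => ?_, fun d hd => ?_, fun c => ?_⟩
  · obtain ⟨x, hx⟩ := exists_isEi hF Φ (h00 d hd)
    exact ⟨ι x, hmem x, by simpa using (frameEmb_isEich hF Φ hι).1 hx⟩
  · obtain ⟨x, hx⟩ := exists_isEi hF (Φ.symm hF) (h00 d hd)
    exact ⟨ι x, hmem x, by simpa using (frameEmb_isEich hF Φ hι).2 hx⟩
  · obtain ⟨γ, hγ⟩ := exists_trace_eq hF (c := -(c * c ^ q))
      (by rw [neg_pow_q hF, mul_pow, pow_q_pow_q hF, mul_comm])
    obtain ⟨x, hx⟩ := exists_isEi hF Φ (show γ + γ ^ q + c * c ^ q = 0 by linear_combination hγ)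
    exact mem_radParts_of_isEich hF hf ((frameEmb_isEich hF Φ hι).1 hx) (hmem x)
      (by rw [h_smul_left, hze, mul_zero])

end H37
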