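import Mathlib
import Cfsg.Agent.H50.Transvection
import Cfsg.Agent.H73.Conj

/-!
Antidiagonal frames of a Hermitian space of even dimension, their flags, the unipotent subgroup and
the Borel subgroup of a flag; two flags have a common frame; the unipotent subgroup of a flag is a
Sylow subgroup whose normalizer is the Borel subgroup.
-/

set_option autoImplicit false
set_option linter.unusedSectionVars false

namespace H37.SUF

open Matrix Cfsg H50

variable {F : Type*} [Field F] {n q : ℕ}

/-- The Gram matrix is antidiagonal. -/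
def Frame (q : ℕ) (b : Fin n → Fin n → F) : Prop :=
  ∀ i j, hermForm n F q (b i) (b j) = if j = i.rev then 1 else 0

/-- The span of the first `i` members. -/
def Fl (b : Fin n → Fin n → F) (i : ℕ) : Submodule F (Fin n → F) :=
  Submodule.span F (Set.range fun l : {l : Fin n // (l : ℕ) < i} => b l)

theorem mem_Fl_self (b : Fin n → Fin n → F) {l : Fin n} {i : ℕ} (h : (l : ℕ) < i) : b l ∈ Fl b i :=
  Submodule.subset_span ⟨⟨l, h⟩, rfl⟩

theorem Fl_mono (b : Fin n → Fin n → F) {i j : ℕ} (h : i ≤ j) : Fl b i ≤ Fl b j := by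
  rw [Fl, Submodule.span_le]
  rintro _ ⟨⟨l, hl⟩, rfl⟩
  exact mem_Fl_self b (hl.trans_le h)

/-- The coefficient at `b l`. -/
def coef (q : ℕ) (b : Fin n → Fin n → F) (l : Fin n) (v : Fin n → F) : F :=
  hermForm n F q v (b l.rev)

variable [Fintype F] (hF : Fintype.card F = q ^ 2)
include hF

namespace Frame

variable {b : Fin n → Fin n → F} (hb : Frame q b)
include hb

theorem coef_sum (c : Fin n → F) (l : Fin n) : coef q b l (∑ i, c i • b i) = c l := by
  rw [coef, h_sum_left]
  simp only [h_smul_left, hb _ _, Fin.rev_inj, mul_ite, mul_one, mul_zero]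
  rw [Finset.sum_ite_eq]
  simp

theorem linearIndependent : LinearIndependent F b :=
  Fintype.linearIndependent_iff.2 fun c hc l => by
    rw [← coef_sum hF hb c l, hc, coef, h_zero_left]

theorem span_eq_top : Submodule.span F (Set.range b) = ⊤ :=
  Submodule.eq_top_of_finrank_eq (by
    rw [finrank_span_eq_card (linearIndependent hF hb), Fintype.card_fin, Module.finrank_fin_fun])

theorem sum_coef (v : Fin n → F) : ∑ l, coef q b l v • b l = v := by
  obtain ⟨c, hc⟩ := (Submodule.mem_span_range_iff_exists_fun F).1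
    (show v ∈ Submodule.span F (Set.range b) by rw [span_eq_top hF hb]; trivial)
  simp only [← hc, coef_sum hF hb]

theorem mem_Fl_iff {i : ℕ} {v : Fin n → F} :
    v ∈ Fl b i ↔ ∀ l : Fin n, i ≤ (l : ℕ) → coef q b l v = 0 := by
  constructor
  · intro hv l hl
    have : Fl b i ≤ LinearMap.ker (hLeft n q (b l.rev)) := by
      rw [Fl, Submodule.span_le]
      rintro _ ⟨⟨m, hm⟩, rfl⟩
      show hLeft n q (b l.rev) (b m) = 0
      rw [hLeft_apply, hb, if_neg]
      intro h
      rw [Fin.rev_inj] at h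
      omega
    exact this hv
  · intro h
    rw [← sum_coef hF hb v]
    refine Submodule.sum_mem _ fun l _ => ?_
    rcases lt_or_ge (l : ℕ) i with hl | hl
    · exact Submodule.smul_mem _ _ (mem_Fl_self b hl)
    · rw [h l hl, zero_smul]; exact zero_mem _

theorem Fl_top : Fl b n = ⊤ :=
  eq_top_iff.2 fun v _ => (mem_Fl_iff hF hb).2 fun l hl => absurd l.2 (by omega)

theorem Fl_zero : Fl b 0 = ⊥ :=
  eq_bot_iff.2 fun v hv => by
    rw [Submodule.mem_bot, ← sum_coef hF hb v]
    exact Finset.sum_eq_zero fun l _ => by rw [(mem_Fl_iff hF hb).1 hv l (Nat.zero_le _), zero_smul]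

omit hb in
/-- A triangular change of frame does not change the flag. -/
theorem Fl_eq_of_tri {b c : Fin n → Fin n → F} (hb : Frame q b) (hc : Frame q c)
    (h : ∀ l : Fin n, c l ∈ Fl b ((l : ℕ) + 1)) (i : ℕ) : Fl c i = Fl b i := by
  refine Submodule.eq_of_le_of_finrank_le ?_ ?_
  · rw [Fl, Submodule.span_le]
    rintro _ ⟨⟨m, hm⟩, rfl⟩
    exact Fl_mono b (Nat.succ_le_of_lt hm) (h m)
  · refine le_of_eq ?_
    exact (finrank_span_eq_card ((linearIndependent hF hb).comp (Subtype.val : {l : Fin n // (l : ℕ) < i} → Fin n) Subtype.val_injective)).trans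
      (finrank_span_eq_card ((linearIndependent hF hc).comp (Subtype.val : {l : Fin n // (l : ℕ) < i} → Fin n) Subtype.val_injective)).symm

end Frame

omit [Fintype F] hF in
theorem suMat_inv_mul (g : SU n F q) (v : Fin n → F) : suMat g⁻¹ *ᵥ (suMat g *ᵥ v) = v := by
  rw [mulVec_mulVec, ← suMat_mul, inv_mul_cancel, suMat_one, one_mulVec]

omit [Fintype F] hF in
theorem suMat_mul_inv (g : SU n F q) (v : Fin n → F) : suMat g *ᵥ (suMat g⁻¹ *ᵥ v) = v := by
  rw [mulVec_mulVec, ← suMat_mul, mul_inv_cancel, suMat_one, one_mulVec]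

/-! ### The subgroups of a flag -/

omit hF in
theorem inv_mem_of_finite {G : Type*} [Group G] [Finite G] {P : G → Prop} (h1 : P 1)
    (hm : ∀ a b, P a → P b → P (a * b)) {a : G} (ha : P a) : P a⁻¹ := by
  have : ∀ k, P (a ^ k) := fun k => by
    induction k with
    | zero => simpa using h1
    | succ k ih => rw [pow_succ]; exact hm _ _ ih ha
  have h0 := this (orderOf a - 1)
  rwa [show a ^ (orderOf a - 1) = a⁻¹ from eq_inv_of_mul_eq_one_left (by
    rw [← pow_succ, Nat.sub_add_cancel (orderOf_pos a), pow_orderOf_eq_one])] at h0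

/-- The stabiliser of the flag. -/
def Borel (q : ℕ) (b : Fin n → Fin n → F) : Subgroup (SU n F q) where
  carrier := {g | ∀ i, ∀ v ∈ Fl b i, suMat g *ᵥ v ∈ Fl b i}
  one_mem' i v hv := by rw [suMat_one, one_mulVec]; exact hv
  mul_mem' {x y} hx hy i v hv := by
    rw [suMat_mul, ← mulVec_mulVec]; exact hx i _ (hy i v hv)
  inv_mem' {x} hx := by
    refine inv_mem_of_finite (P := fun g : SU n F q => ∀ i, ∀ v ∈ Fl b i, suMat g *ᵥ v ∈ Fl b i)
      ?_ ?_ hx
    · intro i v hv; rw [suMat_one, one_mulVec]; exact hv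
    · intro a c ha hc i v hv; rw [suMat_mul, ← mulVec_mulVec]; exact ha i _ (hc i v hv)

omit hF in
theorem preserves_of_unip {b : Fin n → Fin n → F} {g : SU n F q}
    (hg : ∀ i, ∀ v ∈ Fl b (i + 1), suMat g *ᵥ v - v ∈ Fl b i) (i : ℕ) {v : Fin n → F}
    (hv : v ∈ Fl b i) : suMat g *ᵥ v ∈ Fl b i := by
  have := hg i v (Fl_mono b (Nat.le_succ i) hv)
  simpa using (Fl b i).add_mem this hv

omit hF in
theorem unip_mul {b : Fin n → Fin n → F} {x y : SU n F q}
    (hx : ∀ i, ∀ v ∈ Fl b (i + 1), suMat x *ᵥ v - v ∈ Fl b i)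
    (hy : ∀ i, ∀ v ∈ Fl b (i + 1), suMat y *ᵥ v - v ∈ Fl b i) :
    ∀ i, ∀ v ∈ Fl b (i + 1), suMat (x * y) *ᵥ v - v ∈ Fl b i := by
  intro i v hv
  have h1 := preserves_of_unip hx i (hy i v hv)
  have h2 := (Fl b i).add_mem h1 (hx i v hv)
  rw [suMat_mul, ← mulVec_mulVec]
  rw [mulVec_sub] at h2
  simpa using h2

omit hF in
theorem unip_one {b : Fin n → Fin n → F} :
    ∀ i, ∀ v ∈ Fl b (i + 1), suMat (1 : SU n F q) *ᵥ v - v ∈ Fl b i := by
  intro i v _
  rw [suMat_one, one_mulVec, sub_self]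
  exact zero_mem _

/-- The elements trivial on the successive quotients of the flag. -/
def Unip (q : ℕ) (b : Fin n → Fin n → F) : Subgroup (SU n F q) where
  carrier := {g | ∀ i, ∀ v ∈ Fl b (i + 1), suMat g *ᵥ v - v ∈ Fl b i}
  one_mem' := unip_one
  mul_mem' := unip_mul
  inv_mem' {x} hx := inv_mem_of_finite
    (P := fun g : SU n F q => ∀ i, ∀ v ∈ Fl b (i + 1), suMat g *ᵥ v - v ∈ Fl b i)
    unip_one (fun _ _ => unip_mul) hx

omit hF in
theorem unip_le_borel (b : Fin n → Fin n → F) : Unip q b ≤ Borel q b :=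
  fun _ hg i _ hv => preserves_of_unip hg i hv

omit hF in
theorem borel_le_normalizer (b : Fin n → Fin n → F) :
    Borel q b ≤ Subgroup.normalizer (Unip q b : Set (SU n F q)) := by
  have key : ∀ g ∈ Borel q b, ∀ u ∈ Unip q b, g * u * g⁻¹ ∈ Unip q b := by
    intro g hg u hu i v hv
    have hw := (Borel q b).inv_mem hg (i + 1) v hv
    have h2 := hg i _ (hu i _ hw)
    rw [mulVec_sub, suMat_mul_inv] at h2
    rw [suMat_mul, suMat_mul, ← mulVec_mulVec, ← mulVec_mulVec]
    exact h2
  intro g hg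
  rw [Subgroup.mem_normalizer_iff]
  refine fun u => ⟨key g hg u, fun h => ?_⟩
  have := key g⁻¹ ((Borel q b).inv_mem hg) _ h
  simpa [mul_assoc] using this

omit hF in
theorem borel_comm {b : Fin n → Fin n → F} {x y : SU n F q}
    (h : ∀ i, ∀ v ∈ Fl b (i + 1), ∃ a c : F, suMat x *ᵥ v - a • v ∈ Fl b i ∧
      suMat y *ᵥ v - c • v ∈ Fl b i)
    (hx : x ∈ Borel q b) (hy : y ∈ Borel q b) : x * y * x⁻¹ * y⁻¹ ∈ Unip q b := by
  intro i w hw
  have hv := ((Borel q b).inv_mem ((Borel q b).mul_mem hy hx)) (i + 1) w hw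
  obtain ⟨v, hvdef⟩ : ∃ v, v = suMat (y * x)⁻¹ *ᵥ w := ⟨_, rfl⟩
  rw [← hvdef] at hv
  obtain ⟨a, c, ha, hc⟩ := h i v hv
  have e1 : suMat x *ᵥ (suMat y *ᵥ v) - (c * a) • v ∈ Fl b i := by
    have h1 := hx i _ hc
    rw [mulVec_sub, mulVec_smul] at h1
    have h2 := (Fl b i).add_mem h1 ((Fl b i).smul_mem c ha)
    rw [smul_sub, smul_smul] at h2
    simpa using h2
  have e2 : suMat y *ᵥ (suMat x *ᵥ v) - (c * a) • v ∈ Fl b i := by
    have h1 := hy i _ ha
    rw [mulVec_sub, mulVec_smul] at h1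
    have h2 := (Fl b i).add_mem h1 ((Fl b i).smul_mem a hc)
    rw [smul_sub, smul_smul, mul_comm a c] at h2
    simpa using h2
  have e3 := (Fl b i).sub_mem e1 e2
  rw [sub_sub_sub_cancel_right, mulVec_mulVec _ (suMat x) (suMat y), mulVec_mulVec _ (suMat y) (suMat x), ← suMat_mul, ← suMat_mul] at e3
  have hw' : suMat (y * x) *ᵥ v = w := hvdef ▸ suMat_mul_inv _ _
  rw [hw', hvdef] at e3
  rw [show x * y * x⁻¹ * y⁻¹ = x * y * (y * x)⁻¹ by group, suMat_mul, ← mulVec_mulVec]
  exact e3

theorem borel_scalar {b : Fin n → Fin n → F} (hb : Frame q b) {g : SU n F q} (hg : g ∈ Borel q b)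
    {i : ℕ} (hi : i < n) : ∃ a : F, ∀ v ∈ Fl b (i + 1), suMat g *ᵥ v - a • v ∈ Fl b i := by
  set l : Fin n := ⟨i, hi⟩
  refine ⟨coef q b l (suMat g *ᵥ b l), fun v hv => ?_⟩
  have e : suMat g *ᵥ b l - coef q b l (suMat g *ᵥ b l) • b l ∈ Fl b i := by
    rw [Frame.mem_Fl_iff hF hb]
    intro m hm
    simp only [coef, h_sub_left, h_smul_left, hb _ _, Fin.rev_inj]
    by_cases hml : m = l
    · subst hml; simp
    · have hm' : i < (m : ℕ) := lt_of_le_of_ne hm fun e => hml (Fin.ext e.symm)
      have := (Frame.mem_Fl_iff hF hb).1 (hg (i + 1) (b l) (mem_Fl_self b (Nat.lt_succ_self i))) m hm'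
      rw [coef] at this
      rw [this, if_neg hml, mul_zero, sub_zero]
  have hrest : v - coef q b l v • b l ∈ Fl b i := by
    rw [Frame.mem_Fl_iff hF hb]
    intro m hm
    simp only [coef, h_sub_left, h_smul_left, hb _ _, Fin.rev_inj]
    by_cases hml : m = l
    · subst hml; simp
    · have hm' : i < (m : ℕ) := lt_of_le_of_ne hm fun e => hml (Fin.ext e.symm)
      have := (Frame.mem_Fl_iff hF hb).1 hv m hm'
      rw [coef] at this
      rw [this, if_neg hml, mul_zero, sub_zero]
  have h1 := hg i _ hrest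
  rw [mulVec_sub, mulVec_smul] at h1
  have h2 := (Fl b i).add_mem ((Fl b i).sub_mem h1 ((Fl b i).smul_mem (coef q b l (suMat g *ᵥ b l)) hrest))
    ((Fl b i).smul_mem (coef q b l v) e)
  rw [smul_sub, smul_sub, smul_smul, smul_smul] at h2
  rw [mul_comm (coef q b l v)] at h2
  convert h2 using 1
  abel

theorem borel_scalar' {b : Fin n → Fin n → F} (hb : Frame q b) {g : SU n F q} (hg : g ∈ Borel q b)
    (i : ℕ) : ∃ a : F, ∀ v ∈ Fl b (i + 1), suMat g *ᵥ v - a • v ∈ Fl b i := by
  rcases lt_or_ge i n with hi | hi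
  · exact borel_scalar hF hb hg hi
  · refine ⟨0, fun v _ => ?_⟩
    have : Fl b i = ⊤ := top_le_iff.1 (le_trans (Frame.Fl_top hF hb).ge (Fl_mono b hi))
    rw [this]; trivial

theorem commutator_borel_le {b : Fin n → Fin n → F} (hb : Frame q b) {x y : SU n F q}
    (hx : x ∈ Borel q b) (hy : y ∈ Borel q b) : x * y * x⁻¹ * y⁻¹ ∈ Unip q b :=
  borel_comm (fun i v hv => by
    obtain ⟨a, ha⟩ := borel_scalar' hF hb hx i
    obtain ⟨c, hc⟩ := borel_scalar' hF hb hy i
    exact ⟨a, c, ha v hv, hc v hv⟩) hx hy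

theorem sub_one_pow_mem {b : Fin n → Fin n → F} {g : SU n F q} (hg : g ∈ Unip q b) :
    ∀ (k i : ℕ) (v : Fin n → F), v ∈ Fl b (i + k) → (suMat g - 1) ^ k *ᵥ v ∈ Fl b i := by
  intro k
  induction k with
  | zero => intro i v hv; simpa using hv
  | succ k ih =>
    intro i v hv
    have h1 := ih (i + 1) v (by rwa [show i + 1 + k = i + (k + 1) by omega])
    rw [pow_succ', ← mulVec_mulVec, sub_mulVec, one_mulVec]
    exact hg i _ h1

theorem sub_one_pow_eq_zero {b : Fin n → Fin n → F} (hb : Frame q b) {g : SU n F q}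
    (hg : g ∈ Unip q b) : (suMat g - 1) ^ n = 0 := by
  refine Matrix.ext_iff_mulVec.2 fun v => ?_
  have := sub_one_pow_mem hF hg n 0 v (by rw [zero_add, Frame.Fl_top hF hb]; trivial)
  rw [Frame.Fl_zero hF hb, Submodule.mem_bot] at this
  rw [this, zero_mulVec]

theorem isPGroup_unip {p : ℕ} [Fact p.Prime] [CharP F p] {b : Fin n → Fin n → F} (hb : Frame q b)
    (hn : 0 < n) : IsPGroup p (Unip q b) := by
  haveI : Nonempty (Fin n) := ⟨⟨0, hn⟩⟩
  rintro ⟨g, hg⟩
  refine ⟨n, ?_⟩
  have h := sub_one_pow_eq_zero hF hb hg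
  have hz : (suMat g - 1) ^ p ^ n = 0 :=
    pow_eq_zero_of_le (Nat.lt_pow_self (Nat.Prime.one_lt Fact.out)).le h
  have := sub_pow_char_pow_of_commute (p := p) (n := n) (Commute.one_right (suMat g))
  rw [hz, one_pow] at this
  have hM : suMat g ^ p ^ n = 1 := sub_eq_zero.1 this.symm
  apply Subtype.ext
  apply SU_ext
  show suMat (g ^ p ^ n) = 1
  rw [show suMat (g ^ p ^ n) = suMat g ^ p ^ n by simp [suMat, SubgroupClass.coe_pow]]
  exact hM

theorem borel_pElement {p : ℕ} [Fact p.Prime] [CharP F p] {b : Fin n → Fin n → F} (hb : Frame q b)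
    {g : SU n F q} (hg : g ∈ Borel q b) {k : ℕ} (hk : g ^ p ^ k = 1) : g ∈ Unip q b := by
  intro i v hv
  rcases le_or_gt n i with hni | hni
  · have : Fl b i = ⊤ := top_le_iff.1 (le_trans (Frame.Fl_top hF hb).ge (Fl_mono b hni))
    rw [this]; trivial
  obtain ⟨a, ha⟩ := borel_scalar' hF hb hg i
  have hpow : ∀ m : ℕ, ∀ w ∈ Fl b (i + 1), suMat (g ^ m) *ᵥ w - a ^ m • w ∈ Fl b i := by
    intro m
    induction m with
    | zero => intro w _; simp [suMat_one]
    | succ m ih =>
      intro w hw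
      have h1 := hg i _ (ih w hw)
      rw [mulVec_sub, mulVec_smul, mulVec_mulVec, ← suMat_mul, ← pow_succ'] at h1
      have h2 := (Fl b i).add_mem h1 ((Fl b i).smul_mem (a ^ m) (ha w hw))
      rw [smul_sub, smul_smul, ← pow_succ] at h2
      simpa using h2
  have hbl : b ⟨i, hni⟩ ∈ Fl b (i + 1) := mem_Fl_self b (Nat.lt_succ_self i)
  have h1 := (Frame.mem_Fl_iff hF hb).1 (hpow (p ^ k) _ hbl) ⟨i, hni⟩ le_rfl
  rw [hk, suMat_one, one_mulVec, coef, h_sub_left, h_smul_left, hb] at h1
  simp only [if_true, mul_one] at h1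
  have ha1 : a = 1 := by
    have : (1 - a) ^ p ^ k = 0 := by rw [sub_pow_char_pow, one_pow, h1]
    exact (sub_eq_zero.1 (pow_eq_zero_iff (pow_ne_zero k (Fact.out : p.Prime).ne_zero) |>.1 this)).symm
  have := ha v hv
  rwa [ha1, one_smul] at this

/-! ### Frames moved by isometries -/

theorem frame_smul (g : SU n F q) {b : Fin n → Fin n → F} (hb : Frame q b) :
    Frame q (fun l => suMat g *ᵥ b l) := fun i j => by rw [SU_isIso g, hb]

theorem Fl_smul (g : SU n F q) (b : Fin n → Fin n → F) (i : ℕ) :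
    Fl (fun l => suMat g *ᵥ b l) i = (Fl b i).map (mulVecLin (suMat g)) := by
  rw [Fl, Fl, Submodule.map_span, ← Set.range_comp]
  rfl

theorem mem_Fl_smul {g : SU n F q} {b : Fin n → Fin n → F} {i : ℕ} {v : Fin n → F} :
    v ∈ Fl (fun l => suMat g *ᵥ b l) i ↔ suMat g⁻¹ *ᵥ v ∈ Fl b i := by
  rw [Fl_smul hF]
  constructor
  · rintro ⟨w, hw, rfl⟩
    rw [mulVecLin_apply, suMat_inv_mul]
    exact hw
  · exact fun h => ⟨_, h, by rw [mulVecLin_apply, suMat_mul_inv]⟩

theorem unip_smul (g : SU n F q) (b : Fin n → Fin n → F) :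
    Unip q (fun l => suMat g *ᵥ b l) = H73.cj g (Unip q b) := by
  ext x
  rw [H73.mem_cj]
  show (∀ i, ∀ v ∈ Fl (fun l => suMat g *ᵥ b l) (i + 1), suMat x *ᵥ v - v ∈ Fl (fun l => suMat g *ᵥ b l) i) ↔
    (∀ i, ∀ v ∈ Fl b (i + 1), suMat (g⁻¹ * x * g) *ᵥ v - v ∈ Fl b i)
  simp only [mem_Fl_smul hF, suMat_mul, ← mulVec_mulVec, mulVec_sub]
  constructor
  · intro h i v hv
    have := h i (suMat g *ᵥ v) (by rwa [suMat_inv_mul])
    rwa [suMat_inv_mul] at this
  · intro h i v hv
    have := h i _ hv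
    rwa [suMat_mul_inv] at this

theorem borel_eq_of_Fl {b c : Fin n → Fin n → F} (h : ∀ i, Fl c i = Fl b i) :
    Borel q c = Borel q b ∧ Unip q c = Unip q b := by
  constructor <;> ext x
  · show (∀ i, ∀ v ∈ Fl c i, suMat x *ᵥ v ∈ Fl c i) ↔ (∀ i, ∀ v ∈ Fl b i, suMat x *ᵥ v ∈ Fl b i)
    simp only [h]
  · show (∀ i, ∀ v ∈ Fl c (i + 1), suMat x *ᵥ v - v ∈ Fl c i) ↔
      (∀ i, ∀ v ∈ Fl b (i + 1), suMat x *ᵥ v - v ∈ Fl b i)
    simp only [h]

/-! ### A common frame of two flags -/

/-- One step: match one more pair of members of the two frames. -/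
theorem frame_step (hn : ∀ i : Fin n, i.rev ≠ i) {b b' : Fin n → Fin n → F} (hb : Frame q b)
    (hb' : Frame q b') {t : Fin n} (ht : (t : ℕ) < (t.rev : ℕ))
    (hm : ∀ l : Fin n, (l : ℕ) < t ∨ (t.rev : ℕ) < l → ∃ m, b l = b' m) :
    ∃ c c', Frame q c ∧ Frame q c' ∧ (∀ i, Fl c i = Fl b i) ∧ (∀ i, Fl c' i = Fl b' i) ∧
      ∀ l : Fin n, (l : ℕ) ≤ t ∨ (t.rev : ℕ) ≤ l → ∃ m, c l = c' m := by
  classical
  set v := b t with hv
  have hvv : hermForm n F q v v = 0 := by rw [hv, hb, if_neg (hn t).symm]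
  -- the pivot
  have hne : (Finset.univ.filter fun l => coef q b' l v ≠ 0).Nonempty := by
    rw [Finset.filter_nonempty_iff]
    by_contra h
    push Not at h
    have h0 : v = 0 := by
      rw [← Frame.sum_coef hF hb' v]
      exact Finset.sum_eq_zero fun l _ => by rw [h l (Finset.mem_univ _), zero_smul]
    have := hb t t.rev
    rw [if_pos rfl, ← hv, h0, h_zero_left] at this
    exact zero_ne_one this
  set i := (Finset.univ.filter fun l => coef q b' l v ≠ 0).max' hne with hi
  have hai : coef q b' i v ≠ 0 := (Finset.mem_filter.1 (Finset.max'_mem _ hne)).2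
  have htop : ∀ l, i < l → coef q b' l v = 0 := fun l hl => by
    by_contra h
    exact absurd (Finset.le_max' _ l (Finset.mem_filter.2 ⟨Finset.mem_univ _, h⟩)) (not_le.2 hl)
  -- matched members
  have matched : ∀ l m : Fin n, ((l : ℕ) < t ∨ (t.rev : ℕ) < l) → b l = b' m →
      hermForm n F q (b' m) v = 0 ∧ m ≠ i ∧ m ≠ i.rev := by
    intro l m hl he
    have h0 : hermForm n F q (b' m) v = 0 := by
      rw [← he, hv, hb, if_neg]
      intro e
      subst e
      simp only [Fin.val_rev] at ht hl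
      have := l.2
      omega
    have h0' : coef q b' m.rev v = 0 := by
      rw [coef, Fin.rev_rev]; exact (h_eq_zero_comm hF).1 h0
    refine ⟨h0, fun e => ?_, fun e => hai (by rwa [e, Fin.rev_rev] at h0')⟩
    -- the partner of a matched member is matched
    obtain ⟨m', hm'⟩ := hm l.rev (by have := l.2; have := t.2; simp only [Fin.val_rev] at hl ⊢; omega)
    have e1 : m' = m.rev := by
      have := hb l l.rev
      rw [if_pos rfl, he, hm', hb'] at this
      by_contra h
      rw [if_neg h] at this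
      exact zero_ne_one this
    apply hai
    rw [← e, coef, ← e1, ← hm', hv, hb, if_neg]
    intro h
    rw [Fin.rev_inj] at h
    subst h
    omega
  set a := hermForm n F q v (b' i.rev) with ha
  have ha0 : a ≠ 0 := hai
  obtain ⟨f, hf⟩ : ∃ f, f = (a⁻¹) ^ q • b' i.rev := ⟨_, rfl⟩
  have hvf : hermForm n F q v f = 1 := by
    rw [hf, h_smul_right hF, pow_q_pow_q hF, ← ha, inv_mul_cancel₀ ha0]
  have hfv : hermForm n F q f v = 1 := by rw [h_symm hF, hvf, one_pow]
  have hff : hermForm n F q f f = 0 := by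
    rw [hf, h_smul_left, h_smul_right hF, hb', if_neg (hn _).symm, mul_zero, mul_zero]
  have hfb' : ∀ m, m ≠ i → hermForm n F q (b' m) f = 0 := by
    intro m hmi
    rw [hf, h_smul_right hF, hb', if_neg (fun e => hmi (Fin.rev_inj.1 e).symm), mul_zero]
  set c' : Fin n → Fin n → F := fun m =>
    if m = i then v else if m = i.rev then f else b' m - hermForm n F q (b' m) v • f with hc'
  set c : Fin n → Fin n → F := fun l =>
    if l = t then v else if l = t.rev then f else b l - hermForm n F q (b l) f • v with hc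
  have hci : c' i = v := by simp [hc']
  have hcj : c' i.rev = f := by simp [hc', hn i]
  have hctv : c t = v := by simp [hc]
  have hctf : c t.rev = f := by simp [hc, hn t]
  -- a general computation
  have gram : ∀ (d e : Fin n → Fin n → F) (s : Fin n) (z w : Fin n → F), Frame q d →
      hermForm n F q z z = 0 → hermForm n F q w w = 0 → hermForm n F q z w = 1 →
      e s = z → e s.rev = w →
      (∀ m, m ≠ s → m ≠ s.rev → hermForm n F q (e m) z = 0 ∧ hermForm n F q (e m) w = 0) →
      (∀ m m', m ≠ s → m ≠ s.rev → m' ≠ s → m' ≠ s.rev →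
        hermForm n F q (e m) (e m') = hermForm n F q (d m) (d m')) → Frame q e := by
    intro d e s z w hd hzz hww hzw hes her hz hmm m m'
    have hwz : hermForm n F q w z = 1 := by rw [h_symm hF, hzw, one_pow]
    by_cases h1 : m = s
    · subst h1
      by_cases h2 : m' = m
      · subst h2; rw [hes, hzz, if_neg (hn m').symm]
      · by_cases h3 : m' = m.rev
        · rw [h3, hes, her, hzw, if_pos rfl]
        · rw [hes, if_neg h3, h_eq_zero_comm hF]; exact (hz m' h2 h3).1
    · by_cases h1' : m = s.rev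
      · subst h1'
        rw [Fin.rev_rev]
        by_cases h2 : m' = s
        · subst h2; rw [hes, her, hwz, if_pos rfl]
        · by_cases h3 : m' = s.rev
          · rw [h3, her, hww, if_neg (hn s)]
          · rw [her, if_neg h2, h_eq_zero_comm hF]; exact (hz m' h2 h3).2
      · have hnot : s ≠ m.rev ∧ s.rev ≠ m.rev :=
          ⟨fun e => h1' (by rw [e, Fin.rev_rev]), fun e => h1 (Fin.rev_inj.1 e).symm⟩
        by_cases h2 : m' = s
        · subst h2; rw [hes, (hz m h1 h1').1, if_neg hnot.1]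
        · by_cases h3 : m' = s.rev
          · rw [h3, her, (hz m h1 h1').2, if_neg hnot.2]
          · rw [hmm m m' h1 h1' h2 h3, hd]
  have hc'frame : Frame q c' := by
    refine gram b' c' i v f hb' hvv hff hvf hci hcj ?_ ?_
    · intro m h1 h2
      simp only [hc', if_neg h1, if_neg h2]
      constructor
      · rw [h_sub_left, h_smul_left, hfv, mul_one, sub_self]
      · rw [h_sub_left, h_smul_left, hff, mul_zero, sub_zero, hfb' m h1]
    · intro m m' h1 h2 h3 h4
      simp only [hc', if_neg h1, if_neg h2, if_neg h3, if_neg h4]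
      rw [h_sub_left, h_smul_left, h_sub_right hF, h_sub_right hF, h_smul_right hF, h_smul_right hF,
        hfb' m h1, hff, (h_eq_zero_comm hF).1 (hfb' m' h3)]
      ring
  have hbt : ∀ l, l ≠ t.rev → hermForm n F q (b l) v = 0 := fun l hl => by
    rw [hv, hb, if_neg fun e => hl (by rw [e, Fin.rev_rev])]
  have hcframe : Frame q c := by
    refine gram b c t v f hb hvv hff hvf hctv hctf ?_ ?_
    · intro l h1 h2
      simp only [hc, if_neg h1, if_neg h2]
      constructor
      · rw [h_sub_left, h_smul_left, hvv, mul_zero, sub_zero, hbt l h2]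
      · rw [h_sub_left, h_smul_left, hvf, mul_one, sub_self]
    · intro l l' h1 h2 h3 h4
      simp only [hc, if_neg h1, if_neg h2, if_neg h3, if_neg h4]
      rw [h_sub_left, h_smul_left, h_sub_right hF, h_sub_right hF, h_smul_right hF, h_smul_right hF,
        hbt l h2, hvv, (h_eq_zero_comm hF).1 (hbt l' h4)]
      ring
  -- matched members are untouched
  have keep : ∀ l m : Fin n, ((l : ℕ) < t ∨ (t.rev : ℕ) < l) → b l = b' m →
      c l = b l ∧ c' m = b' m := by
    intro l m hl he
    obtain ⟨h0, h1, h2⟩ := matched l m hl he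
    constructor
    · simp only [hc]
      rw [if_neg (fun e => by subst e; omega), if_neg (fun e => by subst e; omega)]
      rw [he, hfb' m h1, zero_smul, sub_zero]
    · simp only [hc', if_neg h1, if_neg h2, h0, zero_smul, sub_zero]
  refine ⟨c, c', hcframe, hc'frame, Frame.Fl_eq_of_tri hF hb hcframe ?_,
    Frame.Fl_eq_of_tri hF hb' hc'frame ?_, ?_⟩
  · intro l
    by_cases h1 : l = t
    · rw [h1, hctv, hv]; exact mem_Fl_self b (Nat.lt_succ_self _)
    by_cases h2 : l = t.rev
    · rw [h2, hctf, Frame.mem_Fl_iff hF hb]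
      intro x hx
      have hxr : (x.rev : ℕ) < t := by simp only [Fin.val_rev] at hx ⊢; omega
      obtain ⟨m, hm'⟩ := hm x.rev (Or.inl hxr)
      rw [coef, hm', h_eq_zero_comm hF]
      exact hfb' m (matched _ m (Or.inl hxr) hm').2.1
    simp only [hc, if_neg h1, if_neg h2]
    refine Submodule.sub_mem _ (mem_Fl_self b (Nat.lt_succ_self _)) ?_
    by_cases hl : (l : ℕ) < t
    · obtain ⟨m, hm'⟩ := hm l (Or.inl hl)
      rw [hm', hfb' m (matched _ m (Or.inl hl) hm').2.1, zero_smul]
      exact zero_mem _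
    · exact Submodule.smul_mem _ _ (by rw [hv]; exact mem_Fl_self b (by omega))
  · intro m
    by_cases h1 : m = i
    · rw [h1, hci, Frame.mem_Fl_iff hF hb']
      intro x hx
      exact htop x (Fin.lt_def.2 (Nat.lt_of_succ_le hx))
    by_cases h2 : m = i.rev
    · rw [h2, hcj, hf]
      exact Submodule.smul_mem _ _ (mem_Fl_self b' (Nat.lt_succ_self _))
    simp only [hc', if_neg h1, if_neg h2]
    refine Submodule.sub_mem _ (mem_Fl_self b' (Nat.lt_succ_self _)) ?_
    by_cases h3 : hermForm n F q (b' m) v = 0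
    · rw [h3, zero_smul]; exact zero_mem _
    · have h4 : m.rev ≤ i := by
        by_contra h
        have := htop m.rev (not_le.1 h)
        rw [coef, Fin.rev_rev] at this
        exact h3 ((h_eq_zero_comm hF).1 this)
      have h5 : i.rev ≤ m := Fin.rev_le_iff.1 h4
      refine Submodule.smul_mem _ _ ?_
      rw [hf]
      exact Submodule.smul_mem _ _ (mem_Fl_self b' (Nat.lt_succ_of_le (Fin.le_def.1 h5)))
  · intro l hl
    by_cases h1 : l = t
    · exact ⟨i, by rw [h1, hctv, hci]⟩
    by_cases h2 : l = t.rev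
    · exact ⟨i.rev, by rw [h2, hctf, hcj]⟩
    have hl' : (l : ℕ) < t ∨ (t.rev : ℕ) < l := by
      rcases hl with h | h
      · exact Or.inl (lt_of_le_of_ne h fun e => h1 (Fin.ext e))
      · exact Or.inr (lt_of_le_of_ne h fun e => h2 (Fin.ext e.symm))
    obtain ⟨m, hm'⟩ := hm l hl'
    obtain ⟨k1, k2⟩ := keep l m hl' hm'
    exact ⟨m, by rw [k1, k2, hm']⟩

/-- Two flags have a common frame. -/
theorem exists_common_frame (hn : ∀ i : Fin n, i.rev ≠ i) {b b' : Fin n → Fin n → F}
    (hb : Frame q b) (hb' : Frame q b') :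
    ∃ c, ∃ σ : Equiv.Perm (Fin n), Frame q c ∧ Frame q (c ∘ σ) ∧ (∀ i, Fl c i = Fl b i) ∧
      ∀ i, Fl (c ∘ σ) i = Fl b' i := by
  classical
  have main : ∀ t : ℕ, ∃ c c', Frame q c ∧ Frame q c' ∧ (∀ i, Fl c i = Fl b i) ∧
      (∀ i, Fl c' i = Fl b' i) ∧
      ∀ l : Fin n, (l : ℕ) < t ∨ (l.rev : ℕ) < t → ∃ m, c l = c' m := by
    intro t
    induction t with
    | zero =>
      exact ⟨b, b', hb, hb', fun _ => rfl, fun _ => rfl, fun l h => by omega⟩
    | succ t ih =>
      obtain ⟨c, c', hc, hc', h1, h2, hm⟩ := ih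
      by_cases hlt : t < n ∧ t < n - (t + 1)
      · set T : Fin n := ⟨t, hlt.1⟩
        obtain ⟨d, d', hd, hd', e1, e2, hm'⟩ := frame_step hF hn hc hc' (t := T)
          (by simp only [T, Fin.val_rev]; omega)
          (fun l hl => hm l (by simp only [T, Fin.val_rev] at hl ⊢; omega))
        exact ⟨d, d', hd, hd', fun i => by rw [e1, h1], fun i => by rw [e2, h2],
          fun l hl => hm' l (by simp only [T, Fin.val_rev] at hl ⊢; omega)⟩
      · refine ⟨c, c', hc, hc', h1, h2, fun l hl => hm l ?_⟩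
        have hl2 := l.2
        have hne : (l.rev : ℕ) ≠ (l : ℕ) := fun e => hn l (Fin.ext e)
        simp only [Fin.val_rev] at hl hne ⊢
        omega
  obtain ⟨c, c', hc, hc', h1, h2, hm⟩ := main n
  choose s hs using fun l => hm l (Or.inl l.2)
  have hinj : Function.Injective s := fun l l' e =>
    (Frame.linearIndependent hF hc).injective (by rw [hs, hs, e])
  let σ := (Equiv.ofBijective s (Finite.injective_iff_bijective.1 hinj)).symm
  have hσ : c ∘ σ = c' := by
    funext m
    show c (σ m) = c' m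
    rw [hs]
    congr 1
    exact (Equiv.ofBijective s _).apply_symm_apply m
  exact ⟨c, σ, hc, hσ ▸ hc', h1, hσ ▸ h2⟩

/-- Root elements of the unipotent subgroup of a frame. -/
theorem exists_root (hn : ∀ i : Fin n, i.rev ≠ i) {c : Fin n → Fin n → F} (hc : Frame q c)
    {a b : Fin n} (hab : a < b) :
    ∃ g ∈ Unip q c, ∃ x : F, x ≠ 0 ∧ suMat g *ᵥ c b = c b + x • c a := by
  classical
  -- the images of the frame
  obtain ⟨x, y, hx, hxy, hy⟩ : ∃ x y : F, x ≠ 0 ∧ (a ≠ b.rev → x + y ^ q = 0) ∧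
      (a = b.rev → x + x ^ q = 0 ∧ y = 0) := by
    by_cases h : a = b.rev
    · obtain ⟨x, hx0, hx⟩ : ∃ x : F, x ≠ 0 ∧ x + x ^ q = 0 := by
        obtain ⟨x, hx⟩ := H50.exists_trace_zero_ne_zero hF
        first
          | exact ⟨x, hx.1, hx.2⟩
          | exact ⟨x, hx.2, hx.1⟩
      exact ⟨x, 0, hx0, fun h' => absurd h h', fun _ => ⟨hx, rfl⟩⟩
    · exact ⟨1, -1, one_ne_zero, fun _ => by rw [neg_pow_q hF, one_pow, add_neg_cancel],
        fun h' => absurd h' h⟩
  let d : Fin n → Fin n → F := fun l =>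
    c l + ((if l = b then x else 0) • c a + (if l = a.rev then y else 0) • c b.rev)
  have hab' : a ≠ b := ne_of_lt hab
  have hgram : SameGram q c d := by
    intro l m
    have hz0 : (0 : F) ^ q = 0 := zero_pow (q_ne_zero hF)
    have hsum : (x + y ^ q = 0 ∧ a ≠ b.rev) ∨ (a = b.rev ∧ y = 0 ∧ x + x ^ q = 0) := by
      by_cases h : a = b.rev
      · exact Or.inr ⟨h, (hy h).2, (hy h).1⟩
      · exact Or.inl ⟨hxy h, h⟩
    obtain ⟨z, hz⟩ : ∃ z : Fin n → Fin n → F, ∀ l, z l =
        (if l = b then x else 0) • c a + (if l = a.rev then y else 0) • c b.rev := ⟨_, fun _ => rfl⟩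
    have zc : ∀ l m, hermForm n F q (z l) (c m) =
        (if l = b ∧ m = a.rev then x else 0) + (if l = a.rev ∧ m = b then y else 0) := by
      intro l m
      rw [hz, h_add_left, h_smul_left, h_smul_left, hc a m, hc b.rev m, Fin.rev_rev]
      congr 1
      · by_cases h1 : l = b <;> by_cases h2 : m = a.rev <;> simp [h1, h2]
      · by_cases h1 : l = a.rev <;> by_cases h2 : m = b <;> simp [h1, h2]
    have cz : ∀ l m, hermForm n F q (c l) (z m) =
        (if m = b ∧ l = a.rev then x ^ q else 0) + (if m = a.rev ∧ l = b then y ^ q else 0) := by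
      intro l m
      rw [h_symm hF, zc, add_pow_q hF, ite_pow, ite_pow, hz0]
    have zz : hermForm n F q (z l) (z m) = 0 := by
      rw [hz m, h_add_right hF, h_smul_right hF, h_smul_right hF, zc, zc]
      rcases hsum with ⟨hs, -⟩ | ⟨he, hy0, -⟩
      · have e1 : a ≠ a.rev := (hn a).symm
        have e2 : b.rev ≠ a.rev := fun e => hab' (Fin.rev_inj.1 e).symm
        simp [e1, e2, hab', hn b]
      · subst hy0
        simp [(hn a).symm, hz0, hab']
    show _ = hermForm n F q (c l + _) (c m + _)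
    rw [← hz, ← hz, h_add_left, h_add_right hF, h_add_right hF, zc, cz, zz]
    rcases hsum with ⟨hs, hne⟩ | ⟨he, hy0, hs⟩
    · have e5 : b ≠ a.rev := fun e => hne (by rw [e, Fin.rev_rev])
      have hs' : y + x ^ q = 0 := by
        have := congrArg (· ^ q) hs
        simp only [add_pow_q hF, pow_q_pow_q hF, hz0] at this
        linear_combination this
      have e6 := e5.symm
      by_cases h1 : l = b <;> by_cases h2 : l = a.rev
      case pos => exact absurd (h1.symm.trans h2) e5
      all_goals by_cases h3 : m = b <;> by_cases h4 : m = a.rev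
      all_goals (try exact absurd (h3.symm.trans h4) e5)
      all_goals simp [h1, h2, h3, h4, e5, e6] <;>
        first
          | linear_combination hs
          | linear_combination -hs
          | linear_combination hs'
          | linear_combination -hs'
          | linear_combination hs + hs'
          | linear_combination -hs - hs'
    · subst hy0
      have e : b = a.rev := by rw [he, Fin.rev_rev]
      by_cases h1 : l = b <;> by_cases h3 : m = b <;> simp [h1, h3, ← e, hz0] <;>
        first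
          | linear_combination hs
          | linear_combination -hs
  obtain ⟨M, hM, hMc⟩ := exists_iso_of_basis hF (Fintype.card_fin n) (Frame.linearIndependent hF hc) hgram
  -- `M` is unipotent on the flag
  have hflag : ∀ (i : ℕ) v, v ∈ Fl c (i + 1) → M *ᵥ v - v ∈ Fl c i := by
    intro i v hv
    have : Fl c (i + 1) ≤ (Fl c i).comap (M.mulVecLin - LinearMap.id) := by
      rw [Fl, Submodule.span_le]
      rintro _ ⟨⟨l, hl⟩, rfl⟩
      show M *ᵥ c l - c l ∈ Fl c i
      rw [hMc, show d l - c l = (if l = b then x else 0) • c a + (if l = a.rev then y else 0) • c b.rev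
        from add_sub_cancel_left _ _]
      refine Submodule.add_mem _ ?_ ?_
      · split_ifs with h
        · subst h
          exact Submodule.smul_mem _ _ (mem_Fl_self c (by have := Fin.lt_def.1 hab; omega))
        · rw [zero_smul]; exact zero_mem _
      · split_ifs with h
        · subst h
          refine Submodule.smul_mem _ _ (mem_Fl_self c ?_)
          have := Fin.lt_def.1 (Fin.rev_lt_rev.2 hab)
          omega
        · rw [zero_smul]; exact zero_mem _
    exact this hv
  have hnil : IsNilpotent (M - 1) := by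
    refine ⟨n, Matrix.ext_iff_mulVec.2 fun v => ?_⟩
    have key : ∀ (k i : ℕ) (v : Fin n → F), v ∈ Fl c (i + k) → (M - 1) ^ k *ᵥ v ∈ Fl c i := by
      intro k
      induction k with
      | zero => intro i v hv; simpa using hv
      | succ k ih =>
        intro i v hv
        rw [pow_succ', ← mulVec_mulVec, sub_mulVec, one_mulVec]
        exact hflag i _ (ih (i + 1) v (by rwa [show i + 1 + k = i + (k + 1) by omega]))
    have := key n 0 v (by rw [zero_add, Frame.Fl_top hF hc]; trivial)
    rw [Frame.Fl_zero hF hc, Submodule.mem_bot] at this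
    rw [this, zero_mulVec]
  refine ⟨mkSU M hM (det_eq_one_of_sub_nilpotent hnil), hflag, x, hx, ?_⟩
  show M *ᵥ c b = _
  rw [hMc]
  show c b + _ = _
  by_cases h : b = a.rev
  · have := (hy (by rw [h]; exact (Fin.rev_rev a).symm)).2
    simp [← h, this]
  · simp [h]

/-- The unipotent subgroup determines the flag. -/
theorem perm_eq_one_of_unip (hn : ∀ i : Fin n, i.rev ≠ i) {c : Fin n → Fin n → F}
    (σ : Equiv.Perm (Fin n)) (hc : Frame q c) (hcσ : Frame q (c ∘ σ))
    (h : Unip q (c ∘ σ) = Unip q c) : σ = 1 := by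
  classical
  have mono : ∀ a b : Fin n, a < b → σ.symm a < σ.symm b := by
    intro a b hab
    by_contra hcon
    obtain ⟨g, hg, x, hx, hgb⟩ := exists_root hF hn hc hab
    rw [← h] at hg
    have h1 := hg (σ.symm b : ℕ) (c b) (by
      have := mem_Fl_self (c ∘ σ) (Nat.lt_succ_self (σ.symm b : ℕ))
      simpa using this)
    rw [hgb, add_sub_cancel_left] at h1
    have h2 := (Frame.mem_Fl_iff hF hcσ).1 h1 (σ.symm a) (Fin.le_def.1 (not_lt.1 hcon))
    have h3 : coef q (c ∘ σ) (σ.symm a) (c a) = 1 := by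
      have := hcσ (σ.symm a) (σ.symm a).rev
      rw [if_pos rfl] at this
      simpa [coef] using this
    rw [coef, h_smul_left] at h2
    rw [coef] at h3
    rw [h3, mul_one] at h2
    exact hx h2
  have hid : (σ.symm : Fin n → Fin n) = id := by
    first
      | exact mono.eq_id
      | exact StrictMono.id_unique mono
      | exact (Fin.strictMono_unique_of_range_eq mono strictMono_id (by simp [σ.symm.surjective.range_eq]))
      | exact (StrictMono.range_inj mono strictMono_id).1 (by simp [σ.symm.surjective.range_eq])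
  have : σ.symm = 1 := Equiv.ext fun a => congrFun hid a
  rw [← σ.symm_symm, this]
  rfl

/-- The normalizer of the unipotent subgroup is the flag stabiliser. -/
theorem normalizer_unip (hn : ∀ i : Fin n, i.rev ≠ i) {b : Fin n → Fin n → F} (hb : Frame q b) :
    Subgroup.normalizer (Unip q b : Set (SU n F q)) = Borel q b := by
  refine le_antisymm ?_ (borel_le_normalizer b)
  intro g hg
  have hgb := frame_smul hF g hb
  obtain ⟨c, σ, hc, hcσ, h1, h2⟩ := exists_common_frame hF hn hb hgb
  have hU : Unip q (c ∘ σ) = Unip q c := by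
    rw [(borel_eq_of_Fl hF h2).2, unip_smul hF, H73.mem_normalizer_iff_cj.1 hg,
      (borel_eq_of_Fl hF h1).2]
  have hσ := perm_eq_one_of_unip hF hn σ hc hcσ hU
  subst hσ
  intro i v hv
  have hv' : suMat g *ᵥ v ∈ Fl (fun l => suMat g *ᵥ b l) i :=
    (mem_Fl_smul hF).2 (by rwa [suMat_inv_mul])
  rw [← h2, show c ∘ ⇑(1 : Equiv.Perm (Fin n)) = c from rfl, h1] at hv'
  exact hv'

/-- Every element of a flag stabiliser differs by a unipotent one from an element normalizing the
unipotent subgroup of any other flag. -/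
theorem borel_factor (hn : ∀ i : Fin n, i.rev ≠ i) {b b' : Fin n → Fin n → F} (hb : Frame q b)
    (hb' : Frame q b') {x : SU n F q} (hx : x ∈ Borel q b) :
    ∃ u ∈ Unip q b, u⁻¹ * x ∈ Subgroup.normalizer (Unip q b' : Set (SU n F q)) := by
  classical
  obtain ⟨c, σ, hc, hcσ, h1, h2⟩ := exists_common_frame hF hn hb hb'
  obtain ⟨e1, e2⟩ := borel_eq_of_Fl hF h1
  rw [← e2, ← (borel_eq_of_Fl hF h2).2]
  rw [← e1] at hx
  -- diagonal part
  set dl : Fin n → F := fun l => coef q c l (suMat x *ᵥ c l) with hdl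
  have htri : ∀ l : Fin n, suMat x *ᵥ c l - dl l • c l ∈ Fl c (l : ℕ) := by
    intro l
    rw [Frame.mem_Fl_iff hF hc]
    intro m hm
    simp only [coef, h_sub_left, h_smul_left, hc _ _, Fin.rev_inj]
    by_cases hml : m = l
    · subst hml; simp [hdl, coef]
    · have hm' : (l : ℕ) < (m : ℕ) := lt_of_le_of_ne hm fun e => hml (Fin.ext e.symm)
      have := (Frame.mem_Fl_iff hF hc).1 (hx ((l : ℕ) + 1) (c l) (mem_Fl_self c (Nat.lt_succ_self _)))
        m hm'
      rw [coef] at this
      rw [this, if_neg hml, mul_zero, sub_zero]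
  have hperp : ∀ (l m : Fin n) (w : Fin n → F), w ∈ Fl c (l : ℕ) → (m : ℕ) ≤ (l.rev : ℕ) →
      hermForm n F q w (c m) = 0 := by
    intro l m w hw hm
    have := (Frame.mem_Fl_iff hF hc).1 hw m.rev (by simp only [Fin.val_rev] at hm ⊢; omega)
    rwa [coef, Fin.rev_rev] at this
  have hrel : ∀ l : Fin n, dl l * dl l.rev ^ q = 1 := by
    intro l
    have h0 := SU_isIso x (c l) (c l.rev)
    rw [hc l l.rev, if_pos rfl] at h0
    obtain ⟨w, hw, hwe⟩ : ∃ w ∈ Fl c (l : ℕ), suMat x *ᵥ c l = dl l • c l + w :=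
      ⟨_, htri l, (add_sub_cancel _ _).symm⟩
    obtain ⟨w', hw', hwe'⟩ : ∃ w' ∈ Fl c (l.rev : ℕ), suMat x *ᵥ c l.rev = dl l.rev • c l.rev + w' :=
      ⟨_, htri l.rev, (add_sub_cancel _ _).symm⟩
    have z1 : hermForm n F q w (c l.rev) = 0 := hperp l l.rev w hw le_rfl
    have z2 : hermForm n F q (c l) w' = 0 :=
      (h_eq_zero_comm hF).1 (hperp l.rev l w' hw' (by rw [Fin.rev_rev]))
    have z3 : hermForm n F q w w' = 0 := by
      rw [← Frame.sum_coef hF hc w', h_sum_right hF]
      refine Finset.sum_eq_zero fun m _ => ?_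
      rw [h_smul_right hF]
      rcases lt_or_ge (m : ℕ) (l.rev : ℕ) with hm | hm
      · rw [hperp l m w hw hm.le, mul_zero]
      · rw [(Frame.mem_Fl_iff hF hc).1 hw' m hm, zero_pow (q_ne_zero hF), zero_mul]
    show dl l * dl l.rev ^ q = 1
    rw [← h0]
    show _ = hermForm n F q (suMat x *ᵥ c l) (suMat x *ᵥ c l.rev)
    rw [hwe, hwe', h_add_left, h_add_right hF, h_add_right hF, h_smul_left, h_smul_left,
      h_smul_right hF, h_smul_right hF, z1, z2, z3, hc l l.rev, if_pos rfl]
    ring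
  have hgram : SameGram q c (fun l => dl l • c l) := by
    intro l m
    rw [h_smul_left, h_smul_right hF, hc]
    split_ifs with h
    · subst h; rw [mul_one, hrel]
    · ring
  obtain ⟨M, hM, hMc⟩ := exists_iso_of_basis hF (Fintype.card_fin n) (Frame.linearIndependent hF hc) hgram
  have hflag : ∀ (i : ℕ) v, v ∈ Fl c (i + 1) → suMat x *ᵥ v - M *ᵥ v ∈ Fl c i := by
    intro i v hv
    have : Fl c (i + 1) ≤ (Fl c i).comap ((suMat x).mulVecLin - M.mulVecLin) := by
      rw [Fl, Submodule.span_le]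
      rintro _ ⟨⟨l, hl⟩, rfl⟩
      show suMat x *ᵥ c l - M *ᵥ c l ∈ Fl c i
      rw [hMc]
      exact Fl_mono c (by omega) (htri l)
    exact this hv
  have hMdiag : ∀ (i : ℕ) v, v ∈ Fl (c ∘ σ) i → M *ᵥ v ∈ Fl (c ∘ σ) i := by
    intro i v hv
    have : Fl (c ∘ σ) i ≤ (Fl (c ∘ σ) i).comap M.mulVecLin := by
      conv_lhs => rw [Fl]
      rw [Submodule.span_le]
      rintro _ ⟨⟨l, hl⟩, rfl⟩
      simp only [SetLike.mem_coe, Submodule.mem_comap, mulVecLin_apply, Function.comp_apply, hMc]
      exact Submodule.smul_mem _ _ (mem_Fl_self (c ∘ σ) hl)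
    exact this hv
  have hMc' : ∀ (i : ℕ) v, v ∈ Fl c i → M *ᵥ v ∈ Fl c i := by
    intro i v hv
    have : Fl c i ≤ (Fl c i).comap M.mulVecLin := by
      conv_lhs => rw [Fl]
      rw [Submodule.span_le]
      rintro _ ⟨⟨l, hl⟩, rfl⟩
      simp only [SetLike.mem_coe, Submodule.mem_comap, mulVecLin_apply, hMc]
      exact Submodule.smul_mem _ _ (mem_Fl_self c hl)
    exact this hv
  -- determinant
  have hMdet0 := hM.det_ne_zero hF
  have hinvM : ∀ (i : ℕ) v, v ∈ Fl c i → M⁻¹ *ᵥ v ∈ Fl c i := by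
    intro i v hv
    have hsurj : Function.Surjective (M.mulVecLin.restrict (p := Fl c i) (q := Fl c i) (hMc' i)) := by
      refine LinearMap.injective_iff_surjective.1 fun p r hpr => Subtype.ext ?_
      exact hM.injective hF (congrArg Subtype.val hpr)
    obtain ⟨⟨w, hw⟩, he⟩ := hsurj ⟨v, hv⟩
    have he' : M *ᵥ w = v := congrArg Subtype.val he
    rw [← he', mulVec_mulVec, nonsing_inv_mul _ (Ne.isUnit hMdet0), one_mulVec]
    exact hw
  have hnil : IsNilpotent (suMat x * M⁻¹ - 1) := by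
    refine ⟨n, Matrix.ext_iff_mulVec.2 fun v => ?_⟩
    have key : ∀ (k i : ℕ) (v : Fin n → F), v ∈ Fl c (i + k) →
        (suMat x * M⁻¹ - 1) ^ k *ᵥ v ∈ Fl c i := by
      intro k
      induction k with
      | zero => intro i v hv; simpa using hv
      | succ k ih =>
        intro i v hv
        have h3 := hinvM (i + 1) _ (ih (i + 1) v (by rwa [show i + 1 + k = i + (k + 1) by omega]))
        have h4 := hflag i _ h3
        rw [pow_succ', ← mulVec_mulVec]
        generalize (suMat x * M⁻¹ - 1) ^ k *ᵥ v = z at h4 ⊢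
        rw [mulVec_mulVec z M M⁻¹, mul_nonsing_inv _ (Ne.isUnit hMdet0), one_mulVec] at h4
        rw [sub_mulVec, one_mulVec, ← mulVec_mulVec]
        exact h4
    have := key n 0 v (by rw [zero_add, Frame.Fl_top hF hc]; trivial)
    rw [Frame.Fl_zero hF hc, Submodule.mem_bot] at this
    rw [this, zero_mulVec]
  have hdet : M.det = 1 := by
    have h3 := det_eq_one_of_sub_nilpotent hnil
    rw [det_mul, det_nonsing_inv, show (suMat x).det = 1 from x.1.2, one_mul, Ring.inverse_eq_inv',
      inv_eq_one] at h3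
    exact h3
  let t : SU n F q := mkSU M hM hdet
  have ht : t ∈ Borel q c := fun i v hv => hMc' i v hv
  refine ⟨x * t⁻¹, ?_, ?_⟩
  · intro i v hv
    have h3 := (Borel q c).inv_mem ht (i + 1) v hv
    have h4 := hflag i _ h3
    rw [show M *ᵥ (suMat t⁻¹ *ᵥ v) = v from suMat_mul_inv t v] at h4
    rw [suMat_mul, ← mulVec_mulVec]
    exact h4
  · rw [show (x * t⁻¹)⁻¹ * x = t by group]
    exact borel_le_normalizer _ (fun i v hv => hMdiag i v hv)

/-- The unipotent subgroup of a flag is a Sylow subgroup. -/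
theorem exists_sylow (hn : ∀ i : Fin n, i.rev ≠ i) (hn0 : 0 < n) {p : ℕ} [Fact p.Prime] [CharP F p]
    {b : Fin n → Fin n → F} (hb : Frame q b) :
    ∃ P : Sylow p (SU n F q), (P : Subgroup (SU n F q)) = Unip q b := by
  obtain ⟨P, hP⟩ := (isPGroup_unip (p := p) hF hb hn0).exists_le_sylow
  refine ⟨P, ?_⟩
  by_contra hne
  have hlt : Unip q b < (P : Subgroup (SU n F q)) := lt_of_le_of_ne hP (Ne.symm hne)
  have := H73.lt_inf_normalizer P.2 hlt
  obtain ⟨x, hx, hxU⟩ := SetLike.exists_of_lt this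
  obtain ⟨k, hk⟩ := P.2 ⟨x, hx.1⟩
  have hx2 : x ∈ Borel q b := by rw [← normalizer_unip hF hn hb]; exact hx.2
  exact hxU (borel_pElement (p := p) hF hb hx2 (k := k) (congrArg Subtype.val hk))

end H37.SUF
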