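import Cfsg.Agent.H37.SUMinComplement

/-!
Scalar and diagonal elements of the Levi subgroup; the conjugate containing the Levi subgroup.
-/

set_option autoImplicit false

namespace H37.SUMin

open Matrix Cfsg H50 H50.PointStab H50.RadFrame

universe u

variable {F : Type u} [Field F] {m q : ℕ}

local notation "V" => (Fin (m + 2) → F)
local notation "hh" => hermForm (m + 2) F q
local notation "G" => SU (m + 2) F q

variable [Fintype F] (hF : Fintype.card F = q ^ 2)
include hF

section Pair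

variable {x y : Fin (m + 2) → F} (h : IsHyp q x y) {K : Subgroup (SU (m + 2) F q)}
include h

theorem diag_lev {e : Fin m → V} (he : IsFrame q x y e) {a : F} (ha : a ≠ 0) (d : Fin m → F)
    (hd : ∀ i, d i ^ (q + 1) = 1) (hdet : a * ∏ i, d i = a ^ q) :
    ∃ t ∈ lev q x y, eig q x y t = a ∧ ∀ i, suMat t *ᵥ e i = d i • e i := by
  obtain ⟨t, htx, hty, hte⟩ := exists_diag hF h he a ha d hd hdet
  exact ⟨t, ⟨⟨a, ha, htx⟩, ⟨_, inv_ne_zero (pow_ne_zero _ ha), hty⟩⟩,
    by rw [eig, htx, h_smul_left, h.2.2, mul_one], hte⟩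

/-- Diagonal elements of one frame commute. -/
theorem diag_comm {e : Fin m → V} (he : IsFrame q x y e) {s t : G} (hs : s ∈ lev q x y)
    (ht : t ∈ lev q x y) {c d : Fin m → F} (hsd : ∀ i, suMat s *ᵥ e i = c i • e i)
    (htd : ∀ i, suMat t *ᵥ e i = d i • e i) : s * t = t * s := by
  obtain ⟨-, hsx, hsy⟩ := lev_spec hF h hs
  obtain ⟨-, htx, hty⟩ := lev_spec hF h ht
  refine eq_of_agree hF h he ?_ ?_ fun i => ?_ <;>
    simp only [suMat_mulVec_mul, mulVec_smul, hsx, hsy, htx, hty, hsd, htd, smul_smul, mul_comm]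

/-- A scalar of the complement. -/
theorem exists_scalar_lev {a c : F} (ha : a ≠ 0) (hc : c ^ (q + 1) = 1) (hdet : a * c ^ m = a ^ q) :
    ∃ s ∈ lev q x y, eig q x y s = a ∧ (∀ w ∈ pperp q x y, suMat s *ᵥ w = c • w) ∧
      ∀ t ∈ lev q x y, s * t = t * s := by
  obtain ⟨e, he⟩ := exists_frame hF (m := m) rfl h
  obtain ⟨s, hs, hsa, hse⟩ := diag_lev hF h he ha (fun _ => c) (fun _ => hc)
    (by rw [Finset.prod_const, Finset.card_univ, Fintype.card_fin, hdet])
  have hw : ∀ w ∈ pperp q x y, suMat s *ᵥ w = c • w := by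
    intro w hw
    rw [frame_ext hF h he hw, mulVec_sum, Finset.smul_sum]
    exact Finset.sum_congr rfl fun i _ => by rw [mulVec_smul, hse, smul_comm]
  refine ⟨s, hs, hsa, hw, fun t ht => ?_⟩
  obtain ⟨-, hsx, hsy⟩ := lev_spec hF h hs
  obtain ⟨-, htx, hty⟩ := lev_spec hF h ht
  refine lev_ext hF h ?_ ?_ fun w hw' => ?_
  · simp only [suMat_mulVec_mul, mulVec_smul, hsx, htx, smul_smul, mul_comm]
  · simp only [suMat_mulVec_mul, mulVec_smul, hsy, hty, smul_smul, mul_comm]
  · rw [suMat_mulVec_mul, suMat_mulVec_mul, hw w hw', mulVec_smul, hw _ (lev_pperp hF h ht hw')]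

/-- Some scalar of the complement moves every class of the radical, unless `q = 2` and `m ≡ 1 (mod 3)`. -/
theorem exists_scalar_moving (hcase : ¬(q = 2 ∧ m % 3 = 1)) :
    ∃ a c : F, a ≠ 0 ∧ c ^ (q + 1) = 1 ∧ a * c ^ m = a ^ q ∧ a ^ q * c ≠ 1 := by
  classical
  by_cases hq3 : 3 ≤ q
  · haveI := Fintype.ofFinite {b : F // b ^ q = b}
    obtain ⟨⟨b, hb⟩, hb'⟩ : ∃ b : {b : F // b ^ q = b}, (b : F) ≠ 0 ∧ (b : F) ≠ 1 := by
      by_contra hcon
      simp only [not_exists, not_and, not_not] at hcon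
      have hle : Nat.card {b : F // b ^ q = b} ≤ Nat.card Bool := by
        refine Nat.card_le_card_of_injective (fun b => decide ((b : F) = 0)) fun b b' e => ?_
        simp only [decide_eq_decide] at e
        by_cases h0 : (b : F) = 0
        · exact Subtype.ext (h0.trans (e.1 h0).symm)
        · exact Subtype.ext ((hcon b h0).trans (hcon b' fun h' => h0 (e.2 h')).symm)
      rw [card_fixed hF, Nat.card_eq_fintype_card, Fintype.card_bool] at hle
      omega
    exact ⟨b, 1, hb'.1, one_pow _, by rw [one_pow, mul_one, hb], by rw [mul_one, hb]; exact hb'.2⟩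
  · have hq : q = 2 := by have := two_le hF; omega
    subst hq
    obtain ⟨w, hw⟩ : ∃ w : F, w ≠ 0 ∧ w ≠ 1 := by
      obtain ⟨w, -, hw⟩ := Finset.exists_mem_notMem_of_card_lt_card (s := ({0, 1} : Finset F))
        (t := Finset.univ) (by
          rw [Finset.card_univ, hF]
          have := Finset.card_le_two (a := (0 : F)) (b := 1)
          omega)
      exact ⟨w, by simpa [not_or] using hw⟩
    have h3 : w ^ 3 = 1 := by
      have := FiniteField.pow_card_sub_one_eq_one w hw.1
      rwa [hF] at this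
    obtain ⟨k, hk⟩ : ∃ k, m = 3 * k + 2 ∨ m = 3 * k := ⟨m / 3, by omega⟩
    rcases hk with rfl | rfl
    · refine ⟨w, w ^ 2, hw.1, ?_, ?_, fun h => hw.2 ?_⟩
      · rw [← pow_mul, mul_comm, pow_mul, h3, one_pow]
      · rw [← pow_mul, show 2 * (3 * k + 2) = 3 * (2 * k + 1) + 1 by ring, pow_succ _ (3 * (2 * k + 1)),
          pow_mul, h3, one_pow, one_mul, pow_two]
      · rw [← pow_add, show 2 + 2 = 3 + 1 from rfl, pow_succ, h3, one_mul] at h; exact h
    · refine ⟨1, w, one_ne_zero, h3, ?_, by rw [one_pow, one_mul]; exact hw.2⟩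
      rw [one_mul, one_pow, pow_mul, h3, one_pow]

/-- Everything in the Levi subgroup can be lifted over the centre. -/
theorem Exact.exists_lev_pureW (hK : Exact K x y) (hcase : ¬(q = 2 ∧ m % 3 = 1)) :
    ∃ u₀ ∈ H55.Psu.radU (q := q) x, lev q x y ≤ pureW hF h (conjK K u₀) := by
  obtain ⟨a, c, ha, hc, hdet, hac⟩ := exists_scalar_moving hF h hcase
  obtain ⟨s, hs, hsa, hsw, hcomm⟩ := exists_scalar_lev hF h ha hc hdet
  have hfix : ∀ w ∈ pperp q x y, act q x y s w = w → w = 0 := fun w hw e => by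
    rw [act, hsa, hsw w hw, smul_smul] at e
    by_contra hw0
    exact hac (smul_left_injective F hw0 (show (a ^ q * c) • w = (1 : F) • w by rw [e, one_smul]))
  obtain ⟨u₀, hu₀, hsP⟩ := hK.exists_pureW hF h hs hfix
  exact ⟨u₀, hu₀, fun t ht => (hK.conj hF h hu₀).pureW_of_comm hF h hsP hfix ht (hcomm t ht)⟩

/-- The Levi subgroup is inside a conjugate. -/
theorem Exact.exists_lev_le (hK : Exact K x y) (hm : 3 ≤ m) (h32 : ¬(m = 3 ∧ q = 2))
    (hp : lev q x y ≤ pureW hF h K) :
    ∃ z ∈ zRad hF h, lev q x y ≤ conjK K z := by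
  obtain ⟨e, he⟩ := exists_frame hF (m := m) rfl h
  obtain ⟨i, rfl⟩ : ∃ i, m = i + 1 := ⟨m - 1, by omega⟩
  have hdiag : ∀ a : F, a ≠ 0 → ∃ t ∈ lev q x y, eig q x y t = a ∧
      ∀ j, suMat t *ᵥ e j = (if j = 0 then a ^ q / a else 1) • e j := by
    intro a ha
    refine diag_lev hF h he ha _ (fun j => ?_) ?_
    · split_ifs
      · rw [div_pow, pow_succ, pow_succ, ← pow_mul, show q * q = q ^ 2 by ring, ← hF,
          FiniteField.pow_card, mul_comm (a ^ q) a, div_self (mul_ne_zero ha (pow_ne_zero _ ha))]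
      · rw [one_pow]
    · rw [Finset.prod_ite_eq' Finset.univ (0 : Fin (i + 1))]; simp [mul_div_cancel₀ _ ha]
  -- it suffices to have the derived group and the diagonal elements
  have hfin : ∀ K' : Subgroup (SU (i + 1 + 2) F q), stab2 (q := q) x y ≤ K' →
      (∀ t ∈ lev q x y, (∀ j, suMat t *ᵥ e j =
        (if j = 0 then eig q x y t ^ q / eig q x y t else 1) • e j) → t ∈ K') → lev q x y ≤ K' := by
    intro K' h1 h2 g hg
    obtain ⟨t, ht, hta, hte⟩ := hdiag _ (eig_spec h hg.1).1
    have htK : t ∈ K' := h2 t ht fun j => by rw [hte j, hta]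
    have : g * t⁻¹ ∈ K' := h1 ((stab2_iff_eig hF h).2 ⟨mul_mem hg (inv_mem ht), by
      rw [eig_mul h hg.1 (inv_mem ht.1), eig_inv hF h ht, hta, mul_inv_cancel₀ (eig_spec h hg.1).1]⟩)
    have := mul_mem this htK
    rwa [inv_mul_cancel_right] at this
  by_cases hq3 : 3 ≤ q
  · obtain ⟨a₁, ha₁, ha₁N⟩ : ∃ a : F, a ≠ 0 ∧ a ^ (q + 1) ≠ 1 := by
      obtain ⟨a, c, ha, -, hd, hac⟩ := exists_scalar_moving hF h (fun hh' => by omega)
      by_contra hcon
      simp only [not_exists, not_and, not_not] at hcon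
      obtain ⟨d, hd0, hd1⟩ : ∃ d : F, d + d ^ q = 0 ∧ d ≠ 0 := by
        obtain ⟨d, h1, h2⟩ := exists_trace_zero_ne_zero hF; exact ⟨d, h2, h1⟩
      -- every unit would have norm one, so at most `q + 1` units
      have hle : Nat.card Fˣ ≤ Nat.card {x : F // x ^ (q + 1) = 1} :=
        Nat.card_le_card_of_injective (fun u => ⟨(u : F), hcon _ u.ne_zero⟩)
          fun u u' e => Units.ext (congrArg Subtype.val e)
      rw [card_norm_eq hF (one_pow q) one_ne_zero, Nat.card_units, Nat.card_eq_fintype_card, hF] at hle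
      have : q * 3 ≤ q ^ 2 := by rw [pow_two]; exact Nat.mul_le_mul_left _ hq3
      omega
    obtain ⟨s, hs, hsa, hse⟩ := hdiag a₁ ha₁
    obtain ⟨z, hz, hsK⟩ := exists_pure hF h (hp hs) (by rw [hsa]; exact ha₁N)
    refine ⟨z, hz, ?_⟩
    have hK' := hK.conj hF h hz.1
    have hp' : lev q x y ≤ pureW hF h (conjK K z) := fun t ht => pureW_conj hF h hz (hp ht)
    refine hfin _ (stab2_le_of_perfect hF h hm h32 ((stab2_le_lev hF h).trans hp')) fun t ht hte => ?_
    exact hK'.mem_of_comm hF h hs hsK (by rw [hsa]; exact ha₁N) (hp' ht)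
      (diag_comm hF h he hs ht hse hte)
  · have hq : q = 2 := by have := two_le hF; omega
    subst hq
    refine ⟨1, one_mem _, ?_⟩
    have hK1 : conjK K (1 : SU (i + 1 + 2) F 2) = K := by ext g; rw [mem_conjK]; simp
    rw [hK1]
    refine hfin _ (stab2_le_of_perfect hF h hm h32 ((stab2_le_lev hF h).trans hp)) fun t ht hte => ?_
    have h4 : ∀ a : F, a ≠ 0 → a ^ 3 = 1 := fun a ha => by
      have := FiniteField.pow_card_sub_one_eq_one a ha
      rwa [hF] at this
    have h2 : (2 : F) = 0 := by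
      have := FiniteField.cast_card_eq_zero F
      rw [hF] at this
      rw [Nat.cast_pow, Nat.cast_ofNat] at this
      exact pow_eq_zero_iff two_ne_zero |>.1 this
    have hsq := hK.sq_mem hF h h2 (hp ht) (h4 _ (eig_spec h ht.1).1)
    obtain ⟨h0, htx, hty⟩ := lev_spec hF h ht
    have e4 : t * t * (t * t) = t := by
      refine eq_of_agree hF h he ?_ ?_ fun j => ?_
      · simp only [suMat_mulVec_mul, mulVec_smul, htx, smul_smul]
        congr 1
        linear_combination eig 2 x y t * h4 _ h0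
      · simp only [suMat_mulVec_mul, mulVec_smul, hty, smul_smul]
        congr 1
        linear_combination (eig 2 x y t ^ 2)⁻¹ * h4 _ (inv_ne_zero (pow_ne_zero 2 h0))
      · simp only [suMat_mulVec_mul, mulVec_smul, hte, smul_smul]
        congr 1
        have : (if j = 0 then eig 2 x y t ^ 2 / eig 2 x y t else (1 : F)) ≠ 0 := by
          split_ifs
          · exact div_ne_zero (pow_ne_zero _ h0) h0
          · exact one_ne_zero
        linear_combination (if j = 0 then eig 2 x y t ^ 2 / eig 2 x y t else (1 : F)) * h4 _ this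
    rw [← e4]
    exact mul_mem hsq hsq

end Pair

end H37.SUMin
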