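import Cfsg.Agent.H37.SUMinOrbit
import Cfsg.Agent.H37.SUMinLevi
import Cfsg.Agent.H50.SU3Borel
import Cfsg.Agent.H50.SU3Inv

/-!
Subgroups of three-dimensional special unitary groups keeping a large additive group with small
skew part.
-/

set_option autoImplicit false

namespace H37.SUMin

open Matrix Cfsg H50 H50.PointStab H50.RadFrame

universe u

variable {F : Type u} [Field F] {q : ℕ}

local notation "h3" => hermForm 3 F q

variable [Fintype F] (hF : Fintype.card F = q ^ 2)
include hF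

theorem card_isoPt_three : Nat.card (IsoPt 3 q F) = q ^ 3 + 1 := by
  have hq := two_le hF
  have h := card_isoPt_mul hF (n := 3)
  have h0 := q_mul_norm_zero_count hF (n := 3)
  rw [← h] at h0
  push_cast [Nat.cast_sub (Nat.one_le_pow 2 q (by omega))] at h0
  have e : ((q : ℤ) * ((q : ℤ) ^ 2 - 1)) * (Nat.card (IsoPt 3 q F) : ℤ) =
      ((q : ℤ) * ((q : ℤ) ^ 2 - 1)) * ((q : ℤ) ^ 3 + 1) := by linear_combination h0
  have hne : ((q : ℤ) * ((q : ℤ) ^ 2 - 1)) ≠ 0 := by
    have : (2 : ℤ) ≤ q := by exact_mod_cast hq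
    have h4 : (4 : ℤ) ≤ (q : ℤ) ^ 2 := by nlinarith
    exact mul_ne_zero (by omega) (by omega)
  exact_mod_cast mul_left_cancel₀ hne e

/-- Isotropic orthogonal vectors are dependent. -/
theorem iso_line {v w : Fin 3 → F} (hv0 : v ≠ 0) (hv : h3 v v = 0) (hw : h3 w w = 0)
    (hwv : h3 w v = 0) : ∃ a : F, w = a • v := by
  obtain ⟨f, z, hf, hz, hzv, hzf, hexp⟩ := Borel3.exists_frame_at hF hv0 hv
  refine ⟨h3 w f, ?_⟩
  have e := hexp w
  rw [hwv, zero_smul, add_zero] at e
  suffices hβ : h3 w z = 0 by rwa [hβ, zero_smul, add_zero] at e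
  generalize h3 w f = a, h3 w z = b at e ⊢
  subst e
  simp [h_add_left, h_add_right hF, h_smul_left, h_smul_right hF, hv, hz, hzv,
    (h_eq_zero_comm hF).1 hzv, zero_pow (q_ne_zero hF)] at hw
  rcases hw with h' | h' <;> first | exact h' | exact h'.1

section Low

variable {ψ : AddChar F ℂ} {t : F} (ht : t + t ^ q = 0) (hψ : ψ t ≠ 1)
  {I : AddSubgroup (Fin 3 → F)} (hI : ∀ a ∈ I, ∀ b ∈ I, ψ (skew q a b) = 1)
include ht hψ hI

theorem card_perpI_iso {v : Fin 3 → F} (hv0 : v ≠ 0) (hv : h3 v v = 0) :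
    Nat.card (perpI q I v) ≤ Nat.card (lineSub I v) * q := by
  obtain ⟨f, z, hf, hz, hzv, hzf, hexp⟩ := Borel3.exists_frame_at hF hv0 hv
  have hvz := (h_eq_zero_comm hF).1 hzv
  let B : AddSubgroup F :=
    { carrier := {b | ∃ i ∈ perpI q I v, h3 i z = b}
      zero_mem' := ⟨0, zero_mem _, h_zero_left z⟩
      add_mem' := by
        rintro _ _ ⟨i, hi, rfl⟩ ⟨j, hj, rfl⟩
        exact ⟨i + j, add_mem hi hj, h_add_left i j z⟩
      neg_mem' := by
        rintro _ ⟨i, hi, rfl⟩
        exact ⟨-i, neg_mem hi, h_neg_left i z⟩ }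
  have hBB : Nat.card B * Nat.card B ≤ q ^ 2 := by
    refine line_pairing hF ht hψ one_ne_zero B B ?_
    rintro _ ⟨i, hi, rfl⟩ _ ⟨j, hj, rfl⟩
    have e := hI i hi.1 j hj.1
    have hij : skew q i j = h3 i z * h3 j z ^ q * 1 - (h3 i z * h3 j z ^ q * 1) ^ q := by
      have ei : i = h3 i f • v + h3 i z • z := by
        conv_lhs => rw [hexp i, hi.2, zero_smul, add_zero]
      have ej : j = h3 j f • v + h3 j z • z := by
        conv_lhs => rw [hexp j, hj.2, zero_smul, add_zero]
      generalize h3 i z = b, h3 j z = b', h3 i f = a, h3 j f = a' at ei ej ⊢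
      subst ei ej
      simp [skew, h_add_left, h_add_right hF, h_smul_left, h_smul_right hF, hv, hz, hzv, hvz,
        zero_pow (q_ne_zero hF), mul_pow, pow_q_pow_q hF]
      ring
    rwa [hij] at e
  have hBq : Nat.card B ≤ q := by
    by_contra hlt
    have := Nat.mul_lt_mul'' (not_le.1 hlt) (not_le.1 hlt)
    rw [pow_two] at hBB
    omega
  have h1 := card_le_perpI hF (perpI q I v) z (B : Set F) (fun i hi => ⟨i, hi, rfl⟩)
  refine h1.trans (Nat.mul_le_mul ?_ hBq)
  refine Nat.card_le_card_of_injective (fun i => ⟨h3 i.1 f, ?_⟩) fun i j e => ?_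
  · show h3 i.1 f • v ∈ I
    have e := hexp i.1
    rw [i.2.1.2, i.2.2, zero_smul, zero_smul, add_zero, add_zero] at e
    rw [← e]; exact i.2.1.1
  · refine Subtype.ext ?_
    rw [hexp i.1, hexp j.1, i.2.1.2, i.2.2, j.2.1.2, j.2.2,
      show h3 i.1 f = h3 j.1 f from congrArg Subtype.val e]

theorem card_lineSub_mul {v w : Fin 3 → F} (hvw : h3 v w ≠ 0) :
    Nat.card (lineSub I v) * Nat.card (lineSub I w) ≤ q ^ 2 := by
  refine line_pairing hF ht hψ hvw _ _ fun s hs s' hs' => ?_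
  rw [← skew_smul hF]
  exact hI _ hs _ hs'

theorem exists_partner_of_big (hbig : q ^ 2 < Nat.card I) {v : Fin 3 → F} (hv0 : v ≠ 0)
    (hv : h3 v v = 0) (hno : Nat.card (lineSub I v) ≤ q) : ∃ i ∈ I, h3 i v ≠ 0 := by
  by_contra hcon
  simp only [not_exists, not_and, not_not] at hcon
  have h1 : Nat.card I ≤ Nat.card (perpI q I v) :=
    AddSubgroup.card_le_of_le fun i hi => ⟨hi, hcon i hi⟩
  have h2 := card_perpI_iso hF ht hψ hI hv0 hv
  have h4 := Nat.mul_le_mul_right q hno
  rw [pow_two] at hbig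
  omega

theorem exists_aniso (hbig : q ^ 2 < Nat.card I)
    (hno : ∀ v, v ≠ 0 → h3 v v = 0 → Nat.card (lineSub I v) ≤ q) : ∃ a ∈ I, h3 a a ≠ 0 := by
  by_contra hcon
  simp only [not_exists, not_and, not_not] at hcon
  obtain ⟨v, hvI, hv0⟩ : ∃ v ∈ I, v ≠ 0 := by
    by_contra h0
    simp only [not_exists, not_and, not_not] at h0
    rw [(AddSubgroup.eq_bot_iff_forall I).2 h0, AddSubgroup.card_bot] at hbig
    have := Nat.one_le_pow 2 q (q_pos hF)
    omega
  have hv := hcon v hvI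
  have hT : ∀ i ∈ I, h3 i v ∈ ((traceHom hF).ker : Set F) := by
    intro i hi
    show h3 i v ∈ (traceHom hF).ker
    rw [AddMonoidHom.mem_ker, traceHom_apply, ← h_symm hF i v]
    have := hcon _ (add_mem hi hvI)
    rwa [h_add_left, h_add_right hF, h_add_right hF, hcon i hi, hv, zero_add, add_zero] at this
  have h1 := card_le_perpI hF I v _ hT
  have h2 : Nat.card (perpI q I v) ≤ Nat.card (lineSub I v) := by
    have hex : ∀ i : perpI q I v, ∃ a : F, i.1 = a • v := fun i =>
      iso_line hF hv0 hv (hcon _ i.2.1) i.2.2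
    choose a ha using hex
    refine Nat.card_le_card_of_injective (fun i => (⟨a i, show a i • v ∈ I from ha i ▸ i.2.1⟩ :
      lineSub I v)) fun i j e => Subtype.ext ?_
    rw [ha i, ha j, show a i = a j from congrArg Subtype.val e]
  have h4 := Nat.mul_le_mul (h2.trans (hno v hv0 hv))
    (show Nat.card ((traceHom hF).ker : Set F) ≤ q from (card_trace_ker hF).le)
  rw [pow_two] at hbig
  omega

/-- A maximal such group is a space over the fixed field. -/
theorem smul_mem_of_max (hI0 : ∀ a ∈ I, ∀ b ∈ I, skew q a b = 0) (hcard : Nat.card I = q ^ 3)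
    {r : F} (hr : r ^ q = r) {i : Fin 3 → F} (hi : i ∈ I) : r • i ∈ I := by
  let J : AddSubgroup (Fin 3 → F) :=
    { carrier := {v | ∀ i ∈ I, ψ (skew q i v) = 1}
      zero_mem' := fun i _ => by
        rw [skew, h_zero_left, h_zero_right hF, sub_zero, AddChar.map_zero_eq_one]
      add_mem' := fun {u w} hu hw i hi => by
        have e : skew q i (u + w) = skew q i u + skew q i w := by
          simp only [skew, h_add_left, h_add_right hF]; ring
        rw [e, AddChar.map_add_eq_mul, hu i hi, hw i hi, one_mul]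
      neg_mem' := fun {u} hu i hi => by
        have e : skew q i (-u) = -skew q i u := by
          simp only [skew, h_neg_left, h_neg_right hF]; ring
        rw [e, AddChar.map_neg_eq_inv, hu i hi, inv_one] }
  have hJc : Nat.card J * Nat.card I = Nat.card (Fin 3 → F) := by
    refine pairing_annih (fun u w => ψ (skew q u w)) ?_ ?_ ?_ ?_
      (fun u hu => skew_nondeg hF ht hψ hu) _ J fun v => Iff.rfl
    · intro u v w
      rw [← AddChar.map_add_eq_mul]; congr 1
      simp only [skew, h_add_left, h_add_right hF]; ring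
    · intro u v w
      rw [← AddChar.map_add_eq_mul]; congr 1
      simp only [skew, h_add_left, h_add_right hF]; ring
    · intro u; simp [skew, h_zero_left, h_zero_right hF]
    · intro u; simp [skew, h_zero_left, h_zero_right hF]
  rw [natCard_vec hF, hcard, show 2 * 3 = 3 + 3 from rfl, pow_add] at hJc
  have hJ : Nat.card J = Nat.card I := by
    rw [hcard]; exact Nat.eq_of_mul_eq_mul_right (Nat.pow_pos (q_pos hF)) hJc
  have hle : I ≤ J := fun v hv i hi => hI i hi v hv
  rw [AddSubgroup.eq_of_le_of_card_ge hle hJ.le]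
  intro j hj
  have e : skew q j (r • i) = r * skew q j i := by
    simp only [skew, h_smul_left, h_smul_right hF, hr]; ring
  rw [e, hI0 j hj i hi, mul_zero, AddChar.map_zero_eq_one]

/-- Few vectors of a given norm in a space over the fixed field. -/
theorem card_norm_le (hI0 : ∀ a ∈ I, ∀ b ∈ I, skew q a b = 0) (hcard : Nat.card I = q ^ 3)
    {a : Fin 3 → F} (ha : a ∈ I) (haa : h3 a a ≠ 0) (c : F) :
    Nat.card {i : Fin 3 → F | i ∈ I ∧ h3 i i = c} ≤ 2 * q ^ 2 := by
  classical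
  let R : AddSubgroup I :=
    { carrier := {i | ∃ r : F, r ^ q = r ∧ i.1 = r • a}
      zero_mem' := ⟨0, zero_pow (q_ne_zero hF), by rw [zero_smul]; rfl⟩
      add_mem' := by
        rintro i j ⟨r, hr, e⟩ ⟨r', hr', e'⟩
        exact ⟨r + r', by rw [add_pow_q hF, hr, hr'], by rw [AddSubgroup.coe_add, e, e', add_smul]⟩
      neg_mem' := by
        rintro i ⟨r, hr, e⟩
        exact ⟨-r, by rw [neg_pow_q hF, hr], by rw [AddSubgroup.coe_neg, e, neg_smul]⟩ }
  have ha0 : a ≠ 0 := fun e => haa (by rw [e, h_zero_left])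
  have hR : Nat.card R = q := by
    rw [← card_fixed hF]
    refine (Nat.card_congr (Equiv.ofBijective (fun r : {x : F // x ^ q = x} =>
      (⟨⟨r.1 • a, smul_mem_of_max hF ht hψ hI hI0 hcard r.2 ha⟩, r.1, r.2, rfl⟩ : R)) ⟨?_, ?_⟩)).symm
    · intro r r' e
      exact Subtype.ext (smul_left_injective F ha0 (congrArg (fun i : R => i.1.1) e))
    · rintro ⟨i, r, hr, e⟩
      exact ⟨⟨r, hr⟩, Subtype.ext (Subtype.ext e.symm)⟩
  have hQ : Nat.card (I ⧸ R) = q ^ 2 := by
    have h := R.card_eq_card_quotient_mul_card_addSubgroup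
    rw [hcard, hR, pow_succ] at h
    exact (Nat.eq_of_mul_eq_mul_right (q_pos hF) h).symm
  haveI : Fintype (I ⧸ R) := Fintype.ofFinite _
  haveI : Fintype I := Fintype.ofFinite _
  have hS : Nat.card {i : Fin 3 → F | i ∈ I ∧ h3 i i = c} =
      (Finset.univ.filter fun i : I => h3 i.1 i.1 = c).card := by
    rw [← Fintype.card_subtype, ← Nat.card_eq_fintype_card]
    exact Nat.card_congr
      { toFun := fun i => ⟨⟨i.1, i.2.1⟩, i.2.2⟩
        invFun := fun i => ⟨i.1.1, i.1.2, i.2⟩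
        left_inv := fun i => rfl
        right_inv := fun i => rfl }
  rw [hS, ← hQ, Nat.card_eq_fintype_card, ← Finset.card_univ]
  refine le_trans ?_ (Nat.mul_le_mul_left 2 (Finset.card_le_card
    (Finset.subset_univ ((Finset.univ.filter fun i : I => h3 i.1 i.1 = c).image
      (QuotientAddGroup.mk : I → I ⧸ R)))))
  refine Finset.card_le_mul_card_image _ 2 fun b hb => ?_
  obtain ⟨i₀, hi₀, rfl⟩ := Finset.mem_image.1 hb
  have h0 := (Finset.mem_filter.1 hi₀).2
  let ρ : F := -(h3 i₀.1 a + h3 a i₀.1) / h3 a a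
  refine le_trans (b := (({i₀.1, i₀.1 + ρ • a} : Finset (Fin 3 → F))).card) ?_ Finset.card_le_two
  refine Finset.card_le_card_of_injOn (fun i : I => i.1) (fun i hi => ?_)
    (fun i _ j _ e => Subtype.ext e)
  simp only [Finset.mem_coe, Finset.mem_filter, Finset.mem_univ, true_and] at hi
  obtain ⟨r, hr, e⟩ : (-i₀ + i) ∈ R := QuotientAddGroup.eq.1 hi.2.symm
  have e' : i.1 = i₀.1 + r • a := by
    rw [← e, AddSubgroup.coe_add, AddSubgroup.coe_neg, add_neg_cancel_left]
  have hn := hi.1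
  rw [e', h_add_left, h_add_right hF, h_add_right hF, h_smul_left, h_smul_right hF, h_smul_left,
    h_smul_right hF, hr, h0] at hn
  have hz : r * (r * h3 a a + (h3 i₀.1 a + h3 a i₀.1)) = 0 := by linear_combination hn
  simp only [Finset.mem_coe, Finset.mem_insert, Finset.mem_singleton]
  rcases mul_eq_zero.1 hz with h' | h'
  · left; rw [e', h', zero_smul, add_zero]
  · right
    rw [e', show r = ρ by rw [eq_div_iff haa]; linear_combination h']

variable {Γ : Subgroup (SU 3 F q)} (hΓ : ∀ g ∈ Γ, ∀ i ∈ I, suMat g *ᵥ i ∈ I)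
include hΓ

/-- One long line: the point is fixed. -/
theorem le_pst_of_line {v : Fin 3 → F} (hv0 : v ≠ 0) (hv : h3 v v = 0)
    (hS : q < Nat.card (lineSub I v)) :
    ∀ g ∈ Γ, ∃ a : F, a ≠ 0 ∧ suMat g *ᵥ v = a • v := by
  intro g hg
  set w := suMat g *ᵥ v with hw
  have hw0 : w ≠ 0 := fun e => hv0 (suMat_injective g (by simpa [hw] using e))
  have hS' : q < Nat.card (lineSub I w) := lt_of_lt_of_le hS (Nat.card_le_card_of_injective
    (fun s : lineSub I v => (⟨s.1, show s.1 • w ∈ I by rw [hw, ← mulVec_smul]; exact hΓ g hg _ s.2⟩ :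
      lineSub I w)) fun s s' e => Subtype.ext (congrArg Subtype.val e :))
  have hvw : h3 w v = 0 := by
    by_contra hne
    have h1 := card_lineSub_mul hF ht hψ hI hne
    have h2 := Nat.mul_lt_mul'' hS' hS
    rw [pow_two] at h1
    omega
  obtain ⟨a, ha⟩ := iso_line hF hv0 hv (by rw [hw, suMat_h, hv]) hvw
  exact ⟨a, fun e => hw0 (by rw [ha, e, zero_smul]), ha⟩

/-- A long line: the index. -/
theorem line_case (hq : 2 ≤ q) {v : Fin 3 → F} (hv0 : v ≠ 0) (hv : h3 v v = 0)
    (hS : q < Nat.card (lineSub I v)) :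
    q ^ 3 + 1 ≤ Γ.index ∧ ((∀ a ∈ I, ∀ b ∈ I, skew q a b = 0) → Nat.card I = q ^ 3 →
      2 * (q ^ 3 + 1) ≤ Γ.index) := by
  classical
  obtain ⟨f, hf⟩ := exists_hyp_partner hF hv0 hv
  have hle : Γ ≤ pst (m := 1) v := le_pst_of_line hF ht hψ hI hΓ hv0 hv hS
  have hmul := Subgroup.relIndex_mul_index hle
  rw [index_pst hF (m := 1) hf le_rfl, card_isoPt_three hF] at hmul
  have hpos : 1 ≤ Γ.relIndex (pst (m := 1) v) := Nat.pos_of_ne_zero fun e => by
    rw [e, zero_mul] at hmul; exact Subgroup.index_ne_zero_of_finite hmul.symm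
  refine ⟨by nlinarith, fun hI0 hcard => ?_⟩
  suffices hne : 2 ≤ Γ.relIndex (pst (m := 1) v) by
    exact (Nat.mul_le_mul_right (q ^ 3 + 1) hne).trans hmul.le
  by_contra hlt
  have hge : pst (m := 1) v ≤ Γ := Subgroup.relIndex_eq_one.1 (by omega)
  -- the line is contained
  obtain ⟨s₀, hs₀, hs₀0⟩ : ∃ s₀ ∈ lineSub I v, s₀ ≠ 0 := by
    by_contra h0
    simp only [not_exists, not_and, not_not] at h0
    rw [(AddSubgroup.eq_bot_iff_forall _).2 h0, AddSubgroup.card_bot] at hS
    omega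
  obtain ⟨s₁, hs₁, hs₁0⟩ : ∃ s₁ ∈ lineSub I v, ∀ r : F, r ^ q = r → s₁ ≠ r * s₀ := by
    by_contra h0
    simp only [not_exists, not_and, not_forall, not_not] at h0
    refine absurd hS (not_lt.2 ?_)
    rw [← card_fixed hF]
    choose r hr hr' using h0
    refine Nat.card_le_card_of_injective (fun s : lineSub I v => (⟨r s s.2, hr s s.2⟩ :
      {x : F // x ^ q = x})) fun s s' e => Subtype.ext ?_
    rw [hr' s s.2, hr' s' s'.2, show r s s.2 = r s' s'.2 from congrArg Subtype.val e]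
  have hall : ∀ s : F, s • v ∈ I := by
    let φ : {x : F // x ^ q = x} × {x : F // x ^ q = x} → F := fun p => p.1.1 * s₀ + p.2.1 * s₁
    have hφ : Function.Injective φ := by
      rintro ⟨⟨a, ha⟩, ⟨b, hb⟩⟩ ⟨⟨a', ha'⟩, ⟨b', hb'⟩⟩ e
      simp only [φ] at e
      by_cases hbb : b = b'
      · subst hbb
        rw [add_left_inj] at e
        obtain rfl := mul_right_cancel₀ hs₀0 e
        rfl
      · refine absurd ?_ (hs₁0 ((a' - a) / (b - b')) (by
          rw [div_pow, sub_pow_q hF, sub_pow_q hF, ha, ha', hb, hb']))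
        rw [div_mul_eq_mul_div, eq_div_iff (sub_ne_zero.2 hbb)]
        linear_combination e
    have hb : Function.Bijective φ := by
      rw [Fintype.bijective_iff_injective_and_card]
      refine ⟨hφ, ?_⟩
      rw [Fintype.card_prod, ← Nat.card_eq_fintype_card, card_fixed hF, hF, pow_two]
    intro s
    obtain ⟨⟨a, b⟩, rfl⟩ := hb.2 s
    simp only [φ, add_smul, ← smul_smul]
    exact add_mem (smul_mem_of_max hF ht hψ hI hI0 hcard a.2 hs₀)
      (smul_mem_of_max hF ht hψ hI hI0 hcard b.2 hs₁)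
  have hperp : ∀ i ∈ I, h3 i v = 0 := by
    intro i hi
    by_contra hne
    obtain ⟨e₁, he₁⟩ := H51.ShortU.exists_skew_eq hF ht
    have h1 := hI0 i hi _ (hall ((e₁ / h3 i v) ^ q))
    have h2 := skew_smul hF 1 ((e₁ / h3 i v) ^ q) i v
    rw [one_smul, one_mul, pow_q_pow_q hF, div_mul_cancel₀ _ hne, he₁] at h2
    rw [h2] at h1
    exact hψ (by rw [h1, AddChar.map_zero_eq_one])
  obtain ⟨e, he⟩ := exists_frame hF (m := 1) rfl hf
  obtain ⟨a, ha⟩ : ∃ a : Fˣ, orderOf a = Fintype.card Fˣ := by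
    obtain ⟨g, hg⟩ := IsCyclic.exists_ofOrder_eq_natCard (α := Fˣ)
    exact ⟨g, by rw [hg, Nat.card_eq_fintype_card]⟩
  rw [Fintype.card_units, hF] at ha
  set d : F := (a : F) ^ q / (a : F) with hd
  have hd1 : d ^ (q + 1) = 1 := by
    rw [hd, div_pow, pow_succ, pow_succ, pow_q_pow_q hF, mul_comm (a : F),
      div_self (mul_ne_zero (pow_ne_zero _ a.ne_zero) a.ne_zero)]
  have hdq : d ^ q ≠ d := by
    intro hdd
    rw [pow_succ, hdd, hd, div_mul_div_comm, div_eq_one_iff_eq (mul_ne_zero a.ne_zero a.ne_zero)] at hd1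
    have h1 : (a : F) ^ (2 * q - 2) = 1 := by
      refine mul_right_cancel₀ (mul_ne_zero a.ne_zero a.ne_zero) ?_
      rw [one_mul, ← pow_two, ← pow_add, show 2 * q - 2 + 2 = q + q by omega, pow_add, hd1, pow_two]
    have h2 := orderOf_dvd_of_pow_eq_one (show a ^ (2 * q - 2) = 1 from Units.ext (by simpa using h1))
    rw [ha] at h2
    have h5 : 2 * q - 2 < q ^ 2 - 1 := by
      have : 2 * q ≤ q ^ 2 := by nlinarith
      omega
    have := Nat.le_of_dvd (by omega) h2
    omega
  obtain ⟨T, hT, -, hTe⟩ := diag_lev hF hf he a.ne_zero (fun _ => d) (fun _ => hd1)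
    (by rw [Finset.prod_const, Finset.card_univ, Fintype.card_fin, pow_one, hd,
      mul_div_cancel₀ _ a.ne_zero])
  have hbig : q ^ 2 < Nat.card I := hcard ▸ Nat.pow_lt_pow_right (by omega) (by omega)
  obtain ⟨i, hi, hne⟩ : ∃ i ∈ I, h3 i (e 0) ≠ 0 := by
    by_contra h0
    simp only [not_exists, not_and, not_not] at h0
    have h1 := card_le_perpI hF I (e 0) {0} fun i hi => h0 i hi
    rw [Nat.card_coe_set_eq, Set.ncard_singleton, mul_one] at h1
    have h2 : Nat.card (perpI q I (e 0)) ≤ Nat.card F := by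
      refine Nat.card_le_card_of_injective (fun i => h3 i.1 f) fun i j e' => Subtype.ext ?_
      have hdec : ∀ k ∈ perpI q I (e 0), k = h3 k f • v := by
        intro k hk
        have hmem : k - h3 k f • v ∈ pperp q v f := mem_pperp.2
          ⟨by rw [sub_eq_add_neg, h_add_left, h_neg_left, h_smul_left, hperp k hk.1, hf.1]; ring,
           by rw [sub_eq_add_neg, h_add_left, h_neg_left, h_smul_left, hf.2.2, mul_one, add_neg_cancel]⟩
        have := frame_ext hF hf he hmem
        rw [Fin.sum_univ_one, sub_eq_add_neg, h_add_left, hk.2, h_neg_left, h_smul_left,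
          (h_eq_zero_comm hF).1 (mem_pperp.1 (he.perp 0)).1, mul_zero, neg_zero, add_zero,
          zero_smul, add_neg_eq_zero] at this
        exact this
      rw [hdec _ i.2, hdec _ j.2, show h3 i.1 f = h3 j.1 f from e']
    rw [Nat.card_eq_fintype_card (α := F), hF] at h2
    omega
  have hmem : i - h3 i f • v ∈ pperp q v f := mem_pperp.2
    ⟨by rw [sub_eq_add_neg, h_add_left, h_neg_left, h_smul_left, hperp i hi, hf.1]; ring,
     by rw [sub_eq_add_neg, h_add_left, h_neg_left, h_smul_left, hf.2.2, mul_one, add_neg_cancel]⟩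
  have hve := (h_eq_zero_comm hF).1 (mem_pperp.1 (he.perp 0)).1
  have hev := (mem_pperp.1 (he.perp 0)).1
  have hie : i = h3 i f • v + h3 i (e 0) • e 0 := by
    have := frame_ext hF hf he hmem
    rw [Fin.sum_univ_one, sub_eq_add_neg, h_add_left, h_neg_left, h_smul_left, hve, mul_zero,
      neg_zero, add_zero, ← sub_eq_add_neg, sub_eq_iff_eq_add'] at this
    exact this
  have h1 := hI0 i hi _ (hΓ T (hge hT.1) i hi)
  obtain ⟨_, hTx, -⟩ := lev_spec hF hf hT
  generalize h3 i f = al, h3 i (e 0) = be at hie hne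
  rw [hie, mulVec_add, mulVec_smul, mulVec_smul, hTx, hTe 0] at h1
  simp [skew, h_add_left, h_add_right hF, h_smul_left, h_smul_right hF, hv, hve, hev, he.on 0 0,
    zero_pow (q_ne_zero hF), mul_pow, smul_smul, pow_q_pow_q hF] at h1
  refine hdq ?_
  exact mul_left_cancel₀ (mul_ne_zero hne (pow_ne_zero q hne)) (by linear_combination h1)

theorem low_three (hq : 3 ≤ q) (hbig : q ^ 2 < Nat.card I) (hI3 : Nat.card I ≤ q ^ 3) :
    q ^ 3 ≤ Γ.index + q ∧ ((∀ a ∈ I, ∀ b ∈ I, skew q a b = 0) → Nat.card I = q ^ 3 →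
      q ^ 3 + q + 1 ≤ Γ.index) := by
  classical
  by_cases hP : ∃ v : Fin 3 → F, v ≠ 0 ∧ h3 v v = 0 ∧ q < Nat.card (lineSub I v)
  · obtain ⟨v, hv0, hv, hS⟩ := hP
    obtain ⟨hg, ht'⟩ := line_case hF ht hψ hI hΓ (by omega) hv0 hv hS
    refine ⟨by omega, fun hI0 hcard => ?_⟩
    have := ht' hI0 hcard
    have : q ≤ q ^ 3 := Nat.le_self_pow (by omega) q
    omega
  · have hno : ∀ v, v ≠ 0 → h3 v v = 0 → Nat.card (lineSub I v) ≤ q := fun v h0 h1 =>
      le_of_not_gt fun hlt => hP ⟨v, h0, h1, hlt⟩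
    -- the common estimate
    obtain ⟨c, key⟩ : ∃ c : F, (q ^ 3 + 1) * (q ^ 2 - 1) * q ^ 3 ≤
        Nat.card {i : Fin 3 → F | i ∈ I ∧ h3 i i = c} * q ^ 2 * Γ.index := by
      let f : SU 3 F q → (Fin 3 → F) → (Fin 3 → F) → (Fin 3 → F) × (Fin 3 → F) := fun g a b =>
        (suMat g *ᵥ a, suMat g *ᵥ b)
      have hinv : ∀ a b : Fin 3 → F, ∀ g g' k : SU 3 F q, f g a b = f g' a b →
          f (k * g) a b = f (k * g') a b := by
        intro a b g g' k e
        simp only [f, Prod.ext_iff] at e ⊢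
        simp only [suMat_mulVec_mul, e.1, e.2, and_self]
      by_cases hiso : ∃ v ∈ I, v ≠ 0 ∧ h3 v v = 0
      · obtain ⟨v, hvI, hv0, hv⟩ := hiso
        obtain ⟨i, hi, hne⟩ := exists_partner_of_big hF ht hψ hI hbig hv0 hv (hno v hv0 hv)
        refine ⟨0, orbit_le_index (fun g => f g v i) (hinv v i) Γ (hypPairs q (h3 i v) (h3 i i))
          {p | (p.1 ∈ I ∧ p.1 ≠ 0 ∧ h3 p.1 p.1 = 0) ∧ p.2 ∈ I ∧ h3 p.2 p.1 = h3 i v}
          (hypPairs_subset hF le_rfl hv hne) (fun g hg => ⟨⟨hΓ g hg _ hvI,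
            fun e => hv0 (suMat_injective g (by simpa using e)), by rw [suMat_h, hv]⟩,
            hΓ g hg _ hi, by rw [suMat_h]⟩) ?_ ?_⟩
        · have := card_hypPairs hF (n := 3) (m := 1) rfl le_rfl hne (h_self_fixed hF i)
          rw [card_isoPt_three hF] at this
          exact le_trans (le_of_eq (by ring)) this
        · refine le_trans (card_pairs_le hF I {a | a ∈ I ∧ a ≠ 0 ∧ h3 a a = 0} (h3 i v) (q ^ 2)
            fun a ha => (card_perpI_iso hF ht hψ hI ha.2.1 ha.2.2).trans ?_)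
            (Nat.mul_le_mul_right _ (Nat.card_mono (Set.toFinite _) fun a ha => ⟨ha.1, ha.2.2⟩))
          rw [pow_two]; exact Nat.mul_le_mul_right _ (hno a ha.2.1 ha.2.2)
      · simp only [not_exists, not_and] at hiso
        obtain ⟨a, ha, haa⟩ := exists_aniso hF ht hψ hI hbig hno
        obtain ⟨b, hb, hb0⟩ : ∃ b ∈ perpI q I a, b ≠ 0 := by
          by_contra h0
          simp only [not_exists, not_and, not_not] at h0
          have h1 := card_le_perpI hF I a Set.univ fun i _ => Set.mem_univ _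
          rw [(AddSubgroup.eq_bot_iff_forall _).2 h0, AddSubgroup.card_bot, one_mul,
            Nat.card_coe_set_eq, Set.ncard_univ, Nat.card_eq_fintype_card (α := F), hF] at h1
          omega
        have hbb : h3 b b ≠ 0 := hiso b hb.1 hb0
        refine ⟨h3 a a, orbit_le_index (fun g => f g a b) (hinv a b) Γ (orthPairs q (h3 a a) (h3 b b))
          {p | (p.1 ∈ I ∧ h3 p.1 p.1 = h3 a a) ∧ p.2 ∈ I ∧ h3 p.2 p.1 = 0}
          (orthPairs_subset hF le_rfl haa hbb hb.2) (fun g hg => ⟨⟨hΓ g hg _ ha,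
            by rw [suMat_h]⟩, hΓ g hg _ hb.1, by rw [suMat_h, hb.2]⟩) ?_ ?_⟩
        · have := card_orthPairs hF (n := 3) (k := 2) rfl (h_self_fixed hF a) haa (h_self_fixed hF b) hbb
          rw [normCount_three_one hF, normCount_two_one hF] at this
          exact le_trans (le_of_eq (by ring)) this
        · refine card_pairs_le hF I {p | p ∈ I ∧ h3 p p = h3 a a} 0 (q ^ 2) fun p hp => ?_
          have := card_perpI hF ht hψ hI (a := p) (by rw [hp.2]; exact haa)
          exact Nat.le_of_mul_le_mul_right (this.trans_eq (by ring)) (by omega)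
    have h0 : Nat.card {i : Fin 3 → F | i ∈ I ∧ h3 i i = c} ≤ q ^ 3 :=
      le_trans (Nat.card_mono (Set.toFinite (I : Set (Fin 3 → F))) fun i hi => hi.1) hI3
    have hq2 : 9 ≤ q ^ 2 := by nlinarith
    obtain ⟨s, hs⟩ : ∃ s, q ^ 2 = s + 1 := ⟨q ^ 2 - 1, by omega⟩
    rw [show q ^ 2 - 1 = s by omega] at key
    refine ⟨?_, fun hI0 hcard => ?_⟩
    · have k2 := key.trans (Nat.mul_le_mul_right _ (Nat.mul_le_mul_right _ h0))
      have k3 : (q ^ 3 + 1) * s ≤ q ^ 2 * Γ.index :=
        Nat.le_of_mul_le_mul_right (k2.trans_eq (by ring)) (Nat.pow_pos (n := 3) (q_pos hF))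
      refine Nat.le_of_mul_le_mul_left ?_ (show 0 < q ^ 2 from Nat.pow_pos (q_pos hF))
      rw [hs] at k3 ⊢
      rw [show q ^ 3 = q * (s + 1) by rw [← hs]; ring] at k3 ⊢
      nlinarith
    · obtain ⟨a, ha, haa⟩ := exists_aniso hF ht hψ hI hbig hno
      have k2 := key.trans (Nat.mul_le_mul_right _ (Nat.mul_le_mul_right _
        (card_norm_le hF ht hψ hI hI0 hcard ha haa c)))
      have k3 : (q ^ 3 + 1) * s ≤ 2 * q * Γ.index :=
        Nat.le_of_mul_le_mul_right (k2.trans_eq (by ring)) (Nat.pow_pos (n := 3) (q_pos hF))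
      refine Nat.le_of_mul_le_mul_left (le_trans ?_ k3) (show 0 < 2 * q by omega)
      rw [show q ^ 3 = q * (s + 1) by rw [← hs]; ring]
      have e1 : 3 * q ≤ s + 1 := by rw [← hs, pow_two]; exact Nat.mul_le_mul_right q hq
      nlinarith [Nat.mul_le_mul_left q e1, Nat.mul_le_mul e1 e1]

end Low

end H37.SUMin
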