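import Cfsg.Agent.H37.SUMinPSU
import Cfsg.Agent.H37.SUMinLow3
import Cfsg.Agent.H50.SU3Borel

/-!
Subgroups of small index of three-dimensional special unitary groups: transitivity on isotropic
points, the parts at a point in coordinates, transvection parameters and their multiplier field.
-/

set_option autoImplicit false

namespace H37.U3Min

open Matrix Cfsg H50 H50.PointStab H50.RadFrame H37.SUMin

universe u

variable {F : Type u} [Field F] {q : ℕ}

local notation "V3" => (Fin 3 → F)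
local notation "h3" => hermForm 3 F q
local notation "G3" => SU 3 F q

/-- All isotropic points form one orbit. -/
def PtTrans (K : Subgroup (SU 3 F q)) : Prop :=
  ∀ v w : Fin 3 → F, v ≠ 0 → w ≠ 0 → hermForm 3 F q v v = 0 → hermForm 3 F q w w = 0 →
    ∃ g ∈ K, ∃ a : F, a ≠ 0 ∧ suMat g *ᵥ v = a • w

/-- The multiplier field of a finite additive group. -/
def mult [Finite F] (W : AddSubgroup F) : Subfield F where
  carrier := {c | ∀ w ∈ W, c * w ∈ W}
  one_mem' := fun w hw => by rwa [one_mul]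
  zero_mem' := fun w _ => by rw [zero_mul]; exact W.zero_mem
  add_mem' := fun {a b} ha hb w hw => by rw [add_mul]; exact W.add_mem (ha w hw) (hb w hw)
  mul_mem' := fun {a b} ha hb w hw => by rw [mul_assoc]; exact ha _ (hb w hw)
  neg_mem' := fun {a} ha w hw => by rw [neg_mul]; exact W.neg_mem (ha w hw)
  inv_mem' := by
    intro c hc w hw
    by_cases hc0 : c = 0
    · rw [hc0, _root_.inv_zero, zero_mul]; exact W.zero_mem
    have hsur : Function.Surjective (fun z : W => (⟨c * z.1, hc _ z.2⟩ : W)) :=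
      Finite.injective_iff_surjective.1 fun z z' e =>
        Subtype.ext (mul_left_cancel₀ hc0 (congrArg Subtype.val e))
    obtain ⟨z, hz⟩ := hsur ⟨w, hw⟩
    have e : c * z.1 = w := congrArg Subtype.val hz
    rw [← e, inv_mul_cancel_left₀ hc0]
    exact z.2

theorem mem_mult [Finite F] {W : AddSubgroup F} {c : F} : c ∈ mult W ↔ ∀ w ∈ W, c * w ∈ W := Iff.rfl

/-- A group of units killed by a power. -/
theorem card_dvd_of_pow [Finite F] (A : Subgroup Fˣ) {j : ℕ} (h : ∀ a ∈ A, (a : F) ^ j = 1) :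
    Nat.card A ∣ j := by
  obtain ⟨g, hg⟩ := IsCyclic.exists_ofOrder_eq_natCard (α := A)
  rw [← hg]
  refine orderOf_dvd_of_pow_eq_one (Subtype.ext (Units.ext ?_))
  simpa using h g g.2

/-- Few fixed points of a power map. -/
theorem ncard_pow_eq_le [Finite F] {j : ℕ} (hj : 2 ≤ j) : {x : F | x ^ j = x}.ncard ≤ j := by
  classical
  let P : Polynomial F := Polynomial.X ^ j - Polynomial.X
  have hdeg : P.natDegree = j := FiniteField.X_pow_card_sub_X_natDegree_eq F hj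
  have hne : P ≠ 0 := fun e => by rw [e, Polynomial.natDegree_zero] at hdeg; omega
  haveI : Fintype F := Fintype.ofFinite _
  have : {x : F | x ^ j = x}.toFinset.card ≤ j := by
    conv_rhs => rw [← hdeg]
    refine Polynomial.card_le_degree_of_subset_roots fun x hx => ?_
    rw [Polynomial.mem_roots hne]
    simpa [P, sub_eq_zero] using hx
  rwa [Set.ncard_eq_toFinset_card']

variable [Fintype F] (hF : Fintype.card F = q ^ 2)

/-- The scalars at a point as a group of units. -/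
def eGrp {x y : Fin (1 + 2) → F} (h : IsHyp q x y) (K : Subgroup (SU 3 F q)) : Subgroup Fˣ where
  carrier := {a | (a : F) ∈ eSet (m := 1) x y K}
  one_mem' := ⟨1, ⟨one_mem _, one_mem _⟩, eig_eq_one h (one_mem _)⟩
  mul_mem' := by
    rintro a b ⟨g, hg, e⟩ ⟨g', hg', e'⟩
    exact ⟨g * g', ⟨mul_mem hg.1 hg'.1, mul_mem hg.2 hg'.2⟩, by
      rw [eig_mul h hg.2 hg'.2, e, e', Units.val_mul]⟩
  inv_mem' := by
    rintro a ⟨g, hg, e⟩
    refine ⟨g⁻¹, ⟨K.inv_mem hg.1, (pst (m := 1) x).inv_mem hg.2⟩, ?_⟩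
    rw [Units.val_inv_eq_inv_val, ← e]
    refine eq_inv_of_mul_eq_one_left ?_
    rw [← eig_mul h ((pst (m := 1) x).inv_mem hg.2) hg.2, inv_mul_cancel, eig_eq_one h (one_mem _)]

include hF

section Pair

variable {x y : Fin (1 + 2) → F} (h : IsHyp q x y) {K : Subgroup (SU 3 F q)}
include h

theorem card_eGrp : Nat.card (eGrp h K) = Nat.card (eSet (m := 1) x y K) := by
  refine Nat.card_eq_of_bijective (fun a : eGrp h K => (⟨(a.1 : F), a.2⟩ : eSet (m := 1) x y K))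
    ⟨fun a b e => Subtype.ext (Units.ext (congrArg Subtype.val e)), ?_⟩
  rintro ⟨_, g, hg, rfl⟩
  exact ⟨⟨Units.mk0 _ (eig_spec h hg.2).1, g, hg, rfl⟩, rfl⟩

theorem eGrp_dvd : Nat.card (eGrp h K) ∣ q ^ 2 - 1 := by
  refine card_dvd_of_pow _ fun a _ => ?_
  rw [← hF]
  exact FiniteField.pow_card_sub_one_eq_one _ a.ne_zero

theorem stab2_eq_bot {g : SU (1 + 2) F q} (hg : g ∈ stab2 (q := q) x y) : g = 1 := by
  have h1 := card_stab2 hF h le_rfl
  have h2 : Nat.card (SU 1 F q) = 1 := by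
    rw [Nat.card_eq_one_iff_unique]
    refine ⟨⟨fun a b => suMat_ext fun v => ?_⟩, ⟨1⟩⟩
    have hd : ∀ c : SU 1 F q, suMat c = 1 := fun c => by
      have : (suMat c).det = 1 := c.1.2
      rw [det_fin_one] at this
      ext i j
      rw [Subsingleton.elim i 0, Subsingleton.elim j 0, this, one_apply_eq]
    rw [hd a, hd b]
  rw [h2] at h1
  haveI := (Nat.card_eq_one_iff_unique.1 h1).1
  exact congrArg Subtype.val (Subsingleton.elim (⟨g, hg⟩ : stab2 (q := q) x y) ⟨1, one_mem _⟩)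

theorem lev_eq_of_eig {t t' : SU (1 + 2) F q} (ht : t ∈ lev q x y) (ht' : t' ∈ lev q x y)
    (e : eig q x y t = eig q x y t') : t = t' := by
  obtain ⟨h0, hx, hy⟩ := lev_spec hF h ht
  obtain ⟨-, hx', hy'⟩ := lev_spec hF h ht'
  refine (inv_mul_eq_one.1 (stab2_eq_bot hF h ⟨?_, ?_⟩)).symm
  · refine mem_stab.2 ?_
    rw [suMat_mulVec_mul, hx, e, ← hx', suMat_inv_mulVec]
  · refine mem_stab.2 ?_
    rw [suMat_mulVec_mul, hy, e, ← hy', suMat_inv_mulVec]

theorem gPart_card : Nat.card (gPart hF h K) = 1 := by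
  rw [Nat.card_eq_one_iff_unique]
  exact ⟨⟨fun a b => Subtype.ext ((stab2_eq_bot hF h a.2.1).trans (stab2_eq_bot hF h b.2.1).symm)⟩,
    ⟨1⟩⟩

theorem card_pstK : Nat.card (K ⊓ pst (m := 1) x : Subgroup G3) = Nat.card (eGrp h K) *
    (Nat.card (iPart hF h K) * Nat.card (wPart hF h K)) := by
  have e := card_K_pst hF h (K := K)
  rw [gPart_card hF h, one_mul] at e
  rw [card_eGrp hF h]
  exact e

theorem stab_le_radU {g : SU (1 + 2) F q} (hg : g ∈ stab (q := q) x) : g ∈ H55.Psu.radU x := by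
  obtain ⟨u, hu, l, hl, rfl⟩ := exists_decomp_stab hF h hg
  rwa [stab2_eq_bot hF h hl, mul_one]

theorem mem_radU_of_pElem {p : ℕ} [Fact p.Prime] [CharP F p] {g : SU (1 + 2) F q}
    (hg : g ∈ pst (m := 1) x) {k : ℕ} (hk : g ^ p ^ k = 1) : g ∈ H55.Psu.radU x := by
  refine stab_le_radU hF h ((stab_iff_eig h).2 ⟨hg, ?_⟩)
  have hpow : ∀ j : ℕ, g ^ j ∈ pst (m := 1) x ∧ eig q x y (g ^ j) = eig q x y g ^ j := by
    intro j
    induction j with
    | zero => exact ⟨by rw [pow_zero]; exact one_mem _, by rw [pow_zero, pow_zero, eig_eq_one h (one_mem _)]⟩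
    | succ j ih =>
      exact ⟨by rw [pow_succ]; exact mul_mem ih.1 hg, by rw [pow_succ, eig_mul h ih.1 hg, ih.2, pow_succ]⟩
  have h1 := (hpow (p ^ k)).2
  rw [hk, eig_eq_one h (one_mem _)] at h1
  have h2 : (eig q x y g - 1) ^ p ^ k = 0 := by rw [sub_pow_char_pow, ← h1, one_pow, sub_self]
  exact sub_eq_zero.1 (eq_zero_of_pow_eq_zero h2)

theorem eGrp_norm {a : Fˣ} (ha : a ∈ eGrp h K) :
    (a : F) ^ (q + 1) ∈ mult (wPart hF h K) := fun _ hw =>
  (eig_norm_mul_mem hF h le_rfl ha hw).2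

/-- The part of the radical modulo its centre in coordinates. -/
def iCoord (e : Fin 1 → Fin (1 + 2) → F) (K : Subgroup (SU 3 F q)) : AddSubgroup F :=
  (iPart hF h K).comap ((LinearMap.toSpanSingleton F (Fin (1 + 2) → F) (e 0)).toAddMonoidHom)

theorem mem_iCoord {e : Fin 1 → Fin (1 + 2) → F} {c : F} :
    c ∈ iCoord hF h e K ↔ c • e 0 ∈ iPart hF h K := Iff.rfl

variable {e : Fin 1 → Fin (1 + 2) → F} (he : IsFrame q x y e)
include he

theorem e_props : hermForm (1 + 2) F q (e 0) x = 0 ∧ hermForm (1 + 2) F q (e 0) y = 0 ∧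
    hermForm (1 + 2) F q (e 0) (e 0) = 1 :=
  ⟨(mem_pperp.1 (he.perp 0)).1, (mem_pperp.1 (he.perp 0)).2, by simpa using he.on 0 0⟩

theorem pperp_line {w : Fin (1 + 2) → F} (hw : w ∈ pperp q x y) :
    w = hermForm (1 + 2) F q w (e 0) • e 0 := by
  have := frame_ext hF h he hw
  rwa [Fin.sum_univ_one] at this

theorem card_iCoord : Nat.card (iCoord hF h e K) = Nat.card (iPart hF h K) := by
  have he0 : e 0 ≠ 0 := fun e0 => by
    have := (e_props hF h he).2.2
    rw [e0, h_zero_left] at this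
    exact zero_ne_one this
  refine Nat.card_eq_of_bijective (fun c : iCoord hF h e K => (⟨c.1 • e 0, c.2⟩ : iPart hF h K))
    ⟨fun c c' e' => Subtype.ext (smul_left_injective F he0 (congrArg Subtype.val e')), ?_⟩
  rintro ⟨w, hw⟩
  have e1 := pperp_line hF h he (iPart_le_pperp hF h hw)
  exact ⟨⟨hermForm (1 + 2) F q w (e 0), by rw [mem_iCoord, ← e1]; exact hw⟩, Subtype.ext e1.symm⟩

theorem lev_e {t : SU (1 + 2) F q} (ht : t ∈ lev q x y) :
    suMat t *ᵥ e 0 = (eig q x y t ^ q / eig q x y t) • e 0 := by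
  obtain ⟨h0, hx, hy⟩ := lev_spec hF h ht
  have hq : (eig q x y t ^ q / eig q x y t) ^ (q + 1) = 1 := by
    rw [div_pow, pow_succ, pow_succ, pow_q_pow_q hF, mul_comm (eig q x y t),
      div_self (mul_ne_zero (pow_ne_zero _ h0) h0)]
  obtain ⟨t', hx', hy', he'⟩ := exists_diag hF h he (eig q x y t) h0 (fun _ => _) (fun _ => hq)
    (by rw [Finset.prod_const, Finset.card_univ, Fintype.card_fin, pow_one,
      mul_div_cancel₀ _ h0])
  have hm : t' ∈ lev q x y := ⟨⟨_, h0, hx'⟩, ⟨_, inv_ne_zero (pow_ne_zero _ h0), hy'⟩⟩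
  have : t = t' := lev_eq_of_eig hF h ht hm (by
    conv_rhs => rw [eig, hx', h_smul_left, h.2.2, mul_one])
  conv_lhs => rw [this]
  exact he' 0

theorem iCoord_rho {a : Fˣ} (ha : a ∈ eGrp h K) {c : F} (hc : c ∈ iCoord hF h e K) :
    (a : F) ^ q * ((a : F) ^ q / a) * c ∈ iCoord hF h e K := by
  obtain ⟨g, ⟨hgK, hgP⟩, hga⟩ := ha
  obtain ⟨v, ⟨hvK, hv⟩, hvc⟩ := hc
  obtain ⟨u, hu, t, ht, rfl⟩ := exists_decomp hF h le_rfl hgP
  obtain ⟨h1, h2⟩ := pr_conj hF h hu ht hv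
  refine ⟨_, ⟨mul_mem (mul_mem hgK hvK) (inv_mem hgK), h1⟩, ?_⟩
  have hta : eig q x y t = (a : F) := by
    rw [← hga, eig_mul h (stab_le_pst x (radU_le_stab x hu)) ht.1,
      eig_eq_one h (radU_le_stab x hu), one_mul]
  rw [h2, show pr x y v = c • e 0 from hvc, hta, mulVec_smul, lev_e hF h he ht, hta]
  simp only [LinearMap.toAddMonoidHom_coe, LinearMap.toSpanSingleton_apply, smul_smul]
  congr 1
  ring

theorem iCoord_rad {c : F} (hc : c ∈ iCoord hF h e K) : ∃ g ∈ K, g ∈ H55.Psu.radU x ∧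
    pr x y g = c • e 0 ∧ gam q y g + gam q y g ^ q + c ^ (q + 1) = 0 := by
  obtain ⟨g, ⟨hgK, hg⟩, hgc⟩ := hc
  refine ⟨g, hgK, hg, hgc, ?_⟩
  obtain ⟨hex, hey, hee⟩ := e_props hF h he
  have h1 := suMat_h g y y
  rw [rad_mulVec_y hF h g, show pr x y g = c • e 0 from hgc, h.2.1] at h1
  simp [h_add_left, h_add_right hF, h_smul_left, h_smul_right hF, h.1, h.2.1, h.2.2, (h.symm hF).2.2,
    hex, hey, hee, (h_eq_zero_comm hF).1 hex, (h_eq_zero_comm hF).1 hey] at h1
  rw [pow_succ]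
  linear_combination h1

end Pair

section Trans

variable {K : Subgroup (SU 3 F q)}

theorem pst_card {x y : Fin (1 + 2) → F} (h : IsHyp q x y) :
    K.relIndex (pst (m := 1) x) * (Nat.card (eGrp h K) *
      (Nat.card (iPart hF h K) * Nat.card (wPart hF h K))) = (q ^ 2 - 1) * q ^ 3 := by
  have e := relIndex_formula hF h le_rfl K
  rw [gPart_card hF h, one_mul, ← card_eGrp hF h] at e
  have h2 : Nat.card (SU 1 F q) = 1 := by
    rw [← card_stab2 hF h le_rfl]
    rw [Nat.card_eq_one_iff_unique]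
    exact ⟨⟨fun a b => Subtype.ext ((stab2_eq_bot hF h a.2).trans (stab2_eq_bot hF h b.2).symm)⟩, ⟨1⟩⟩
  refine e.trans ?_
  rw [h2, one_mul, mul_one, ← pow_succ]

/-- The subgroup in the radical at a point is a Sylow subgroup unless it is trivial. -/
theorem exists_sylow_at {p : ℕ} [Fact p.Prime] [CharP F p] {x y : Fin (1 + 2) → F} (h : IsHyp q x y)
    {a : SU 3 F q} (haK : a ∈ K) (ha : a ∈ H55.Psu.radU (n := 1 + 2) x) (ha1 : a ≠ 1) :
    ∃ S : Sylow p K, ∀ g : K, g ∈ (S : Subgroup K) ↔ (g : SU 3 F q) ∈ H55.Psu.radU (n := 1 + 2) x := by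
  set R : Subgroup K := (H55.Psu.radU (q := q) (n := 1 + 2) x).comap K.subtype with hR
  have hRp : IsPGroup p R :=
    (isPGroup_radU hF (by norm_num) h.1).comap_of_injective _ Subtype.coe_injective
  obtain ⟨S, hS⟩ := hRp.exists_le_sylow
  refine ⟨S, fun g => ⟨fun hg => ?_, fun hg => hS hg⟩⟩
  have haS : (⟨a, haK⟩ : K) ∈ (S : Subgroup K) := hS (show a ∈ H55.Psu.radU x from ha)
  haveI : Nontrivial (S : Subgroup K) :=
    ⟨⟨⟨_, haS⟩, 1, fun e => ha1 (congrArg (fun s : (S : Subgroup K) => ((s : K) : SU 3 F q)) e)⟩⟩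
  haveI := S.2.center_nontrivial
  obtain ⟨⟨z, hz⟩, hz1⟩ := exists_ne (1 : Subgroup.center (S : Subgroup K))
  have hcomm : ∀ s : (S : Subgroup K), ((s : K) : SU 3 F q) * ((z : K) : SU 3 F q) =
      ((z : K) : SU 3 F q) * ((s : K) : SU 3 F q) := fun s =>
    congrArg (fun t : (S : Subgroup K) => ((t : K) : SU 3 F q)) (Subgroup.mem_center_iff.1 hz s)
  have hpow : ∀ s : (S : Subgroup K), ∃ k, ((s : K) : SU 3 F q) ^ p ^ k = 1 := fun s => by
    obtain ⟨k, hk⟩ := S.2 s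
    exact ⟨k, by simpa using congrArg (fun t : (S : Subgroup K) => ((t : K) : SU 3 F q)) hk⟩
  have key : ∀ (c d : SU 3 F q), c ≠ 1 → (∃ k, c ^ p ^ k = 1) → c ∈ pst (m := 1) x → d * c = c * d →
      d ∈ pst (m := 1) x := by
    intro c d hc1 ⟨k, hk⟩ hcx e
    have hcx' : suMat c *ᵥ x = x := (mem_radU_of_pElem hF h hcx hk).1
    have hx0 := h.fst_ne_zero hF
    have hd0 : suMat d *ᵥ x ≠ 0 := fun e0 => hx0 (suMat_injective d (by simpa using e0))
    obtain ⟨b, hb⟩ := Borel3.fixed_point_unique hF p hk hc1 hx0 hd0 h.1 (by rw [suMat_h, h.1])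
      ⟨1, by rw [one_smul]; exact hcx'⟩
      ⟨1, by rw [one_smul, ← suMat_mulVec_mul, ← e, suMat_mulVec_mul, hcx']⟩
    exact ⟨b, fun b0 => hd0 (by rw [← hb, b0, zero_smul]), hb.symm⟩
  have hax : a ∈ pst (m := 1) x := stab_le_pst x (radU_le_stab x ha)
  have hzx : ((z : K) : SU 3 F q) ∈ pst (m := 1) x :=
    key a _ ha1 (hpow ⟨_, haS⟩) hax (hcomm ⟨_, haS⟩).symm
  obtain ⟨k, hk⟩ := hpow ⟨g, hg⟩
  refine mem_radU_of_pElem hF h (key _ _ (fun e => hz1 ?_) (hpow z) hzx (hcomm ⟨g, hg⟩)) hk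
  exact Subtype.ext (Subtype.ext (Subtype.ext e))

theorem ptTrans_of_small (hsmall : K.index ≤ q ^ 3) : PtTrans K := by
  intro v w hv0 hw0 hv hw
  by_contra hno
  simp only [not_exists, not_and] at hno
  obtain ⟨f, hf⟩ := exists_hyp_partner hF hv0 hv
  obtain ⟨f', hf'⟩ := exists_hyp_partner hF hw0 hw
  have hne : ∀ g ∈ K, ∀ a : F, suMat g *ᵥ v ≠ a • w := fun g hg a e =>
    hno g hg a (fun a0 => hv0 (suMat_injective g (by simp [e, a0]))) e
  have hadd := relIndex_add_le hF (m := 1) le_rfl K hf hf' hne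
  have hpos : ∀ {x y : Fin (1 + 2) → F} (h : IsHyp q x y), 0 < K.relIndex (pst (m := 1) x) := by
    intro x y h
    refine Nat.pos_of_ne_zero fun e => ?_
    have := pst_card hF (K := K) h
    rw [e, zero_mul] at this
    have := Nat.pow_pos (n := 3) (q_pos hF)
    have := two_le hF
    have : 4 ≤ q ^ 2 := by nlinarith
    rcases mul_eq_zero.1 (‹0 = (q ^ 2 - 1) * q ^ 3›.symm) with h' | h' <;> omega
  have hnt : ∀ {x y : Fin (1 + 2) → F} (h : IsHyp q x y), K.relIndex (pst (m := 1) x) < q ^ 3 →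
      ∃ a ∈ K, a ∈ H55.Psu.radU (n := 1 + 2) x ∧ a ≠ 1 := by
    intro x y h hlt
    by_contra hcon
    simp only [not_exists, not_and, not_not] at hcon
    have hI : Nat.card (iPart hF h K) = 1 := by
      rw [Nat.card_eq_one_iff_unique]
      refine ⟨⟨?_⟩, ⟨0⟩⟩
      rintro ⟨_, a, ⟨ha, ha'⟩, rfl⟩ ⟨_, b, ⟨hb, hb'⟩, rfl⟩
      obtain rfl := hcon a ha ha'
      obtain rfl := hcon b hb hb'
      rfl
    have hW : Nat.card (wPart hF h K) = 1 := by
      rw [Nat.card_eq_one_iff_unique]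
      refine ⟨⟨?_⟩, ⟨0⟩⟩
      rintro ⟨_, a, ⟨ha, ha'⟩, rfl⟩ ⟨_, b, ⟨hb, hb'⟩, rfl⟩
      obtain rfl := hcon a ha ha'.1
      obtain rfl := hcon b hb hb'.1
      rfl
    have e := pst_card hF (K := K) h
    rw [hI, hW, mul_one, mul_one] at e
    have h4 : 0 < q ^ 2 - 1 := by have : 4 ≤ q ^ 2 := by nlinarith [two_le hF]
                                  omega
    have hL := Nat.le_of_dvd h4 (eGrp_dvd hF h (K := K))
    have := Nat.mul_le_mul_left (K.relIndex (pst (m := 1) x)) hL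
    rw [e, mul_comm _ (q ^ 2 - 1)] at this
    exact absurd (Nat.le_of_mul_le_mul_left this h4) (not_le.2 hlt)
  obtain ⟨a, haK, ha, ha1⟩ := hnt hf (by have := hpos hf'; omega)
  obtain ⟨b, hbK, hb, hb1⟩ := hnt hf' (by have := hpos hf; omega)
  obtain ⟨p, hpF⟩ := CharP.exists F
  haveI := hpF
  haveI : Fact p.Prime := ⟨CharP.char_is_prime F p⟩
  obtain ⟨S, hS⟩ := exists_sylow_at hF (p := p) hf haK ha ha1
  obtain ⟨T, hT⟩ := exists_sylow_at hF (p := p) hf' hbK hb hb1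
  obtain ⟨g, hg⟩ := MulAction.exists_smul_eq K S T
  have hgb : g⁻¹ * ⟨b, hbK⟩ * g ∈ (S : Subgroup K) := by
    have : (⟨b, hbK⟩ : K) ∈ ((g • S : Sylow p K) : Subgroup K) := by rw [hg]; exact (hT _).2 hb
    rw [Sylow.coe_subgroup_smul, Subgroup.mem_pointwise_smul_iff_inv_smul_mem] at this
    simpa using this
  have h1 := ((hS _).1 hgb).1
  have hb' : b * (g : SU 3 F q) = (g : SU 3 F q) * (((g⁻¹ * ⟨b, hbK⟩ * g : K)) : SU 3 F q) := by
    push_cast; group
  have hfix : suMat b *ᵥ (suMat (g : SU 3 F q) *ᵥ v) = suMat (g : SU 3 F q) *ᵥ v := by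
    rw [← suMat_mulVec_mul, hb', suMat_mulVec_mul]
    erw [h1]
  obtain ⟨k, hk⟩ := isPGroup_radU hF (p := p) (by norm_num) hw ⟨b, hb⟩
  have hgv0 : suMat (g : SU 3 F q) *ᵥ v ≠ 0 := fun e0 => hv0 (suMat_injective _ (by simpa using e0))
  obtain ⟨c, hc⟩ := Borel3.fixed_point_unique hF p
    (show b ^ p ^ k = 1 by simpa using congrArg Subtype.val hk) hb1 hw0 hgv0 hw (by rw [suMat_h, hv])
    ⟨1, by rw [one_smul]; exact hb.1⟩ ⟨1, by rw [one_smul]; exact hfix⟩
  exact hne g g.2 c hc.symm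

/-- The bound on the point stabiliser. -/
theorem big_stab (htr : PtTrans K) (hsmall : K.index ≤ q ^ 3) {x y : Fin (1 + 2) → F}
    (h : IsHyp q x y) :
    q ^ 2 - 1 ≤ Nat.card (eGrp h K) * (Nat.card (iPart hF h K) * Nat.card (wPart hF h K)) ∧
      Nat.card K = (q ^ 3 + 1) * (Nat.card (eGrp h K) *
        (Nat.card (iPart hF h K) * Nat.card (wPart hF h K))) := by
  classical
  haveI : Finite (IsoPt (1 + 2) q F) := by unfold IsoPt; infer_instance
  set P := IsoPt.mk x (h.fst_ne_zero hF) h.1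
  have horb : MulAction.orbit K P = Set.univ := by
    refine Set.eq_univ_of_forall fun r => ?_
    obtain ⟨w, hw0, hw, rfl⟩ := r.exists_mk
    obtain ⟨g, hg, a, -, e⟩ := htr x w (h.fst_ne_zero hF) hw0 h.1 hw
    exact ⟨⟨g, hg⟩, smul_isoPt_eq.2 ⟨a, e.symm⟩⟩
  have hN : Nat.card (IsoPt (1 + 2) q F) = q ^ 3 + 1 := card_isoPt_three hF
  have e := index_mul_orbit hF h le_rfl K
  rw [horb, Set.ncard_univ, hN] at e
  have e' := Nat.eq_of_mul_eq_mul_right (by omega) e
  have e2 := pst_card hF (K := K) h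
  rw [← e'] at e2
  constructor
  · refine Nat.le_of_mul_le_mul_left ?_ (Nat.pow_pos (n := 3) (q_pos hF))
    rw [mul_comm _ (q ^ 2 - 1), ← e2]
    exact Nat.mul_le_mul_right _ hsmall
  · have h1 := MulAction.index_stabilizer K P
    rw [horb, Set.ncard_univ, hN] at h1
    have h2 := (MulAction.stabilizer K P).index_mul_card
    rw [h1, ← h2] at *
    rw [← card_pstK hF h]
    congr 1
    refine Nat.card_congr ?_
    rw [pst_eq_stabilizer hF h]
    exact { toFun := fun g => ⟨g.1.1, g.1.2, g.2⟩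
            invFun := fun g => ⟨⟨g.1, g.2.1⟩, g.2.2⟩
            left_inv := fun g => rfl
            right_inv := fun g => rfl }

end Trans

section Transv

/-- The parameters of the transvections of a subgroup with a given centre. -/
def tw (K : Subgroup (SU 3 F q)) {v : Fin 3 → F} (hv : hermForm 3 F q v v = 0) : AddSubgroup F where
  carrier := {c | c + c ^ q = 0 ∧ ∃ A ∈ K, ∀ z, suMat A *ᵥ z = z + (c * h3 z v) • v}
  zero_mem' := ⟨by rw [zero_pow (q_ne_zero hF), add_zero], 1, one_mem _, fun z => by simp [suMat_one]⟩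
  add_mem' := by
    rintro a b ⟨ha, A, hA, hAz⟩ ⟨hb, B, hB, hBz⟩
    refine ⟨by rw [add_pow_q hF]; linear_combination ha + hb, A * B, mul_mem hA hB, fun z => ?_⟩
    rw [suMat_mulVec_mul, hBz, hAz, h_add_left, h_smul_left, hv]
    module
  neg_mem' := by
    rintro a ⟨ha, A, hA, hAz⟩
    refine ⟨by rw [neg_pow_q hF]; linear_combination -ha, A⁻¹, inv_mem hA, fun z => ?_⟩
    have : suMat A *ᵥ (z + (-a * h3 z v) • v) = z := by
      rw [hAz, h_add_left, h_smul_left, hv]; module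
    conv_lhs => rw [← this, suMat_inv_mulVec]

variable {K : Subgroup (SU 3 F q)}

theorem tw_eq_wPart {x y : Fin (1 + 2) → F} (h : IsHyp q x y) : tw hF K h.1 = wPart hF h K := by
  ext c
  constructor
  · rintro ⟨hc, A, hA, hAz⟩
    refine ⟨A, ⟨hA, ?_⟩, ?_⟩
    · have e : A = tv hF x c h.1 hc := suMat_ext fun z => (hAz z).trans (tv_mulVec hF x c h.1 hc z).symm
      rw [e]
      exact ⟨H55.Psu.tv_mem_radU hF h.1 hc, pr_tv hF h hc⟩
    · show gam q y A = c
      rw [gam]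
      erw [hAz y]
      rw [add_sub_cancel_left, h_smul_left, (h.symm hF).2.2, h.2.2, mul_one, mul_one]
  · rintro ⟨A, ⟨hA, hA'⟩, rfl⟩
    refine ⟨rad_trace hF h hA'.2, A, hA, fun z => ?_⟩
    obtain ⟨b, hb, rfl⟩ := eq_tv_of_pr_zero hF h hA'.1 hA'.2
    have e : gam q y (tv hF x b h.1 hb) = b := by
      rw [gam]
      erw [tv_mulVec hF x b h.1 hb]
      rw [add_sub_cancel_left, h_smul_left, (h.symm hF).2.2, h.2.2, mul_one, mul_one]
    rw [e]
    exact tv_mulVec hF x _ h.1 _ z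

theorem tw_smul {v : Fin 3 → F} (hv : h3 v v = 0) {a : F} (ha : a ≠ 0)
    (hav : h3 (a • v) (a • v) = 0) {c : F} : c ∈ tw hF K hav ↔ c * a ^ (q + 1) ∈ tw hF K hv := by
  have hN : a ^ (q + 1) ≠ 0 := pow_ne_zero _ ha
  have hNq : (a ^ (q + 1)) ^ q = a ^ (q + 1) := by
    rw [pow_succ, mul_pow, pow_q_pow_q hF, mul_comm]
  constructor <;> rintro ⟨hc, A, hA, hAz⟩
  · refine ⟨by rw [mul_pow, hNq, ← add_mul, hc, zero_mul], A, hA, fun z => ?_⟩
    rw [hAz, h_smul_right hF, smul_smul]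
    congr 2
    rw [pow_succ]; ring
  · refine ⟨?_, A, hA, fun z => ?_⟩
    · rw [mul_pow, hNq, ← add_mul] at hc
      exact (mul_eq_zero.1 hc).resolve_right hN
    · rw [hAz, h_smul_right hF, smul_smul]
      congr 2
      rw [pow_succ]; ring

theorem tw_map {v : Fin 3 → F} (hv : h3 v v = 0) {g : SU 3 F q} (hg : g ∈ K)
    (hgv : h3 (suMat g *ᵥ v) (suMat g *ᵥ v) = 0) {c : F} (hc : c ∈ tw hF K hv) :
    c ∈ tw hF K hgv := by
  obtain ⟨hc, A, hA, hAz⟩ := hc
  refine ⟨hc, g * A * g⁻¹, mul_mem (mul_mem hg hA) (inv_mem hg), fun z => ?_⟩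
  rw [suMat_mulVec_mul, suMat_mulVec_mul, hAz, mulVec_add, mulVec_smul, suMat_mulVec_inv]
  congr 2
  rw [← suMat_h g (suMat g⁻¹ *ᵥ z) v, suMat_mulVec_inv]

/-- All parameter sets are scalings of one. -/
theorem tw_scale (htr : PtTrans K) {x y : Fin (1 + 2) → F} (h : IsHyp q x y) {v : Fin 3 → F}
    (hv0 : v ≠ 0) (hv : h3 v v = 0) :
    ∃ ν : F, ν ≠ 0 ∧ ∀ c, c ∈ wPart hF h K ↔ c * ν ∈ tw hF K hv := by
  obtain ⟨g, hg, a, ha, e⟩ := htr x v (h.fst_ne_zero hF) hv0 h.1 hv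
  refine ⟨a ^ (q + 1), pow_ne_zero _ ha, fun c => ?_⟩
  rw [← tw_eq_wPart hF h, ← tw_smul hF hv ha (by rw [← e, suMat_h, h.1])]
  constructor
  · intro hc
    have := tw_map hF h.1 hg (by rw [suMat_h, h.1]) hc
    simpa [e] using this
  · intro hc
    have hav : h3 (a • v) (a • v) = 0 := by rw [← e, suMat_h, h.1]
    have e' : suMat g⁻¹ *ᵥ (a • v) = x := by rw [← e, suMat_inv_mulVec]
    have := tw_map hF hav (inv_mem hg) (by rw [e']; exact h.1) hc
    simpa [e'] using this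

theorem tw_mult (htr : PtTrans K) {x y : Fin (1 + 2) → F} (h : IsHyp q x y) {v : Fin 3 → F}
    (hv0 : v ≠ 0) (hv : h3 v v = 0) {k : F} :
    k ∈ mult (wPart hF h K) ↔ ∀ c ∈ tw hF K hv, k * c ∈ tw hF K hv := by
  obtain ⟨ν, hν, hiff⟩ := tw_scale hF htr h hv0 hv
  constructor
  · intro hk c hc
    have h1 : c / ν ∈ wPart hF h K := (hiff _).2 (by rwa [div_mul_cancel₀ _ hν])
    have h2 := (hiff _).1 (hk _ h1)
    rwa [mul_assoc, div_mul_cancel₀ _ hν] at h2
  · intro hk w hw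
    refine (hiff _).2 ?_
    rw [mul_assoc]
    exact hk _ ((hiff _).1 hw)

end Transv

end H37.U3Min
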