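import Cfsg.Agent.H37.SUMinBases
import Cfsg.Agent.H37.SUThreeMinBase
import Cfsg.Agent.H50.SCBase

/-!
Four-dimensional special unitary groups: bases adapted to a hyperbolic pair, elements of the radical
in coordinates, and the orders at an isotropic point.
-/

set_option autoImplicit false

namespace H37.U4Min

open Matrix Cfsg H50 H50.PointStab H50.RadFrame H37.SUMin

universe u

variable {F : Type u} [Field F] {q : ℕ}

local notation "V4" => (Fin (2 + 2) → F)
local notation "hh" => hermForm (2 + 2) F q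
local notation "G4" => SU (2 + 2) F q

variable [Fintype F] (hF : Fintype.card F = q ^ 2)
include hF

section Pair

variable {x y : Fin (2 + 2) → F} (h : IsHyp q x y)
include h

/-- A pair of the complement with non-singular Gram matrix completes the pair to a basis. -/
theorem quad_gram {i j : V4} (hi : i ∈ pperp q x y) (hj : j ∈ pperp q x y)
    (hD : hh i i * hh j j - hh i j * hh j i ≠ 0) : GramND q ![x, y, i, j] := by
  obtain ⟨hix, hiy⟩ := mem_pperp.1 hi
  obtain ⟨hjx, hjy⟩ := mem_pperp.1 hj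
  have hxi := (h_eq_zero_comm hF).1 hix
  have hyi := (h_eq_zero_comm hF).1 hiy
  have hxj := (h_eq_zero_comm hF).1 hjx
  have hyj := (h_eq_zero_comm hF).1 hjy
  intro c hc
  have c0 := hc 1
  have c1 := hc 0
  have c2 := hc 2
  have c3 := hc 3
  simp [Fin.sum_univ_four, h_add_left, h_smul_left, h.1, h.2.1, h.2.2, (h.symm hF).2.2, hix, hiy,
    hjx, hjy] at c0 c1
  simp [Fin.sum_univ_four, h_add_left, h_smul_left, hxi, hyi, hxj, hyj] at c2 c3
  have e2 : c 2 * (hh i i * hh j j - hh i j * hh j i) = 0 := by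
    linear_combination hh j j * c2 - hh j i * c3
  have e3 : c 3 * (hh i i * hh j j - hh i j * hh j i) = 0 := by
    linear_combination hh i i * c3 - hh i j * c2
  funext k
  fin_cases k
  · exact c0
  · exact c1
  · exact (mul_eq_zero.1 e2).resolve_right hD
  · exact (mul_eq_zero.1 e3).resolve_right hD

theorem quad_ext {i j : V4} (hi : i ∈ pperp q x y) (hj : j ∈ pperp q x y)
    (hD : hh i i * hh j j - hh i j * hh j i ≠ 0) {z : V4} (hz : z ∈ pperp q x y)
    (hzi : hh z i = 0) (hzj : hh z j = 0) : z = 0 := by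
  have hG := quad_gram hF h hi hj hD
  have hr := finrank_perp_range hF (GramND.linearIndependent hF hG)
  rw [Fintype.card_fin] at hr
  have hbot : perp q (Set.range ![x, y, i, j]) = ⊥ := Submodule.finrank_eq_zero.1 (by omega)
  rw [← Submodule.mem_bot F, ← hbot, mem_perp_range]
  obtain ⟨hzx, hzy⟩ := mem_pperp.1 hz
  intro k
  fin_cases k <;> assumption

/-- The complement in an isotropic basis. -/
theorem decomp_iso {i j : V4} (hi : i ∈ pperp q x y) (hj : j ∈ pperp q x y) (hii : hh i i = 0)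
    (hjj : hh j j = 0) (hij : hh i j ≠ 0) {z : V4} (hz : z ∈ pperp q x y) :
    z = (hh z j / hh i j) • i + (hh z i / hh j i) • j := by
  have hji : hh j i ≠ 0 := fun e => hij ((h_eq_zero_comm hF).1 e)
  have hD : hh i i * hh j j - hh i j * hh j i ≠ 0 := by
    rw [hii, zero_mul, zero_sub, neg_ne_zero]; exact mul_ne_zero hij hji
  rw [← sub_eq_zero]
  refine quad_ext hF h hi hj hD (Submodule.sub_mem _ hz
    (Submodule.add_mem _ (Submodule.smul_mem _ _ hi) (Submodule.smul_mem _ _ hj))) ?_ ?_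
  · rw [h_sub_left, h_add_left, h_smul_left, h_smul_left, hii, mul_zero, zero_add,
      div_mul_cancel₀ _ hji, sub_self]
  · rw [h_sub_left, h_add_left, h_smul_left, h_smul_left, hjj, mul_zero, add_zero,
      div_mul_cancel₀ _ hij, sub_self]

/-- A second vector orthogonal to an anisotropic one, and the complement in that basis. -/
theorem exists_orth {i : V4} (hi : i ∈ pperp q x y) (hii : hh i i ≠ 0) :
    ∃ j ∈ pperp q x y, hh j i = 0 ∧ hh j j = hh i i ∧
      ∀ z ∈ pperp q x y, z = (hh z i / hh i i) • i + (hh z j / hh i i) • j := by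
  obtain ⟨e, he⟩ := exists_frame hF (m := 2) rfl h
  have hd := frame_ext hF h he hi
  rw [Fin.sum_univ_two] at hd
  set a := hh i (e 0)
  set b := hh i (e 1)
  have e00 : hh (e 0) (e 0) = 1 := by simpa using he.on 0 0
  have e11 : hh (e 1) (e 1) = 1 := by simpa using he.on 1 1
  have e01 : hh (e 0) (e 1) = 0 := by simpa using he.on 0 1
  have e10 : hh (e 1) (e 0) = 0 := by simpa using he.on 1 0
  obtain ⟨j, hjdef⟩ : ∃ j, j = (-b ^ q) • e 0 + a ^ q • e 1 := ⟨_, rfl⟩
  have hjP : j ∈ pperp q x y := hjdef ▸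
    Submodule.add_mem _ (Submodule.smul_mem _ _ (he.perp 0)) (Submodule.smul_mem _ _ (he.perp 1))
  have hji : hh j i = 0 := by
    rw [hjdef, hd]
    simp only [h_add_left, h_add_right hF, h_smul_left, h_smul_right hF, e00, e01, e10, e11]
    ring
  have hjj : hh j j = hh i i := by
    rw [hjdef, hd]
    simp only [h_add_left, h_add_right hF, h_smul_left, h_smul_right hF, e00, e01, e10, e11,
      neg_pow_q hF, pow_q_pow_q hF]
    ring
  refine ⟨j, hjP, hji, hjj, fun z hz => ?_⟩
  have hij := (h_eq_zero_comm hF).1 hji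
  have hD : hh i i * hh j j - hh i j * hh j i ≠ 0 := by
    rw [hji, mul_zero, sub_zero, hjj]; exact mul_ne_zero hii hii
  rw [← sub_eq_zero]
  refine quad_ext hF h hi hjP hD (Submodule.sub_mem _ hz
    (Submodule.add_mem _ (Submodule.smul_mem _ _ hi) (Submodule.smul_mem _ _ hjP))) ?_ ?_
  · rw [h_sub_left, h_add_left, h_smul_left, h_smul_left, hji, mul_zero, add_zero,
      div_mul_cancel₀ _ hii, sub_self]
  · rw [h_sub_left, h_add_left, h_smul_left, h_smul_left, hij, hjj, mul_zero, zero_add,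
      div_mul_cancel₀ _ hii, sub_self]

/-- An isotropic vector orthogonal to an anisotropic one. -/
theorem iso_orth_eq_zero {i z : V4} (hi : i ∈ pperp q x y) (hii : hh i i ≠ 0)
    (hz : z ∈ pperp q x y) (hzz : hh z z = 0) (hzi : hh z i = 0) : z = 0 := by
  obtain ⟨j, -, hji, hjj, hd⟩ := exists_orth hF h hi hii
  have e := hd z hz
  rw [hzi, zero_div, zero_smul, zero_add] at e
  have hz0 : hh z j / hh i i = 0 := by
    have h2 := hzz
    rw [e, h_smul_left, h_smul_right hF, hjj] at h2
    rcases mul_eq_zero.1 h2 with h3 | h3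
    · exact h3
    · rcases mul_eq_zero.1 h3 with h4 | h4
      · exact (pow_eq_zero_iff (q_ne_zero hF)).1 h4
      · exact absurd h4 hii
  rw [e, hz0, zero_smul]

/-- A partner of an isotropic vector of the complement. -/
theorem exists_partner {v : V4} (hv : v ∈ pperp q x y) (hv0 : v ≠ 0) (hvv : hh v v = 0) :
    ∃ f ∈ pperp q x y, IsHyp q v f := by
  obtain ⟨w, hw, hne⟩ : ∃ w ∈ pperp q x y, hh v w ≠ 0 := by
    by_contra hno
    simp only [not_exists, not_and, not_not] at hno
    exact hv0 (GramND.isNondeg_perp hF (h.gramND hF) v hv hno)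
  exact H51.StabMax.exists_partner_in hF hv hvv hw hne

/-- Vectors of the complement orthogonal to an isotropic one. -/
theorem eq_smul_of_orth {v f : V4} (hv : v ∈ pperp q x y) (hf : f ∈ pperp q x y) (hvf : IsHyp q v f)
    {z : V4} (hz : z ∈ pperp q x y) (hzv : hh z v = 0) : z = hh z f • v := by
  have := decomp_iso hF h hv hf hvf.1 hvf.2.1 (by rw [hvf.2.2]; exact one_ne_zero) hz
  rwa [hzv, zero_div, zero_smul, add_zero, hvf.2.2, div_one] at this

/-- The determinant through the basis. -/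
theorem det_quad {i j : V4} (hi : i ∈ pperp q x y) (hj : j ∈ pperp q x y)
    (hD : hh i i * hh j j - hh i j * hh j i ≠ 0) (t : G4) {a b d11 d12 d21 d22 : F}
    (hx : suMat t *ᵥ x = a • x) (hy : suMat t *ᵥ y = b • y)
    (hti : suMat t *ᵥ i = d11 • i + d21 • j) (htj : suMat t *ᵥ j = d12 • i + d22 • j) :
    a * b * (d11 * d22 - d12 * d21) = 1 := by
  obtain ⟨P, hP⟩ : ∃ P : Matrix (Fin (2 + 2)) (Fin (2 + 2)) F,
      P = (Matrix.of ![x, y, i, j])ᵀ := ⟨_, rfl⟩
  have hPu : IsUnit P.det := by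
    rw [hP, det_transpose, ← Matrix.isUnit_iff_isUnit_det, ← Matrix.linearIndependent_rows_iff_isUnit]
    exact GramND.linearIndependent hF (quad_gram hF h hi hj hD)
  have e : suMat t * P = P * !![a, 0, 0, 0; 0, b, 0, 0; 0, 0, d11, d12; 0, 0, d21, d22] := by
    ext r c
    have hc : (suMat t * P) r c = (suMat t *ᵥ fun k => P k c) r := rfl
    rw [hc, Matrix.mul_apply, Fin.sum_univ_four]
    subst hP
    fin_cases c
    · change (suMat t *ᵥ x) r = _; simp [hx, mul_comm]
    · change (suMat t *ᵥ y) r = _; simp [hy, mul_comm]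
    · change (suMat t *ᵥ i) r = _; simp [hti, mul_comm]
    · change (suMat t *ᵥ j) r = _; simp [htj, mul_comm]
  have e2 := congrArg Matrix.det e
  rw [det_mul, det_mul, show (suMat t).det = 1 from t.1.2, one_mul] at e2
  have e3 := hPu.mul_left_cancel ((mul_one P.det).trans e2)
  rw [det_succ_row_zero] at e3
  simp [Fin.sum_univ_succ, det_fin_three, submatrix_apply, Fin.succAbove] at e3
  linear_combination -e3

/-- An element of the derived Levi group fixing an anisotropic vector. -/
theorem stab2_semireg {l : G4} (hl : l ∈ stab2 (q := q) x y) {i : V4} (hi : i ∈ pperp q x y)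
    (hii : hh i i ≠ 0) (hli : suMat l *ᵥ i = i) : l = 1 := by
  obtain ⟨j, hj, hji, hjj, hd⟩ := exists_orth hF h hi hii
  have hD : hh i i * hh j j - hh i j * hh j i ≠ 0 := by
    rw [hji, mul_zero, sub_zero, hjj]; exact mul_ne_zero hii hii
  have hlj := hd _ (lev_pperp hF h (stab2_le_lev hF h hl) hj)
  have h0 : hh (suMat l *ᵥ j) i = 0 := by
    nth_rw 1 [← hli]
    rw [suMat_h, hji]
  rw [h0, zero_div, zero_smul, zero_add] at hlj
  have e := det_quad hF h hi hj hD l (a := 1) (b := 1) (d11 := 1) (d21 := 0) (d12 := 0)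
    (by rw [one_smul]; exact hl.1) (by rw [one_smul]; exact hl.2)
    (by rw [one_smul, zero_smul, add_zero, hli]) (by rw [zero_smul, zero_add]; exact hlj)
  rw [one_mul, one_mul, zero_mul, one_mul, sub_zero] at e
  rw [e, one_smul] at hlj
  refine lev_ext hF h (by rw [hl.1, suMat_one, one_mulVec]) (by rw [hl.2, suMat_one, one_mulVec])
    fun w hw => ?_
  rw [suMat_one, one_mulVec, hd w hw, mulVec_add, mulVec_smul, mulVec_smul, hli, hlj]

/-- An element of the radical on a vector. -/
theorem rad_apply {g : G4} (hg : g ∈ H55.Psu.radU (q := q) x) (z : V4) :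
    suMat g *ᵥ z = z + hh z x • (pr x y g + gam q y g • x) - hh z (pr x y g) • x := by
  obtain ⟨w, hwx, hwy, hz⟩ := pair_decomp hF h z
  obtain ⟨hpx, hpy⟩ := mem_pperp.1 (pr_mem hF h (radU_le_stab x hg))
  have e : hh z (pr x y g) = hh w (pr x y g) := by
    conv_lhs => rw [hz]
    simp [h_add_left, h_smul_left, (h_eq_zero_comm hF).1 hpx, (h_eq_zero_comm hF).1 hpy]
  rw [e]
  conv_lhs => rw [hz]
  rw [mulVec_add, mulVec_add, mulVec_smul, mulVec_smul, hg.1, rad_mulVec_y hF h g,
    radU_mulVec hF h hg (mem_pperp.2 ⟨hwx, hwy⟩)]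
  conv_rhs => arg 1; arg 1; rw [hz]
  module

/-- The parameters of an element of the radical. -/
theorem gam_trace {g : G4} (hg : g ∈ H55.Psu.radU (q := q) x) :
    gam q y g + gam q y g ^ q + hh (pr x y g) (pr x y g) = 0 := by
  have h1 := suMat_h g y y
  obtain ⟨hpx, hpy⟩ := mem_pperp.1 (pr_mem hF h (radU_le_stab x hg))
  rw [rad_mulVec_y hF h g] at h1
  simp only [h_add_left, h_add_right hF, h_smul_left, h_smul_right hF, h.1, h.2.1, h.2.2, hpx, hpy,
    (h_eq_zero_comm hF).1 hpx, (h_eq_zero_comm hF).1 hpy, (h.symm hF).2.2] at h1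
  linear_combination h1

/-- Conjugation of an element of the radical through an element over the derived Levi group. -/
theorem rad_conj_over {u l v : G4} (hu : u ∈ H55.Psu.radU (q := q) x) (hl : l ∈ stab2 (q := q) x y)
    (hv : v ∈ H55.Psu.radU (q := q) x) :
    (u * l) * v * (u * l)⁻¹ ∈ H55.Psu.radU (q := q) x ∧
      pr x y ((u * l) * v * (u * l)⁻¹) = suMat l *ᵥ pr x y v ∧
      gam q y ((u * l) * v * (u * l)⁻¹) = skew q (pr x y u) (suMat l *ᵥ pr x y v) + gam q y v := by
  have hc : l * v * l⁻¹ ∈ H55.Psu.radU (q := q) x := radU_conj_mem hF h (stab2_le_lev hF h hl).1 hv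
  obtain ⟨e1, e2⟩ := rad_conj hF h (stab2_le_lev hF h hl) hv
  rw [eig_eq_one h hl.1, one_pow, one_smul] at e1
  rw [eig_eq_one h hl.1, one_pow, one_mul] at e2
  have hd := skew_trace hF (pr x y u) (pr x y (l * v * l⁻¹))
  have e := comm_radU hF h hu hc hd
  have e' : (u * l) * v * (u * l)⁻¹ =
      tv hF x (skew q (pr x y u) (pr x y (l * v * l⁻¹))) h.1 hd * (l * v * l⁻¹) := by
    simp only [skew]
    rw [← e]
    group
  have ht := H55.Psu.tv_mem_radU hF (v := x) h.1 hd
  rw [e']
  refine ⟨(H55.Psu.radU (q := q) x).mul_mem ht hc, ?_, ?_⟩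
  · rw [(rad_mul hF h ht hc).1, pr_tv hF h hd, zero_add, e1]
  · rw [(rad_mul hF h ht hc).2, pr_tv hF h hd, h_zero_right hF, sub_zero, e2]
    congr 1
    rw [gam, tv_mulVec, add_sub_cancel_left, h_smul_left, h.2.2, (h.symm hF).2.2, mul_one, mul_one,
      e1]

variable {K : Subgroup (SU (2 + 2) F q)}

theorem gam_tv {a : F} (ha : a + a ^ q = 0) : gam q y (tv hF x a h.1 ha) = a := by
  rw [gam, tv_mulVec, add_sub_cancel_left, h_smul_left, h.2.2, (h.symm hF).2.2, mul_one, mul_one]

/-- A transvection at the point inside the subgroup. -/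
theorem tv_gam_mem {a : F} (ha : a + a ^ q = 0) (hK : tv hF x a h.1 ha ∈ K) :
    a ∈ wPart hF h K :=
  ⟨_, ⟨hK, H55.Psu.tv_mem_radU hF h.1 ha, pr_tv hF h ha⟩, gam_tv hF h ha⟩

theorem card_formula : K.relIndex (pst x) * (Nat.card (eSet x y K) * (Nat.card (gPart hF h K) *
    (Nat.card (iPart hF h K) * Nat.card (wPart hF h K)))) =
    (q ^ 2 - 1) * (q * (q ^ 2 - 1) * q ^ 5) := by
  rw [relIndex_formula hF h (by norm_num) K, H50.SCBase.card_SU_two hF,
    show q ^ 2 - 1 = (q + 1) * (q - 1) by rw [← Nat.sq_sub_sq, one_pow]]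
  ring

theorem gPart_card_le : Nat.card (gPart hF h K) ≤ q * (q ^ 2 - 1) := by
  have h1 : Nat.card (gPart hF h K) ≤ Nat.card (stab2 (q := q) x y) :=
    Nat.card_mono (Set.toFinite _) fun l hl => hl.1
  rw [card_stab2 hF h (by norm_num), H50.SCBase.card_SU_two hF] at h1
  rwa [show q ^ 2 - 1 = (q + 1) * (q - 1) by rw [← Nat.sq_sub_sq, one_pow], ← mul_assoc]

end Pair

end H37.U4Min
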