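import Cfsg.Agent.H37.SUFourMinBase

/-!
Four-dimensional special unitary groups: the parts at a point that is not a centre, when the index
is small.
-/

set_option autoImplicit false

namespace H37.U4Min

open Matrix Cfsg H50 H50.PointStab H50.RadFrame H37.SUMin

universe u

variable {F : Type u} [Field F] {q : ℕ}

local notation "V4" => (Fin (2 + 2) → F)
local notation "hh" => hermForm (2 + 2) F q
local notation "G4" => SU (2 + 2) F q

/-- The configuration with all multiples of an isotropic vector. -/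
structure LineType [Fintype F] (hF : Fintype.card F = q ^ 2) {x y : Fin (2 + 2) → F}
    (h : IsHyp q x y) (K : Subgroup (SU (2 + 2) F q)) (v : Fin (2 + 2) → F) : Prop where
  wbot : wPart hF h K = ⊥
  ne : v ≠ 0
  iso : hermForm (2 + 2) F q v v = 0
  mem : v ∈ pperp q x y
  full : ∀ c : F, c • v ∈ iPart hF h K
  trans : ∀ β (hβ : β + β ^ q = 0), tv hF v β iso hβ ∈ gPart hF h K

/-- The configuration with a real form of the complement, in characteristic two. -/
structure PlaneType [Fintype F] (hF : Fintype.card F = q ^ 2) {x y : Fin (2 + 2) → F}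
    (h : IsHyp q x y) (K : Subgroup (SU (2 + 2) F q)) (i j : Fin (2 + 2) → F) : Prop where
  wbot : wPart hF h K = ⊥
  two : (2 : F) = 0
  imem : i ∈ pperp q x y
  jmem : j ∈ pperp q x y
  iiso : hermForm (2 + 2) F q i i = 0
  jiso : hermForm (2 + 2) F q j j = 0
  pair : hermForm (2 + 2) F q i j = 1
  full : ∀ a b : F, a ^ q = a → b ^ q = b → a • i + b • j ∈ iPart hF h K
  only : ∀ w ∈ iPart hF h K, ∃ a b : F, a ^ q = a ∧ b ^ q = b ∧ w = a • i + b • j
  all : gPart hF h K = stab2 x y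

/-- Too short an orbit. -/
theorem ix_lt_false {ix D B : ℕ} (_hD : 0 < D) (hix : ix < (q + 1) * (q ^ 3 + 1))
    (hle : B ≤ ix * D) (hB : ((q + 1) * (q ^ 3 + 1) - 1) * D < B) : False := by
  have : ix * D ≤ ((q + 1) * (q ^ 3 + 1) - 1) * D := Nat.mul_le_mul_right _ (by omega)
  omega

/-- Equality in the three factors. -/
theorem tight {ix a b c A B C : ℕ} (hq : 2 ≤ q) (hA : A ≤ q ^ 3) (hB : B ≤ q ^ 3) (hC : C ≤ q ^ 3)
    (ha : a ≤ A) (hb : b ≤ B) (hc : c ≤ C) (hpos : 0 < A * B * C)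
    (hf : ix * (a * b * c) = (q ^ 4 + q ^ 3) * (A * B * C))
    (hix : ix < (q + 1) * (q ^ 3 + 1)) :
    a = A ∧ b = B ∧ c = C ∧ ix = q ^ 4 + q ^ 3 := by
  have hT : (q + 1) * (q ^ 3 + 1) = q ^ 4 + q ^ 3 + q + 1 := by ring
  have hix' : ix ≤ q ^ 4 + q ^ 3 + q := by omega
  have key : ∀ X a' R : ℕ, X ≤ q ^ 3 → 0 < R → a' < X →
      ix * (a' * R) < (q ^ 4 + q ^ 3) * (X * R) := by
    intro X a' R hX hR ha'
    rw [← mul_assoc, ← mul_assoc]
    refine Nat.mul_lt_mul_of_pos_right ?_ hR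
    calc ix * a' ≤ (q ^ 4 + q ^ 3 + q) * (X - 1) := Nat.mul_le_mul hix' (by omega)
      _ < (q ^ 4 + q ^ 3) * X := by
          obtain ⟨Y, rfl⟩ : ∃ Y, X = Y + 1 := ⟨X - 1, by omega⟩
          rw [Nat.add_sub_cancel]
          have h1 : q * (Y + 1) ≤ q ^ 4 := by
            rw [show q ^ 4 = q * q ^ 3 by ring]; exact Nat.mul_le_mul_left _ hX
          have h2 : 0 < q ^ 3 := Nat.pow_pos (by omega)
          nlinarith
  have hA' : 0 < A := Nat.pos_of_ne_zero fun e => by simp [e] at hpos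
  have hB' : 0 < B := Nat.pos_of_ne_zero fun e => by simp [e] at hpos
  have hC' : 0 < C := Nat.pos_of_ne_zero fun e => by simp [e] at hpos
  have ea : a = A := by
    by_contra hne
    have h1 := key A a (B * C) hA (Nat.mul_pos hB' hC') (lt_of_le_of_ne ha hne)
    have h2 : ix * (a * b * c) ≤ ix * (a * (B * C)) := by
      rw [mul_assoc a b c]; gcongr
    rw [hf, mul_assoc A B C] at h2
    omega
  have eb : b = B := by
    by_contra hne
    have h1 := key B b (A * C) hB (Nat.mul_pos hA' hC') (lt_of_le_of_ne hb hne)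
    have h2 : ix * (a * b * c) ≤ ix * (b * (A * C)) := by
      rw [show a * b * c = b * (a * c) by ring]; gcongr
    rw [hf, show A * B * C = B * (A * C) by ring] at h2
    omega
  have ec : c = C := by
    by_contra hne
    have h1 := key C c (A * B) hC (Nat.mul_pos hA' hB') (lt_of_le_of_ne hc hne)
    have h2 : ix * (a * b * c) ≤ ix * (c * (A * B)) := by
      rw [show a * b * c = c * (a * b) by ring]; gcongr
    rw [hf, show A * B * C = C * (A * B) by ring] at h2
    omega
  subst ea eb ec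
  exact ⟨rfl, rfl, rfl, Nat.eq_of_mul_eq_mul_right hpos hf⟩

variable [Fintype F] (hF : Fintype.card F = q ^ 2)
include hF

section Pair

variable {x y : Fin (2 + 2) → F} (h : IsHyp q x y) {K : Subgroup (SU (2 + 2) F q)}
include h


theorem iPart_ne_bot (hW : ∃ t : F, t + t ^ q = 0 ∧ t ∉ wPart hF h K)
    (hsh : K.relIndex (pst x) < (q + 1) * (q ^ 3 + 1)) : iPart hF h K ≠ ⊥ := by
  intro hI
  have hq := two_le hF
  obtain ⟨hLW, -⟩ := scalar_card hF h (by norm_num) hW
  have hG := gPart_card_le hF h (K := K)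
  have hf := card_formula hF h (K := K)
  rw [hI, AddSubgroup.card_bot, one_mul] at hf
  have h1 : 3 ≤ q ^ 2 - 1 := by
    have : 4 ≤ q ^ 2 := Nat.pow_le_pow_left hq 2
    omega
  refine ix_lt_false (D := (q ^ 2 - 1) * (q * (q ^ 2 - 1)))
    (B := (q ^ 2 - 1) * (q * (q ^ 2 - 1) * q ^ 5))
    (Nat.mul_pos (by omega) (Nat.mul_pos (by omega) (by omega))) hsh ?_ ?_
  · rw [← hf]
    refine Nat.mul_le_mul_left _ ?_
    calc _ = (Nat.card (wPart hF h K) * Nat.card (eSet x y K)) * Nat.card (gPart hF h K) := by ring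
      _ ≤ _ := Nat.mul_le_mul hLW hG
  · rw [show (q ^ 2 - 1) * (q * (q ^ 2 - 1) * q ^ 5) = q ^ 5 * ((q ^ 2 - 1) * (q * (q ^ 2 - 1))) by ring]
    refine Nat.mul_lt_mul_of_pos_right ?_ (Nat.mul_pos (by omega) (Nat.mul_pos (by omega) (by omega)))
    have hT : (q + 1) * (q ^ 3 + 1) = q ^ 4 + q ^ 3 + q + 1 := by ring
    have e5 : 2 * q ^ 4 ≤ q ^ 5 := by rw [pow_succ' q 4]; exact Nat.mul_le_mul_right _ hq
    have e4 : 2 * q ^ 3 ≤ q ^ 4 := by rw [pow_succ' q 3]; exact Nat.mul_le_mul_right _ hq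
    have e3 : 4 * q ≤ q ^ 3 := by
      rw [show q ^ 3 = q ^ 2 * q by ring]; exact Nat.mul_le_mul_right _ (by omega)
    omega

/-- No anisotropic vector in the part in the radical. -/
theorem iPart_iso (hW : ∃ t : F, t + t ^ q = 0 ∧ t ∉ wPart hF h K)
    (hsh : K.relIndex (pst x) < (q + 1) * (q ^ 3 + 1)) {i : V4} (hi : i ∈ iPart hF h K) :
    hh i i = 0 := by
  classical
  by_contra hii
  have hq := two_le hF
  have hq4 : 4 ≤ q ^ 2 := Nat.pow_le_pow_left hq 2
  have hT : (q + 1) * (q ^ 3 + 1) = q ^ 4 + q ^ 3 + q + 1 := by ring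
  obtain ⟨hLW, hLW'⟩ := scalar_card hF h (by norm_num) hW
  have hI := card_iPart_sq hF h (by norm_num) hW
  have hf := card_formula hF h (K := K)
  -- the Levi part moves a vector freely inside its sphere
  have hsph : ∀ k ∈ iPart hF h K, hh k k ≠ 0 → Nat.card (gPart hF h K) ≤
      Nat.card {j : V4 | j ∈ iPart hF h K ∧ hh j j = hh k k} := by
    intro k hk hkk
    refine Nat.card_le_card_of_injective
      (fun l => ⟨suMat (l : G4) *ᵥ k, gPart_iPart hF h l.2 hk, suMat_h _ _ _⟩) fun l l' e => ?_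
    have e' : suMat (l : G4) *ᵥ k = suMat (l' : G4) *ᵥ k := congrArg Subtype.val e
    refine Subtype.ext (inv_mul_eq_one.1 (stab2_semireg hF h (mul_mem (inv_mem l.2.1) l'.2.1)
      (iPart_le_pperp hF h hk) hkk ?_))
    rw [suMat_mulVec_mul, ← e', suMat_inv_mulVec]
  have hG : Nat.card (gPart hF h K) ≤ q ^ 2 - 1 := by
    refine (hsph i hi hii).trans (le_trans ?_ (Nat.sub_le_sub_right hI 1))
    have h1 : Nat.card (Option {j : V4 | j ∈ iPart hF h K ∧ hh j j = hh i i}) ≤
        Nat.card (iPart hF h K) :=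
      Nat.card_le_card_of_injective (fun o => o.elim 0 fun j => ⟨j.1, j.2.1⟩) fun o o' e => by
        rcases o with _ | j <;> rcases o' with _ | j'
        · rfl
        · have e' : (0 : V4) = j'.1 := congrArg Subtype.val e
          exact absurd (by rw [← j'.2.2, ← e', h_zero_left]) hii
        · have e' : j.1 = (0 : V4) := congrArg Subtype.val e
          exact absurd (by rw [← j.2.2, e', h_zero_left]) hii
        · exact congrArg some (Subtype.ext (congrArg Subtype.val e :))
    rw [Finite.card_option] at h1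
    omega
  have hne : ∀ D : ℕ, 0 < D → (Nat.card (eSet x y K) * (Nat.card (gPart hF h K) *
      (Nat.card (iPart hF h K) * Nat.card (wPart hF h K)))) ≤ D →
      ((q + 1) * (q ^ 3 + 1) - 1) * D < (q ^ 2 - 1) * (q * (q ^ 2 - 1) * q ^ 5) → False :=
    fun D hD h1 h2 => ix_lt_false hD hsh (hf ▸ Nat.mul_le_mul_left _ h1) h2
  obtain ⟨r, hr⟩ : ∃ r, q = r + 2 := ⟨q - 2, by omega⟩
  by_cases hWb : wPart hF h K = ⊥
  swap
  · have hr0 : 0 < q - 2 := by
      have := hLW' hWb
      by_contra hr0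
      rw [show q - 2 = 0 by omega, mul_zero, Nat.le_zero] at this
      rw [show Nat.card (eSet x y K) * (Nat.card (gPart hF h K) *
        (Nat.card (iPart hF h K) * Nat.card (wPart hF h K))) =
        (Nat.card (wPart hF h K) * Nat.card (eSet x y K)) *
        (Nat.card (gPart hF h K) * Nat.card (iPart hF h K)) by ring, this, zero_mul, mul_zero] at hf
      have : 0 < (q ^ 2 - 1) * (q * (q ^ 2 - 1) * q ^ 5) :=
        Nat.mul_pos (by omega) (Nat.mul_pos (Nat.mul_pos (by omega) (by omega)) (Nat.pow_pos (by omega)))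
      omega
    refine hne ((q + 1) * (q - 2) * (q ^ 2 - 1) * q ^ 2)
      (Nat.mul_pos (Nat.mul_pos (Nat.mul_pos (by omega) hr0) (by omega)) (by omega)) ?_ ?_
    · calc _ = (Nat.card (wPart hF h K) * Nat.card (eSet x y K)) * Nat.card (gPart hF h K) *
            Nat.card (iPart hF h K) := by ring
        _ ≤ _ := Nat.mul_le_mul (Nat.mul_le_mul (hLW' hWb) hG) hI
    · calc ((q + 1) * (q ^ 3 + 1) - 1) * ((q + 1) * (q - 2) * (q ^ 2 - 1) * q ^ 2)
          = (((q + 1) * (q ^ 3 + 1) - 1) * (q - 2)) * ((q + 1) * (q ^ 2 - 1) * q ^ 2) := by ring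
        _ < q ^ 4 * (q - 1) * ((q + 1) * (q ^ 2 - 1) * q ^ 2) := by
            refine Nat.mul_lt_mul_of_pos_right ?_
              (Nat.mul_pos (Nat.mul_pos (by omega) (by omega)) (by omega))
            rw [hT, Nat.add_sub_cancel, hr, Nat.add_sub_cancel, show r + 2 - 1 = r + 1 from rfl]
            ring_nf; omega
        _ = (q ^ 2 - 1) * (q * (q ^ 2 - 1) * q ^ 5) := by
            rw [show q ^ 2 - 1 = (q + 1) * (q - 1) by rw [← Nat.sq_sub_sq, one_pow]]; ring
  -- no skew part
  have hW1 : Nat.card (wPart hF h K) = 1 := by rw [hWb, AddSubgroup.card_bot]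
  have hL : Nat.card (eSet x y K) ≤ q ^ 2 - 1 := by rwa [hW1, one_mul] at hLW
  obtain ⟨g, ⟨hgK, hg⟩, hgi⟩ := id hi
  by_cases h2 : (2 : F) = 0
  · obtain ⟨e1, e2⟩ := rad_mul hF h hg hg
    have h1 : pr x y (g * g) = 0 := by
      rw [e1, hgi, ← two_smul F i, h2, zero_smul]
    have h3 : gam q y (g * g) ∈ wPart hF h K :=
      ⟨_, ⟨mul_mem hgK hgK, (H55.Psu.radU (q := q) x).mul_mem hg hg, h1⟩, rfl⟩
    rw [hWb, AddSubgroup.mem_bot, e2, hgi, ← two_mul, h2, zero_mul, zero_sub, neg_eq_zero] at h3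
    exact hii h3
  have hq3 : 3 ≤ q := by
    by_contra hlt
    obtain rfl : q = 2 := by omega
    refine h2 ?_
    have := FiniteField.cast_card_eq_zero F
    rw [hF, Nat.cast_pow, Nat.cast_ofNat] at this
    exact (pow_eq_zero_iff two_ne_zero).1 this
  have hsym : ∀ a ∈ iPart hF h K, ∀ b ∈ iPart hF h K, hh a b = hh b a := fun a ha b hb => by
    have := iPart_skew hF h ha hb
    rw [hWb, AddSubgroup.mem_bot, skew, sub_eq_zero] at this
    exact this
  by_cases hA : ∀ j ∈ iPart hF h K, hh j j = hh i i → j = i ∨ j = -i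
  · have hG2 : Nat.card (gPart hF h K) ≤ 2 := by
      refine (hsph i hi hii).trans ?_
      rw [Nat.card_coe_set_eq]
      refine (Set.ncard_le_ncard (t := {i, -i}) (fun j hj => hA j hj.1 hj.2) (Set.toFinite _)).trans ?_
      exact (Set.ncard_insert_le _ _).trans (by rw [Set.ncard_singleton])
    refine hne ((q ^ 2 - 1) * 2 * q ^ 2) (Nat.mul_pos (by omega) (by omega)) ?_ ?_
    · rw [hW1, mul_one, ← mul_assoc]
      exact Nat.mul_le_mul (Nat.mul_le_mul hL hG2) hI
    · calc ((q + 1) * (q ^ 3 + 1) - 1) * ((q ^ 2 - 1) * 2 * q ^ 2)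
          = ((q + 1) * (q ^ 3 + 1) - 1) * 2 * ((q ^ 2 - 1) * q ^ 2) := by ring
        _ < q ^ 4 * (q ^ 2 - 1) * ((q ^ 2 - 1) * q ^ 2) := by
            refine Nat.mul_lt_mul_of_pos_right ?_ (Nat.mul_pos (by omega) (by omega))
            have h9 : 8 ≤ q ^ 2 - 1 := by
              have : 9 ≤ q ^ 2 := Nat.pow_le_pow_left hq3 2
              omega
            have h34 : q ^ 3 + q ≤ 2 * q ^ 4 := by
              have : q ^ 3 ≤ q ^ 4 := Nat.pow_le_pow_right (by omega) (by omega)
              have : q ≤ q ^ 4 := Nat.le_self_pow (by omega) q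
              omega
            have := Nat.mul_le_mul_left (q ^ 4) h9
            have : 0 < q ^ 4 := Nat.pow_pos (by omega)
            omega
        _ = _ := by ring
  simp only [not_forall, not_or] at hA
  obtain ⟨j, hj, hjj, hji, hji'⟩ := hA
  have hN : ∀ k ∈ iPart hF h K, hh k k = hh i i → k ≠ -i → hh (i + k) (i + k) ≠ 0 := by
    intro k hk hkk hne' h0
    refine hne' (eq_neg_of_add_eq_zero_right (iso_orth_eq_zero hF h (iPart_le_pperp hF h hi) hii
      (Submodule.add_mem _ (iPart_le_pperp hF h hi) (iPart_le_pperp hF h hk)) h0 ?_))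
    simp only [h_add_left, h_add_right hF, hkk, hsym k hk i hi] at h0 ⊢
    have h4 : (2 : F) * (hh i i + hh i k) = 0 := by linear_combination h0
    exact (mul_eq_zero.1 h4).resolve_left h2
  have hjm : -j ∈ iPart hF h K := neg_mem hj
  have hjjm : hh (-j) (-j) = hh i i := by rw [h_neg_left, h_neg_right hF, neg_neg, hjj]
  have hp := hN j hj hjj hji'
  have hm := hN (-j) hjm hjjm fun e => hji (neg_injective e)
  obtain ⟨k, hk, hk0, hkne⟩ : ∃ k ∈ iPart hF h K, hh k k ≠ 0 ∧ hh k k ≠ hh i i := by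
    by_cases e1 : hh (i + j) (i + j) = hh i i
    · refine ⟨i + -j, add_mem hi hjm, hm, fun e2 => ?_⟩
      simp only [h_add_left, h_add_right hF, h_neg_left, h_neg_right hF, hjj, hsym j hj i hi] at e1 e2
      have : (2 : F) * hh i i = 0 := by linear_combination e1 + e2
      exact hii ((mul_eq_zero.1 this).resolve_left h2)
    · exact ⟨i + j, add_mem hi hj, hp, e1⟩
  have hG2 : 2 * Nat.card (gPart hF h K) ≤ q ^ 2 - 1 := by
    have a1 := hsph i hi hii
    have a2 := hsph k hk hk0
    have h1 : Nat.card (Option ({j : V4 | j ∈ iPart hF h K ∧ hh j j = hh i i} ⊕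
        {j : V4 | j ∈ iPart hF h K ∧ hh j j = hh k k})) ≤ Nat.card (iPart hF h K) := by
      refine Nat.card_le_card_of_injective
        (fun o => o.elim 0 (Sum.elim (fun j => ⟨j.1, j.2.1⟩) fun j => ⟨j.1, j.2.1⟩)) ?_
      rintro (_ | a | a) (_ | b | b) e <;> have e' := congrArg Subtype.val e <;>
        simp only [Option.elim_none, Option.elim_some, Sum.elim_inl, Sum.elim_inr,
          ZeroMemClass.coe_zero] at e'
      · rfl
      · exact absurd (by rw [← b.2.2, ← e', h_zero_left]) hii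
      · exact absurd (by rw [← b.2.2, ← e', h_zero_left]) hk0
      · exact absurd (by rw [← a.2.2, e', h_zero_left]) hii
      · exact congrArg (some ∘ Sum.inl) (Subtype.ext e')
      · exact absurd (by rw [← a.2.2, e', b.2.2]) hkne.symm
      · exact absurd (by rw [← a.2.2, e', h_zero_left]) hk0
      · exact absurd (by rw [← a.2.2, e', b.2.2]) hkne
      · exact congrArg (some ∘ Sum.inr) (Subtype.ext e')
    rw [Finite.card_option, Nat.card_sum] at h1
    omega
  refine ix_lt_false (D := (q ^ 2 - 1) * (q ^ 2 - 1) * q ^ 2)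
    (B := 2 * ((q ^ 2 - 1) * (q * (q ^ 2 - 1) * q ^ 5)))
    (Nat.mul_pos (Nat.mul_pos (by omega) (by omega)) (by omega)) hsh ?_ ?_
  · rw [← hf, hW1, mul_one]
    calc 2 * (K.relIndex (pst x) * (Nat.card (eSet x y K) * (Nat.card (gPart hF h K) *
          Nat.card (iPart hF h K))))
        = K.relIndex (pst x) * (Nat.card (eSet x y K) * (2 * Nat.card (gPart hF h K)) *
          Nat.card (iPart hF h K)) := by ring
      _ ≤ _ := Nat.mul_le_mul_left _ (Nat.mul_le_mul (Nat.mul_le_mul hL hG2) hI)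
  · calc ((q + 1) * (q ^ 3 + 1) - 1) * ((q ^ 2 - 1) * (q ^ 2 - 1) * q ^ 2)
        < 2 * q ^ 4 * ((q ^ 2 - 1) * (q ^ 2 - 1) * q ^ 2) := by
          refine Nat.mul_lt_mul_of_pos_right ?_
            (Nat.mul_pos (Nat.mul_pos (by omega) (by omega)) (by omega))
          have : 3 * q ^ 3 ≤ q ^ 4 := by rw [pow_succ' q 3]; exact Nat.mul_le_mul_right _ hq3
          have : q ≤ q ^ 3 := Nat.le_self_pow (by omega) q
          have : 0 < q ^ 3 := Nat.pow_pos (by omega)
          omega
      _ = _ := by ring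

end Pair

end H37.U4Min
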