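import Cfsg.Agent.H37.SUFourMinBase

/-!
Four-dimensional special unitary groups: isotropic points in a plane, orthogonal to a point, and on
chords of centres.
-/

set_option autoImplicit false

namespace H37.U4Min

open Matrix Cfsg H50 H50.PointStab H50.RadFrame H37.SUMin

universe u

variable {F : Type u} [Field F] {q : ℕ}

local notation "V4" => (Fin (2 + 2) → F)
local notation "hh" => hermForm (2 + 2) F q
local notation "G4" => SU (2 + 2) F q
local notation "Pt" => IsoPt (2 + 2) q F

/-- A vector representing a point. -/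
noncomputable def rp (P : IsoPt (2 + 2) q F) : Fin (2 + 2) → F := P.1.rep

theorem rp_ne (P : Pt) : rp P ≠ 0 := P.1.rep_nonzero

theorem rp_mk {v : V4} (hv : v ≠ 0) (hvv : hh v v = 0) :
    ∃ a : F, a ≠ 0 ∧ rp (IsoPt.mk v hv hvv : Pt) = a • v := by
  obtain ⟨a, ha⟩ := Projectivization.exists_smul_eq_mk_rep F v hv
  exact ⟨a, a.ne_zero, ha.symm⟩

theorem mk_eq_of_smul {P : Pt} {v : V4} (hv : v ≠ 0) (hvv : hh v v = 0) {c : F}
    (e : rp P = c • v) : P = IsoPt.mk v hv hvv := by
  obtain ⟨p, hp⟩ := P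
  refine Subtype.ext ?_
  show p = Projectivization.mk F v hv
  conv_lhs => rw [← p.mk_rep]
  exact (Projectivization.mk_eq_mk_iff' F _ _ _ hv).2 ⟨c, e.symm⟩

variable [Fintype F] (hF : Fintype.card F = q ^ 2)
include hF

theorem rp_iso (P : Pt) : hh (rp P) (rp P) = 0 := by
  obtain ⟨v, hv, hvv, rfl⟩ := P.exists_mk
  obtain ⟨a, -, e⟩ := rp_mk hv hvv
  rw [e, h_smul_left, h_smul_right hF, hvv, mul_zero, mul_zero]

instance finite_pt : Finite Pt := by unfold IsoPt; infer_instance

/-- Isotropic vectors of a plane spanned by a hyperbolic pair. -/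
theorem plane_pts {v g : V4} (hvg : IsHyp q v g) {z : V4} (hz : hh z z = 0) {A B : F}
    (e : z = A • v + B • g) (hz0 : z ≠ 0) :
    (A ≠ 0 ∧ z = A • v) ∨
      ∃ (B' s : F), B' ≠ 0 ∧ s + s ^ q = 0 ∧ z = B' • (g + s • v) := by
  by_cases hB : B = 0
  · rw [hB, zero_smul, add_zero] at e
    exact Or.inl ⟨fun h0 => hz0 (by rw [e, h0, zero_smul]), e⟩
  refine Or.inr ⟨B, A / B, hB, ?_, ?_⟩
  · rw [e] at hz
    simp [h_add_left, h_add_right hF, h_smul_left, h_smul_right hF, hvg.1, hvg.2.1, hvg.2.2,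
      (hvg.symm hF).2.2] at hz
    have hBq : B ^ q ≠ 0 := pow_ne_zero _ hB
    rw [div_pow]
    field_simp
    linear_combination hz
  · rw [e, smul_add, smul_smul, mul_div_cancel₀ _ hB, add_comm (A • v)]

theorem pair_iso {v g : V4} (hvg : IsHyp q v g) {s : F} (hs : s + s ^ q = 0) :
    hh (g + s • v) (g + s • v) = 0 := by
  simp [h_add_left, h_add_right hF, h_smul_left, h_smul_right hF, hvg.1, hvg.2.1, hvg.2.2,
    (hvg.symm hF).2.2]
  linear_combination hs

theorem pair_ne {v g : V4} (hvg : IsHyp q v g) (s : F) : g + s • v ≠ 0 := fun e => by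
  have := congrArg (fun w => hh w v) e
  simp [h_add_left, h_smul_left, hvg.1, (hvg.symm hF).2.2, h_zero_left] at this

/-- A hyperbolic pair in the complement. -/
theorem exists_compl_pair {x y : V4} (h : IsHyp q x y) :
    ∃ v g, IsHyp q v g ∧ v ∈ pperp q x y ∧ g ∈ pperp q x y := by
  obtain ⟨ι, j, -, -, -, hjh, -, hjs⟩ := exists_pair_hom hF (m := 2) (by norm_num) h
  obtain ⟨e, f, hef⟩ := exists_hyp (F := F) hF (n := 2) le_rfl
  have hR := pperp_eq_range hF h hjh hjs
  exact ⟨j e, j f, ⟨by rw [hjh, hef.1], by rw [hjh, hef.2.1], by rw [hjh, hef.2.2]⟩,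
    hR ▸ LinearMap.mem_range_self j e, hR ▸ LinearMap.mem_range_self j f⟩

/-- The points in a plane spanned by a hyperbolic pair. -/
theorem exists_planeSet {v g : V4} (hvg : IsHyp q v g) :
    ∃ S : Set Pt, S.ncard ≤ q + 1 ∧ ∀ P : Pt, ∀ A B : F, rp P = A • v + B • g → P ∈ S := by
  refine ⟨Set.range (fun o : Option (traceHom hF).ker => o.elim
    (IsoPt.mk v (hvg.fst_ne_zero hF) hvg.1 : Pt)
    fun s => IsoPt.mk _ (pair_ne hF hvg (s : F)) (pair_iso hF hvg (by
      have := s.2; rwa [AddMonoidHom.mem_ker, traceHom_apply] at this))), ?_, ?_⟩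
  · rw [← Set.image_univ]
    refine (Set.ncard_image_le Set.finite_univ).trans ?_
    rw [Set.ncard_univ, Finite.card_option, card_trace_ker hF]
  · intro P A B e
    rcases plane_pts hF hvg (rp_iso hF P) e (rp_ne P) with ⟨-, e1⟩ | ⟨B', s, -, hs, e1⟩
    · exact ⟨none, (mk_eq_of_smul (hvg.fst_ne_zero hF) hvg.1 e1).symm⟩
    · exact ⟨some ⟨s, by rw [AddMonoidHom.mem_ker, traceHom_apply]; exact hs⟩,
        (mk_eq_of_smul (pair_ne hF hvg s) (pair_iso hF hvg hs) e1).symm⟩

/-- The points orthogonal to an isotropic vector. -/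
theorem card_perp_pts {z : V4} (hz0 : z ≠ 0) (hzz : hh z z = 0) :
    {P : Pt | hh (rp P) z = 0}.ncard ≤ q ^ 3 + q ^ 2 + 1 := by
  classical
  obtain ⟨f, hf⟩ := exists_hyp_partner hF hz0 hzz
  obtain ⟨v, g, hvg, hv, hg⟩ := exists_compl_pair hF hf
  obtain ⟨hvz, -⟩ := mem_pperp.1 hv
  obtain ⟨hgz, -⟩ := mem_pperp.1 hg
  have hzv := (h_eq_zero_comm hF).1 hvz
  have hzg := (h_eq_zero_comm hF).1 hgz
  let base : Option (traceHom hF).ker → V4 := fun o => o.elim v fun s => g + (s : F) • v
  have hbz : ∀ o, hh (base o) z = 0 ∧ hh z (base o) = 0 := by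
    rintro (_ | s) <;> simp [base, hvz, hgz, hzv, hzg, h_add_left, h_add_right hF, h_smul_left,
      h_smul_right hF]
  have hbb : ∀ o, hh (base o) (base o) = 0 ∧ base o ≠ 0 := by
    rintro (_ | s)
    · exact ⟨hvg.1, hvg.fst_ne_zero hF⟩
    · exact ⟨pair_iso hF hvg (by have := s.2; rwa [AddMonoidHom.mem_ker, traceHom_apply] at this),
        pair_ne hF hvg _⟩
  have hiso : ∀ (o) (a : F), hh (base o + a • z) (base o + a • z) = 0 := fun o a => by
    simp [h_add_left, h_add_right hF, h_smul_left, h_smul_right hF, hzz, (hbz o).1, (hbz o).2,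
      (hbb o).1]
  have hne : ∀ (o) (a : F), base o + a • z ≠ 0 := fun o a e => by
    have hmem : base o ∈ pperp q z f := by
      rcases o with _ | s
      · exact hv
      · exact Submodule.add_mem _ hg (Submodule.smul_mem _ _ hv)
    have := congrArg (fun w => hh w f) e
    simp [h_add_left, h_smul_left, hf.2.2, (mem_pperp.1 hmem).2, h_zero_left] at this
    exact (hbb o).2 (by rw [this, zero_smul, add_zero] at e; exact e)
  refine le_trans (Set.ncard_le_ncard (t := Set.range
    (fun o : Option (Option (traceHom hF).ker × F) => o.elim (IsoPt.mk z hz0 hzz : Pt)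
      fun p => IsoPt.mk _ (hne p.1 p.2) (hiso p.1 p.2))) (fun P hP => ?_) (Set.toFinite _)) ?_
  · have hP' : hh (rp P) z = 0 := hP
    obtain ⟨u, hux, huy, e⟩ := pair_decomp hF hf (rp P)
    rw [hP', zero_smul, add_zero] at e
    set α := hh (rp P) f
    by_cases hu0 : u = 0
    · exact ⟨none, (mk_eq_of_smul (c := α) hz0 hzz (by rw [e, hu0, add_zero])).symm⟩
    have huu : hh u u = 0 := by
      have h2 := rp_iso hF P
      rw [e] at h2
      simpa [h_add_left, h_add_right hF, h_smul_left, h_smul_right hF, hzz, hux,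
        (h_eq_zero_comm hF).1 hux] using h2
    have hd := decomp_iso hF hf hv hg hvg.1 hvg.2.1 (by rw [hvg.2.2]; exact one_ne_zero)
      (mem_pperp.2 ⟨hux, huy⟩)
    rcases plane_pts hF hvg huu hd hu0 with ⟨hA, e1⟩ | ⟨B, s, hB, hs, e1⟩
    · refine ⟨some (none, α / (hh u g / hh v g)), (mk_eq_of_smul (c := hh u g / hh v g) _ (hiso none (α / (hh u g / hh v g))) ?_).symm⟩
      show rp P = (hh u g / hh v g) • (v + (α / (hh u g / hh v g)) • z)
      rw [smul_add, smul_smul, mul_div_cancel₀ _ hA, e, ← e1, add_comm (α • z)]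
    · refine ⟨some (some ⟨s, by rw [AddMonoidHom.mem_ker, traceHom_apply]; exact hs⟩, α / B),
        (mk_eq_of_smul (c := B) _ (hiso (some ⟨s, by rw [AddMonoidHom.mem_ker, traceHom_apply]; exact hs⟩) (α / B)) ?_).symm⟩
      show rp P = B • ((g + s • v) + (α / B) • z)
      rw [smul_add, smul_smul, mul_div_cancel₀ _ hB, e, ← e1, add_comm (α • z)]
  · rw [← Set.image_univ]
    refine (Set.ncard_image_le Set.finite_univ).trans (le_of_eq ?_)
    rw [Set.ncard_univ, Finite.card_option, Nat.card_prod, Finite.card_option, card_trace_ker hF,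
      Nat.card_eq_fintype_card, hF]
    ring

/-- Two centres that are not orthogonal force few or many centres. -/
theorem centres_dichotomy {K : Subgroup (SU (2 + 2) F q)} {v f : V4} (hvf : IsHyp q v f)
    (hv : H51.StabMax.IsCtr K v) (hf : H51.StabMax.IsCtr K f) :
    {P : Pt | H51.StabMax.IsCtr K (rp P)}.ncard ≤ 2 * q + 2 ∨
      q ^ 2 + 1 ≤ {P : Pt | H51.StabMax.IsCtr K (rp P)}.ncard := by
  classical
  have hq := two_le hF
  set C := {P : Pt | H51.StabMax.IsCtr K (rp P)} with hC
  have hmemC : ∀ {w : V4} (hw : w ≠ 0) (hc : H51.StabMax.IsCtr K w),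
      (IsoPt.mk w hw hc.1 : Pt) ∈ C := fun {w} hw hc => by
    obtain ⟨a, -, e⟩ := rp_mk hw hc.1
    show H51.StabMax.IsCtr K (rp _)
    rw [e]; exact H51.StabMax.ctr_smul hF hc a
  by_cases hcase : ∀ P ∈ C, (hh (rp P) v = 0 ∧ hh (rp P) f = 0) ∨ ∃ A B : F, rp P = A • v + B • f
  · left
    obtain ⟨S1, hS1, hS1'⟩ := exists_planeSet hF hvf
    obtain ⟨v', g', hvg', hv', hg'⟩ := exists_compl_pair hF hvf
    obtain ⟨S2, hS2, hS2'⟩ := exists_planeSet hF hvg'
    refine (Set.ncard_le_ncard (t := S1 ∪ S2) (fun P hP => ?_) (Set.toFinite _)).trans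
      ((Set.ncard_union_le _ _).trans (by omega))
    rcases hcase P hP with ⟨h1, h2⟩ | ⟨A, B, e⟩
    · exact Or.inr (hS2' P _ _ (decomp_iso hF hvf hv' hg' hvg'.1 hvg'.2.1
        (by rw [hvg'.2.2]; exact one_ne_zero) (mem_pperp.2 ⟨h1, h2⟩)))
    · exact Or.inl (hS1' P A B e)
  right
  simp only [not_forall, not_or, not_exists] at hcase
  obtain ⟨U, hU, hperp, hspan⟩ := hcase
  set u := rp U
  have hu : H51.StabMax.IsCtr K u := hU
  -- the chord
  let pc : Option (traceHom hF).ker → V4 := fun o => o.elim v fun s => f + (s : F) • v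
  have hpc : ∀ o, H51.StabMax.IsCtr K (pc o) ∧ pc o ≠ 0 ∧ ∃ A B : F, pc o = A • v + B • f := by
    rintro (_ | s)
    · exact ⟨hv, hvf.fst_ne_zero hF, 1, 0, by simp [pc]⟩
    · refine ⟨?_, pair_ne hF hvf _, (s : F), 1, by simp [pc, add_comm]⟩
      have := H51.StabMax.ctr_step hF hf hv (c := (s : F))
        (by have := s.2; rwa [AddMonoidHom.mem_ker, traceHom_apply] at this)
      rwa [(hvf.symm hF).2.2, mul_one] at this
  have hdist : ∀ o o', ∀ c : F, pc o = c • pc o' → o = o' := by
    intro o o' c e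
    have e1 := congrArg (fun w => hh w v) e
    have e2 := congrArg (fun w => hh w f) e
    rcases o with _ | s <;> rcases o' with _ | s' <;>
      simp [pc, h_add_left, h_smul_left, hvf.1, hvf.2.1, hvf.2.2, (hvf.symm hF).2.2] at e1 e2
    · rfl
    · rw [← e1, zero_mul] at e2; exact absurd e2 one_ne_zero
    · rw [← e1, one_mul] at e2; exact congrArg some (Subtype.ext e2)
  have hone : ∀ o o', hh (pc o) u = 0 → hh (pc o') u = 0 → o = o' := by
    intro o o' e e'
    by_contra hne
    obtain ⟨-, -, A, B, hAB⟩ := hpc o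
    obtain ⟨-, -, A', B', hAB'⟩ := hpc o'
    have hdet : A * B' - A' * B ≠ 0 := by
      intro h0
      by_cases hB : B = 0
      · have hA : A ≠ 0 := fun hA => (hpc o).2.1 (by rw [hAB, hA, hB, zero_smul, zero_smul, add_zero])
        rw [hB, mul_zero, sub_zero, mul_eq_zero] at h0
        have hB' := h0.resolve_left hA
        refine hne (hdist o' o (A' / A) ?_).symm
        rw [hAB, hAB', hB, hB', zero_smul, add_zero, add_zero, smul_smul,
          div_mul_cancel₀ _ hA]
      · refine hne (hdist o' o (B' / B) ?_).symm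
        rw [hAB, hAB', smul_add, smul_smul, smul_smul, div_mul_cancel₀ _ hB]
        congr 2
        field_simp
        linear_combination -h0
    rw [hAB, h_add_left, h_smul_left, h_smul_left] at e
    rw [hAB', h_add_left, h_smul_left, h_smul_left] at e'
    have e1 : (A * B' - A' * B) * hh v u = 0 := by linear_combination B' * e - B * e'
    have e2 : (A * B' - A' * B) * hh f u = 0 := by linear_combination A * e' - A' * e
    exact hperp ⟨(h_eq_zero_comm hF).1 ((mul_eq_zero.1 e1).resolve_left hdet),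
      (h_eq_zero_comm hF).1 ((mul_eq_zero.1 e2).resolve_left hdet)⟩
  let O := {o : Option (traceHom hF).ker // hh (pc o) u ≠ 0}
  let T := {c : (traceHom hF).ker // (c : F) ≠ 0}
  have hO : q ≤ Nat.card O := by
    have h1 : Nat.card (Option (traceHom hF).ker) ≤ Nat.card (O ⊕ Unit) := by
      refine Nat.card_le_card_of_injective
        (fun o => if ho : hh (pc o) u ≠ 0 then Sum.inl ⟨o, ho⟩ else Sum.inr ()) fun o o' e => ?_
      dsimp only at e
      split_ifs at e with ho ho'
      · exact congrArg Subtype.val (Sum.inl.inj e)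
      · exact hone o o' (not_not.1 ho) (not_not.1 (by assumption))
    rw [Finite.card_option, card_trace_ker hF, Nat.card_sum, Nat.card_unique (α := Unit)] at h1
    omega
  have hTc : Nat.card T = q - 1 := by
    haveI := Fintype.ofFinite (traceHom hF).ker
    have h1 : Nat.card T = Nat.card {c : (traceHom hF).ker // c ≠ 0} :=
      Nat.card_congr (Equiv.subtypeEquivRight fun c => by simp)
    rw [h1, Nat.card_eq_fintype_card, Fintype.card_subtype_compl, Fintype.card_subtype_eq,
      ← Nat.card_eq_fintype_card, card_trace_ker hF]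
  let w : O × T → V4 := fun p => u + ((p.2.1 : F) * hh u (pc p.1.1)) • pc p.1.1
  have hwc : ∀ p, H51.StabMax.IsCtr K (w p) := fun p =>
    H51.StabMax.ctr_step hF hu (hpc p.1.1).1
      (by have := p.2.1.2; rwa [AddMonoidHom.mem_ker, traceHom_apply] at this)
  have hwout : ∀ (p : O × T) (A B : F), w p ≠ A • v + B • f := by
    intro p A B e
    obtain ⟨-, -, A', B', hAB'⟩ := hpc p.1.1
    refine hspan (A - (p.2.1 : F) * hh u (pc p.1.1) * A') (B - (p.2.1 : F) * hh u (pc p.1.1) * B') ?_
    have e' : u = A • v + B • f - ((p.2.1 : F) * hh u (pc p.1.1)) • pc p.1.1 := eq_sub_of_add_eq e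
    generalize hh u (pc p.1.1) = d at e' ⊢
    rw [hAB'] at e'
    rw [e']
    module
  have hw0 : ∀ p, w p ≠ 0 := fun p e => hwout p 0 0 (by rw [e, zero_smul, zero_smul, add_zero])
  let Φ : Option (traceHom hF).ker ⊕ (O × T) → Pt := Sum.elim
    (fun o => IsoPt.mk (pc o) (hpc o).2.1 (hpc o).1.1) (fun p => IsoPt.mk (w p) (hw0 p) (hwc p).1)
  have hinj : Function.Injective Φ := by
    rintro (o | p) (o' | p') e <;> simp only [Φ, Sum.elim_inl, Sum.elim_inr] at e
    · obtain ⟨c, hc⟩ := IsoPt.mk_eq_mk.1 e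
      exact congrArg Sum.inl (hdist o o' c hc.symm)
    · obtain ⟨c, hc⟩ := IsoPt.mk_eq_mk.1 e.symm
      obtain ⟨-, -, A, B, hAB⟩ := hpc o
      exact absurd (by rw [← hc, hAB, smul_add, smul_smul, smul_smul]) (hwout p' (c * A) (c * B))
    · obtain ⟨c, hc⟩ := IsoPt.mk_eq_mk.1 e
      obtain ⟨-, -, A, B, hAB⟩ := hpc o'
      exact absurd (by rw [← hc, hAB, smul_add, smul_smul, smul_smul]) (hwout p (c * A) (c * B))
    · obtain ⟨c, hc⟩ := IsoPt.mk_eq_mk.1 e
      obtain ⟨⟨⟨o, ho⟩, ⟨t, ht⟩⟩, rfl⟩ : ∃ r, r = p := ⟨p, rfl⟩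
      obtain ⟨⟨⟨o', ho'⟩, ⟨t', ht'⟩⟩, rfl⟩ : ∃ r, r = p' := ⟨p', rfl⟩
      obtain ⟨-, -, A, B, hAB⟩ := hpc o
      obtain ⟨-, -, A', B', hAB'⟩ := hpc o'
      set a := (t : F) * hh u (pc o)
      set a' := (t' : F) * hh u (pc o')
      have hc' : (1 - c) • u = (c * a') • pc o' - a • pc o := by
        have h9 : c • (u + a' • pc o') = u + a • pc o := hc
        rw [smul_add, smul_smul] at h9
        rw [sub_smul, one_smul, eq_sub_iff_add_eq, sub_add_eq_add_sub, ← h9]
        module
      obtain rfl : c = 1 := by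
        by_contra hc1
        have h1c : (1 - c) ≠ 0 := sub_ne_zero.2 (Ne.symm hc1)
        refine hspan ((1 - c)⁻¹ * (c * a' * A' - a * A)) ((1 - c)⁻¹ * (c * a' * B' - a * B)) ?_
        rw [← inv_smul_smul₀ h1c u, hc', hAB, hAB']
        module
      rw [sub_self, zero_smul, one_mul, eq_comm, sub_eq_zero] at hc'
      have ha : a ≠ 0 := mul_ne_zero ht fun e => ho ((h_eq_zero_comm hF).1 e)
      have hoo : o = o' := by
        refine hdist o o' (a' / a) ?_
        rw [← inv_smul_smul₀ ha (pc o), ← hc', smul_smul, inv_mul_eq_div]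
      subst hoo
      have haa : a' = a := smul_left_injective F (hpc o).2.1 hc'
      have htt : (t' : F) = t := mul_right_cancel₀ (fun e => ho ((h_eq_zero_comm hF).1 e)) haa
      obtain rfl : t' = t := Subtype.ext htt
      rfl
  have hrange : Set.range Φ ⊆ C := by
    rintro _ ⟨o | p, rfl⟩
    · exact hmemC _ (hpc o).1
    · exact hmemC _ (hwc p)
  have := Set.ncard_le_ncard hrange (Set.toFinite _)
  rw [← Set.image_univ, Set.ncard_image_of_injective _ hinj, Set.ncard_univ, Nat.card_sum,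
    Finite.card_option, card_trace_ker hF, Nat.card_prod, hTc] at this
  have h3 : q * (q - 1) ≤ Nat.card O * (q - 1) := Nat.mul_le_mul_right _ hO
  have h4 : q * (q - 1) + q = q ^ 2 := by
    rw [pow_two, Nat.mul_sub, mul_one, Nat.sub_add_cancel (Nat.le_mul_self q)]
  omega

end H37.U4Min
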