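import Cfsg.Agent.H37.SUFourMinShapes

/-!
Four-dimensional special unitary groups: a point of line type is orthogonal to a centre.
-/

set_option autoImplicit false

namespace H37.U4Min

open Matrix Cfsg H50 H50.PointStab H50.RadFrame H37.SUMin

universe u

variable {F : Type u} [Field F] {q : ℕ}

local notation "V4" => (Fin (2 + 2) → F)
local notation "hh" => hermForm (2 + 2) F q
local notation "G4" => SU (2 + 2) F q

variable [Fintype F] (hF : Fintype.card F = q ^ 2)
include hF

section Chars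

variable {χ : AddChar F ℂ} {t : F} (ht : t + t ^ q = 0) (hχ : χ t ≠ 1)
include ht hχ

/-- An additive map on the trace zero scalars is a multiplication, under a character. -/
theorem char_mult (φ : (traceHom hF).ker → F) (hadd : ∀ a b, φ (a + b) = φ a + φ b) :
    ∃ r : F, r ^ q = r ∧ ∀ a : (traceHom hF).ker, χ (φ a) = χ (r * (a : F)) := by
  classical
  haveI : Fintype (traceHom hF).ker := Fintype.ofFinite _
  let T := (traceHom hF).ker
  let mk : {r : F // r ^ q = r} → AddChar T ℂ := fun r =>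
    { toFun := fun a => χ ((r : F) * (a : F))
      map_zero_eq_one' := by simp
      map_add_eq_mul' := fun a b => by
        rw [AddSubgroup.coe_add, mul_add, AddChar.map_add_eq_mul] }
  have hinj : Function.Injective mk := fun r r' e => by
    by_contra hne
    have hd : (r : F) - r' ≠ 0 := sub_ne_zero.2 fun e' => hne (Subtype.ext e')
    have hb : t / ((r : F) - r') ∈ T := by
      rw [AddMonoidHom.mem_ker, traceHom_apply, div_pow, sub_pow_q hF, r.2, r'.2, ← add_div, ht,
        zero_div]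
    have e1 : χ ((r : F) * (t / ((r : F) - r'))) = χ ((r' : F) * (t / ((r : F) - r'))) :=
      DFunLike.congr_fun e (⟨_, hb⟩ : T)
    have e2 : (r : F) * (t / ((r : F) - r')) = (r' : F) * (t / ((r : F) - r')) + t := by
      field_simp
      ring
    rw [e2, AddChar.map_add_eq_mul] at e1
    have hne0 : χ ((r' : F) * (t / ((r : F) - r'))) ≠ 0 := fun e0 => by
      have := AddChar.map_add_eq_mul χ ((r' : F) * (t / ((r : F) - r')))
        (-((r' : F) * (t / ((r : F) - r'))))
      rw [add_neg_cancel, AddChar.map_zero_eq_one, e0, zero_mul] at this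
      exact one_ne_zero this
    exact hχ ((mul_eq_left₀ hne0).1 e1)
  have hbij : Function.Bijective mk := by
    rw [Nat.bijective_iff_injective_and_card]
    refine ⟨hinj, ?_⟩
    rw [card_fixed hF, Nat.card_eq_fintype_card, AddChar.card_eq, ← Nat.card_eq_fintype_card]
    exact (card_trace_ker hF).symm
  obtain ⟨r, hr⟩ := hbij.2
    { toFun := fun a => χ (φ a)
      map_zero_eq_one' := by
        have h0 := hadd 0 0
        rw [add_zero] at h0
        rw [show φ 0 = 0 by linear_combination -h0, AddChar.map_zero_eq_one]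
      map_add_eq_mul' := fun a b => by rw [hadd, AddChar.map_add_eq_mul] }
  exact ⟨r, r.2, fun a => (DFunLike.congr_fun hr a).symm⟩

/-- An additive map on the field is a skew pairing, under a character. -/
theorem char_skew (γ : F → F) (hadd : ∀ a b, γ (a + b) = γ a + γ b) :
    ∃ θ : F, ∀ c, χ (γ c) = χ (θ * c ^ q - (θ * c ^ q) ^ q) := by
  classical
  let mk : F → AddChar F ℂ := fun θ =>
    { toFun := fun c => χ (θ * c ^ q - (θ * c ^ q) ^ q)
      map_zero_eq_one' := by simp [zero_pow (q_ne_zero hF)]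
      map_add_eq_mul' := fun a b => by
        rw [← AddChar.map_add_eq_mul, add_pow_q hF, mul_add, add_pow_q hF]
        congr 1; ring }
  have hinj : Function.Injective mk := fun θ θ' e => by
    by_contra hne
    obtain ⟨z, hz⟩ := H51.ShortU.exists_skew_eq hF ht
    set d := θ - θ'
    have hd : d ≠ 0 := sub_ne_zero.2 hne
    set c := (z / d) ^ q
    have e1 : χ (θ * c ^ q - (θ * c ^ q) ^ q) = χ (θ' * c ^ q - (θ' * c ^ q) ^ q) :=
      DFunLike.congr_fun e c
    have hc : c ^ q = z / d := pow_q_pow_q hF _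
    have e2 : θ * c ^ q - (θ * c ^ q) ^ q = (θ' * c ^ q - (θ' * c ^ q) ^ q) + t := by
      have e3 : θ * (z / d) = θ' * (z / d) + z := by
        rw [show θ = θ' + d by ring, add_mul, mul_div_cancel₀ _ hd]
      rw [hc, e3, add_pow_q hF, ← hz]
      ring
    rw [e2, AddChar.map_add_eq_mul] at e1
    have hne0 : χ (θ' * c ^ q - (θ' * c ^ q) ^ q) ≠ 0 := fun e0 => by
      have := AddChar.map_add_eq_mul χ (θ' * c ^ q - (θ' * c ^ q) ^ q)
        (-(θ' * c ^ q - (θ' * c ^ q) ^ q))
      rw [add_neg_cancel, AddChar.map_zero_eq_one, e0, zero_mul] at this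
      exact one_ne_zero this
    exact hχ ((mul_eq_left₀ hne0).1 e1)
  have hbij : Function.Bijective mk := by
    rw [Nat.bijective_iff_injective_and_card]
    refine ⟨hinj, ?_⟩
    rw [Nat.card_eq_fintype_card, Nat.card_eq_fintype_card, AddChar.card_eq]
  obtain ⟨θ, hθ⟩ := hbij.2
    { toFun := fun c => χ (γ c)
      map_zero_eq_one' := by
        have h0 := hadd 0 0
        rw [add_zero] at h0
        rw [show γ 0 = 0 by linear_combination -h0, AddChar.map_zero_eq_one]
      map_add_eq_mul' := fun a b => by rw [hadd, AddChar.map_add_eq_mul] }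
  exact ⟨θ, fun c => (DFunLike.congr_fun hθ c).symm⟩

/-- Some hermitian line meets the graph of two additive maps. -/
theorem exists_meet (φ : (traceHom hF).ker → F) (hφ : ∀ a b, φ (a + b) = φ a + φ b)
    (hφT : ∀ a, φ a + φ a ^ q = 0) (γ : F → F) (hγ : ∀ a b, γ (a + b) = γ a + γ b)
    (hγT : ∀ a, γ a + γ a ^ q = 0) :
    ∃ (lam : F) (β : (traceHom hF).ker), β ≠ 0 ∧
      φ β + γ ((β : F) * lam ^ q) = (β : F) * lam ^ (q + 1) := by
  classical
  obtain ⟨r, hr, hφr⟩ := char_mult hF ht hχ φ hφ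
  obtain ⟨θ, hθ⟩ := char_skew hF ht hχ γ hγ
  obtain ⟨μ, hμ⟩ := exists_norm_eq hF (c := r + θ ^ (q + 1))
    (by rw [add_pow_q hF, hr, norm_fixed hF])
  obtain ⟨lam, hlamdef⟩ : ∃ lam, lam = μ - θ ^ q := ⟨_, rfl⟩
  refine ⟨lam, ?_⟩
  by_contra hno
  simp only [not_exists, not_and] at hno
  let ψ : (traceHom hF).ker → (traceHom hF).ker := fun β =>
    ⟨(β : F) * lam ^ (q + 1) - φ β - γ ((β : F) * lam ^ q), by
      have h1 : (β : F) + (β : F) ^ q = 0 := by
        have := β.2; rwa [AddMonoidHom.mem_ker, traceHom_apply] at this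
      rw [AddMonoidHom.mem_ker, traceHom_apply, sub_pow_q hF, sub_pow_q hF, mul_pow, norm_fixed hF]
      linear_combination lam ^ (q + 1) * h1 - hφT β - hγT ((β : F) * lam ^ q)⟩
  have hinj : Function.Injective ψ := fun a b e => by
    have e' := congrArg Subtype.val e
    change _ - _ = _ - _ at e'
    have hφs : φ (a - b) = φ a - φ b := by
      have := hφ (a - b) b; rw [sub_add_cancel] at this; rw [this]; ring
    have hγs : γ (((a - b : (traceHom hF).ker) : F) * lam ^ q) =
        γ ((a : F) * lam ^ q) - γ ((b : F) * lam ^ q) := by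
      have := hγ (((a - b : (traceHom hF).ker) : F) * lam ^ q) ((b : F) * lam ^ q)
      rw [← add_mul, ← AddSubgroup.coe_add, sub_add_cancel] at this
      rw [this]; ring
    by_contra hne
    refine hno (a - b) (sub_ne_zero.2 hne) ?_
    rw [hφs, hγs, AddSubgroup.coe_sub]
    linear_combination -e'
  obtain ⟨β, hβ⟩ := (Finite.injective_iff_surjective.1 hinj)
    ⟨t, by rw [AddMonoidHom.mem_ker, traceHom_apply]; exact ht⟩
  refine hχ ?_
  have e : (β : F) * lam ^ (q + 1) - φ β - γ ((β : F) * lam ^ q) = t := congrArg Subtype.val hβ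
  have hb : (β : F) ^ q = -(β : F) := by
    have := β.2
    rw [AddMonoidHom.mem_ker, traceHom_apply] at this
    linear_combination this
  have e1 : χ ((β : F) * lam ^ (q + 1)) = χ (φ β + γ ((β : F) * lam ^ q)) := by
    rw [AddChar.map_add_eq_mul, hφr, hθ, ← AddChar.map_add_eq_mul]
    congr 1
    simp only [mul_pow, pow_q_pow_q hF, hb, neg_pow_q hF]
    have hl : lam ^ q = μ ^ q - θ := by rw [hlamdef, sub_pow_q hF, pow_q_pow_q hF]
    simp only [pow_succ] at hμ ⊢
    rw [hl]
    subst hlamdef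
    linear_combination (β : F) * hμ
  have e3 : χ ((β : F) * lam ^ (q + 1)) = χ t * χ (φ β + γ ((β : F) * lam ^ q)) := by
    rw [← AddChar.map_add_eq_mul, ← e]; congr 1; ring
  rw [e1] at e3
  have hne0 : χ (φ β + γ ((β : F) * lam ^ q)) ≠ 0 := fun e0 => by
    have := AddChar.map_add_eq_mul χ (φ β + γ ((β : F) * lam ^ q)) (-(φ β + γ ((β : F) * lam ^ q)))
    rw [add_neg_cancel, AddChar.map_zero_eq_one, e0, zero_mul] at this
    exact one_ne_zero this
  exact (mul_eq_right₀ hne0).1 e3.symm

end Chars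

section Pair

variable {x y : Fin (2 + 2) → F} (h : IsHyp q x y) {K : Subgroup (SU (2 + 2) F q)}
include h

/-- A transvection in the subgroup, on a line through the point. -/
theorem LineType.exists_tv {v : V4} (hl : LineType hF h K v) :
    ∃ p : V4, p ≠ 0 ∧ hh p x = 0 ∧ ∃ (β : F) (hp : hh p p = 0) (hβ : β + β ^ q = 0),
      β ≠ 0 ∧ tv hF p β hp hβ ∈ K := by
  classical
  obtain ⟨hvx, hvy⟩ := mem_pperp.1 hl.mem
  have hxv := (h_eq_zero_comm hF).1 hvx
  have hW0 : ∀ a ∈ wPart hF h K, a = 0 := fun a ha => by rwa [hl.wbot, AddSubgroup.mem_bot] at ha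
  -- the elements over the multiples of the vector
  have hgc : ∀ c : F, ∃ g ∈ K, g ∈ H55.Psu.radU (q := q) x ∧ pr x y g = c • v := fun c => by
    obtain ⟨g, ⟨h1, h2⟩, h3⟩ := hl.full c; exact ⟨g, h1, h2, h3⟩
  choose g hgK hgR hgp using hgc
  have hrad : ∀ a b : G4, a ∈ K → b ∈ K → a ∈ H55.Psu.radU (q := q) x →
      b ∈ H55.Psu.radU (q := q) x → pr x y a = pr x y b → gam q y a = gam q y b := by
    intro a b ha hb ha' hb' e
    have hb'' := (H55.Psu.radU (q := q) x).inv_mem hb'
    obtain ⟨i1, i2⟩ := rad_inv hF h hb'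
    obtain ⟨m1, m2⟩ := rad_mul hF h ha' hb''
    have hz : a * b⁻¹ ∈ zRad hF h :=
      ⟨(H55.Psu.radU (q := q) x).mul_mem ha' hb'', by rw [m1, i1, e, add_neg_cancel]⟩
    have := hW0 _ ⟨_, ⟨mul_mem ha (inv_mem hb), hz⟩, rfl⟩
    rw [m2, i2, i1, e, h_neg_left] at this
    linear_combination this
  let γ : F → F := fun c => gam q y (g c)
  have hγT : ∀ c, γ c + γ c ^ q = 0 := fun c => by
    have := gam_trace hF h (hgR c)
    rwa [hgp, h_smul_left, h_smul_right hF, hl.iso, mul_zero, mul_zero, add_zero] at this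
  have hγ : ∀ a b, γ (a + b) = γ a + γ b := fun a b => by
    obtain ⟨m1, m2⟩ := rad_mul hF h (hgR a) (hgR b)
    have := hrad _ _ (hgK (a + b)) (mul_mem (hgK a) (hgK b)) (hgR _)
      ((H55.Psu.radU (q := q) x).mul_mem (hgR a) (hgR b)) (by rw [m1, hgp, hgp, hgp, add_smul])
    rw [m2, hgp, hgp, h_smul_left, h_smul_right hF, hl.iso, mul_zero, mul_zero, sub_zero] at this
    exact this
  -- the diagonal elements
  have hmix : ∀ β : (traceHom hF).ker, ∃ φ : F, ∃ hφ : φ + φ ^ q = 0,
      tv hF x φ h.1 hφ * tv hF v (β : F) hl.iso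
        (by have := β.2; rwa [AddMonoidHom.mem_ker, traceHom_apply] at this) ∈ K := by
    intro β
    have hβ : (β : F) + (β : F) ^ q = 0 := by
      have := β.2; rwa [AddMonoidHom.mem_ker, traceHom_apply] at this
    obtain ⟨hls, u, hu, hul⟩ := hl.trans _ hβ
    set l := tv hF v (β : F) hl.iso hβ
    have hlv : suMat l *ᵥ v = v := by rw [tv_mulVec, hl.iso, mul_zero, zero_smul, add_zero]
    have hsk : ∀ c : F, skew q (pr x y u) (c • v) = 0 := by
      intro c
      obtain ⟨c1, c2, c3⟩ := rad_conj_over hF h hu hls (hgR c)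
      have e := hrad _ _ (mul_mem (mul_mem hul (hgK c)) (inv_mem hul)) (hgK c) c1 (hgR c)
        (by rw [c2, hgp, mulVec_smul, hlv])
      rw [c3, hgp, mulVec_smul, hlv] at e
      linear_combination e
    have hwP := pr_mem hF h (radU_le_stab x hu)
    have hwv : hh (pr x y u) v = 0 := by
      by_contra hne
      obtain ⟨z, hz0, hz⟩ := exists_trace_zero_ne_zero hF
      obtain ⟨e, he⟩ := H51.ShortU.exists_skew_eq hF hz
      have := hsk ((e / hh (pr x y u) v) ^ q)
      rw [skew, h_smul_right hF, h_smul_left, pow_q_pow_q hF, h_symm hF (pr x y u) v, ← mul_pow,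
        div_mul_cancel₀ _ hne, he] at this
      exact hz0 this
    obtain ⟨f, hfP, hf⟩ := exists_partner hF h hl.mem hl.ne hl.iso
    have hw := eq_smul_of_orth hF h hl.mem hfP hf hwP hwv
    set κ := hh (pr x y u) f
    have hgi : (g κ)⁻¹ * u ∈ H55.Psu.radU (q := q) x :=
      (H55.Psu.radU (q := q) x).mul_mem ((H55.Psu.radU (q := q) x).inv_mem (hgR κ)) hu
    have hz : pr x y ((g κ)⁻¹ * u) = 0 := by
      rw [(rad_mul hF h ((H55.Psu.radU (q := q) x).inv_mem (hgR κ)) hu).1,
        (rad_inv hF h (hgR κ)).1, hgp, hw, neg_add_cancel]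
    obtain ⟨φ, hφ, e⟩ := eq_tv_of_pr_zero hF h hgi hz
    refine ⟨φ, hφ, ?_⟩
    rw [← e, mul_assoc]
    exact mul_mem (inv_mem (hgK κ)) hul
  choose φ hφT hφK using hmix
  have hφ : ∀ a b, φ (a + b) = φ a + φ b := by
    intro a b
    have hd : φ (a + b) - (φ a + φ b) + (φ (a + b) - (φ a + φ b)) ^ q = 0 := by
      rw [sub_pow_q hF, add_pow_q hF]
      linear_combination hφT (a + b) - hφT a - hφT b
    refine sub_eq_zero.1 (hW0 _ (tv_gam_mem hF h hd ?_))
    have e : tv hF x _ h.1 hd * ((tv hF x _ h.1 (hφT a) *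
        tv hF v (a : F) hl.iso (by have := a.2; rwa [AddMonoidHom.mem_ker, traceHom_apply] at this)) *
        (tv hF x _ h.1 (hφT b) *
        tv hF v (b : F) hl.iso (by have := b.2; rwa [AddMonoidHom.mem_ker, traceHom_apply] at this))) =
        tv hF x _ h.1 (hφT (a + b)) * tv hF v ((a + b : (traceHom hF).ker) : F) hl.iso
          (by have := (a + b).2; rwa [AddMonoidHom.mem_ker, traceHom_apply] at this) :=
      suMat_ext fun z => by
        simp only [suMat_mulVec_mul, tv_mulVec, h_add_left, h_smul_left, h.1, hl.iso, hvx, hxv,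
          AddSubgroup.coe_add, mul_zero, add_zero]
        module
    have h1 := hφK (a + b)
    rw [← e] at h1
    exact (Subgroup.mul_mem_cancel_right K (mul_mem (hφK a) (hφK b))).1 h1
  obtain ⟨t, ht0, ht⟩ := exists_trace_zero_ne_zero hF
  obtain ⟨χ, -, hχ⟩ := exists_char (W := (⊥ : AddSubgroup F)) (t := t)
    (by rw [AddSubgroup.mem_bot]; exact ht0)
  obtain ⟨lam, β, hβ0, he⟩ := exists_meet hF ht hχ φ hφ hφT γ hγ hγT
  have hβ : (β : F) + (β : F) ^ q = 0 := by
    have := β.2; rwa [AddMonoidHom.mem_ker, traceHom_apply] at this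
  have hpp : hh (v + lam • x) (v + lam • x) = 0 := by
    simp [h_add_left, h_add_right hF, h_smul_left, h_smul_right hF, h.1, hl.iso, hvx, hxv]
  refine ⟨v + lam • x, fun e => ?_, by simp [h_add_left, h_smul_left, h.1, hvx], β, hpp, hβ,
    fun e => hβ0 (Subtype.ext e), ?_⟩
  · obtain ⟨f, hfP, hf⟩ := exists_partner hF h hl.mem hl.ne hl.iso
    have := congrArg (fun z => hh z f) e
    simp [h_add_left, h_smul_left, hf.2.2, (h_eq_zero_comm hF).1 (mem_pperp.1 hfP).1, h_zero_left] at this
  have hb : (β : F) ^ q = -(β : F) := by linear_combination hβ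
  have e : tv hF (v + lam • x) (β : F) hpp hβ = g ((β : F) * lam ^ q) *
      (tv hF x _ h.1 (hφT β) * tv hF v (β : F) hl.iso hβ) :=
    suMat_ext fun z => by
      rw [suMat_mulVec_mul, rad_apply hF h (hgR _), hgp,
        show gam q y (g ((β : F) * lam ^ q)) = (β : F) * lam ^ (q + 1) - φ β by linear_combination he]
      simp only [suMat_mulVec_mul, tv_mulVec, h_add_left, h_add_right hF, h_smul_left, h_smul_right hF,
        h.1, hl.iso, hvx, hxv, mul_zero, add_zero, mul_pow, pow_q_pow_q hF, hb, pow_succ]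
      module
  rw [e]
  exact mul_mem (hgK _) (hφK β)

end Pair

end H37.U4Min
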