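import Cfsg.Agent.H37.SUFourMinShapes

/-!
Four-dimensional special unitary groups: plane type does not occur for `q ≥ 3`; for `q = 2` it does
not occur at all points.
-/

set_option autoImplicit false

namespace H37.U4Min

open Matrix Cfsg H50 H50.PointStab H50.RadFrame H37.SUMin

universe u

variable {F : Type u} [Field F] {q : ℕ}

local notation "V4" => (Fin (2 + 2) → F)
local notation "hh" => hermForm (2 + 2) F q
local notation "G4" => SU (2 + 2) F q

variable [Fintype F] (hF : Fintype.card F = q ^ 2)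
include hF

section Pair

variable {x y : Fin (2 + 2) → F} (h : IsHyp q x y) {K : Subgroup (SU (2 + 2) F q)}
include h

/-- With trivial centre part, the shift determines an element of the radical in the subgroup. -/
theorem eq_of_pr (hW : wPart hF h K = ⊥) {a b : G4} (ha : a ∈ K) (hb : b ∈ K)
    (ha' : a ∈ H55.Psu.radU (q := q) x) (hb' : b ∈ H55.Psu.radU (q := q) x)
    (e : pr x y a = pr x y b) : a = b := by
  have hb'' := (H55.Psu.radU (q := q) x).inv_mem hb'
  obtain ⟨i1, i2⟩ := rad_inv hF h hb'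
  obtain ⟨m1, m2⟩ := rad_mul hF h ha' hb''
  have hz : a * b⁻¹ ∈ zRad hF h :=
    ⟨(H55.Psu.radU (q := q) x).mul_mem ha' hb'', by rw [m1, i1, e, add_neg_cancel]⟩
  have hg : gam q y (a * b⁻¹) ∈ wPart hF h K := ⟨_, ⟨mul_mem ha (inv_mem hb), hz⟩, rfl⟩
  rw [hW, AddSubgroup.mem_bot] at hg
  exact mul_inv_eq_one.1 (rad_eq hF h hz.1 (H55.Psu.radU (q := q) x).one_mem
    (hz.2.trans (rad_one hF h).1.symm) (hg.trans (rad_one hF h).2.symm))

theorem PlaneType.false_of_three {i j : V4} (hp : PlaneType hF h K i j) (hq : 3 ≤ q) : False := by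
  classical
  have h2 := hp.two
  have hreal : ∀ c : F, c ^ q = c → c + c ^ q = 0 := fun c hc => by
    rw [hc]; linear_combination c * h2
  have hji : hh j i = 1 := by rw [h_symm hF i j, hp.pair, one_pow]
  obtain ⟨hix, hiy⟩ := mem_pperp.1 hp.imem
  have hone := one_pow (M := F) q
  have hzero := zero_pow (M₀ := F) (q_ne_zero hF)
  have hgi : ∀ b : {b : F // b ^ q = b}, ∃ g ∈ K, g ∈ H55.Psu.radU (q := q) x ∧
      pr x y g = (b : F) • i := fun b => by
    obtain ⟨g, ⟨h1, h2⟩, h3⟩ := hp.full b 0 b.2 hzero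
    exact ⟨g, h1, h2, by rw [h3, zero_smul, add_zero]⟩
  have hgj : ∀ b : {b : F // b ^ q = b}, ∃ g ∈ K, g ∈ H55.Psu.radU (q := q) x ∧
      pr x y g = (b : F) • j := fun b => by
    obtain ⟨g, ⟨h1, h2⟩, h3⟩ := hp.full 0 b hzero b.2
    exact ⟨g, h1, h2, by rw [h3, zero_smul, zero_add]⟩
  choose gi hgiK hgiR hgip using hgi
  choose gj hgjK hgjR hgjp using hgj
  let f : {b : F // b ^ q = b} → F := fun b => gam q y (gi b)
  have key : ∀ s : {b : F // b ^ q = b}, ∃ C : F, ∀ b : {b : F // b ^ q = b},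
      f ⟨s.1 * b.1, by rw [mul_pow, s.2, b.2]⟩ + s.1 * b.1 ^ 2 = b.1 * C := by
    intro s
    have hs := hreal s s.2
    have hl : tv hF i (s : F) hp.iiso hs ∈ gPart hF h K := by
      rw [hp.all, mem_stab2]
      constructor <;>
        simp [tv_mulVec, (h_eq_zero_comm hF).1 hix, (h_eq_zero_comm hF).1 hiy]
    obtain ⟨hls, u, hu, hul⟩ := hl
    set l := tv hF i (s : F) hp.iiso hs
    refine ⟨s.1 * skew q (pr x y u) i + skew q (pr x y u) j, fun b => ?_⟩
    set sb : {b : F // b ^ q = b} := ⟨s.1 * b.1, by rw [mul_pow, s.2, b.2]⟩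
    obtain ⟨c1, c2, c3⟩ := rad_conj_over hF h hu hls (hgjR b)
    obtain ⟨m1, m2⟩ := rad_mul hF h (hgiR sb) (hgjR b)
    have hlb : suMat l *ᵥ ((b : F) • j) = (sb : F) • i + (b : F) • j := by
      rw [mulVec_smul, tv_mulVec, hji, mul_one, smul_add, smul_smul, mul_comm (b : F) (s : F), add_comm ((b : F) • j)]
    have e := eq_of_pr hF h hp.wbot (mul_mem (mul_mem hul (hgjK b)) (inv_mem hul))
      (mul_mem (hgiK sb) (hgjK b)) c1 ((H55.Psu.radU (q := q) x).mul_mem (hgiR sb) (hgjR b))
      (by rw [c2, hgjp, hlb, m1, hgip, hgjp])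
    have e' := congrArg (gam q y) e
    rw [c3, m2, hgip, hgjp, hlb] at e'
    simp only [skew, h_add_left, h_add_right hF, h_smul_left, h_smul_right hF, hji, sb.2, b.2] at e'
    simp only [f, skew]
    simp only [show (sb : F) = s.1 * b.1 from rfl] at e'
    linear_combination -e' + ((s : F) * (b : F) ^ 2) * h2
  choose C hC using key
  let o : {b : F // b ^ q = b} := ⟨1, hone⟩
  have h1 : ∀ b : {b : F // b ^ q = b}, f b + b.1 ^ 2 = b.1 * (f o + 1) := by
    intro b
    have e1 := hC o b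
    have e2 := hC o o
    simp only [o, one_mul, one_pow] at e1 e2
    rw [← e2] at e1
    exact e1
  have h3 : ∀ s b : {b : F // b ^ q = b}, (s : F) * b * (s + 1) * (b + 1) = 0 := by
    intro s b
    have e1 := hC s b
    have e2 := hC s o
    simp only [o, mul_one, one_pow, one_mul] at e2
    have e3 := h1 ⟨s.1 * b.1, by rw [mul_pow, s.2, b.2]⟩
    have e4 := h1 s
    simp only [o] at e3 e4
    linear_combination e1 - e3 - (b : F) * e2 + (b : F) * e4 +
      ((s : F) * b * (s * b + 1)) * h2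
  haveI := Fintype.ofFinite {b : F // b ^ q = b}
  obtain ⟨c, -, hc⟩ := Finset.exists_mem_notMem_of_card_lt_card
    (s := ({⟨0, hzero⟩, o} : Finset {b : F // b ^ q = b})) (t := Finset.univ) (by
      have := Finset.card_le_two (a := (⟨0, hzero⟩ : {b : F // b ^ q = b})) (b := o)
      rw [Finset.card_univ, ← Nat.card_eq_fintype_card, card_fixed hF]
      omega)
  simp only [Finset.mem_insert, Finset.mem_singleton, not_or] at hc
  have hc0 : (c : F) ≠ 0 := fun e => hc.1 (Subtype.ext e)
  have hc1 : (c : F) + 1 ≠ 0 := fun e => hc.2 (Subtype.ext (by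
    show (c : F) = 1
    linear_combination e - h2))
  exact mul_ne_zero (mul_ne_zero (mul_ne_zero hc0 hc0) hc1) hc1 (h3 c c)

/-- Two elements moving everything into an isotropic line through their point. -/
theorem two_shifts_false {i j : V4} (hp : PlaneType hF h K i j) (hq : q = 2) {a b : V4}
    (haa : hh a a = 0) (hbb : hh b b = 0) (hab : hh a b = 0)
    {σ ρ : F} (hx : x = σ • a + ρ • b) {g1 g2 : G4} (h1K : g1 ∈ K) (h2K : g2 ∈ K)
    (h1 : g1 ∈ H55.Psu.radU (q := q) x) (h2 : g2 ∈ H55.Psu.radU (q := q) x)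
    {c1 d1 c2 d2 : F} (e1 : suMat g1 *ᵥ y = y + c1 • a + d1 • b)
    (e2 : suMat g2 *ᵥ y = y + c2 • a + d2 • b) (n1 : g1 ≠ 1) (n2 : g2 ≠ 1) (n12 : g1 ≠ g2) :
    False := by
  have hba := (h_eq_zero_comm hF).1 hab
  have hne : ∀ g : G4, g ∈ K → g ∈ H55.Psu.radU (q := q) x → g ≠ 1 → pr x y g ≠ 0 := fun g hg hg' n e =>
    n (eq_of_pr hF h hp.wbot hg (one_mem K) hg' (H55.Psu.radU (q := q) x).one_mem
      (e.trans (rad_one hF h).1.symm))
  have p1 := hne g1 h1K h1 n1
  have p2 := hne g2 h2K h2 n2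
  have hz : hh (pr x y g1) (pr x y g2) = 0 := by
    have s1 : ∀ c d : F, ∀ g : G4, suMat g *ᵥ y = y + c • a + d • b →
        ∃ c' d' : F, pr x y g = c' • a + d' • b := fun c d g e => by
      refine ⟨c - gam q y g * σ, d - gam q y g * ρ, ?_⟩
      have := rad_mulVec_y hF h g (x := x)
      rw [e] at this
      have e' : pr x y g = c • a + d • b - gam q y g • x := by
        rw [eq_sub_iff_add_eq]
        apply add_left_cancel (a := y)
        rw [← add_assoc, ← this, add_assoc]
      generalize gam q y g = t at e' ⊢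
      rw [e', hx]; module
    obtain ⟨c, d, r1⟩ := s1 c1 d1 g1 e1
    obtain ⟨c', d', r2⟩ := s1 c2 d2 g2 e2
    rw [r1, r2]
    simp [h_add_left, h_add_right hF, h_smul_left, h_smul_right hF, haa, hbb, hab, hba]
  obtain ⟨a1, b1, ha1, hb1, r1⟩ := hp.only _ ⟨g1, ⟨h1K, h1⟩, rfl⟩
  obtain ⟨a2, b2, ha2, hb2, r2⟩ := hp.only _ ⟨g2, ⟨h2K, h2⟩, rfl⟩
  have hji : hh j i = 1 := by rw [h_symm hF i j, hp.pair, one_pow]
  rw [r1, r2] at hz
  simp [h_add_left, h_add_right hF, h_smul_left, h_smul_right hF, hp.iiso, hp.jiso, hp.pair, hji,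
    ha2, hb2] at hz
  have bit : ∀ c : F, c ^ q = c → c = 0 ∨ c = 1 := fun c hc => by
    rw [hq] at hc
    have : c * (c - 1) = 0 := by linear_combination hc
    rcases mul_eq_zero.1 this with e | e
    · exact Or.inl e
    · exact Or.inr (sub_eq_zero.1 e)
  refine n12 (eq_of_pr hF h hp.wbot h1K h2K h1 h2 (r1.trans (Eq.trans ?_ r2.symm)))
  rcases bit a1 ha1 with rfl | rfl <;> rcases bit b1 hb1 with rfl | rfl <;>
    rcases bit a2 ha2 with rfl | rfl <;> rcases bit b2 hb2 with rfl | rfl <;>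
    first
      | rfl
      | exact absurd (by simpa using r1) p1
      | exact absurd (by simpa using r2) p2
      | simp at hz

end Pair

/-- For `q = 2` not every point is of plane type. -/
theorem plane_everywhere_false {K : Subgroup (SU (2 + 2) F q)} (hq : q = 2)
    (hnc : ∀ (p : V4), p ≠ 0 → ¬ H51.StabMax.IsCtr K p)
    (hnt : ∀ (p : V4) (β : F) (hp : hh p p = 0) (hβ : β + β ^ q = 0), p ≠ 0 → β ≠ 0 →
      tv hF p β hp hβ ∉ K)
    (hall : ∀ (p p' : V4) (hp : IsHyp q p p'), ¬ H51.StabMax.IsCtr K p →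
      ∃ i j, PlaneType hF hp K i j) : False := by
  classical
  obtain ⟨x, y, h⟩ := exists_hyp (F := F) hF (n := 2 + 2) (by norm_num)
  obtain ⟨i, j, hp⟩ := hall x y h (hnc x (h.fst_ne_zero hF))
  have h2 := hp.two
  have hsq : ∀ c : F, c ^ q = c ^ 2 := fun c => by rw [hq]
  have hneg : ∀ c : F, -c = c := fun c => by linear_combination -c * h2
  have hnegV : ∀ w : V4, -w = w := fun w => funext fun k => hneg (w k)
  have hji : hh j i = 1 := by rw [h_symm hF i j, hp.pair, one_pow]
  obtain ⟨hix, hiy⟩ := mem_pperp.1 hp.imem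
  obtain ⟨hjx, hjy⟩ := mem_pperp.1 hp.jmem
  have hxi := (h_eq_zero_comm hF).1 hix
  have hyi := (h_eq_zero_comm hF).1 hiy
  have h1 : (1 : F) + 1 ^ q = 0 := by rw [one_pow, one_add_one_eq_two, h2]
  have bit : ∀ c : F, c + c ^ 2 = 0 → c = 0 ∨ c = 1 := fun c hc => by
    have : c * (c + 1) = 0 := by linear_combination hc
    rcases mul_eq_zero.1 this with e | e
    · exact Or.inl e
    · exact Or.inr (by rw [← hneg 1]; exact eq_neg_of_add_eq_zero_left e)
  obtain ⟨g, ⟨hgK, hgR⟩, hgp⟩ := hp.full 1 0 (one_pow q) (zero_pow (q_ne_zero hF))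
  rw [one_smul, zero_smul, add_zero] at hgp
  obtain ⟨g', ⟨hgK', hgR'⟩, hgp'⟩ := hp.full 0 1 (zero_pow (q_ne_zero hF)) (one_pow q)
  rw [one_smul, zero_smul, zero_add] at hgp'
  set γ := gam q y g with hγdef
  have hγ : γ + γ ^ 2 = 0 := by
    have := gam_trace hF h hgR
    rwa [hgp, hp.iiso, add_zero, hsq] at this
  -- the lift of the transvection at `i`
  have hl : tv hF i 1 hp.iiso h1 ∈ gPart hF h K := by
    rw [hp.all, mem_stab2]
    constructor <;> simp [tv_mulVec, hxi, hyi]
  obtain ⟨hls, u, hu, hul⟩ := hl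
  set l := tv hF i 1 hp.iiso h1
  have hli : suMat l *ᵥ i = i := by rw [tv_mulVec, hp.iiso, mul_zero, zero_smul, add_zero]
  have hlj : suMat l *ᵥ j = i + j := by rw [tv_mulVec, hji, one_mul, one_smul, add_comm j]
  have r1 : skew q (pr x y u) i = 0 := by
    obtain ⟨c1, c2, c3⟩ := rad_conj_over hF h hu hls hgR
    have e := congrArg (gam q y) (eq_of_pr hF h hp.wbot (mul_mem (mul_mem hul hgK) (inv_mem hul)) hgK
      c1 hgR (by rw [c2, hgp, hli]))
    rw [c3, hgp, hli] at e
    linear_combination e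
  have r2 : skew q (pr x y u) j = γ + 1 := by
    obtain ⟨c1, c2, c3⟩ := rad_conj_over hF h hu hls hgR'
    obtain ⟨m1, m2⟩ := rad_mul hF h hgR hgR'
    have e := congrArg (gam q y) (eq_of_pr hF h hp.wbot (mul_mem (mul_mem hul hgK') (inv_mem hul))
      (mul_mem hgK hgK') c1 ((H55.Psu.radU (q := q) x).mul_mem hgR hgR')
      (by rw [c2, hgp', hlj, m1, hgp, hgp']))
    rw [c3, m2, hgp, hgp', hlj, hji] at e
    simp only [skew, h_add_left, h_add_right hF] at e r1 ⊢
    linear_combination e - r1 - h2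
  have hw := decomp_iso hF h hp.imem hp.jmem hp.iiso hp.jiso (by rw [hp.pair]; exact one_ne_zero)
    (pr_mem hF h (radU_le_stab x hu))
  rw [hp.pair, hji, div_one, div_one] at hw
  set A := hh (pr x y u) j
  set B := hh (pr x y u) i
  simp only [skew, h_symm hF (pr x y u) i, h_symm hF (pr x y u) j] at r1 r2
  rw [hsq] at r1 r2
  -- normalise the lift
  obtain ⟨u', hu', hul', hpu'⟩ : ∃ u' ∈ H55.Psu.radU (q := q) x, u' * l ∈ K ∧
      ∃ A' : F, pr x y u' = A' • i ∧ ((γ = 0 ∧ A' + A' ^ 2 = 1) ∨ (γ = 1 ∧ A' = 0)) := by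
    have hA : γ = 0 ∧ A + A ^ 2 = 1 ∨ γ = 1 ∧ A + A ^ 2 = 0 := by
      rcases bit γ hγ with e | e
      · exact Or.inl ⟨e, by rw [e] at r2; linear_combination r2 + A ^ 2 * h2⟩
      · exact Or.inr ⟨e, by rw [e] at r2; linear_combination r2 + (A ^ 2 + 1) * h2⟩
    obtain ⟨a', ha', hA'⟩ : ∃ a' : F, a' ^ 2 = a' ∧
        ((γ = 0 ∧ (A + a') + (A + a') ^ 2 = 1) ∨ (γ = 1 ∧ A + a' = 0)) := by
      rcases hA with ⟨e, eA⟩ | ⟨e, eA⟩
      · exact ⟨0, zero_pow two_ne_zero, Or.inl ⟨e, by rw [add_zero]; exact eA⟩⟩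
      · exact ⟨A, by linear_combination eA - A * h2, Or.inr ⟨e, by linear_combination A * h2⟩⟩
    have hB : B ^ 2 = B := by linear_combination -r1
    obtain ⟨k, ⟨hkK, hkR⟩, hkp⟩ := hp.full a' B ((hsq a').trans ha') ((hsq B).trans hB)
    refine ⟨k * u, (H55.Psu.radU (q := q) x).mul_mem hkR hu, by rw [mul_assoc]; exact mul_mem hkK hul,
      A + a', ?_, hA'⟩
    rw [(rad_mul hF h hkR hu).1, hkp, hw]
    have : B • j + B • j = 0 := by rw [← add_smul, show B + B = 0 by linear_combination B * h2, zero_smul]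
    rw [show a' • i + B • j + (A • i + B • j) = (A + a') • i + (B • j + B • j) by module, this, add_zero]
  obtain ⟨A', hpA, hcase⟩ := hpu'
  set φ := gam q y u' with hφdef
  have hφ : φ + φ ^ 2 = 0 := by
    have := gam_trace hF h hu'
    rwa [hpA, h_smul_left, h_smul_right hF, hp.iiso, mul_zero, mul_zero, add_zero, hsq] at this
  have hX1 : ∀ z, suMat g *ᵥ z = z + hh z x • i + (γ * hh z x + hh z i) • x := fun z => by
    rw [rad_apply hF h hgR, hgp, ← hγdef, sub_eq_add_neg, hnegV]; module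
  have hX2 : ∀ z, suMat (u' * l) *ᵥ z =
      z + (hh z i + A' * hh z x) • i + (φ * hh z x + A' ^ 2 * hh z i) • x := fun z => by
    rw [suMat_mulVec_mul, rad_apply hF h hu', hpA, ← hφdef, tv_mulVec, sub_eq_add_neg, hnegV]
    simp only [h_add_left, h_smul_left, h_smul_right hF, hsq, hix, hp.iiso, mul_zero, add_zero, one_mul]
    module
  have hγg : g ≠ 1 := fun e => by
    have := congrArg (fun w => hh w j) (hgp.symm.trans (show pr x y g = 0 by rw [e]; exact (rad_one hF h).1))
    simp only [hp.pair, h_zero_left] at this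
    exact one_ne_zero this
  have hne2 : u' * l ≠ 1 := fun e => by
    have := congrArg (fun w => hh w i) (hX2 j)
    rw [e, suMat_one, one_mulVec] at this
    simp only [h_add_left, h_smul_left, hji, hjx, hp.iiso, hxi, mul_zero, add_zero, mul_one] at this
    have h5 := congrArg (fun w => hh w j) (hX2 j)
    rw [e, suMat_one, one_mulVec] at h5
    simp [h_add_left, h_smul_left, hji, hjx, hp.pair, hp.jiso, (h_eq_zero_comm hF).1 hjx] at h5
  have hne12 : g ≠ u' * l := fun e => by
    have h5 := congrArg (fun w => hh w j) (hX2 j)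
    rw [← e, hX1] at h5
    simp [h_add_left, h_smul_left, hji, hjx, hp.pair, hp.jiso, (h_eq_zero_comm hF).1 hjx] at h5
  rcases hcase with ⟨e0, eA⟩ | ⟨e1, eA⟩
  · -- both lie in the radical at `i`
    have hφ0 : φ = 0 := by
      refine (bit φ hφ).resolve_right fun e => ?_
      have hN : A' ^ 3 = 1 := by linear_combination (A' - 1) * eA + (A' - 1) * h2
      refine hnt (i + A' ^ 2 • x) 1 ?_ h1 ?_ one_ne_zero ?_
      · simp [h_add_left, h_add_right hF, h_smul_left, h_smul_right hF, hp.iiso, h.1, hix, hxi]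
      · intro e'
        have := congrArg (fun w => hh w j) e'
        simp [h_add_left, h_smul_left, hp.pair, (h_eq_zero_comm hF).1 hjx, h_zero_left] at this
      · convert hul' using 1
        refine suMat_ext fun z => ?_
        rw [hX2, tv_mulVec, e]
        simp only [h_add_right hF, h_smul_right hF, hsq, one_mul]
        have e2 : (A' ^ 2) ^ 2 = A' := by linear_combination A' * hN
        rw [e2]
        match_scalars <;> first
          | ring1
          | linear_combination hh z x * hN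
          | linear_combination (-hh z x) * hN
    obtain ⟨i', hi'⟩ := exists_hyp_partner hF (show i ≠ 0 from fun e' => by
      have := hp.pair; rw [e', h_zero_left] at this; exact zero_ne_one this) hp.iiso
    obtain ⟨a, b, hpi⟩ := hall i i' hi' (hnc i (hi'.fst_ne_zero hF))
    have hk1 : g ∈ H55.Psu.radU (q := q) i := by
      refine ⟨by rw [hX1, hix, hp.iiso]; simp, fun z hz => ⟨hh z x, ?_⟩⟩
      rw [hX1, hz, e0]; simp
    have hk2 : u' * l ∈ H55.Psu.radU (q := q) i := by
      refine ⟨by rw [hX2, hix, hp.iiso]; simp, fun z hz => ⟨A' * hh z x, ?_⟩⟩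
      rw [hX2, hz, hφ0]; simp
    exact two_shifts_false hF hi' hpi hq (a := i) (b := x) hp.iiso h.1 hix (σ := 1) (ρ := 0)
      (by simp) hgK hul' hk1 hk2 (hX1 i') (hX2 i') hγg hne2 hne12
  · subst eA
    have hφ1 : φ = 1 := by
      refine (bit φ hφ).resolve_left fun e => ?_
      refine hnt i 1 hp.iiso h1 ?_ one_ne_zero ?_
      · intro e'; have := hp.pair; rw [e', h_zero_left] at this; exact zero_ne_one this
      · convert hul' using 1
        exact suMat_ext fun z => by rw [hX2, tv_mulVec, e]; simp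
    have h4 : q ^ 2 = 4 := by rw [hq]; norm_num
    obtain ⟨ω, hω0, hω1⟩ : ∃ w : F, w ≠ 0 ∧ w ≠ 1 := by
      obtain ⟨w, -, hw⟩ := Finset.exists_mem_notMem_of_card_lt_card (s := ({0, 1} : Finset F))
        (t := Finset.univ) (by
          rw [Finset.card_univ, hF]
          have := Finset.card_le_two (a := (0 : F)) (b := 1)
          omega)
      exact ⟨w, by simpa [not_or] using hw⟩
    have hω : ω ^ 2 = ω + 1 := by
      have h3 : ω ^ 3 = 1 := by
        have := FiniteField.pow_card_sub_one_eq_one ω hω0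
        rwa [hF, h4] at this
      have : (ω - 1) * (ω ^ 2 + ω + 1) = 0 := by linear_combination h3
      have := (mul_eq_zero.1 this).resolve_left (sub_ne_zero.2 hω1)
      linear_combination this - (ω + 1) * h2
    set p := i + ω • x with hpdef
    have hpp : hh p p = 0 := by
      simp [hpdef, h_add_left, h_add_right hF, h_smul_left, h_smul_right hF, hp.iiso, h.1, hix, hxi]
    have hp0 : p ≠ 0 := fun e' => by
      have := congrArg (fun w => hh w j) e'
      simp [hpdef, h_add_left, h_smul_left, hp.pair, (h_eq_zero_comm hF).1 hjx, h_zero_left] at this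
    obtain ⟨p', hp'⟩ := exists_hyp_partner hF hp0 hpp
    obtain ⟨a, b, hpi⟩ := hall p p' hp' (hnc p hp0)
    have hperp : ∀ z, hh z p = 0 → hh z i = ω ^ 2 * hh z x := fun z hz => by
      rw [hpdef, h_add_right hF, h_smul_right hF, hsq] at hz
      linear_combination hz - ω ^ 2 * hh z x * h2
    have hk1 : g ∈ H55.Psu.radU (q := q) p := by
      refine ⟨by rw [hX1]; simp [hpdef, h_add_left, h_smul_left, hp.iiso, h.1, hix, hxi],
        fun z hz => ⟨hh z x, ?_⟩⟩
      rw [hX1, hperp z hz, e1, hpdef]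
      match_scalars <;> first
        | ring1
        | linear_combination hh z x * hω + hh z x * h2
        | linear_combination -(hh z x * hω) - hh z x * h2
        | linear_combination hh z x * hω
        | linear_combination -(hh z x * hω)
    have hk2 : u' * l ∈ H55.Psu.radU (q := q) p := by
      refine ⟨by rw [hX2]; simp [hpdef, h_add_left, h_smul_left, hp.iiso, h.1, hix, hxi],
        fun z hz => ⟨ω ^ 2 * hh z x, ?_⟩⟩
      rw [hX2, hperp z hz, hφ1, hpdef]
      have h3 : ω * ω ^ 2 = 1 := by linear_combination (ω + 1) * hω + ω * h2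
      match_scalars <;> first
        | ring1
        | linear_combination hh z x * h3
        | linear_combination (-hh z x) * h3
    exact two_shifts_false hF hp' hpi hq (a := i) (b := x) hp.iiso h.1 hix (σ := 1) (ρ := ω)
      (by rw [hpdef, one_smul]) hgK hul' hk1 hk2 (hX1 p') (hX2 p') hγg hne2 hne12

end H37.U4Min
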