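import Cfsg.Agent.H50.Generation

/-!
Eichler elements at an isotropic point of `SU_n` and a generation criterion built on them.
-/

set_option autoImplicit false

namespace H37

open Matrix Cfsg H50

universe u

variable {F : Type u} [Field F] {q n : ℕ}

/-- `g` is the Eichler transformation at `e` with parameters `w, γ`. -/
def IsEich (e w : Fin n → F) (γ : F) (g : SU n F q) : Prop :=
  ∀ x, suMat g *ᵥ x = x + hermForm n F q x e • w +
    (γ * hermForm n F q x e - hermForm n F q x w) • e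

/-- `g` fixes `e` and acts trivially on `e⊥ / e`. -/
def InQ (e : Fin n → F) (g : SU n F q) : Prop :=
  suMat g *ᵥ e = e ∧ ∀ w, hermForm n F q w e = 0 → ∃ c : F, suMat g *ᵥ w = w + c • e

theorem IsEich.unique {e w : Fin n → F} {γ : F} {g g' : SU n F q} (h : IsEich e w γ g)
    (h' : IsEich e w γ g') : g = g' := suMat_ext fun x => by rw [h, h']

theorem IsEich.conj {e w : Fin n → F} {γ : F} {g : SU n F q} (h : IsEich e w γ g) (k : SU n F q) :
    IsEich (suMat k *ᵥ e) (suMat k *ᵥ w) γ (k * g * k⁻¹) := fun x => by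
  rw [suMat_mulVec_mul, suMat_mulVec_mul, h, suMat_inv_h, suMat_inv_h, mulVec_add, mulVec_add,
    mulVec_smul, mulVec_smul, suMat_mulVec_inv]

theorem InQ.one {e : Fin n → F} : InQ (q := q) e (1 : SU n F q) :=
  ⟨by rw [suMat_one, one_mulVec], fun w _ => ⟨0, by rw [suMat_one, one_mulVec, zero_smul, add_zero]⟩⟩

theorem InQ.mul {e : Fin n → F} {g g' : SU n F q} (hg : InQ e g) (hg' : InQ e g') :
    InQ e (g * g') := by
  refine ⟨by rw [suMat_mulVec_mul, hg'.1, hg.1], fun w hw => ?_⟩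
  obtain ⟨c, hc⟩ := hg.2 w hw
  obtain ⟨c', hc'⟩ := hg'.2 w hw
  exact ⟨c + c', by rw [suMat_mulVec_mul, hc', mulVec_add, mulVec_smul, hg.1, hc, add_smul]; abel⟩

theorem InQ.inv {e : Fin n → F} {g : SU n F q} (hg : InQ e g) : InQ e g⁻¹ := by
  refine ⟨suMat_inv_fix hg.1, fun w hw => ?_⟩
  obtain ⟨c, hc⟩ := hg.2 w hw
  refine ⟨-c, ?_⟩
  have := suMat_inv_mulVec g w
  rw [hc, mulVec_add, mulVec_smul, suMat_inv_fix hg.1] at this
  rw [neg_smul, ← sub_eq_add_neg, eq_sub_iff_add_eq, this]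

section Finite

variable [Fintype F] (hF : Fintype.card F = q ^ 2)
include hF

theorem exists_isEich {e w : Fin n → F} {γ : F} (he : hermForm n F q e e = 0)
    (hwe : hermForm n F q w e = 0) (hγ : γ + γ ^ q + hermForm n F q w w = 0) :
    ∃ g : SU n F q, IsEich e w γ g :=
  ⟨eich hF e w γ he hwe hγ, fun x => suMat_eich hF e w γ he hwe hγ x⟩

theorem IsEich.inQ {e w : Fin n → F} {γ : F} {g : SU n F q} (h : IsEich e w γ g)
    (he : hermForm n F q e e = 0) (hwe : hermForm n F q w e = 0) : InQ e g := by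
  refine ⟨?_, fun v hv => ⟨-hermForm n F q v w, ?_⟩⟩
  · rw [h, he, (h_eq_zero_comm hF).1 hwe]; simp
  · rw [h, hv, zero_smul, add_zero, mul_zero, zero_sub]

theorem IsEich.mul {e w w' : Fin n → F} {γ γ' : F} {g g' : SU n F q} (h : IsEich e w γ g)
    (h' : IsEich e w' γ' g') (he : hermForm n F q e e = 0) (hwe : hermForm n F q w e = 0)
    (hwe' : hermForm n F q w' e = 0) :
    IsEich e (w + w') (γ + γ' - hermForm n F q w' w) (g * g') := fun x => by
  rw [suMat_mulVec_mul, h, h', h_add_left, h_add_left, h_add_left, h_add_left, h_add_right hF,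
    h_smul_left, h_smul_left, h_smul_left, h_smul_left, he, (h_eq_zero_comm hF).1 hwe, hwe']
  module

theorem IsEich.inv {e w : Fin n → F} {γ : F} {g : SU n F q} (h : IsEich e w γ g)
    (he : hermForm n F q e e = 0) (hwe : hermForm n F q w e = 0)
    (hγ : γ + γ ^ q + hermForm n F q w w = 0) : IsEich e (-w) (γ ^ q) g⁻¹ := by
  have hwe' : hermForm n F q (-w) e = 0 := by rw [h_neg_left, hwe, neg_zero]
  obtain ⟨g', hg'⟩ := exists_isEich hF he hwe' (γ := γ ^ q)
    (by rw [pow_q_pow_q hF, h_neg_left, h_neg_right hF, neg_neg]; linear_combination hγ)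
  have h1 := h.mul hF hg' he hwe hwe'
  rw [add_neg_cancel, h_neg_left, sub_neg_eq_add, hγ] at h1
  have : g * g' = 1 := suMat_ext fun x => by
    rw [h1, suMat_one, one_mulVec, h_zero_right hF, smul_zero, zero_mul, sub_zero, zero_smul,
      add_zero, add_zero]
  rwa [eq_inv_of_mul_eq_one_right this] at hg'

theorem isEich_of_inQ {e f w : Fin n → F} {γ : F} (hf : IsHyp q e f) {g : SU n F q}
    (hg : InQ e g) (hwe : hermForm n F q w e = 0) (hwf : hermForm n F q w f = 0)
    (hgf : suMat g *ᵥ f = f + w + γ • e) : IsEich e w γ g := by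
  intro x
  have hfe : hermForm n F q f e = 1 := (hf.symm hF).2.2
  obtain ⟨a, y, hye, rfl⟩ : ∃ (a : F) (y : Fin n → F), hermForm n F q y e = 0 ∧ x = a • f + y :=
    ⟨hermForm n F q x e, x - hermForm n F q x e • f,
      by rw [h_sub_left, h_smul_left, hfe, mul_one, sub_self], by abel⟩
  obtain ⟨c, hc⟩ := hg.2 y hye
  have h1 := suMat_h g y f
  rw [hc, hgf, h_add_right hF, h_add_right hF, h_add_left, h_add_left, h_add_left, h_smul_left,
    h_smul_left, h_smul_left, h_smul_right hF, h_smul_right hF, hye, hf.1, hf.2.2,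
    (h_eq_zero_comm hF).1 hwe] at h1
  have hcw : c = -hermForm n F q y w := by linear_combination h1
  rw [mulVec_add, mulVec_smul, hgf, hc, h_add_left, h_add_left, h_smul_left, h_smul_left, hfe, hye,
    (h_eq_zero_comm hF).1 hwf, hcw]
  module

theorem InQ.conj {e : Fin n → F} {g k : SU n F q} (hg : InQ e g) {l : F}
    (hk : suMat k *ᵥ e = l • e) (he : e ≠ 0) : InQ e (k * g * k⁻¹) := by
  have hl : l ≠ 0 := fun h0 => he (by
    have := suMat_inv_mulVec k e
    rw [hk, h0, zero_smul, mulVec_zero] at this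
    exact this.symm)
  have hk' : suMat k⁻¹ *ᵥ e = l⁻¹ • e := by
    have := suMat_inv_mulVec k e
    rw [hk, mulVec_smul] at this
    calc suMat k⁻¹ *ᵥ e = l⁻¹ • (l • (suMat k⁻¹ *ᵥ e)) := (inv_smul_smul₀ hl _).symm
      _ = _ := by rw [this]
  refine ⟨?_, fun w hw => ?_⟩
  · rw [suMat_mulVec_mul, suMat_mulVec_mul, hk', mulVec_smul, hg.1, mulVec_smul, hk,
      inv_smul_smul₀ hl]
  · obtain ⟨c, hc⟩ := hg.2 (suMat k⁻¹ *ᵥ w) (by
      rw [suMat_inv_h, hk, h_smul_right hF, hw, mul_zero])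
    exact ⟨c * l, by rw [suMat_mulVec_mul, suMat_mulVec_mul, hc, mulVec_add, mulVec_smul, hk,
      suMat_mulVec_inv, smul_smul]⟩

/-- The `w`-parts of the elements of `H` in the radical at `e`, modulo `e`. -/
def radParts (H : Subgroup (SU n F q)) (e f : Fin n → F) : AddSubgroup (Fin n → F) where
  carrier := {w | hermForm n F q w e = 0 ∧
    ∃ g ∈ H, InQ e g ∧ ∃ c : F, suMat g *ᵥ f = f + w + c • e}
  zero_mem' := ⟨h_zero_left e, 1, one_mem H, InQ.one, 0,
    by rw [suMat_one, one_mulVec, zero_smul, add_zero, add_zero]⟩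
  add_mem' := by
    rintro w w' ⟨hw, g, hg, hgQ, c, hc⟩ ⟨hw', g', hg', hgQ', c', hc'⟩
    obtain ⟨c'', hc''⟩ := hgQ.2 w' hw'
    refine ⟨by rw [h_add_left, hw, hw', add_zero], g * g', mul_mem hg hg', hgQ.mul hgQ',
      c + c'' + c', ?_⟩
    rw [suMat_mulVec_mul, hc', mulVec_add, mulVec_add, mulVec_smul, hgQ.1, hc, hc'', add_smul,
      add_smul]
    abel
  neg_mem' := by
    rintro w ⟨hw, g, hg, hgQ, c, hc⟩
    obtain ⟨d, hd⟩ := hgQ.2 w hw
    refine ⟨by rw [h_neg_left, hw, neg_zero], g⁻¹, inv_mem hg, hgQ.inv, d - c, ?_⟩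
    have h1 : suMat g *ᵥ (f + -w + (d - c) • e) = f := by
      rw [mulVec_add, mulVec_add, mulVec_neg, mulVec_smul, hgQ.1, hc, hd, sub_smul]
      abel
    conv_lhs => rw [← h1]
    rw [suMat_inv_mulVec]

variable {H : Subgroup (SU n F q)} {e f : Fin n → F}

theorem smul_fst_mem_radParts (he : hermForm n F q e e = 0) (c : F) :
    c • e ∈ radParts H e f :=
  ⟨by rw [h_smul_left, he, mul_zero], 1, one_mem H, InQ.one, -c, by
    rw [suMat_one, one_mulVec, neg_smul, add_neg_cancel_right]⟩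

theorem mem_radParts_of_isEich {g : SU n F q} {w : Fin n → F} {γ : F} (hf : IsHyp q e f)
    (h : IsEich e w γ g) (hg : g ∈ H) (hwe : hermForm n F q w e = 0) :
    w ∈ radParts H e f :=
  ⟨hwe, g, hg, h.inQ hF hf.1 hwe, γ - hermForm n F q f w, by
    rw [h, (hf.symm hF).2.2, one_smul, mul_one]⟩

theorem conj_mem_radParts (hf : IsHyp q e f) {k : SU n F q} (hk : k ∈ H) {l : F}
    (hke : suMat k *ᵥ e = l • e) {w : Fin n → F} (hw : w ∈ radParts H e f) :
    (l ^ q) • (suMat k *ᵥ w) ∈ radParts H e f := by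
  obtain ⟨hwe, g, hg, hgQ, c, hc⟩ := hw
  refine ⟨?_, k * g * k⁻¹, mul_mem (mul_mem hk hg) (inv_mem hk),
    hgQ.conj hF hke (hf.fst_ne_zero hF), ?_⟩
  · have hl : l ≠ 0 := fun h0 => hf.fst_ne_zero hF (by
      have := suMat_inv_mulVec k e
      rw [hke, h0, zero_smul, mulVec_zero] at this
      exact this.symm)
    have h1 := suMat_h k w e
    rw [hke, h_smul_right hF, hwe] at h1
    rw [h_smul_left, (mul_eq_zero.1 h1).resolve_left (pow_ne_zero _ hl), mul_zero]
  set r := suMat k⁻¹ *ᵥ f - (l ^ q) • f with hr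
  have hre : hermForm n F q r e = 0 := by
    rw [hr, h_sub_left, h_smul_left, suMat_inv_h, hke, h_smul_right hF, (hf.symm hF).2.2, sub_self]
  obtain ⟨d, hd⟩ := hgQ.2 r hre
  refine ⟨(l ^ q * c + d) * l, ?_⟩
  have hkf : suMat k⁻¹ *ᵥ f = (l ^ q) • f + r := by rw [hr]; abel
  have hback : (l ^ q) • (suMat k *ᵥ f) + suMat k *ᵥ r = f := by
    rw [← mulVec_smul, ← mulVec_add, ← hkf, suMat_mulVec_inv]
  rw [suMat_mulVec_mul, suMat_mulVec_mul, hkf, mulVec_add (suMat g), mulVec_smul, hc, hd]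
  simp only [mulVec_add, mulVec_smul, hke, smul_add]
  conv_rhs => rw [← hback]
  module

theorem nil_mem_radParts (hf : IsHyp q e f) {u : SU n F q} (hu : u ∈ H)
    (hue : suMat u *ᵥ e = e) {w : Fin n → F} (hw : w ∈ radParts H e f) :
    suMat u *ᵥ w - w ∈ radParts H e f := by
  have h := conj_mem_radParts hF hf hu (l := 1) (by rw [hue, one_smul]) hw
  rw [one_pow, one_smul] at h
  exact sub_mem h hw

/-- With the centre, every radical element. -/
theorem isEich_mem_of_radParts (hf : IsHyp q e f)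
    (hT : ∀ d : F, d + d ^ q = 0 → ∃ g ∈ H, IsEich e 0 d g)
    (hM : ∀ w, hermForm n F q w e = 0 → w ∈ radParts H e f) {w : Fin n → F} {γ : F}
    (hwe : hermForm n F q w e = 0) (hwf : hermForm n F q w f = 0)
    (hγ : γ + γ ^ q + hermForm n F q w w = 0) : ∃ g ∈ H, IsEich e w γ g := by
  obtain ⟨-, g, hg, hgQ, c, hc⟩ := hM w hwe
  have h := isEich_of_inQ hF hf hgQ hwe hwf hc
  have htr := suMat_h g f f
  have hfe : hermForm n F q f e = 1 := (hf.symm hF).2.2
  rw [hc] at htr
  simp [h_add_left, h_add_right hF, h_smul_left, h_smul_right hF, hf.1, hf.2.1, hf.2.2, hfe, hwe,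
    hwf, (h_eq_zero_comm hF).1 hwe, (h_eq_zero_comm hF).1 hwf] at htr
  obtain ⟨t, ht, htE⟩ := hT (γ - c) (by rw [sub_pow_q hF]; linear_combination hγ - htr)
  refine ⟨t * g, mul_mem ht hg, ?_⟩
  have := htE.mul hF h hf.1 (h_zero_left e) hwe
  rwa [zero_add, h_zero_right hF, sub_zero, sub_add_cancel] at this

/-- The radical at `e` with the centre at `f` give everything. -/
theorem eq_top_of_radical (hn : 3 ≤ n) (h32 : ¬(n = 3 ∧ q = 2)) (hf : IsHyp q e f)
    (hTe : ∀ d : F, d + d ^ q = 0 → ∃ g ∈ H, IsEich e 0 d g)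
    (hTf : ∀ d : F, d + d ^ q = 0 → ∃ g ∈ H, IsEich f 0 d g)
    (hQ : ∀ (w : Fin n → F) (γ : F), hermForm n F q w e = 0 → hermForm n F q w f = 0 →
      γ + γ ^ q + hermForm n F q w w = 0 → ∃ g ∈ H, IsEich e w γ g) : H = ⊤ := by
  have hfe : hermForm n F q f e = 1 := (hf.symm hF).2.2
  have scal : ∀ (v : Fin n → F) (l : F), l ≠ 0 →
      (∀ d : F, d + d ^ q = 0 → ∃ g ∈ H, IsEich v 0 d g) →
      ∀ d : F, d + d ^ q = 0 → ∃ g ∈ H, IsEich (l • v) 0 d g := by
    intro v l hl hv d hd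
    obtain ⟨g, hg, hgE⟩ := hv (d * (l * l ^ q))
      (by rw [mul_pow, mul_pow, pow_q_pow_q hF]; linear_combination (l * l ^ q) * hd)
    refine ⟨g, hg, fun x => ?_⟩
    rw [hgE, h_smul_right hF, h_zero_right hF, smul_zero, smul_zero, smul_smul]
    congr 2
    ring
  -- points not orthogonal to `e`
  have hout : ∀ v, hermForm n F q v v = 0 → hermForm n F q v e ≠ 0 →
      ∀ d : F, d + d ^ q = 0 → ∃ g ∈ H, IsEich v 0 d g := by
    intro v hv hve
    set l := hermForm n F q v e with hl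
    set w := v - l • f - hermForm n F q v f • e with hw
    have hwe : hermForm n F q w e = 0 := by
      rw [hw, h_sub_left, h_sub_left, h_smul_left, h_smul_left, hfe, hf.1, ← hl]; ring
    have hwf : hermForm n F q w f = 0 := by
      rw [hw, h_sub_left, h_sub_left, h_smul_left, h_smul_left, hf.2.1, hf.2.2]; ring
    have hvd : v = l • (f + l⁻¹ • w + (hermForm n F q v f / l) • e) := by
      rw [smul_add, smul_add, smul_inv_smul₀ hve, smul_smul, mul_div_cancel₀ _ hve, hw]; abel
    set w' := l⁻¹ • w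
    set γ := hermForm n F q v f / l
    have hwe' : hermForm n F q w' e = 0 := by rw [h_smul_left, hwe, mul_zero]
    have hwf' : hermForm n F q w' f = 0 := by rw [h_smul_left, hwf, mul_zero]
    have hγ : γ + γ ^ q + hermForm n F q w' w' = 0 := by
      have h0 := hv
      rw [hvd, h_smul_left, h_smul_right hF] at h0
      have h1 := (mul_eq_zero.1 ((mul_eq_zero.1 h0).resolve_left hve)).resolve_left
        (pow_ne_zero _ hve)
      simp [h_add_left, h_add_right hF, h_smul_left (n := n), h_smul_right hF, hf.1, hf.2.1,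
        hf.2.2, hfe, hwe', hwf', (h_eq_zero_comm hF).1 hwe', (h_eq_zero_comm hF).1 hwf'] at h1
      linear_combination h1
    obtain ⟨g, hg, hgE⟩ := hQ w' γ hwe' hwf' hγ
    rw [hvd]
    refine scal _ l hve fun d hd => ?_
    obtain ⟨t, ht, htE⟩ := hTf d hd
    refine ⟨g * t * g⁻¹, mul_mem (mul_mem hg ht) (inv_mem hg), ?_⟩
    have := htE.conj g
    rwa [mulVec_zero, hgE, hfe, one_smul, mul_one, (h_eq_zero_comm hF).1 hwf', sub_zero] at this
  -- all points
  have hall : ∀ v, v ≠ 0 → hermForm n F q v v = 0 →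
      ∀ d : F, d + d ^ q = 0 → ∃ g ∈ H, IsEich v 0 d g := by
    intro v hv0 hv
    by_cases hve : hermForm n F q v e = 0
    swap; · exact hout v hv hve
    by_cases hli : LinearIndependent F ![v, e]
    swap
    · rw [LinearIndependent.pair_iff' hv0] at hli
      push Not at hli
      obtain ⟨l, hl⟩ := hli
      have hl0 : l ≠ 0 := fun h => hf.fst_ne_zero hF (by rw [← hl, h, zero_smul])
      rw [show v = l⁻¹ • e by rw [← hl, inv_smul_smul₀ hl0]]
      exact scal e _ (inv_ne_zero hl0) hTe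
    obtain ⟨w₀, hw₀⟩ := exists_coords_eq hF hli (fun _ => 1)
    have hwv : hermForm n F q w₀ v = 1 := hw₀ 0
    have hwe : hermForm n F q w₀ e = 1 := hw₀ 1
    obtain ⟨a, ha⟩ := exists_trace_eq hF (c := -hermForm n F q w₀ w₀)
      (by rw [neg_pow_q hF, h_self_fixed hF])
    set p := w₀ + a • v with hp
    have hpp : hermForm n F q p p = 0 := by
      simp [hp, h_add_left, h_add_right hF, h_smul_left, h_smul_right hF, hv, hwv,
        h_symm hF w₀ v]
      linear_combination ha
    have hpv : hermForm n F q p v = 1 := by simp [hp, h_add_left, h_smul_left, hwv, hv]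
    have hpe : hermForm n F q p e = 1 := by simp [hp, h_add_left, h_smul_left, hwe, hve]
    obtain ⟨d₀, hd₀, hdd⟩ := exists_trace_zero_ne_zero hF
    have hyy : hermForm n F q (p + d₀ • v) (p + d₀ • v) = 0 := by
      simp [h_add_left, h_add_right hF, h_smul_left, h_smul_right hF, hv, hpp, hpv,
        h_symm hF p v]
      linear_combination hdd
    have hye : hermForm n F q (p + d₀ • v) e = 1 := by simp [h_add_left, h_smul_left, hpe, hve]
    obtain ⟨t, ht, htE⟩ := hout p hpp (by rw [hpe]; exact one_ne_zero) (-d₀⁻¹)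
      (by rw [neg_pow_q hF, inv_pow, show d₀ ^ q = -d₀ by linear_combination hdd, inv_neg]; ring)
    have hty : suMat t *ᵥ (p + d₀ • v) = d₀ • v := by
      have hyp : hermForm n F q (p + d₀ • v) p = d₀ := by
        simp [h_add_left, h_smul_left, hpp, h_symm hF p v, hpv]
      rw [htE, hyp, h_zero_right hF, smul_zero, sub_zero, neg_mul, inv_mul_cancel₀ hd₀, neg_one_smul]
      abel
    rw [show v = d₀⁻¹ • (d₀ • v) by rw [inv_smul_smul₀ hd₀]]
    refine scal _ _ (inv_ne_zero hd₀) fun d hd => ?_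
    obtain ⟨s, hs, hsE⟩ := hout _ hyy (by rw [hye]; exact one_ne_zero) d hd
    refine ⟨t * s * t⁻¹, mul_mem (mul_mem ht hs) (inv_mem ht), ?_⟩
    have := hsE.conj t
    rwa [mulVec_zero, hty] at this
  refine eq_top_iff.2 ?_
  rw [← transSub_eq_top hF n (by omega) h32]
  refine (Subgroup.closure_le H).2 ?_
  rintro T ⟨v, c, hv, hT⟩
  by_cases hv0 : v = 0
  · have : T = 1 := suMat_ext fun x => by
      rw [hT, hv0, ut_mulVec, smul_zero, add_zero, suMat_one, one_mulVec]
    rw [this]; exact one_mem H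
  have hc : c + c ^ q = 0 := by
    have hi : IsIso q (unitaryTransvection n q v c) := hT ▸ SU_isIso T
    have := (ut_isIso_iff hF hv0).1 hi
    rwa [hv, mul_zero, add_zero] at this
  obtain ⟨g, hg, hgE⟩ := hall v hv0 hv c hc
  have : T = g := suMat_ext fun x => by
    rw [hT, ut_mulVec, hgE, h_zero_right hF, smul_zero, sub_zero, add_zero]
  rw [this]
  exact hg

end Finite

end H37
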