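import Cfsg.Agent.H37.SUMinBounds
import Cfsg.Agent.H37.SURad

/-!
A proper subgroup containing the Levi subgroup at a point has a large index at a point of the complement.
-/

set_option autoImplicit false

namespace H37.SUMin

open Matrix Cfsg H50 H50.PointStab H50.RadFrame

universe u

variable {F : Type u} [Field F] {m q : ℕ}

local notation "V" => (Fin (m + 2) → F)
local notation "hh" => hermForm (m + 2) F q
local notation "G" => SU (m + 2) F q

/-- Elements of norm `c` in the complement, other than zero. -/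
def sphere (q : ℕ) (x y : V) (c : F) : Set V :=
  {v | v ∈ pperp q x y ∧ v ≠ 0 ∧ hermForm (m + 2) F q v v = c}

variable [Fintype F] (hF : Fintype.card F = q ^ 2)
include hF

theorem isCtr_of_zRad {z w : V} (h : IsHyp q z w) {K : Subgroup G} (hz : zRad hF h ≤ K) :
    H51.StabMax.IsCtr K z := by
  refine ⟨h.1, fun A c hc hA => hz ?_⟩
  have : A = tv hF z c h.1 hc := suMat_ext fun v => by rw [hA, tv_mulVec, ut_mulVec]
  rw [this]
  exact ⟨H55.Psu.tv_mem_radU hF h.1 hc, pr_tv hF h hc⟩

theorem zRad_le_of_isCtr {z w : V} (h : IsHyp q z w) {K : Subgroup G}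
    (hz : H51.StabMax.IsCtr K z) : zRad hF h ≤ K := fun g hg => by
  obtain ⟨a, ha, rfl⟩ := eq_tv_of_pr_zero hF h hg.1 hg.2
  exact hz.2 _ a ha (Matrix.ext_of_mulVec_single fun i => by rw [tv_mulVec, ut_mulVec])

section Pair

variable {x y : Fin (m + 2) → F} (h : IsHyp q x y) {K : Subgroup (SU (m + 2) F q)}
include h

theorem pperp_eq_range {j : (Fin m → F) →ₗ[F] V} (hjh : ∀ w w', hh (j w) (j w') = hermForm m F q w w')
    (hjs : ∀ z, hh z x = 0 → hh z y = 0 → ∃ w, j w = z) : pperp q x y = LinearMap.range j := by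
  have hjinj : Function.Injective j := by
    intro a b hab
    refine h_ext_left hF fun u => ?_
    rw [← hjh, ← hjh, hab]
  have hr := finrank_perp_range hF (GramND.linearIndependent hF (h.gramND hF))
  rw [Fintype.card_fin] at hr
  refine Submodule.eq_of_le_of_finrank_eq (fun z hz => ?_) ?_
  · obtain ⟨w', hw'⟩ := hjs z (mem_pperp.1 hz).1 (mem_pperp.1 hz).2
    exact ⟨w', hw'⟩
  · rw [LinearMap.finrank_range_of_inj hjinj, Module.finrank_fin_fun]
    show Module.finrank F (perp q (Set.range ![x, y])) = _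
    omega

/-- The bound through the orbit of a vector of the complement. -/
theorem orbit_bound (hm : 3 ≤ m) {j₀ : V} (hj : j₀ ∈ pperp q x y) (hj0 : j₀ ≠ 0)
    (Γ : Subgroup G) (hΓ : Γ ≤ stab2 x y) (S : Set V) (hS : ∀ g ∈ Γ, suMat g *ᵥ j₀ ∈ S) :
    Nat.card (sphere q x y (hh j₀ j₀)) * Nat.card Γ ≤ Nat.card S * Nat.card (stab2 (q := q) x y) := by
  classical
  have key : ∀ A : Subgroup G, Nat.card A =
      Nat.card ((fun g : G => suMat g *ᵥ j₀) '' (A : Set G)) *
        Nat.card (A ⊓ stab (q := q) j₀ : Subgroup G) := fun A =>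
    card_fibres A (A ⊓ stab j₀) _ inf_le_left fun a ha b hb => by
      rw [Subgroup.mem_inf, and_iff_right (A.mul_mem (A.inv_mem ha) hb), mem_stab, suMat_mulVec_mul]
      constructor
      · intro e; rw [← e, suMat_inv_mulVec]
      · intro e
        have := congrArg (fun v => suMat a *ᵥ v) e
        rwa [suMat_mulVec_inv, eq_comm] at this
  have htrans : ∀ v ∈ sphere q x y (hh j₀ j₀), ∃ g ∈ stab2 (q := q) x y, suMat g *ᵥ j₀ = v := by
    rintro v ⟨hv, hv0, hvc⟩
    obtain ⟨ι, j, -, hι, -, hjh, hιj, hjs⟩ := exists_pair_hom hF (by omega) h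
    have hR := pperp_eq_range hF h hjh hjs
    obtain ⟨a, ha⟩ := (hR ▸ hj : j₀ ∈ LinearMap.range j)
    obtain ⟨b, hb⟩ := (hR ▸ hv : v ∈ LinearMap.range j)
    have ha0 : a ≠ 0 := fun e => hj0 (by rw [← ha, e, map_zero])
    have hb0 : b ≠ 0 := fun e => hv0 (by rw [← hb, e, map_zero])
    have hab : hermForm m F q a a = hermForm m F q b b := by rw [← hjh, ← hjh, ha, hb, hvc]
    obtain ⟨g, hg⟩ : ∃ g : SU m F q, suMat g *ᵥ a = b := by
      by_cases h0 : hermForm m F q a a = 0
      · obtain ⟨g, -, hg⟩ := reach_isotropic hF hm ha0 h0 hb0 (hab ▸ h0)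
        exact ⟨g, hg⟩
      · obtain ⟨g, hg⟩ := exists_SU_of_sameGram hF (b := fun _ : Unit => a) (b' := fun _ : Unit => b)
          (fun c hc => by
            have := hc ()
            simp [h_smul_left] at this
            funext i
            exact this.resolve_right h0)
          (fun _ _ => hab) (by simp; omega)
        exact ⟨g, hg ()⟩
    exact ⟨ι g, by rw [← hι]; exact ⟨g, rfl⟩, by rw [← ha, hιj, hg, hb]⟩
  have h1 : Nat.card Γ ≤ Nat.card S * Nat.card (stab2 (q := q) x y ⊓ stab (q := q) j₀ : Subgroup G) := by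
    rw [key Γ]
    refine Nat.mul_le_mul (Nat.card_mono (Set.toFinite _) ?_) (Subgroup.card_le_of_le (inf_le_inf_right _ hΓ))
    rintro _ ⟨g, hg, rfl⟩
    exact hS g hg
  have h2 : Nat.card (sphere q x y (hh j₀ j₀)) *
      Nat.card (stab2 (q := q) x y ⊓ stab (q := q) j₀ : Subgroup G) ≤ Nat.card (stab2 (q := q) x y) := by
    rw [key (stab2 x y)]
    refine Nat.mul_le_mul_right _ (Nat.card_mono (Set.toFinite _) fun v hv => ?_)
    obtain ⟨g, hg, e⟩ := htrans v hv
    exact ⟨g, hg, e⟩
  calc Nat.card (sphere q x y (hh j₀ j₀)) * Nat.card Γ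
      ≤ Nat.card (sphere q x y (hh j₀ j₀)) *
          (Nat.card S * Nat.card (stab2 (q := q) x y ⊓ stab (q := q) j₀ : Subgroup G)) :=
        Nat.mul_le_mul_left _ h1
    _ = Nat.card S * (Nat.card (sphere q x y (hh j₀ j₀)) *
          Nat.card (stab2 (q := q) x y ⊓ stab (q := q) j₀ : Subgroup G)) := by ring
    _ ≤ _ := Nat.mul_le_mul_left _ h2

theorem card_sphere (hm : 1 ≤ m) (c : F) :
    normCount m q F c ≤ Nat.card (sphere q x y c) + 1 ∧
      (c ≠ 0 → normCount m q F c ≤ Nat.card (sphere q x y c)) := by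
  classical
  obtain ⟨ι, j, -, -, hjinj, hjh, -, hjs⟩ := exists_pair_hom hF hm h
  have hR := pperp_eq_range hF h hjh hjs
  have hmem : ∀ a : Fin m → F, a ≠ 0 → hermForm m F q a a = c → j a ∈ sphere q x y c := fun a ha hc =>
    ⟨hR ▸ LinearMap.mem_range_self j a, fun e => ha (hjinj (e.trans (map_zero j).symm)), (hjh a a).trans hc⟩
  have h1 : Nat.card {a : {a : Fin m → F // hermForm m F q a a = c} // a.1 ≠ 0} ≤
      Nat.card (sphere q x y c) :=
    Nat.card_le_card_of_injective (fun a => ⟨j a.1.1, hmem a.1.1 a.2 a.1.2⟩) fun a b e =>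
      Subtype.ext (Subtype.ext (hjinj (congrArg Subtype.val e)))
  constructor
  · refine le_trans ?_ (Nat.add_le_add_right h1 1)
    have h2 : Nat.card {a : Fin m → F // hermForm m F q a a = c} ≤
        Nat.card (Option {a : {a : Fin m → F // hermForm m F q a a = c} // a.1 ≠ 0}) :=
      Nat.card_le_card_of_injective (fun a => if ha : a.1 = 0 then none else some ⟨a, ha⟩) fun a b e => by
        dsimp only at e
        split_ifs at e with ha hb hb
        · exact Subtype.ext (ha.trans hb.symm)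
        · simpa using e
    rwa [Finite.card_option] at h2
  · intro hc
    refine le_trans ?_ h1
    exact Nat.card_le_card_of_injective (fun a => ⟨a, fun e => hc (by rw [← a.2, e, h_zero_left])⟩)
      fun a b e => congrArg (fun z => z.1) e

/-- The index at an isotropic point of the complement. -/
theorem centre_bound (hm : 3 ≤ m) (hlev : lev q x y ≤ K) (hK : K ≠ ⊤) :
    ∃ (z w : Fin (m + 2) → F) (_ : IsHyp q z w), H51.StabMax.IsCtr K z ∧
      (q ^ 2 * (normCount m q F 0 - 1) ≤ (q ^ 2 - 1) * K.relIndex (pst z) ∨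
        (q = 2 ∧ q ^ 2 * normCount m q F 1 ≤ (q ^ 2 - 1) * K.relIndex (pst z))) := by
  classical
  have hq := two_le hF
  have hxy := (h.symm hF).2.2
  -- an isotropic pair in the complement
  obtain ⟨z, w, hzw, hzP, hwP⟩ : ∃ z w : V, IsHyp q z w ∧ z ∈ pperp q x y ∧ w ∈ pperp q x y := by
    obtain ⟨ι, j, -, -, -, hjh, -, hjs⟩ := exists_pair_hom hF (by omega) h
    have hR := pperp_eq_range hF h hjh hjs
    obtain ⟨e, f, hef⟩ := exists_hyp (F := F) hF (n := m) (by omega)
    exact ⟨j e, j f, ⟨by rw [hjh, hef.1], by rw [hjh, hef.2.1], by rw [hjh, hef.2.2]⟩,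
      hR ▸ LinearMap.mem_range_self j e, hR ▸ LinearMap.mem_range_self j f⟩
  obtain ⟨hzx, hzy⟩ := mem_pperp.1 hzP
  obtain ⟨hwx, hwy⟩ := mem_pperp.1 hwP
  have hxz := (h_eq_zero_comm hF).1 hzx
  have hxw := (h_eq_zero_comm hF).1 hwx
  have hyz := (h_eq_zero_comm hF).1 hzy
  have hyw := (h_eq_zero_comm hF).1 hwy
  have hxP' : x ∈ pperp q z w := mem_pperp.2 ⟨hxz, hxw⟩
  have hyP' : y ∈ pperp q z w := mem_pperp.2 ⟨hyz, hyw⟩
  have hctr : ∀ v ∈ pperp q x y, hh v v = 0 → H51.StabMax.IsCtr K v := fun v hv hvv =>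
    ⟨hvv, fun A c _ hA => hlev (stab2_le_lev hF h (mem_stab2.2
      ⟨by rw [hA, ut_mulVec, (h_eq_zero_comm hF).1 (mem_pperp.1 hv).1, mul_zero, zero_smul, add_zero],
       by rw [hA, ut_mulVec, (h_eq_zero_comm hF).1 (mem_pperp.1 hv).2, mul_zero, zero_smul, add_zero]⟩))⟩
  have hzC := hctr z hzP hzw.1
  have hwC := hctr w hwP hzw.2.1
  refine ⟨z, w, hzw, hzC, ?_⟩
  -- the common complement
  let E : Fin 2 ⊕ Fin 2 → V := Sum.elim ![x, z] ![y, w]
  have hE : GramND q E := by
    refine hypFrame_gramND hF ?_ ?_ ?_ <;> intro a b <;> fin_cases a <;> fin_cases b <;>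
      simp [h.1, h.2.1, h.2.2, hzw.1, hzw.2.1, hzw.2.2, hxz, hzx, hxw, hzy, hyw, hwy]
  let U : Submodule F V := perp q (Set.range E)
  have hU : ∀ v, v ∈ U ↔ v ∈ pperp q x y ∧ v ∈ pperp q z w := by
    intro v
    simp only [U, E, mem_perp_range, mem_pperp, Sum.forall, Fin.forall_fin_two, Sum.elim_inl,
      Sum.elim_inr, Matrix.cons_val_zero, Matrix.cons_val_one]
    tauto
  have hUnd : IsNondeg q U := GramND.isNondeg_perp hF hE
  have hUr : Module.finrank F U = m - 2 := by
    have := finrank_perp_range hF (GramND.linearIndependent hF hE)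
    simp only [Fintype.card_sum, Fintype.card_fin] at this
    show Module.finrank F (perp q (Set.range E)) = _
    omega
  have hUcard : Nat.card U = q ^ (2 * (m - 2)) := by
    rw [Module.natCard_eq_pow_finrank (K := F), hUr, Nat.card_eq_fintype_card, hF, ← pow_mul]
  have hUI : ∀ v ∈ U, v ∈ iPart hF hzw K := by
    intro v hv
    obtain ⟨hv1, hv2⟩ := (hU v).1 hv
    obtain ⟨g, hg, e⟩ := exists_pr hF hzw hv2
    refine ⟨g, ⟨hlev (stab2_le_lev hF h (mem_stab2.2 ⟨?_, ?_⟩)), hg⟩, e⟩
    · rw [radU_mulVec hF hzw hg hxP', e, (h_eq_zero_comm hF).1 (mem_pperp.1 hv1).1, zero_smul, sub_zero]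
    · rw [radU_mulVec hF hzw hg hyP', e, (h_eq_zero_comm hF).1 (mem_pperp.1 hv1).2, zero_smul, sub_zero]
  have hdec : ∀ v ∈ pperp q z w, ∃ u ∈ U, v = hh v y • x + hh v x • y + u := by
    intro v hv
    obtain ⟨u, hux, huy, e⟩ := pair_decomp hF h v
    refine ⟨u, (hU u).2 ⟨mem_pperp.2 ⟨hux, huy⟩, ?_⟩, e⟩
    rw [show u = v - (hh v y • x + hh v x • y) by
      rw [eq_sub_iff_add_eq]; conv_rhs => rw [e]
      abel]
    exact Submodule.sub_mem _ hv
      (Submodule.add_mem _ (Submodule.smul_mem _ _ hxP') (Submodule.smul_mem _ _ hyP'))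
  -- the part in the line through the pair
  let A : AddSubgroup (F × F) :=
    { carrier := {p | p.1 • x + p.2 • y ∈ iPart hF hzw K}
      zero_mem' := by
        show (0 : F) • x + (0 : F) • y ∈ iPart hF hzw K
        rw [zero_smul, zero_smul, add_zero]; exact zero_mem _
      add_mem' := fun {a b} ha hb => by
        show (a.1 + b.1) • x + (a.2 + b.2) • y ∈ iPart hF hzw K
        rw [add_smul, add_smul, add_add_add_comm]; exact add_mem ha hb
      neg_mem' := fun {a} ha => by
        show (-a.1) • x + (-a.2) • y ∈ iPart hF hzw K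
        rw [neg_smul, neg_smul, ← neg_add]; exact neg_mem ha }
  have hIA : ∀ v ∈ iPart hF hzw K, ∃ p ∈ A, ∃ u ∈ U, v = p.1 • x + p.2 • y + u := by
    intro v hv
    obtain ⟨u, hu, e⟩ := hdec v (iPart_le_pperp hF hzw hv)
    refine ⟨(hh v y, hh v x), ?_, u, hu, e⟩
    show hh v y • x + hh v x • y ∈ iPart hF hzw K
    rw [show hh v y • x + hh v x • y = v - u by rw [eq_sub_iff_add_eq]; exact e.symm]
    exact sub_mem hv (hUI u hu)
  have hAcard : Nat.card (iPart hF hzw K) ≤ Nat.card U * Nat.card A := by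
    rw [← Nat.card_prod]
    choose p hp u hu e using hIA
    refine Nat.card_le_card_of_injective
      (fun v : iPart hF hzw K => ((⟨u v v.2, hu v v.2⟩, ⟨p v v.2, hp v v.2⟩) : U × A))
      fun v v' e' => Subtype.ext ?_
    obtain ⟨e1, e2⟩ := Prod.ext_iff.1 e'
    rw [e v v.2, e v' v'.2, show p v v.2 = p v' v'.2 from congrArg Subtype.val e2,
      show u v v.2 = u v' v'.2 from congrArg Subtype.val e1]
  -- the torus
  have hne : U ≠ ⊥ := fun e => by
    have := hUr
    rw [e, finrank_bot] at this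
    omega
  obtain ⟨f, hfU, hf1⟩ := exists_norm_one_mem hF hUnd hne
  obtain ⟨hf_xy, hf_zw⟩ := (hU f).1 hfU
  obtain ⟨i, rfl⟩ : ∃ i, m = i + 1 := ⟨m - 1, by omega⟩
  obtain ⟨e, he, he0⟩ := exists_frame_cons hF (m := i) rfl h hf_xy hf1
  have htor : ∀ p ∈ A, ∀ a : F, a ≠ 0 → (a * p.1, (a ^ q)⁻¹ * p.2) ∈ A := by
    intro p hp a ha
    obtain ⟨t, htx, hty, hte⟩ := exists_diag hF h he a ha (fun j => if j = 0 then a ^ q / a else 1)
      (fun j => by
        split_ifs
        · rw [div_pow, pow_succ, pow_succ, ← pow_mul, show q * q = q ^ 2 by ring, ← hF,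
            FiniteField.pow_card, mul_comm (a ^ q) a, div_self (mul_ne_zero ha (pow_ne_zero _ ha))]
        · rw [one_pow])
      (by rw [Finset.prod_ite_eq' Finset.univ (0 : Fin (i + 1))]; simp [mul_div_cancel₀ _ ha])
    have htfix : ∀ v ∈ pperp q x y, hermForm _ F q v f = 0 → suMat t *ᵥ v = v := by
      intro v hv hvf
      conv_lhs => rw [frame_ext hF h he hv, mulVec_sum]
      conv_rhs => rw [frame_ext hF h he hv]
      refine Finset.sum_congr rfl fun j _ => ?_
      rw [mulVec_smul, hte]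
      by_cases hj : j = 0
      · subst hj
        rw [he0, hvf, zero_smul, zero_smul]
      · rw [if_neg hj, one_smul]
    have ht2 : t ∈ gPart hF hzw K :=
      ⟨mem_stab2.2 ⟨htfix z hzP ((h_eq_zero_comm hF).1 (mem_pperp.1 hf_zw).1),
        htfix w hwP ((h_eq_zero_comm hF).1 (mem_pperp.1 hf_zw).2)⟩,
        1, (H55.Psu.radU (q := q) z).one_mem, by
        rw [one_mul]
        exact hlev ⟨⟨a, ha, htx⟩, ⟨_, inv_ne_zero (pow_ne_zero _ ha), hty⟩⟩⟩
    have h1 := gPart_iPart hF hzw ht2 hp
    rw [mulVec_add, mulVec_smul, mulVec_smul, htx, hty, smul_smul, smul_smul, mul_comm p.1,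
      mul_comm p.2] at h1
    exact h1
  have hscal : ∀ p ∈ A, ∀ a : F, (p.2 = 0 → (a * p.1, (0 : F)) ∈ A) ∧
      (p.1 = 0 → ((0 : F), a * p.2) ∈ A) := by
    intro p hp a
    by_cases ha : a = 0
    · subst ha; simp only [zero_mul]; exact ⟨fun _ => A.zero_mem, fun _ => A.zero_mem⟩
    constructor
    · intro h2
      have := htor p hp a ha
      rwa [h2, mul_zero] at this
    · intro h1
      have := htor p hp ((a ^ q)⁻¹) (inv_ne_zero (pow_ne_zero _ ha))
      rwa [h1, mul_zero, inv_pow, pow_q_pow_q hF, inv_inv] at this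
  -- the part in the line is not everything
  have hnfull : ¬ ((1, 0) ∈ A ∧ (0, 1) ∈ A) := by
    rintro ⟨hX, hY⟩
    apply hK
    have hallI : ∀ v ∈ pperp q z w, v ∈ iPart hF hzw K := by
      intro v hv
      obtain ⟨u, hu, e'⟩ := hdec v hv
      have h1 := A.add_mem ((hscal _ hX (hermForm _ F q v y)).1 rfl)
        ((hscal _ hY (hermForm _ F q v x)).2 rfl)
      simp only [Prod.mk_add_mk, mul_one, zero_add, add_zero] at h1
      rw [e']
      exact add_mem h1 (hUI u hu)
    have hT : ∀ {a b : Fin (i + 1 + 2) → F}, IsHyp q a b → H51.StabMax.IsCtr K a →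
        ∀ d : F, d + d ^ q = 0 → ∃ g ∈ K, H37.IsEich a 0 d g := by
      intro a b hab ha d hd
      obtain ⟨g, hg⟩ := H37.exists_isEich hF hab.1 (h_zero_left a)
        (show d + d ^ q + hermForm _ F q (0 : Fin (i + 1 + 2) → F) 0 = 0 by rw [h_zero_left, add_zero, hd])
      refine ⟨g, ha.2 g d hd (Matrix.ext_of_mulVec_single fun j => ?_), hg⟩
      rw [hg, ut_mulVec, smul_zero, add_zero, h_zero_right hF, sub_zero]
    refine H37.eq_top_of_radical hF (by omega) (by omega) hzw (hT hzw hzC) (hT (hzw.symm hF) hwC) ?_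
    intro v γ hvz hvw hγ
    have hv : v ∈ pperp q z w := mem_pperp.2 ⟨hvz, hvw⟩
    obtain ⟨g, ⟨hgK, hgQ⟩, hgv⟩ := hallI v hv
    obtain ⟨g', hg', e1, e2⟩ := exists_rad hF hzw hv hγ
    have hd : g' * g⁻¹ ∈ zRad hF hzw := by
      refine ⟨(H55.Psu.radU (q := q) z).mul_mem hg' ((H55.Psu.radU (q := q) z).inv_mem hgQ), ?_⟩
      rw [(rad_mul hF hzw hg' ((H55.Psu.radU (q := q) z).inv_mem hgQ)).1, (rad_inv hF hzw hgQ).1, e1,
        hgv, add_neg_cancel]
    refine ⟨g', ?_, ?_⟩
    · have := mul_mem (zRad_le_of_isCtr hF hzw hzC hd) hgK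
      rwa [inv_mul_cancel_right] at this
    · refine H37.isEich_of_inQ hF hzw ⟨hg'.1, hg'.2⟩ hvz hvw ?_
      rw [rad_mulVec_y hF hzw, e1, e2]
  -- one line
  have hline : A = ⊥ ∨ ∃ p ∈ A, p ≠ 0 ∧ (∀ r ∈ A, ∃ t : F, r = (t * p.1, t * p.2)) ∧
      (q ≠ 2 → p.1 = 0 ∨ p.2 = 0) := by
    by_cases hA0 : A = ⊥
    · exact Or.inl hA0
    obtain ⟨p, hp, hp0⟩ : ∃ p ∈ A, p ≠ 0 := by
      by_contra hno
      simp only [not_exists, not_and, not_not] at hno
      exact hA0 ((AddSubgroup.eq_bot_iff_forall _).2 hno)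
    right
    have haxes : ∀ p ∈ A, ∀ r ∈ A, p.2 = 0 → r.1 = 0 → p.1 ≠ 0 → r.2 ≠ 0 → False := by
      intro p hp r hr hp2 hr1 hp1 hr2
      apply hnfull
      have h1 := (hscal p hp p.1⁻¹).1 hp2
      have h2 := (hscal r hr r.2⁻¹).2 hr1
      rw [inv_mul_cancel₀ hp1] at h1
      rw [inv_mul_cancel₀ hr2] at h2
      exact ⟨h1, h2⟩
    by_cases hq2 : q = 2
    · subst hq2
      refine ⟨p, hp, hp0, fun r hr => ?_, fun hne' => absurd rfl hne'⟩
      have hsm : ∀ s ∈ A, ∀ a : F, (a * s.1, a * s.2) ∈ A := by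
        intro s hs a
        by_cases ha : a = 0
        · subst ha; simp only [zero_mul]; exact A.zero_mem
        have h3 : a ^ 3 = 1 := by
          have := FiniteField.pow_card_sub_one_eq_one a ha
          rwa [hF] at this
        have := htor s hs a ha
        rwa [inv_eq_of_mul_eq_one_left (show a * a ^ 2 = 1 by rw [← pow_succ', h3])] at this
      by_contra hno
      simp only [not_exists] at hno
      apply hnfull
      have hdet : p.1 * r.2 - p.2 * r.1 ≠ 0 := by
        intro hd
        by_cases h1 : p.1 = 0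
        · have h2 : p.2 ≠ 0 := fun h2 => hp0 (Prod.ext h1 h2)
          rw [h1, zero_mul, zero_sub, neg_eq_zero, mul_eq_zero] at hd
          refine hno (r.2 / p.2) (Prod.ext ?_ ?_)
          · rw [h1, mul_zero]; exact hd.resolve_left h2
          · exact (div_mul_cancel₀ _ h2).symm
        · refine hno (r.1 / p.1) (Prod.ext (div_mul_cancel₀ _ h1).symm ?_)
          field_simp
          linear_combination hd
      constructor
      · convert A.add_mem (hsm p hp (r.2 / (p.1 * r.2 - p.2 * r.1)))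
          (hsm r hr (-p.2 / (p.1 * r.2 - p.2 * r.1))) using 1
        refine Prod.ext ?_ ?_ <;>
          simp only [Prod.fst_add, Prod.snd_add, div_mul_eq_mul_div, ← add_div] <;>
          rw [eq_div_iff hdet] <;> ring
      · convert A.add_mem (hsm p hp (-r.1 / (p.1 * r.2 - p.2 * r.1)))
          (hsm r hr (p.1 / (p.1 * r.2 - p.2 * r.1))) using 1
        refine Prod.ext ?_ ?_ <;>
          simp only [Prod.fst_add, Prod.snd_add, div_mul_eq_mul_div, ← add_div] <;>
          rw [eq_div_iff hdet] <;> ring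
    · have hsplit : ∀ r ∈ A, r.1 = 0 ∨ r.2 = 0 := by
        intro r hr
        by_contra hno
        simp only [not_or] at hno
        -- three scalars with zero sum and non-zero sum of inverses
        obtain ⟨v, -, hv⟩ := Finset.exists_mem_notMem_of_card_lt_card
          (s := (Finset.univ.filter fun v : F => v ^ 2 + v + 1 = 0) ∪ ({0, -1} : Finset F))
          (t := Finset.univ) (by
            have h1 : (Finset.univ.filter fun v : F => v ^ 2 + v + 1 = 0).card ≤ 2 := by
              by_cases hex : ∃ a : F, a ^ 2 + a + 1 = 0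
              · obtain ⟨a, ha⟩ := hex
                refine le_trans (Finset.card_le_card (t := {a, -1 - a}) fun b hb => ?_) Finset.card_le_two
                have hb' := (Finset.mem_filter.1 hb).2
                have : (b - a) * (b + a + 1) = 0 := by linear_combination hb' - ha
                rcases mul_eq_zero.1 this with h' | h'
                · simp [sub_eq_zero.1 h']
                · simp [show b = -1 - a by linear_combination h']
              · rw [Finset.filter_eq_empty_iff.2 fun b _ hb => hex ⟨b, hb⟩]; simp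
            have h2 := Finset.card_le_two (a := (0 : F)) (b := -1)
            have h3 := Finset.card_union_le (Finset.univ.filter fun v : F => v ^ 2 + v + 1 = 0)
              ({0, -1} : Finset F)
            rw [Finset.card_univ, hF]
            have : 9 ≤ q ^ 2 := by nlinarith [show 3 ≤ q by omega]
            omega)
        simp only [Finset.mem_union, Finset.mem_filter, Finset.mem_univ, true_and, Finset.mem_insert,
          Finset.mem_singleton, not_or] at hv
        obtain ⟨hv2, hv0, hv1⟩ := hv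
        have hv1' : 1 + v ≠ 0 := fun e' => hv1 (by linear_combination e')
        have h3 := A.sub_mem (A.add_mem (htor r hr 1 one_ne_zero) (htor r hr v hv0))
          (htor r hr (1 + v) hv1')
        set σ := ((1 : F) ^ q)⁻¹ + (v ^ q)⁻¹ - ((1 + v) ^ q)⁻¹ with hσ
        have hσ0 : σ ≠ 0 := by
          have e' : σ = (1 + v⁻¹ - (1 + v)⁻¹) ^ q := by
            simp only [hσ, sub_pow_q hF, add_pow_q hF, inv_pow, one_pow, inv_one]
          rw [e']
          refine pow_ne_zero _ fun h0 => hv2 ?_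
          field_simp at h0
          linear_combination h0
        have h4 : ((0 : F), σ * r.2) ∈ A := by
          convert h3 using 1
          refine Prod.ext ?_ ?_
          · simp; ring
          · simp only [Prod.snd_sub, Prod.snd_add, hσ]; ring
        have h5 := A.sub_mem hr ((hscal _ h4 σ⁻¹).2 rfl)
        refine haxes _ h5 _ h4 ?_ rfl ?_ (mul_ne_zero hσ0 hno.2)
        · simp [inv_mul_cancel_left₀ hσ0]
        · simpa using hno.1
      refine ⟨p, hp, hp0, fun r hr => ?_, fun _ => hsplit p hp⟩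
      rcases hsplit p hp with h1 | h2
      · have hp2 : p.2 ≠ 0 := fun h2 => hp0 (Prod.ext h1 h2)
        have hr1 : r.1 = 0 := by
          by_contra hr1
          exact haxes r hr p hp ((hsplit r hr).resolve_left hr1) h1 hr1 hp2
        exact ⟨r.2 / p.2, Prod.ext (by rw [h1, mul_zero, hr1]) (div_mul_cancel₀ _ hp2).symm⟩
      · have hp1 : p.1 ≠ 0 := fun h1 => hp0 (Prod.ext h1 h2)
        have hr2 : r.2 = 0 := by
          by_contra hr2
          exact haxes p hp r hr h2 ((hsplit r hr).resolve_right hr2) hp1 hr2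
        exact ⟨r.1 / p.1, Prod.ext (div_mul_cancel₀ _ hp1).symm (by rw [h2, mul_zero, hr2])⟩
  -- the general estimate
  have hperpI : ∀ g ∈ gPart hF hzw K, ∀ v ∈ pperp q z w, (∀ s ∈ iPart hF hzw K, hermForm _ F q s v = 0) →
      suMat g *ᵥ v ∈ pperp q z w ∧ ∀ s ∈ iPart hF hzw K, hermForm _ F q s (suMat g *ᵥ v) = 0 := by
    intro g hg v hv hvI
    refine ⟨lev_pperp hF hzw (stab2_le_lev hF hzw hg.1) hv, fun s hs => ?_⟩
    have h1 := hvI _ (gPart_iPart hF hzw ((gPart hF hzw K).inv_mem hg) hs)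
    rw [suMat_inv_h] at h1
    exact h1
  have hinL : ∀ v ∈ pperp q z w, (∀ s ∈ iPart hF hzw K, hermForm _ F q s v = 0) →
      v = hermForm _ F q v y • x + hermForm _ F q v x • y := by
    intro v hv hvI
    obtain ⟨u, hu, e'⟩ := hdec v hv
    have hu0 : u = 0 := hUnd u hu fun u' hu' => by
      have h1 := hvI u' (hUI u' hu')
      obtain ⟨h2, -⟩ := (hU u').1 hu'
      rw [e', h_add_right hF, h_add_right hF, h_smul_right hF, h_smul_right hF, (mem_pperp.1 h2).1,
        (mem_pperp.1 h2).2, mul_zero, mul_zero, zero_add, zero_add] at h1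
      exact (h_eq_zero_comm hF).1 h1
    conv_lhs => rw [e', hu0, add_zero]
  have hmain : ∀ (j₀ : Fin (i + 1 + 2) → F) (S : Set (Fin (i + 1 + 2) → F)), j₀ ∈ pperp q z w → j₀ ≠ 0 →
      (∀ g ∈ gPart hF hzw K, suMat g *ᵥ j₀ ∈ S) →
      q ^ 4 * Nat.card (sphere q z w (hermForm _ F q j₀ j₀)) ≤
        K.relIndex (pst z) * (Nat.card A * Nat.card S) := by
    intro j₀ S hj hj0 hS
    have h1 := orbit_bound hF hzw hm hj hj0 (gPart hF hzw K) (fun g hg => hg.1) S hS
    rw [card_stab2 hF hzw (by omega)] at h1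
    have h2 := relIndex_formula hF hzw (by omega) K
    have hW : Nat.card (wPart hF hzw K) ≤ q := by
      refine le_trans ?_ (card_trace_ker hF).le
      exact Nat.card_le_card_of_injective (fun a => (⟨a.1, wPart_le_trace hF hzw a.2⟩ : (traceHom hF).ker))
        fun a b e => Subtype.ext (congrArg Subtype.val e :)
    have hL : Nat.card (eSet z w K) ≤ q ^ 2 - 1 := by
      rw [← hF, ← Fintype.card_units, ← Nat.card_eq_fintype_card]
      refine Nat.card_le_card_of_injective (fun a : eSet z w K => Units.mk0 a.1 ?_)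
        fun a b e => Subtype.ext (congrArg Units.val e)
      obtain ⟨g, hg, e⟩ := a.2
      rw [← e]
      exact (eig_spec hzw hg.2).1
    set ix := K.relIndex (pst z)
    set Sg := Nat.card (SU (i + 1) F q)
    set Γc := Nat.card (gPart hF hzw K)
    set O := Nat.card (sphere q z w (hermForm _ F q j₀ j₀))
    have hIc : Nat.card (iPart hF hzw K) ≤ q ^ (2 * (i + 1 - 2)) * Nat.card A := hUcard ▸ hAcard
    have hqm : q ^ (2 * (i + 1)) = q ^ (2 * (i + 1 - 2)) * q ^ 4 := by
      rw [← pow_add]; congr 1; omega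
    have hpos : 0 < (q ^ 2 - 1) * Sg * q ^ (2 * (i + 1 - 2)) * q := by
      have : 4 ≤ q ^ 2 := by nlinarith
      have h' : 0 < Sg := Nat.card_pos
      have h'' : 0 < q ^ (2 * (i + 1 - 2)) := Nat.pow_pos (by omega)
      exact Nat.mul_pos (Nat.mul_pos (Nat.mul_pos (by omega) h') h'') (by omega)
    refine Nat.le_of_mul_le_mul_left ?_ hpos
    calc (q ^ 2 - 1) * Sg * q ^ (2 * (i + 1 - 2)) * q * (q ^ 4 * O)
        = O * ((q ^ 2 - 1) * (Sg * (q ^ (2 * (i + 1)) * q))) := by rw [hqm]; ring
      _ = ix * (Nat.card (eSet z w K) * ((O * Γc) *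
            (Nat.card (iPart hF hzw K) * Nat.card (wPart hF hzw K)))) := by rw [← h2]; ring
      _ ≤ ix * ((q ^ 2 - 1) * ((Nat.card S * Sg) *
            ((q ^ (2 * (i + 1 - 2)) * Nat.card A) * q))) := by gcongr
      _ = _ := by ring
  rcases hline with hA0 | ⟨p, hp, hp0, hpl, hpax⟩
  · -- the part is the common complement
    left
    have hxI : ∀ s ∈ iPart hF hzw K, hermForm _ F q s x = 0 := by
      intro s hs
      obtain ⟨r, hr, u, hu, rfl⟩ := hIA s hs
      rw [hA0, AddSubgroup.mem_bot] at hr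
      subst hr
      simp [(mem_pperp.1 ((hU u).1 hu).1).1, h_add_left, h_smul_left]
    let S : Set (Fin (i + 1 + 2) → F) := {v | v ≠ 0 ∧ hermForm _ F q v v = 0 ∧
      v = hermForm _ F q v y • x + hermForm _ F q v x • y}
    have h1 := hmain x S hxP' (h.fst_ne_zero hF) fun g hg => by
      obtain ⟨h1, h2⟩ := hperpI g hg x hxP' hxI
      exact ⟨fun e' => h.fst_ne_zero hF (suMat_injective g (by simpa using e')),
        by rw [suMat_h, h.1], hinL _ h1 h2⟩
    have hS : Nat.card S ≤ (q + 1) * (q ^ 2 - 1) := by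
      have e' : (q + 1) * (q ^ 2 - 1) = Nat.card (Fˣ ⊕ (traceHom hF).ker × Fˣ) := by
        rw [Nat.card_sum, Nat.card_prod, card_trace_ker hF, Nat.card_units, Nat.card_eq_fintype_card, hF]
        ring
      rw [e']
      have hrec : ∀ v : S, hermForm _ F q (v : Fin (i + 1 + 2) → F) x = 0 →
          hermForm _ F q (v : Fin (i + 1 + 2) → F) y ≠ 0 := fun v h0 h0' => v.2.1 (by
        rw [v.2.2.2, h0, h0', zero_smul, zero_smul, add_zero])
      have htr : ∀ v : S, hermForm _ F q (v : Fin (i + 1 + 2) → F) y *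
          hermForm _ F q (v : Fin (i + 1 + 2) → F) x ^ q ∈ (traceHom hF).ker := by
        intro v
        have h0 := v.2.2.1
        rw [v.2.2.2] at h0
        simp [h_add_left, h_add_right hF, h_smul_left, h_smul_right hF, h.1, h.2.1, h.2.2, hxy] at h0
        rw [AddMonoidHom.mem_ker, traceHom_apply]
        rw [mul_pow, pow_q_pow_q hF]
        linear_combination h0
      refine Nat.card_le_card_of_injective (fun v : S =>
        if hv : hermForm _ F q (v : Fin (i + 1 + 2) → F) x = 0 then Sum.inl (Units.mk0 _ (hrec v hv))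
        else Sum.inr (⟨_, htr v⟩, Units.mk0 _ hv)) fun v v' e'' => ?_
      dsimp only at e''
      refine Subtype.ext (v.2.2.2.trans (Eq.trans ?_ v'.2.2.2.symm))
      split_ifs at e'' with hv hv' hv'
      · rw [hv, hv', show hermForm _ F q (v : Fin (i + 1 + 2) → F) y =
          hermForm _ F q (v' : Fin (i + 1 + 2) → F) y from congrArg Units.val (Sum.inl.inj e'')]
      · obtain ⟨e1, e2⟩ := Prod.ext_iff.1 (Sum.inr.inj e'')
        have e3 : hermForm _ F q (v : Fin (i + 1 + 2) → F) x =
          hermForm _ F q (v' : Fin (i + 1 + 2) → F) x := congrArg Units.val e2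
        have e4 := congrArg Subtype.val e1
        dsimp only at e4
        rw [e3] at e4
        rw [e3, mul_right_cancel₀ (pow_ne_zero _ hv') e4]
    have hA1 : Nat.card A = 1 := by rw [hA0, AddSubgroup.card_bot]
    rw [hA1, one_mul, h.1] at h1
    have h2 := (card_sphere hF hzw (by omega) (0 : F)).1
    have hqq : q + 1 ≤ q ^ 2 := by nlinarith
    refine Nat.le_of_mul_le_mul_left ?_ (show 0 < q + 1 by omega)
    calc (q + 1) * (q ^ 2 * (normCount (i + 1) q F 0 - 1))
        ≤ q ^ 2 * (q ^ 2 * Nat.card (sphere q z w (0 : F))) := by gcongr; omega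
      _ = q ^ 4 * Nat.card (sphere q z w (0 : F)) := by ring
      _ ≤ K.relIndex (pst z) * Nat.card S := h1
      _ ≤ K.relIndex (pst z) * ((q + 1) * (q ^ 2 - 1)) := Nat.mul_le_mul_left _ hS
      _ = _ := by ring
  · set j₀ := (-(p.1 ^ q)) • x + p.2 ^ q • y with hj₀
    have hj₀P : j₀ ∈ pperp q z w :=
      Submodule.add_mem _ (Submodule.smul_mem _ _ hxP') (Submodule.smul_mem _ _ hyP')
    have hjx : hermForm _ F q j₀ x = p.2 ^ q := by simp [hj₀, h_add_left, h_smul_left, h.1, hxy, -neg_smul]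
    have hjy : hermForm _ F q j₀ y = -(p.1 ^ q) := by simp [hj₀, h_add_left, h_smul_left, h.2.1, h.2.2, -neg_smul]
    have hj0 : j₀ ≠ 0 := fun e' => by
      rw [e', h_zero_left, eq_comm, pow_q_eq_zero hF] at hjx
      rw [e', h_zero_left, eq_comm, neg_eq_zero, pow_q_eq_zero hF] at hjy
      exact hp0 (Prod.ext hjy hjx)
    have hjI : ∀ s ∈ iPart hF hzw K, hermForm _ F q s j₀ = 0 := by
      intro s hs
      obtain ⟨r, hr, u, hu, rfl⟩ := hIA s hs
      obtain ⟨t, rfl⟩ := hpl r hr
      obtain ⟨hu1, hu2⟩ := mem_pperp.1 ((hU u).1 hu).1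
      simp [hj₀, h_add_left, h_smul_left, h_add_right hF, h_smul_right hF, h.1, h.2.1, h.2.2, hxy, hu1,
        hu2, neg_pow_q hF, pow_q_pow_q hF, -neg_smul]
      ring
    let S : Set (Fin (i + 1 + 2) → F) := Set.range fun a : Fˣ => (a : F) • j₀
    have h1 := hmain j₀ S hj₀P hj0 fun g hg => by
      obtain ⟨h1, h2⟩ := hperpI g hg j₀ hj₀P hjI
      set v := suMat g *ᵥ j₀ with hv
      have hv0 : v ≠ 0 := fun e' => hj0 (suMat_injective g (by simpa [hv] using e'))
      have e1 := hinL v h1 h2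
      have e2 : hermForm _ F q v x * p.1 ^ q + hermForm _ F q v y * p.2 ^ q = 0 := by
        have h3 := (h_eq_zero_comm hF).1 (h2 _ hp)
        rw [h_add_right hF, h_smul_right hF, h_smul_right hF] at h3
        linear_combination h3
      obtain ⟨t, ht⟩ : ∃ t : F, v = t • j₀ := by
        by_cases h2' : p.2 = 0
        · have hp1 : p.1 ≠ 0 := fun h1' => hp0 (Prod.ext h1' h2')
          have hvx : hermForm _ F q v x = 0 := by
            rw [h2', zero_pow (q_ne_zero hF), mul_zero, add_zero] at e2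
            exact (mul_eq_zero.1 e2).resolve_right (pow_ne_zero _ hp1)
          refine ⟨-(hermForm _ F q v y / p.1 ^ q), ?_⟩
          conv_lhs => rw [e1, hvx]
          rw [hj₀, h2', zero_pow (q_ne_zero hF), zero_smul, add_zero, add_zero, smul_smul,
            neg_mul_neg, div_mul_cancel₀ _ (pow_ne_zero _ hp1)]
        · refine ⟨hermForm _ F q v x / p.2 ^ q, ?_⟩
          conv_lhs => rw [e1]
          rw [hj₀, smul_add, smul_smul, smul_smul, div_mul_cancel₀ _ (pow_ne_zero _ h2')]
          congr 2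
          field_simp
          linear_combination e2
      exact ⟨Units.mk0 t fun e' => hv0 (by rw [ht, e', zero_smul]), ht.symm⟩
    have hS : Nat.card S ≤ q ^ 2 - 1 := by
      rw [← hF, ← Fintype.card_units, ← Nat.card_eq_fintype_card]
      exact Nat.card_le_card_of_surjective (fun a => ⟨_, a, rfl⟩) fun ⟨_, a, e'⟩ => ⟨a, Subtype.ext e'⟩
    have hAc : Nat.card A ≤ q ^ 2 := by
      rw [← hF, ← Nat.card_eq_fintype_card]
      refine Nat.card_le_card_of_surjective (fun t : F => (⟨(t * p.1, t * p.2), ?_⟩ : A)) ?_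
      · by_cases hq2 : q = 2
        · by_cases ht : t = 0
          · subst ht; simp only [zero_mul]; exact A.zero_mem
          · have := htor p hp t ht
            rw [hq2] at this
            have h3 : t ^ 3 = 1 := by
              have := FiniteField.pow_card_sub_one_eq_one t ht
              rwa [hF, hq2] at this
            rwa [inv_eq_of_mul_eq_one_left (show t * t ^ 2 = 1 by rw [← pow_succ', h3])] at this
        · rcases hpax hq2 with h1' | h2'
          · have := (hscal p hp t).2 h1'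
            rwa [show (0 : F) = t * p.1 by rw [h1', mul_zero]] at this
          · have := (hscal p hp t).1 h2'
            rwa [show (0 : F) = t * p.2 by rw [h2', mul_zero]] at this
      · rintro ⟨r, hr⟩
        obtain ⟨t, ht⟩ := hpl r hr
        exact ⟨t, Subtype.ext ht.symm⟩
    have h3 : q ^ 2 * Nat.card (sphere q z w (hermForm _ F q j₀ j₀)) ≤ (q ^ 2 - 1) * K.relIndex (pst z) := by
      refine Nat.le_of_mul_le_mul_left ?_ (show 0 < q ^ 2 by positivity)
      calc q ^ 2 * (q ^ 2 * Nat.card (sphere q z w (hermForm _ F q j₀ j₀)))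
          = q ^ 4 * Nat.card (sphere q z w (hermForm _ F q j₀ j₀)) := by ring
        _ ≤ K.relIndex (pst z) * (Nat.card A * Nat.card S) := h1
        _ ≤ K.relIndex (pst z) * (q ^ 2 * (q ^ 2 - 1)) := by gcongr
        _ = _ := by ring
    by_cases hc : hermForm _ F q j₀ j₀ = 0
    · left
      rw [hc] at h3
      refine le_trans (Nat.mul_le_mul_left _ ?_) h3
      have := (card_sphere hF hzw (by omega) (0 : F)).1
      omega
    · right
      have hq2 : q = 2 := by
        by_contra hq2
        apply hc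
        rcases hpax hq2 with h1' | h2'
        · rw [hj₀, h1', zero_pow (q_ne_zero hF), neg_zero, zero_smul, zero_add, h_smul_left,
            h_smul_right hF, h.2.1, mul_zero, mul_zero]
        · rw [hj₀, h2', zero_pow (q_ne_zero hF), zero_smul, add_zero, h_smul_left,
            h_smul_right hF, h.1, mul_zero, mul_zero]
      refine ⟨hq2, le_trans (Nat.mul_le_mul_left _ ?_) h3⟩
      have hc1 : hermForm _ F q j₀ j₀ = 1 := by
        have hfix := h_self_fixed hF j₀
        generalize hermForm _ F q j₀ j₀ = c at hfix hc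
        rw [hq2, pow_two] at hfix
        exact (mul_eq_left₀ hc).1 hfix
      rw [hc1]
      exact (card_sphere hF hzw (by omega) (1 : F)).2 one_ne_zero

end Pair

end H37.SUMin
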