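import Cfsg.Agent.H37.SUMinLow3
import Cfsg.Agent.H37.SUMinCentre

/-!
Subgroups of four-dimensional special unitary groups keeping an additive group with small skew part.
-/

set_option autoImplicit false

namespace H37.SUMin

open Matrix Cfsg H50 H50.PointStab H50.RadFrame

universe u

variable {F : Type u} [Field F] {q : ℕ}

local notation "h4" => hermForm 4 F q

variable [Fintype F] (hF : Fintype.card F = q ^ 2)
include hF

theorem card_isoPt_four : Nat.card (IsoPt 4 q F) = (q ^ 2 + 1) * (q ^ 3 + 1) := by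
  have hq := two_le hF
  have h := card_isoPt_mul hF (n := 4)
  have h0 := q_mul_norm_zero_count hF (n := 4)
  rw [← h] at h0
  push_cast [Nat.cast_sub (Nat.one_le_pow 2 q (by omega))] at h0
  have e : ((q : ℤ) * ((q : ℤ) ^ 2 - 1)) * (Nat.card (IsoPt 4 q F) : ℤ) =
      ((q : ℤ) * ((q : ℤ) ^ 2 - 1)) * (((q : ℤ) ^ 2 + 1) * ((q : ℤ) ^ 3 + 1)) := by
    linear_combination h0
  have hne : ((q : ℤ) * ((q : ℤ) ^ 2 - 1)) ≠ 0 := by
    have h4' : (4 : ℤ) ≤ (q : ℤ) ^ 2 := by exact_mod_cast Nat.pow_le_pow_left hq 2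
    exact mul_ne_zero (by omega) (by omega)
  exact_mod_cast mul_left_cancel₀ hne e

theorem normCount_four_one : normCount 4 q F 1 = q ^ 3 * (q ^ 4 - 1) := by
  rw [norm_one_count_succ hF, if_neg (by decide)]

/-- The orbit of one vector. -/
theorem sphere_index {n : ℕ} (hn : 3 ≤ n) {I : AddSubgroup (Fin n → F)}
    {Γ : Subgroup (SU n F q)} (hΓ : ∀ g ∈ Γ, ∀ i ∈ I, suMat g *ᵥ i ∈ I) (hI : I ≠ ⊥)
    (o : ℕ) (ho0 : o ≤ Nat.card (IsoPt n q F) * (q ^ 2 - 1)) (ho1 : o ≤ normCount n q F 1) :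
    o ≤ (Nat.card I - 1) * Γ.index := by
  classical
  obtain ⟨a, ha, ha0⟩ : ∃ a ∈ I, a ≠ 0 := by
    by_contra h0
    simp only [not_exists, not_and, not_not] at h0
    exact hI ((AddSubgroup.eq_bot_iff_forall I).2 h0)
  refine orbit_le_index (fun g : SU n F q => suMat g *ᵥ a)
    (fun g g' k e => by simp only [suMat_mulVec_mul, e]) Γ
    {v | v ≠ 0 ∧ hermForm n F q v v = hermForm n F q a a} ((I : Set (Fin n → F)) \ {0})
    (sphere_subset hF hn ha0)
    (fun g hg => ⟨hΓ g hg a ha, fun e => ha0 (suMat_injective g (by simpa using e))⟩) ?_ ?_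
  · by_cases h0 : hermForm n F q a a = 0
    · refine ho0.trans (le_of_eq ?_)
      rw [h0]
      have h := card_isoPt_mul hF (n := n)
      let o' : {v : Fin n → F // hermForm n F q v v = 0} := ⟨0, by rw [h_zero_left]⟩
      have hs : Nat.card {v : Fin n → F | v ≠ 0 ∧ hermForm n F q v v = 0} + 1 =
          normCount n q F 0 := by
        rw [Nat.card_coe_set_eq, normCount, ← Set.ncard_insert_of_notMem (a := (0 : Fin n → F))
          (fun h' => h'.1 rfl), ← Nat.card_coe_set_eq]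
        refine Nat.card_congr (Equiv.subtypeEquivRight fun v => ?_)
        simp only [Set.mem_insert_iff, Set.mem_setOf_eq]
        constructor
        · rintro (rfl | h')
          · exact h_zero_left 0
          · exact h'.2
        · intro h'
          by_cases hv : v = 0
          · exact Or.inl hv
          · exact Or.inr ⟨hv, h'⟩
      omega
    · refine ho1.trans ((normCount_scale hF _ (h_self_fixed hF a) h0).trans ?_)
      exact Nat.card_le_card_of_injective (fun v => ⟨v.1, fun e => h0 (by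
        rw [← v.2, e, h_zero_left]), v.2⟩) fun v v' e => Subtype.ext (congrArg Subtype.val e :)
  · rw [Nat.card_coe_set_eq, Set.ncard_diff (Set.singleton_subset_iff.2 (zero_mem I)),
      Set.ncard_singleton, ← Nat.card_coe_set_eq]
    rfl

/-- Totally isotropic vectors orthogonal to an anisotropic one are dependent. -/
theorem iso_line_four {v r a : Fin 4 → F} (hv0 : v ≠ 0) (hvv : h4 v v = 0) (hrr : h4 r r = 0)
    (hrv : h4 r v = 0) (haa : h4 a a ≠ 0) (hav : h4 a v = 0) (har : h4 a r = 0) :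
    ∃ c : F, r = c • v := by
  by_contra hno
  simp only [not_exists] at hno
  have hli : LinearIndependent F ![v, r] :=
    (LinearIndependent.pair_iff' hv0).2 fun c e => hno c e.symm
  have hr := finrank_perp_range hF hli
  rw [Fintype.card_fin] at hr
  have hvr := (h_eq_zero_comm hF).1 hrv
  have hm : ∀ i, ![v, r, a] i ∈ perp q (Set.range ![v, r]) := by
    intro i
    rw [mem_perp_range]
    intro j
    fin_cases i <;> fin_cases j <;> simp [hvv, hrr, hrv, hvr, hav, har]
  have hli3 : LinearIndependent F ![v, r, a] := by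
    rw [Fintype.linearIndependent_iff]
    intro g hg
    simp [Fin.sum_univ_three] at hg
    have e1 := congrArg (fun w => h4 w a) hg
    simp [h_add_left, h_smul_left, h_zero_left, (h_eq_zero_comm hF).1 hav,
      (h_eq_zero_comm hF).1 har, haa] at e1
    rw [e1, zero_smul, add_zero] at hg
    have e2 := (LinearIndependent.pair_iff.1 hli) (g 0) (g 1) hg
    intro i
    fin_cases i
    · exact e2.1
    · exact e2.2
    · exact e1
  have hli' : LinearIndependent F (fun i => (⟨_, hm i⟩ : perp q (Set.range ![v, r]))) :=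
    LinearIndependent.of_comp (perp q (Set.range ![v, r])).subtype hli3
  have := hli'.fintype_card_le_finrank
  simp only [Fintype.card_fin] at this
  omega

section Low

variable {ψ : AddChar F ℂ} {t : F} (ht : t + t ^ q = 0) (hψ : ψ t ≠ 1)
  {I : AddSubgroup (Fin 4 → F)} (hI : ∀ a ∈ I, ∀ b ∈ I, ψ (skew q a b) = 1)
  {Γ : Subgroup (SU 4 F q)} (hΓ : ∀ g ∈ Γ, ∀ i ∈ I, suMat g *ᵥ i ∈ I)
include hΓ

omit hF in
theorem pairMap_inv (a b : Fin 4 → F) (g g' k : SU 4 F q)
    (e : (suMat g *ᵥ a, suMat g *ᵥ b) = (suMat g' *ᵥ a, suMat g' *ᵥ b)) :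
    (suMat (k * g) *ᵥ a, suMat (k * g) *ᵥ b) = (suMat (k * g') *ᵥ a, suMat (k * g') *ᵥ b) := by
  simp only [Prod.ext_iff] at e
  simp only [suMat_mulVec_mul, e.1, e.2]

/-- A totally isotropic line. -/
theorem low_four_line (hbig : q ^ 3 < Nat.card I) (hI4 : Nat.card I ≤ q ^ 4)
    (hall : ∀ i ∈ I, ∀ j ∈ I, h4 i j = 0) : (q + 1) * (q ^ 3 + 1) ≤ Γ.index := by
  classical
  have hq := two_le hF
  obtain ⟨v, hvI, hv0⟩ : ∃ v ∈ I, v ≠ 0 := by
    by_contra h0
    simp only [not_exists, not_and, not_not] at h0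
    rw [(AddSubgroup.eq_bot_iff_forall I).2 h0, AddSubgroup.card_bot] at hbig
    have := Nat.one_le_pow 3 q (q_pos hF)
    omega
  obtain ⟨w, hwI, hw⟩ : ∃ w ∈ I, ∀ c : F, w ≠ c • v := by
    by_contra h0
    simp only [not_exists, not_and, not_forall, not_not] at h0
    choose c hc using h0
    refine absurd hbig (not_lt.2 (le_trans ?_ (Nat.pow_le_pow_right (q_pos hF) (show 2 ≤ 3 by omega))))
    rw [← hF, ← Nat.card_eq_fintype_card]
    refine Nat.card_le_card_of_injective (fun i : I => c i i.2) fun i j e => Subtype.ext ?_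
    rw [hc i i.2, hc j j.2, show c i i.2 = c j j.2 from e]
  have hvv := hall v hvI v hvI
  obtain ⟨f, hf⟩ := exists_hyp_partner hF hv0 hvv
  set w' := w - h4 w f • v with hw'
  have hw'I : ∀ i ∈ I, h4 w' i = 0 := fun i hi => by
    rw [hw', sub_eq_add_neg, h_add_left, h_neg_left, h_smul_left, hall w hwI i hi, hall v hvI i hi]; ring
  have hw'0 : w' ≠ 0 := fun e => hw _ (sub_eq_zero.1 e)
  have hw'v : h4 w' v = 0 := hw'I v hvI
  have hvw' := (h_eq_zero_comm hF).1 hw'v
  have hw'w' : h4 w' w' = 0 := by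
    have e := congrArg (fun x => h4 w' x) hw'
    simp only [sub_eq_add_neg, h_add_right hF, h_neg_right hF, h_smul_right hF, hw'I w hwI, hw'v] at e
    rw [e]; ring
  have hw'P : w' ∈ pperp q v f := mem_pperp.2 ⟨hw'v, by
    rw [hw', sub_eq_add_neg, h_add_left, h_neg_left, h_smul_left, hf.2.2, mul_one, add_neg_cancel]⟩
  obtain ⟨u, hu, huP⟩ : ∃ u, IsHyp q w' u ∧ u ∈ pperp q v f := by
    obtain ⟨ι, j, -, -, -, hjh, -, hjs⟩ := exists_pair_hom hF (m := 2) (by omega) hf
    have hR := pperp_eq_range hF hf hjh hjs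
    obtain ⟨a, ha⟩ := (hR ▸ hw'P : w' ∈ LinearMap.range j)
    have ha0 : a ≠ 0 := fun e => hw'0 (by rw [← ha, e, map_zero])
    obtain ⟨b, hb⟩ := exists_hyp_partner hF ha0 (by rw [← hjh, ha, hw'w'])
    exact ⟨j b, ⟨hw'w', by rw [hjh, hb.2.1], by rw [← ha, hjh, hb.2.2]⟩,
      hR ▸ LinearMap.mem_range_self j b⟩
  obtain ⟨huv, -⟩ := mem_pperp.1 huP
  have hvu := (h_eq_zero_comm hF).1 huv
  have huw := (hu.symm hF).2.2
  obtain ⟨d, hd0, hd⟩ := exists_trace_zero_ne_zero hF
  have hd' : -d⁻¹ + (-d⁻¹) ^ q = 0 := by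
    rw [neg_pow_q hF, inv_pow, show d ^ q = -d by linear_combination hd, inv_neg]; ring
  -- the elements at the point, with witnesses
  let k : (traceHom hF).ker ⊕ Unit → SU 4 F q := Sum.elim
    (fun c => tv hF u c.1 hu.2.1 (by have := c.2; rwa [AddMonoidHom.mem_ker, traceHom_apply] at this))
    (fun _ => tv hF w' (-d⁻¹) hw'w' hd' * tv hF u d hu.2.1 hd)
  have hkv : ∀ j, suMat (k j) *ᵥ v = v := by
    rintro (c | c)
    · simp only [k, Sum.elim_inl, tv_mulVec, hvu, mul_zero, zero_smul, add_zero]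
    · simp only [k, Sum.elim_inr, suMat_mulVec_mul, tv_mulVec, hvu, hvw', mul_zero, zero_smul, add_zero]
  let y : (traceHom hF).ker ⊕ Unit → (Fin 4 → F) := Sum.elim (fun c => w' + c.1 • u) (fun _ => d • u)
  have hky : ∀ j, suMat (k j) *ᵥ w' = y j := by
    rintro (c | c)
    · simp [k, y, tv_mulVec, hu.2.2]
    · simp only [k, y, Sum.elim_inr, suMat_mulVec_mul, tv_mulVec, hu.2.2, mul_one, h_add_left,
        h_smul_left, hw'w', huw, zero_add, neg_mul, inv_mul_cancel₀ hd0, neg_smul, one_smul]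
      abel
  -- the two components
  let M : SU 4 F q → Set (Fin 4 → F) := fun g => {x | ∀ i ∈ I, h4 x (suMat g *ᵥ i) = 0}
  let T : Set ((Fin 4 → F) × Set (Fin 4 → F)) := ((I : Set (Fin 4 → F)) \ {0}) ×ˢ {M 1}
  have hMmem : ∀ g x, x ∈ M g ↔ suMat g⁻¹ *ᵥ x ∈ M 1 := by
    intro g x
    simp only [M, Set.mem_setOf_eq, suMat_one, one_mulVec, suMat_inv_h]
  have hinv : ∀ a b c : SU 4 F q, (suMat a *ᵥ v, M a) = (suMat b *ᵥ v, M b) →
      (suMat (c * a) *ᵥ v, M (c * a)) = (suMat (c * b) *ᵥ v, M (c * b)) := by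
    intro a b c e
    simp only [Prod.ext_iff] at e
    refine Prod.ext (by simp only [suMat_mulVec_mul, e.1]) (Set.ext fun x => ?_)
    show x ∈ M (c * a) ↔ x ∈ M (c * b)
    rw [hMmem, hMmem (c * b), _root_.mul_inv_rev, _root_.mul_inv_rev, suMat_mulVec_mul,
      suMat_mulVec_mul, ← hMmem a, ← hMmem b, e.2]
  -- representatives of isotropic vectors
  let P := {x : {x : Fin 4 → F // h4 x x = 0} // x.1 ≠ 0}
  have hg : ∀ x : P, ∃ g : SU 4 F q, suMat g *ᵥ v = x.1.1 := fun x => by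
    obtain ⟨g, -, hg⟩ := reach_isotropic hF (n := 4) (by omega) hv0 hvv x.2 x.1.2
    exact ⟨g, hg⟩
  choose g hg using hg
  let O : Set ((Fin 4 → F) × Set (Fin 4 → F)) :=
    Set.range fun p : P × ((traceHom hF).ker ⊕ Unit) => (suMat (g p.1 * k p.2) *ᵥ v, M (g p.1 * k p.2))
  have hO : Nat.card P * (q + 1) ≤ Nat.card O := by
    rw [← card_trace_ker hF, show (Nat.card (traceHom hF).ker + 1) =
      Nat.card ((traceHom hF).ker ⊕ Unit) by rw [Nat.card_sum, Nat.card_unique (α := Unit)],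
      ← Nat.card_prod]
    refine Nat.card_le_card_of_injective (fun p => (⟨_, p, rfl⟩ : O)) ?_
    rintro ⟨x, j⟩ ⟨x', j'⟩ e
    obtain ⟨e1, e2⟩ := Prod.ext_iff.1 (congrArg Subtype.val e :)
    dsimp only at e1 e2
    rw [suMat_mulVec_mul, suMat_mulVec_mul, hkv, hkv, hg, hg] at e1
    obtain rfl : x = x' := Subtype.ext (Subtype.ext e1)
    have e3 : M (k j) = M (k j') := by
      have := hinv (g x * k j) (g x * k j') (g x)⁻¹ (Prod.ext (by
        simp only [suMat_mulVec_mul, hkv]) e2)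
      rw [inv_mul_cancel_left, inv_mul_cancel_left] at this
      exact (Prod.ext_iff.1 this).2
    have hy : y j ∈ M (k j') := by
      rw [← e3]
      intro i hi
      rw [← hky, suMat_h, hw'I i hi]
    have hy' : h4 (y j) (y j') = 0 := by
      rw [← hky j', hw', sub_eq_add_neg, mulVec_add, mulVec_neg, mulVec_smul, h_add_right hF,
        h_neg_right hF, h_smul_right hF, hy w hwI, hy v hvI]
      ring
    rcases j with c | c <;> rcases j' with c' | c' <;>
      simp [y, h_add_left, h_add_right hF, h_smul_left, h_smul_right hF, hw'w', hu.2.1, hu.2.2, huw,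
        hd0, pow_ne_zero _ hd0, zero_pow (q_ne_zero hF)] at hy'
    · have hc' : c'.1 + c'.1 ^ q = 0 := by
        have := c'.2
        rwa [AddMonoidHom.mem_ker, traceHom_apply] at this
      exact Prod.ext rfl (congrArg Sum.inl (Subtype.ext (by linear_combination hy' - hc')))
    · rfl
  have hP : Nat.card P = Nat.card (IsoPt 4 q F) * (q ^ 2 - 1) := by
    have h := card_isoPt_mul hF (n := 4)
    let o : {x : Fin 4 → F // h4 x x = 0} := ⟨0, by rw [h_zero_left]⟩
    have hs : ({o}ᶜ : Set _) = {x : {x : Fin 4 → F // h4 x x = 0} | x.1 ≠ 0} := by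
      ext x; simp [o, Subtype.ext_iff]
    have h2 := Set.ncard_add_ncard_compl ({o} : Set _)
    rw [Set.ncard_singleton, hs, ← Nat.card_coe_set_eq, Set.coe_setOf] at h2
    rw [normCount] at h
    show Nat.card {x : {x : Fin 4 → F // h4 x x = 0} // x.1 ≠ 0} = _
    omega
  have hT : ∀ a ∈ Γ, (suMat a *ᵥ v, M a) ∈ T := by
    intro a ha
    refine ⟨⟨hΓ a ha v hvI, fun e => hv0 (suMat_injective a (by simpa using e))⟩, ?_⟩
    show M a = M 1
    refine Set.ext fun x => ?_
    simp only [M, Set.mem_setOf_eq, suMat_one, one_mulVec]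
    refine ⟨fun h i hi => ?_, fun h i hi => h _ (hΓ a ha i hi)⟩
    have := h _ (hΓ a⁻¹ (inv_mem ha) i hi)
    rwa [suMat_mulVec_inv] at this
  have hTc : Nat.card T ≤ q ^ 4 - 1 := by
    rw [Nat.card_coe_set_eq, Set.ncard_prod, Set.ncard_singleton, mul_one,
      Set.ncard_diff (Set.singleton_subset_iff.2 (zero_mem I)), Set.ncard_singleton,
      ← Nat.card_coe_set_eq]
    exact Nat.sub_le_sub_right hI4 1
  have key := orbit_le_index (fun a => (suMat a *ᵥ v, M a)) hinv Γ O T
    (by rintro _ ⟨p, rfl⟩; exact ⟨_, rfl⟩) hT hO hTc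
  rw [hP, card_isoPt_four hF] at key
  have h14 : 1 ≤ q ^ 4 := Nat.one_le_pow _ _ (by omega)
  have hq2 : (q ^ 2 + 1) * (q ^ 2 - 1) = q ^ 4 - 1 := by
    rw [← Nat.sq_sub_sq, one_pow, ← pow_mul]
  refine Nat.le_of_mul_le_mul_left ?_ (show 0 < q ^ 4 - 1 by
    have : 2 ^ 4 ≤ q ^ 4 := Nat.pow_le_pow_left hq 4; omega)
  refine le_trans (le_of_eq ?_) key
  rw [← hq2]; ring

include ht hψ hI in
theorem low_four (hbig : q ^ 3 < Nat.card I) (hI4 : Nat.card I ≤ q ^ 4) :
    q ^ 4 + q ^ 2 + 2 ≤ Γ.index := by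
  classical
  have hq := two_le hF
  have hp3 : 8 ≤ q ^ 3 := Nat.pow_le_pow_left hq 3
  have hp4 : 16 ≤ q ^ 4 := Nat.pow_le_pow_left hq 4
  obtain ⟨s, hs⟩ : ∃ s, q ^ 4 = s + 1 := ⟨q ^ 4 - 1, by omega⟩
  have hq24 : (q ^ 2 + 1) * (q ^ 2 - 1) = s := by
    rw [← Nat.sq_sub_sq, one_pow, ← pow_mul, show 2 * 2 = 4 from rfl]; omega
  by_cases h1 : ∃ v ∈ I, v ≠ 0 ∧ h4 v v = 0 ∧ ∃ i ∈ I, h4 i v ≠ 0
  · obtain ⟨v, hvI, hv0, hv, i, hi, hne⟩ := h1
    have key := orbit_le_index (fun g => (suMat g *ᵥ v, suMat g *ᵥ i)) (fun a b c => pairMap_inv hΓ v i a b c) Γ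
      (hypPairs q (h4 i v) (h4 i i))
      {p | (p.1 ∈ I ∧ ∃ j ∈ I, h4 j p.1 ≠ 0) ∧ p.2 ∈ I ∧ h4 p.2 p.1 = h4 i v}
      (hypPairs_subset hF (by omega) hv hne)
      (fun g hg => ⟨⟨hΓ g hg _ hvI, _, hΓ g hg _ hi, by rw [suMat_h]; exact hne⟩,
        hΓ g hg _ hi, by rw [suMat_h]⟩)
      (card_hypPairs hF (n := 4) (m := 2) rfl (by omega) hne (h_self_fixed hF i))
      (card_pairs_le hF I {p | p ∈ I ∧ ∃ j ∈ I, h4 j p ≠ 0} (h4 i v) (Nat.card I / 2) fun p hp => by
        have := perpI_half hF I p hp.2; omega)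
    rw [card_isoPt_four hF, show (q ^ 2 + 1) * (q ^ 3 + 1) * (q ^ 2 - 1) =
      (q ^ 3 + 1) * ((q ^ 2 + 1) * (q ^ 2 - 1)) by ring, hq24] at key
    have k1 : 2 * ((q ^ 3 + 1) * s * (q ^ (2 * 2) * q)) ≤ q ^ 4 * q ^ 4 * Γ.index := by
      refine (Nat.mul_le_mul_left 2 key).trans ?_
      rw [← mul_assoc]
      refine Nat.mul_le_mul_right _ ?_
      have e1 : Nat.card {p : Fin 4 → F | p ∈ I ∧ ∃ j ∈ I, h4 j p ≠ 0} ≤ q ^ 4 :=
        le_trans (Nat.card_mono (Set.toFinite (I : Set (Fin 4 → F))) fun p hp => hp.1) hI4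
      calc 2 * (Nat.card {p : Fin 4 → F | p ∈ I ∧ ∃ j ∈ I, h4 j p ≠ 0} * (Nat.card I / 2))
          = Nat.card {p : Fin 4 → F | p ∈ I ∧ ∃ j ∈ I, h4 j p ≠ 0} * (2 * (Nat.card I / 2)) := by ring
        _ ≤ q ^ 4 * q ^ 4 := Nat.mul_le_mul e1 ((Nat.mul_div_le _ _).trans hI4)
    have k2 : 2 * ((q ^ 3 + 1) * s) ≤ q ^ 3 * Γ.index :=
      Nat.le_of_mul_le_mul_right (le_trans (le_of_eq (by ring)) (k1.trans_eq (by ring)))
        (show 0 < q ^ 5 from Nat.pow_pos (by omega))
    refine Nat.le_of_mul_le_mul_left (le_trans ?_ k2) (show 0 < q ^ 3 by omega)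
    have e2 : 4 * q ^ 2 ≤ q ^ 4 := by rw [show q ^ 4 = q ^ 2 * q ^ 2 by ring]; gcongr; nlinarith
    rw [hs] at e2 hp4 ⊢
    nlinarith [Nat.mul_le_mul_left (q ^ 3) e2, Nat.mul_le_mul_left (q ^ 3) hp4]
  · simp only [not_exists, not_and, not_not] at h1
    by_cases h2 : ∃ a ∈ I, h4 a a ≠ 0
    · obtain ⟨a, ha, haa⟩ := h2
      by_cases h3 : ∃ v ∈ I, v ≠ 0 ∧ h4 v v = 0
      · obtain ⟨v, hvI, hv0, hv⟩ := h3
        have key := orbit_le_index (fun g => suMat g *ᵥ v)
          (fun g g' k e => by simp only [suMat_mulVec_mul, e]) Γ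
          {x | x ≠ 0 ∧ h4 x x = h4 v v} {x | x ∈ I ∧ x ≠ 0 ∧ h4 x x = 0}
          (sphere_subset hF (by omega) hv0)
          (fun g hg => ⟨hΓ g hg v hvI, fun e => hv0 (suMat_injective g (by simpa using e)),
            by rw [suMat_h, hv]⟩) (o := normCount 4 q F 0 - 1) (t := q ^ 2 - 1) ?_ ?_
        · rw [← card_isoPt_mul hF, Nat.add_sub_cancel, card_isoPt_four hF, mul_comm (q ^ 2 - 1)] at key
          have k2 := Nat.le_of_mul_le_mul_right key (show 0 < q ^ 2 - 1 by
            have : 2 ^ 2 ≤ q ^ 2 := Nat.pow_le_pow_left hq 2; omega)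
          refine le_trans ?_ k2
          have : q ^ 4 * 2 ≤ q ^ 5 := by rw [pow_succ]; exact Nat.mul_le_mul_left _ hq
          have e : (q ^ 2 + 1) * (q ^ 3 + 1) = q ^ 5 + q ^ 3 + q ^ 2 + 1 := by ring
          omega
        · rw [hv, normCount]
          have : Nat.card {x : Fin 4 → F // h4 x x = 0} ≤
              Nat.card (Option {x : Fin 4 → F | x ≠ 0 ∧ h4 x x = 0}) :=
            Nat.card_le_card_of_injective (fun x => if hx : x.1 = 0 then none else some ⟨x.1, hx, x.2⟩)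
              fun x x' e => by
                dsimp only at e
                split_ifs at e with hx hx' hx'
                · exact Subtype.ext (hx.trans hx'.symm)
                · exact Subtype.ext (congrArg Subtype.val (Option.some.inj e) :)
          rw [Finite.card_option] at this
          omega
        · rw [← hF, ← Fintype.card_units, ← Nat.card_eq_fintype_card]
          have hex : ∀ x : {x | x ∈ I ∧ x ≠ 0 ∧ h4 x x = 0}, ∃ c : F, x.1 = c • v := fun x =>
            iso_line_four hF hv0 hv x.2.2.2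
              (h1 v hvI hv0 hv x.1 x.2.1) haa (h1 v hvI hv0 hv a ha)
              (h1 x.1 x.2.1 x.2.2.1 x.2.2.2 a ha)
          choose c hc using hex
          refine Nat.card_le_card_of_injective (fun x => Units.mk0 (c x) fun e => x.2.2.1 (by
            rw [hc x, e, zero_smul])) fun x x' e => Subtype.ext ?_
          rw [hc x, hc x', show c x = c x' from congrArg Units.val e]
      · simp only [not_exists, not_and] at h3
        obtain ⟨b, hb, hb0⟩ : ∃ b ∈ perpI q I a, b ≠ 0 := by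
          by_contra h0
          simp only [not_exists, not_and, not_not] at h0
          have h5 := card_le_perpI hF I a Set.univ fun i _ => Set.mem_univ _
          rw [(AddSubgroup.eq_bot_iff_forall _).2 h0, AddSubgroup.card_bot, one_mul,
            Nat.card_coe_set_eq, Set.ncard_univ, Nat.card_eq_fintype_card (α := F), hF] at h5
          have : q ^ 2 ≤ q ^ 3 := Nat.pow_le_pow_right (by omega) (by omega)
          omega
        have hbb := h3 b hb.1 hb0
        have key := orbit_le_index (fun g => (suMat g *ᵥ a, suMat g *ᵥ b))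
          (fun x y z => pairMap_inv hΓ a b x y z) Γ (orthPairs q (h4 a a) (h4 b b))
          {p | (p.1 ∈ I ∧ h4 p.1 p.1 = h4 a a) ∧ p.2 ∈ I ∧ h4 p.2 p.1 = 0}
          (orthPairs_subset hF (by omega) haa hbb hb.2)
          (fun g hg => ⟨⟨hΓ g hg _ ha, by rw [suMat_h]⟩, hΓ g hg _ hb.1, by rw [suMat_h, hb.2]⟩)
          (card_orthPairs hF (n := 4) (k := 3) rfl (h_self_fixed hF a) haa (h_self_fixed hF b) hbb)
          ((card_pairs_le hF I {p | p ∈ I ∧ h4 p p = h4 a a} 0 (q ^ 3) fun p hp => by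
            have := card_perpI hF ht hψ hI (a := p) (by rw [hp.2]; exact haa)
            exact Nat.le_of_mul_le_mul_right (this.trans_eq (by ring)) (q_pos hF)).trans
            (Nat.mul_le_mul_right _ (le_trans (Nat.card_mono (Set.toFinite (I : Set (Fin 4 → F)))
              fun p hp => hp.1) hI4)))
        rw [normCount_four_one hF, normCount_three_one hF, show q ^ 4 - 1 = s by omega] at key
        have k2 : (q ^ 3 + 1) * s ≤ q ^ 2 * Γ.index :=
          Nat.le_of_mul_le_mul_right (le_trans (le_of_eq (by ring)) (key.trans_eq (by ring)))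
            (show 0 < q ^ 5 from Nat.pow_pos (by omega))
        refine Nat.le_of_mul_le_mul_left (le_trans ?_ k2) (show 0 < q ^ 2 from Nat.pow_pos (by omega))
        have e2 : q ^ 2 * 2 ≤ q ^ 3 := by rw [pow_succ q 2]; exact Nat.mul_le_mul_left _ hq
        have e3 : 4 * q ^ 2 ≤ q ^ 4 := by rw [show q ^ 4 = q ^ 2 * q ^ 2 by ring]; gcongr; nlinarith
        rw [hs] at e3 hp4 ⊢
        nlinarith [Nat.mul_le_mul_right s e2, Nat.mul_le_mul_left (q ^ 2) e3]
    · simp only [not_exists, not_and, not_not] at h2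
      refine le_trans ?_ (low_four_line hF hΓ hbig hI4 fun i hi j hj => ?_)
      · have : q ^ 2 * 2 ≤ q ^ 3 := by rw [pow_succ q 2]; exact Nat.mul_le_mul_left _ hq
        have e : (q + 1) * (q ^ 3 + 1) = q ^ 4 + q ^ 3 + q + 1 := by ring
        omega
      · by_cases hj0 : j = 0
        · rw [hj0, h_zero_right hF]
        · exact h1 j hj hj0 (h2 j hj) i hi

end Low

end H37.SUMin
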