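import Cfsg.Agent.H37.SUMinBases

/-!
The least index of a proper subgroup of a projective special unitary group.
-/

set_option autoImplicit false

namespace H37.SUMin

open Matrix Cfsg H50 H50.PointStab H50.RadFrame

universe u

variable {F : Type u} [Field F] {q : ℕ} [Fintype F] (hF : Fintype.card F = q ^ 2)
include hF

/-- The hypothesis on dimensions five and six. -/
def BaseBound (F : Type u) [Field F] (q m : ℕ) : Prop :=
  ∀ K : Subgroup (SU (m + 2) F q), K ≠ ⊤ → Target K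

theorem base_five (hq : 3 ≤ q) : BaseBound F q 3 := fun K hK =>
  target_of_cases hF le_rfl (by omega) (by omega) hK fun x y h hx hG => five_cases hF rfl hq h hx hG

theorem base_six (hq : 3 ≤ q) : BaseBound F q 4 := fun K hK =>
  target_of_cases hF (by omega) (by omega) (by omega) hK fun x y h hx hG => six_cases hF rfl h hx hG

/-- The bound in all dimensions from the one of the same parity. -/
theorem target_all : ∀ (m : ℕ), 3 ≤ m →
    (∀ m₀, (m₀ = 3 ∨ m₀ = 4) → m₀ % 2 = m % 2 → BaseBound F q m₀) → BaseBound F q m := by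
  intro m
  induction m using Nat.strong_induction_on with
  | _ m ih =>
    intro hm hbase
    by_cases h5 : m < 5
    · exact hbase m (by omega) rfl
    obtain ⟨k, rfl⟩ : ∃ k, m = k + 2 := ⟨m - 2, by omega⟩
    intro K hK
    refine target_of_bound hF (by omega) (by omega) (by omega) (fun H hH => ?_) hK
    have hT := ih k (by omega) (by omega) (fun m₀ h1 h2 => hbase m₀ h1 (by omega)) H hH
    have hq := two_le hF
    obtain ⟨hN1, -, -, -⟩ := isoPt_bounds hF (m := k + 2) (by omega)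
    obtain ⟨-, -, -, hN4⟩ := isoPt_bounds hF (m := k) (by omega)
    have hidx : q ^ (k + 1) * (q + 1) ≤ H.index := by
      rcases hT with h1 | ⟨rfl, -, h2⟩
      · refine le_trans ?_ (le_trans (Nat.le_add_right _ 2) (hN4.trans h1))
        calc q ^ (k + 1) * (q + 1) ≤ q ^ (k + 1) * q ^ 2 := by gcongr; nlinarith
          _ = q ^ (k + 3) := by ring
          _ ≤ q ^ (2 * k + 1) := Nat.pow_le_pow_right (by omega) (by omega)
      · have h9 : 10 ≤ 2 ^ (k + 2) := le_trans (by norm_num)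
          (Nat.pow_le_pow_right (show 1 ≤ 2 by omega) (show 4 ≤ k + 2 by omega))
        have h3 : 2 ^ (k + 1) * 9 ≤ 2 ^ (k + 1) * (2 ^ (k + 2) - 1) := Nat.mul_le_mul_left _ (by omega)
        omega
    refine Nat.le_of_mul_le_mul_right ?_ (show 0 < q by omega)
    calc Nat.card (IsoPt (k + 2 + 2) q F) * q ≤ q ^ (2 * (k + 2) + 1) * (q + 1) := hN1
      _ = q ^ (k + 2 + 1) * q * (q ^ (k + 1) * (q + 1)) := by ring
      _ ≤ q ^ (k + 2 + 1) * q * H.index := Nat.mul_le_mul_left _ hidx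
      _ = _ := by ring

theorem isoPt_formula_odd {n : ℕ} (hn : Odd n) :
    Nat.card (IsoPt n q F) = (q ^ n + 1) * (q ^ (n - 1) - 1) / (q ^ 2 - 1) := by
  have hq := two_le hF
  have h := card_isoPt_mul hF (n := n)
  have h0 := q_mul_norm_zero_count hF (n := n)
  rw [← h, hn.neg_one_pow] at h0
  obtain ⟨k, rfl⟩ : ∃ k, n = k + 1 := ⟨n - 1, by rcases hn with ⟨r, rfl⟩; omega⟩
  have h4 : 1 ≤ q ^ 2 := Nat.one_le_pow _ _ (by omega)
  have hk : 1 ≤ q ^ k := Nat.one_le_pow _ _ (by omega)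
  have e : (q ^ (k + 1) + 1) * (q ^ k - 1) = Nat.card (IsoPt (k + 1) q F) * (q ^ 2 - 1) := by
    have hq0 : (q : ℤ) ≠ 0 := by omega
    zify [h4, hk] at h0 ⊢
    refine mul_left_cancel₀ hq0 ?_
    linear_combination -h0
  rw [Nat.add_sub_cancel, e, Nat.mul_div_cancel]
  have : 4 ≤ q ^ 2 := by nlinarith
  omega

theorem isoPt_formula_even {n : ℕ} (hn : Even n) (hn1 : 1 ≤ n) :
    Nat.card (IsoPt n q F) = (q ^ n - 1) * (q ^ (n - 1) + 1) / (q ^ 2 - 1) := by
  have hq := two_le hF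
  have h := card_isoPt_mul hF (n := n)
  have h0 := q_mul_norm_zero_count hF (n := n)
  rw [← h, hn.neg_one_pow] at h0
  obtain ⟨k, rfl⟩ : ∃ k, n = k + 1 := ⟨n - 1, by omega⟩
  have h4 : 1 ≤ q ^ 2 := Nat.one_le_pow _ _ (by omega)
  have hk : 1 ≤ q ^ (k + 1) := Nat.one_le_pow _ _ (by omega)
  have e : (q ^ (k + 1) - 1) * (q ^ k + 1) = Nat.card (IsoPt (k + 1) q F) * (q ^ 2 - 1) := by
    have hq0 : (q : ℤ) ≠ 0 := by omega
    zify [h4, hk] at h0 ⊢
    refine mul_left_cancel₀ hq0 ?_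
    linear_combination -h0
  rw [Nat.add_sub_cancel, e, Nat.mul_div_cancel]
  have : 4 ≤ q ^ 2 := by nlinarith
  omega

/-- Transfer to the quotient. -/
theorem psu_bound {n b : ℕ} (hb : ∀ K : Subgroup (SU n F q), K ≠ ⊤ → b ≤ K.index)
    (H : Subgroup (Cfsg.PSU n F q)) (hH : H ≠ ⊤) : b ≤ H.index := by
  have hsurj : Function.Surjective (QuotientGroup.mk' (Subgroup.center ↥(Cfsg.SU n F q))) :=
    QuotientGroup.mk'_surjective _
  rw [← Subgroup.index_comap_of_surjective H hsurj]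
  refine hb _ fun h => hH ?_
  rw [← Subgroup.map_comap_eq_self_of_surjective hsurj H, h, Subgroup.map_top_of_surjective _ hsurj]

theorem psu_index {n : ℕ} (K : Subgroup (SU n F q)) (hK : Subgroup.center (SU n F q) ≤ K) :
    ∃ H : Subgroup (Cfsg.PSU n F q), H.index = K.index :=
  ⟨K.map (QuotientGroup.mk' _), Subgroup.index_map_eq _ (QuotientGroup.mk'_surjective _)
    (by rw [QuotientGroup.ker_mk']; exact hK)⟩

/-- A point stabiliser has the index of the isotropic points. -/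
theorem psu_point {n : ℕ} (hn : 3 ≤ n) :
    ∃ H : Subgroup (Cfsg.PSU n F q), H.index = Nat.card (IsoPt n q F) := by
  obtain ⟨m, rfl⟩ : ∃ m, n = m + 2 := ⟨n - 2, by omega⟩
  obtain ⟨e, f, hef⟩ := exists_hyp (F := F) hF (n := m + 2) (by omega)
  rw [← index_pst hF hef (by omega)]
  refine psu_index hF _ fun g hg => ?_
  obtain ⟨l, hl⟩ := (mem_center_iff_scalar hF (by omega)).1 hg
  have e1 : suMat g *ᵥ e = l • e := by rw [hl, smul_mulVec, one_mulVec]
  exact ⟨l, fun e0 => hef.fst_ne_zero hF (suMat_injective g (by simp [e1, e0])), e1⟩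

theorem psu_min_isoPt {n : ℕ} (hn : 5 ≤ n) (hq : 3 ≤ q) :
    (∀ H : Subgroup (Cfsg.PSU n F q), H ≠ ⊤ → Nat.card (IsoPt n q F) ≤ H.index) ∧
      ∃ H : Subgroup (Cfsg.PSU n F q), H.index = Nat.card (IsoPt n q F) := by
  refine ⟨fun H hH => psu_bound hF (fun K hK => ?_) H hH, psu_point hF (by omega)⟩
  obtain ⟨m, rfl⟩ : ∃ m, n = m + 2 := ⟨n - 2, by omega⟩
  rcases target_all hF m (by omega) (fun m₀ h _ => by
    rcases h with rfl | rfl
    exacts [base_five hF hq, base_six hF hq]) K hK with h | ⟨h2, -⟩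
  · exact h
  · omega

end H37.SUMin
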