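import Cfsg.Agent.H37.SUFourMinLine
import Cfsg.Agent.H37.SUFourMinPlane
import Cfsg.Agent.H37.SUFourMinCount
import Cfsg.Agent.H37.SUMinLow4
import Cfsg.Agent.H37.SUMinPSU

/-!
The least index of a proper subgroup of a four-dimensional special unitary group.
-/

set_option autoImplicit false

namespace H37.U4Min

open Matrix Cfsg H50 H50.PointStab H50.RadFrame H37.SUMin

universe u

variable {F : Type u} [Field F] {q : ℕ}

local notation "V4" => (Fin (2 + 2) → F)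
local notation "hh" => hermForm (2 + 2) F q
local notation "G4" => SU (2 + 2) F q
local notation "Pt" => IsoPt (2 + 2) q F

variable [Fintype F] (hF : Fintype.card F = q ^ 2)
include hF

/-- The bound. -/
theorem index_lower {K : Subgroup (SU (2 + 2) F q)} (hK : K ≠ ⊤) :
    (q + 1) * (q ^ 3 + 1) ≤ K.index := by
  classical
  by_contra hlt
  rw [not_le] at hlt
  have hq := two_le hF
  have hsh : ∀ x : V4, K.relIndex (pst x) < (q + 1) * (q ^ 3 + 1) := fun x =>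
    lt_of_le_of_lt (relIndex_le_index hF K _) hlt
  have hT : (q + 1) * (q ^ 3 + 1) = q ^ 4 + q ^ 3 + q + 1 := by ring
  -- a transvection makes a centre
  have hnt : ∀ (p : V4) (β : F) (hp : hh p p = 0) (hβ : β + β ^ q = 0), p ≠ 0 → β ≠ 0 →
      tv hF p β hp hβ ∈ K → H51.StabMax.IsCtr K p := by
    intro p β hp hβ hp0 hβ0 hmem
    by_contra hc
    obtain ⟨f, hf⟩ := exists_hyp_partner hF hp0 hp
    have hW : wPart hF hf K = ⊥ := by
      rcases (noncentre_cases hF hf hc (hsh p)).1 with ⟨_, hl⟩ | ⟨_, _, hl⟩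
      exacts [hl.wbot, hl.wbot]
    have := tv_gam_mem hF hf hβ hmem
    rw [hW, AddSubgroup.mem_bot] at this
    exact hβ0 this
  have hline : ∀ (x y : V4) (h : IsHyp q x y) (v : V4), LineType hF h K v →
      ∃ p, p ≠ 0 ∧ hh p x = 0 ∧ H51.StabMax.IsCtr K p := fun x y h v hl => by
    obtain ⟨p, hp0, hpx, β, hp, hβ, hβ0, hmem⟩ := hl.exists_tv hF h
    exact ⟨p, hp0, hpx, hnt p β hp hβ hp0 hβ0 hmem⟩
  obtain ⟨x₀, y₀, h₀, hx₀⟩ := exists_noncentre hF (m := 2) le_rfl hK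
  -- there is a centre
  obtain ⟨c₀, hc₀0, hc₀⟩ : ∃ p : V4, p ≠ 0 ∧ H51.StabMax.IsCtr K p := by
    by_contra hno
    simp only [not_exists, not_and] at hno
    have hall : ∀ (p p' : V4) (hp : IsHyp q p p'), ¬ H51.StabMax.IsCtr K p →
        ∃ i j, PlaneType hF hp K i j := fun p p' hp hc => by
      rcases (noncentre_cases hF hp hc (hsh p)).1 with ⟨v, hl⟩ | h1
      · obtain ⟨z, hz0, -, hz⟩ := hline p p' hp v hl
        exact absurd hz (hno z hz0)
      · exact h1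
    by_cases hq3 : 3 ≤ q
    · obtain ⟨i, j, hpl⟩ := hall x₀ y₀ h₀ hx₀
      exact hpl.false_of_three hF h₀ hq3
    · exact plane_everywhere_false hF (by omega) hno
        (fun p β hp hβ hp0 hβ0 hmem => hno p hp0 (hnt p β hp hβ hp0 hβ0 hmem)) hall
  -- the points that are not centres form one orbit
  have hix₀ := (noncentre_cases hF h₀ hx₀ (hsh x₀)).2
  set C := {P : Pt | H51.StabMax.IsCtr K (rp P)} with hCdef
  have hmk : ∀ {v : V4} (hv : v ≠ 0) (hvv : hh v v = 0),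
      (IsoPt.mk v hv hvv : Pt) ∈ C ↔ H51.StabMax.IsCtr K v := fun {v} hv hvv => by
    obtain ⟨a, ha, e⟩ := rp_mk hv hvv
    show H51.StabMax.IsCtr K (rp _) ↔ _
    rw [e]
    refine ⟨fun hc => ?_, fun hc => H51.StabMax.ctr_smul hF hc a⟩
    have := H51.StabMax.ctr_smul hF hc a⁻¹
    rwa [inv_smul_smul₀ ha] at this
  set p₀ : Pt := IsoPt.mk x₀ (h₀.fst_ne_zero hF) h₀.1 with hp₀
  have horb : MulAction.orbit K p₀ = Cᶜ := by
    ext P
    obtain ⟨v, hv, hvv, rfl⟩ := P.exists_mk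
    constructor
    · rintro ⟨⟨g, hg⟩, e⟩ hmem
      obtain ⟨a, ha⟩ := smul_isoPt_eq.1 (show (g : G4) • p₀ = IsoPt.mk v hv hvv from e)
      have h1 := H51.StabMax.ctr_group (H51.StabMax.ctr_smul hF ((hmk hv hvv).1 hmem) a) (inv_mem hg)
      rw [ha, suMat_inv_mulVec] at h1
      exact hx₀ h1
    · intro hc
      have hc' : ¬ H51.StabMax.IsCtr K v := fun e => hc ((hmk hv hvv).2 e)
      obtain ⟨f, hf⟩ := exists_hyp_partner hF hv hvv
      by_contra hn
      have h1 := relIndex_add_le hF (m := 2) (by norm_num) K h₀ hf fun g hg a e =>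
        hn ⟨⟨g, hg⟩, smul_isoPt_eq.2 ⟨a, e.symm⟩⟩
      rw [hix₀, (noncentre_cases hF hf hc' (hsh v)).2] at h1
      have : q ≤ q ^ 3 := Nat.le_self_pow (by omega) q
      have : 1 ≤ q ^ 4 := Nat.one_le_pow _ _ (by omega)
      omega
  have hN : Nat.card Pt = (q ^ 2 + 1) * (q ^ 3 + 1) := card_isoPt_four hF
  have hkey := index_mul_orbit hF h₀ (by norm_num) K
  rw [horb, hix₀, hN] at hkey
  have hsum : C.ncard + (Cᶜ).ncard = (q ^ 2 + 1) * (q ^ 3 + 1) := by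
    rw [Set.ncard_add_ncard_compl, hN]
  have hC1 : 1 ≤ C.ncard :=
    (Set.ncard_pos (Set.toFinite _)).2 ⟨IsoPt.mk c₀ hc₀0 hc₀.1, (hmk hc₀0 hc₀.1).2 hc₀⟩
  have hbig : q ^ 4 + q ^ 3 < K.index := by
    by_contra hle
    have h1 : K.index * (Cᶜ).ncard < (q ^ 4 + q ^ 3) * ((q ^ 2 + 1) * (q ^ 3 + 1)) :=
      lt_of_le_of_lt (Nat.mul_le_mul_right _ (not_lt.1 hle)) (Nat.mul_lt_mul_of_pos_left (by omega)
        (Nat.add_pos_right _ (Nat.pow_pos (by omega))))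
    omega
  -- small fields
  by_cases hq4 : q < 4
  · have hdvd : K.index ∣ (q ^ 4 + q ^ 3) * ((q ^ 2 + 1) * (q ^ 3 + 1)) := Dvd.intro _ hkey
    obtain rfl | rfl : q = 2 ∨ q = 3 := by omega
    all_goals
      norm_num at hdvd hbig hlt
      interval_cases hi : K.index <;> omega
  have hq4' : 4 ≤ q := by omega
  -- few centres
  have hfew : C.ncard ≤ q ^ 2 := by
    by_contra hgt
    rw [not_le] at hgt
    have h1 : K.index ≤ q ^ 4 + q ^ 3 + q := by omega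
    have h2 := Nat.mul_le_mul_right (Cᶜ).ncard h1
    rw [hkey] at h2
    have h0 : 0 < q ^ 3 := Nat.pow_pos (by omega)
    have h2' : (q ^ 4 + q ^ 3) * (C.ncard + (Cᶜ).ncard) ≤
        (q ^ 4 + q ^ 3) * (Cᶜ).ncard + q * (Cᶜ).ncard := by
      rw [hsum]
      exact h2.trans_eq (add_mul _ _ _)
    rw [mul_add] at h2'
    have h3 : (q ^ 4 + q ^ 3) * C.ncard + q * C.ncard ≤ q * ((q ^ 2 + 1) * (q ^ 3 + 1)) := by
      rw [← hsum, mul_add q]; omega
    have h4 : (q ^ 4 + q ^ 3 + q) * (q ^ 2 + 1) ≤ (q ^ 4 + q ^ 3 + q) * C.ncard :=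
      Nat.mul_le_mul_left _ hgt
    have h5 : q * ((q ^ 2 + 1) * (q ^ 3 + 1)) < (q ^ 4 + q ^ 3 + q) * (q ^ 2 + 1) := by
      rw [show q * ((q ^ 2 + 1) * (q ^ 3 + 1)) = (q ^ 4 + q) * (q ^ 2 + 1) by ring]
      exact Nat.mul_lt_mul_of_pos_right (by omega) (by omega)
    rw [add_mul _ q C.ncard] at h4
    omega
  -- every other point is orthogonal to a centre
  have hcover : ∀ P ∈ Cᶜ, ∃ Z ∈ C, hh (rp P) (rp Z) = 0 := by
    intro P hP
    obtain ⟨f, hf⟩ := exists_hyp_partner hF (rp_ne P) (rp_iso hF P)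
    rcases (noncentre_cases hF hf hP (hsh _)).1 with ⟨v, hl⟩ | ⟨i, j, hl⟩
    · obtain ⟨z, hz0, hzP, hz⟩ := hline _ _ hf v hl
      refine ⟨IsoPt.mk z hz0 hz.1, (hmk hz0 hz.1).2 hz, ?_⟩
      obtain ⟨a, -, e⟩ := rp_mk hz0 hz.1
      rw [e, h_smul_right hF, (h_eq_zero_comm hF).1 hzP, mul_zero]
    · exact absurd (hl.false_of_three hF hf (by omega)) not_false
  let S : Pt → Set Pt := fun Z => {P : Pt | hh (rp P) (rp Z) = 0}
  have hS : ∀ Z, (S Z).ncard ≤ q ^ 3 + q ^ 2 + 1 := fun Z =>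
    card_perp_pts hF (rp_ne Z) (rp_iso hF Z)
  haveI : Fintype Pt := Fintype.ofFinite _
  have hcount : ∀ B : ℕ, (∀ Z ∈ C, (S Z \ C).ncard ≤ B) →
      (q ^ 2 + 1) * (q ^ 3 + 1) ≤ C.ncard + C.ncard * B := by
    intro B hB
    have h1 : Cᶜ.toFinset ⊆ C.toFinset.biUnion fun Z => (S Z \ C).toFinset := by
      intro P hP
      rw [Set.mem_toFinset] at hP
      obtain ⟨Z, hZ, hZP⟩ := hcover P hP
      rw [Finset.mem_biUnion]
      exact ⟨Z, Set.mem_toFinset.2 hZ, Set.mem_toFinset.2 ⟨hZP, hP⟩⟩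
    have h2 := (Finset.card_le_card h1).trans Finset.card_biUnion_le
    have h3 := h2.trans (Finset.sum_le_card_nsmul _ _ B fun Z hZ => by
      rw [← Set.ncard_eq_toFinset_card']; exact hB Z (Set.mem_toFinset.1 hZ))
    rw [← Set.ncard_eq_toFinset_card', ← Set.ncard_eq_toFinset_card', smul_eq_mul] at h3
    omega
  by_cases hperp : ∀ A ∈ C, ∀ B ∈ C, hh (rp A) (rp B) = 0
  · have h1 := hcount (q ^ 3 + q ^ 2 + 1 - C.ncard) fun Z hZ => by
      have hsub : C ⊆ S Z := fun A hA => hperp A hA Z hZ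
      rw [Set.ncard_diff hsub]
      exact Nat.sub_le_sub_right (hS Z) _
    obtain ⟨d, hd⟩ := Nat.exists_eq_add_of_le hfew
    obtain ⟨e, he⟩ := Nat.exists_eq_add_of_le (show C.ncard ≤ q ^ 3 + q ^ 2 + 1 by omega)
    rw [he, Nat.add_sub_cancel_left] at h1
    have hq23 : q ^ 2 < q ^ 3 + 1 := by
      have : q ^ 2 ≤ q ^ 3 := Nat.pow_le_pow_right (by omega) (by omega)
      omega
    have hde : q ^ 3 + 1 + d = e := by omega
    subst hde
    have e5 : (q ^ 2 + 1) * (q ^ 3 + 1) = q ^ 2 * (q ^ 3 + 1) + (q ^ 3 + 1) := by ring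
    have h6 : C.ncard + C.ncard * (q ^ 3 + 1 + d) ≤ q ^ 2 * (q ^ 3 + 2) := by
      rw [hd]
      have h7 : C.ncard * d ≤ (q ^ 3 + 2) * d := Nat.mul_le_mul_right _ (by omega)
      linarith [h7, show (C.ncard + d) * (q ^ 3 + 2) =
        C.ncard + C.ncard * (q ^ 3 + 1) + (q ^ 3 + 2) * d by ring,
        show C.ncard * (q ^ 3 + 1 + d) = C.ncard * (q ^ 3 + 1) + C.ncard * d by ring]
    have : q ^ 2 * (q ^ 3 + 2) = q ^ 2 * (q ^ 3 + 1) + q ^ 2 := by ring
    omega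
  simp only [not_forall] at hperp
  obtain ⟨A, hA, B, hB, hne⟩ := hperp
  have hne' : hh (rp A) (rp B) ≠ 0 := hne
  obtain ⟨t, ht⟩ : ∃ t : F, t ^ q * hh (rp A) (rp B) = 1 := ⟨((hh (rp A) (rp B))⁻¹) ^ q, by
    rw [pow_q_pow_q hF, inv_mul_cancel₀ hne']⟩
  have hvf : IsHyp q (rp A) (t • rp B) := ⟨rp_iso hF A, by
    rw [h_smul_left, h_smul_right hF, rp_iso hF B, mul_zero, mul_zero], by rw [h_smul_right hF, ht]⟩
  rcases centres_dichotomy hF hvf hA (H51.StabMax.ctr_smul hF hB t) with h1 | h1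
  · have h2 := hcount (q ^ 3 + q ^ 2 + 1) fun Z _ =>
      (Set.ncard_le_ncard Set.diff_subset (Set.toFinite _)).trans (hS Z)
    have h3 : (q ^ 2 + 1) * (q ^ 3 + 1) ≤ (2 * q + 2) * (q ^ 3 + q ^ 2 + 2) :=
      h2.trans (le_trans (le_of_eq (by ring)) (Nat.mul_le_mul_right _ h1))
    ring_nf at h3
    have a1 : 4 * q ^ 4 ≤ q ^ 5 := by rw [pow_succ' q 4]; exact Nat.mul_le_mul_right _ hq4'
    have a2 : 4 * q ^ 3 ≤ q ^ 4 := by rw [pow_succ' q 3]; exact Nat.mul_le_mul_right _ hq4'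
    have a3 : 4 * q ^ 2 ≤ q ^ 3 := by rw [pow_succ' q 2]; exact Nat.mul_le_mul_right _ hq4'
    have a4 : 4 * q ≤ q ^ 2 := by rw [pow_two]; exact Nat.mul_le_mul_right _ hq4'
    omega
  · exact absurd (show q ^ 2 + 1 ≤ C.ncard from h1) (by omega)

/-- The stabiliser of a totally isotropic line. -/
theorem exists_line_stab : ∃ H : Subgroup (SU (2 + 2) F q),
    Subgroup.center (SU (2 + 2) F q) ≤ H ∧ H.index = (q + 1) * (q ^ 3 + 1) := by
  classical
  have hq := two_le hF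
  obtain ⟨x, y, h⟩ := exists_hyp (F := F) hF (n := 2 + 2) (by norm_num)
  obtain ⟨v, g, hvg, hv, -⟩ := exists_compl_pair hF h
  obtain ⟨hvx, hvy⟩ := mem_pperp.1 hv
  have hxv := (h_eq_zero_comm hF).1 hvx
  have hli : LinearIndependent F ![x, v] := by
    rw [LinearIndependent.pair_iff]
    intro s t e
    have e1 := congrArg (fun w => hh w y) e
    simp [h_add_left, h_smul_left, h.2.2, hvy, h_zero_left] at e1
    rw [e1, zero_smul, zero_add] at e
    exact ⟨e1, (smul_eq_zero.1 e).resolve_right (hvg.fst_ne_zero hF)⟩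
  let fr : TIFrame (2 + 2) q 2 F := ⟨![x, v], hli, fun a b => by
    fin_cases a <;> fin_cases b <;> simp [h.1, hvg.1, hvx, hxv]⟩
  let W : TISpace (2 + 2) q 2 F := ⟨Submodule.span F (Set.range fr.1),
    by rw [finrank_span_eq_card fr.2.1, Fintype.card_fin],
    fun a ha b hb => by
      have ha' : ∀ i, hh a (fr.1 i) = 0 := fun i =>
        LinearMap.eqOn_span (f := hLeft (2 + 2) q (fr.1 i)) (g := 0)
          (by rintro _ ⟨j, rfl⟩; exact fr.2.2 j i) ha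
      rw [h_eq_zero_comm hF]
      exact LinearMap.eqOn_span (f := hLeft (2 + 2) q a) (g := 0)
        (by rintro _ ⟨j, rfl⟩; exact (h_eq_zero_comm hF).1 (ha' j)) hb⟩
  refine ⟨stabSU (2 + 2) q W.1, fun z hz => ?_, ?_⟩
  · obtain ⟨l, hl⟩ := (mem_center_iff_scalar hF (by norm_num)).1 hz
    intro w
    show w ∈ W.1 ↔ suMat z *ᵥ w ∈ W.1
    rw [hl, smul_mulVec, one_mulVec]
    refine ⟨W.1.smul_mem l, fun hw => ?_⟩
    have hl0 : l ≠ 0 := fun e => by
      have := suMat_inv_mulVec z x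
      rw [hl, e, zero_smul, zero_mulVec, mulVec_zero] at this
      exact h.fst_ne_zero hF this.symm
    have := W.1.smul_mem l⁻¹ hw
    rwa [inv_smul_smul₀ hl0] at this
  have h1 := card_stabSU_mul hF (by norm_num) W
  rw [card_stabGU hF (by norm_num) W] at h1
  have hG0 : Nat.card (GU (2 + 2 - 2 * 2) F q) = 1 := by
    rw [Nat.card_eq_one_iff_unique]
    exact ⟨⟨fun a b => Subtype.ext (Units.ext (Matrix.ext fun i => Fin.elim0 i))⟩, ⟨1⟩⟩
  rw [hG0, Fin.prod_univ_two, Fin.val_zero, Fin.val_one, pow_zero, pow_one] at h1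
  have h2 := (stabSU (2 + 2) q W.1).card_mul_index
  rw [show Nat.card (SU (2 + 2) F q) = q ^ 6 * (q + 1) * (q - 1) * (q ^ 3 + 1) * (q ^ 4 - 1) from
    H50.SCBase.card_SU_four hF] at h2
  have e1 : (q ^ 2) ^ 2 - 1 = q ^ 4 - 1 := by rw [← pow_mul]
  have e2 : (q ^ 2) ^ 2 - q ^ 2 = q ^ 2 * ((q + 1) * (q - 1)) := by
    rw [show (q + 1) * (q - 1) = q ^ 2 - 1 by rw [← Nat.sq_sub_sq, one_pow], Nat.mul_sub, mul_one,
      ← pow_two]
  rw [e1, e2] at h1
  have hpos : 0 < Nat.card (stabSU (2 + 2) q W.1) * (q + 1) :=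
    Nat.mul_pos Nat.card_pos (by omega)
  refine Nat.eq_of_mul_eq_mul_left hpos ?_
  linear_combination (q + 1) * h2 - ((q + 1) * (q ^ 3 + 1)) * h1

/-- The least index in the projective group. -/
theorem psu_four :
    (∀ H : Subgroup (Cfsg.PSU 4 F q), H ≠ ⊤ → (q + 1) * (q ^ 3 + 1) ≤ H.index) ∧
      ∃ H : Subgroup (Cfsg.PSU 4 F q), H.index = (q + 1) * (q ^ 3 + 1) := by
  refine ⟨fun H hH => psu_bound hF (n := 4) (fun K hK => index_lower hF hK) H hH, ?_⟩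
  obtain ⟨K, hc, hi⟩ := exists_line_stab hF
  obtain ⟨H, hH⟩ := psu_index hF (n := 4) K hc
  exact ⟨H, hH.trans hi⟩

end H37.U4Min
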