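import Cfsg.Agent.H37.SUFourMinCases

/-!
Four-dimensional special unitary groups: when the index is small, a point that is not a centre is of
line type or of plane type.
-/

set_option autoImplicit false

namespace H37.U4Min

open Matrix Cfsg H50 H50.PointStab H50.RadFrame H37.SUMin

universe u

variable {F : Type u} [Field F] {q : ℕ}

local notation "V4" => (Fin (2 + 2) → F)
local notation "hh" => hermForm (2 + 2) F q
local notation "G4" => SU (2 + 2) F q

/-- Roots of `a⁴ = 1`. -/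
theorem card_fourth_le [Finite F] :
    Nat.card {a : F // a ^ 4 = 1} ≤ 4 ∧ ((2 : F) = 0 → Nat.card {a : F // a ^ 4 = 1} ≤ 1) := by
  classical
  haveI : Fintype F := Fintype.ofFinite F
  refine ⟨?_, fun h2 => ?_⟩
  · rw [Nat.card_eq_fintype_card, Fintype.card_subtype]
    have hle : (Finset.univ.filter fun a : F => a ^ 4 = 1).val ≤ Polynomial.nthRoots 4 (1 : F) := by
      refine (Multiset.le_iff_subset (Finset.nodup _)).2 fun a ha => ?_
      rw [Polynomial.mem_nthRoots (by norm_num)]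
      exact (Finset.mem_filter.1 ha).2
    exact (Multiset.card_le_card hle).trans (Polynomial.card_nthRoots 4 (1 : F))
  · rw [← Nat.card_unique (α := Unit)]
    refine Nat.card_le_card_of_injective (fun _ => ()) fun a b _ => Subtype.ext ?_
    have key : ∀ c : {a : F // a ^ 4 = 1}, (c : F) = 1 := fun c => by
      have e : ((c : F) - 1) ^ 4 = 0 := by
        linear_combination c.2 + (-2 * (c : F) ^ 3 + 3 * (c : F) ^ 2 - 2 * c + 1) * h2
      exact sub_eq_zero.1 ((pow_eq_zero_iff (by norm_num)).1 e)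
    rw [key a, key b]

variable [Fintype F] (hF : Fintype.card F = q ^ 2)
include hF

section Pair

variable {x y : Fin (2 + 2) → F} (h : IsHyp q x y) {K : Subgroup (SU (2 + 2) F q)}
include h

/-- All of the part in the radical on one line. -/
theorem line_case (hW : ∃ t : F, t + t ^ q = 0 ∧ t ∉ wPart hF h K)
    (hsh : K.relIndex (pst x) < (q + 1) * (q ^ 3 + 1)) {v f : V4} (hf : IsHyp q v f)
    (hfP : f ∈ pperp q x y) (hv : v ∈ iPart hF h K) (hall : ∀ w ∈ iPart hF h K, w = hh w f • v) :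
    LineType hF h K v ∧ K.relIndex (pst x) = q ^ 4 + q ^ 3 := by
  classical
  have hq := two_le hF
  have hq4 : 4 ≤ q ^ 2 := Nat.pow_le_pow_left hq 2
  have hv0 := hf.fst_ne_zero hF
  have hvP := iPart_le_pperp hF h hv
  obtain ⟨hLW, hLW'⟩ := scalar_card hF h (by norm_num) hW
  have hI := card_iPart_sq hF h (by norm_num) hW
  have hform := card_formula hF h (K := K)
  have hvf1 : hh v f ≠ 0 := by rw [hf.2.2]; exact one_ne_zero
  have hD : hh v v * hh f f - hh v f * hh f v ≠ 0 := by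
    rw [hf.1, hf.2.2, (hf.symm hF).2.2, zero_mul, one_mul, zero_sub, neg_ne_zero]; exact one_ne_zero
  -- the shape of the Levi part
  have hshape : ∀ l ∈ gPart hF h K, ∃ nu mu : F, nu ≠ 0 ∧ nu ^ q = nu ∧ mu + mu ^ q = 0 ∧
      suMat l *ᵥ v = nu⁻¹ • v ∧ suMat l *ᵥ f = mu • v + nu • f := by
    intro l hl
    obtain ⟨lam, hlv⟩ : ∃ lam : F, suMat l *ᵥ v = lam • v := ⟨_, hall _ (gPart_iPart hF h hl hv)⟩
    have hlf := decomp_iso hF h hvP hfP hf.1 hf.2.1 hvf1
      (lev_pperp hF h (stab2_le_lev hF h hl.1) hfP)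
    rw [hf.2.2, (hf.symm hF).2.2, div_one, div_one] at hlf
    set mu := hh (suMat l *ᵥ f) f
    set nu := hh (suMat l *ᵥ f) v
    have e := det_quad hF h hvP hfP hD l (a := 1) (b := 1) (d11 := lam) (d21 := 0)
      (by rw [one_smul]; exact hl.1.1) (by rw [one_smul]; exact hl.1.2)
      (by rw [zero_smul, add_zero]; exact hlv) hlf
    rw [one_mul, one_mul, mul_zero, sub_zero] at e
    have e1 := suMat_h l v f
    rw [hlv, hlf] at e1
    simp [h_add_right hF, h_smul_left, h_smul_right hF, hf.1, hf.2.2] at e1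
    have hnu : nu ≠ 0 := fun e0 => by rw [e0, mul_zero] at e; exact zero_ne_one e
    have hlam : lam ≠ 0 := fun e0 => by rw [e0, zero_mul] at e; exact zero_ne_one e
    have hnuq : nu ^ q = nu := mul_left_cancel₀ hlam (by linear_combination e1 - e)
    have e2 := suMat_h l f f
    rw [hlf] at e2
    simp [h_add_left, h_add_right hF, h_smul_left, h_smul_right hF, hf.1, hf.2.1, hf.2.2,
      (hf.symm hF).2.2, hnuq] at e2
    refine ⟨nu, mu, hnu, hnuq, ?_, ?_, hlf⟩
    · exact mul_left_cancel₀ hnu (by linear_combination e2)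
    · rw [hlv, eq_inv_of_mul_eq_one_left e]
  choose nu mu hnu hnuq hmu hlv hlf using hshape
  let A := {r : {r : F // r ^ q = r} // r.1 ≠ 0}
  have hA : Nat.card A = q - 1 := by
    haveI := Fintype.ofFinite {r : F // r ^ q = r}
    have h1 : Nat.card A = Nat.card {r : {r : F // r ^ q = r} //
        r ≠ ⟨0, zero_pow (q_ne_zero hF)⟩} :=
      Nat.card_congr (Equiv.subtypeEquivRight fun r => by simp [Subtype.ext_iff])
    rw [h1, Nat.card_eq_fintype_card, Fintype.card_subtype_compl, Fintype.card_subtype_eq,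
      ← Nat.card_eq_fintype_card, card_fixed hF]
  let Φ : gPart hF h K → A × (traceHom hF).ker := fun l =>
    (⟨⟨nu l l.2, hnuq l l.2⟩, hnu l l.2⟩,
      ⟨mu l l.2, by rw [AddMonoidHom.mem_ker, traceHom_apply]; exact hmu l l.2⟩)
  have hdet : ∀ l l' : gPart hF h K, suMat (l : G4) *ᵥ v = suMat (l' : G4) *ᵥ v →
      suMat (l : G4) *ᵥ f = suMat (l' : G4) *ᵥ f → l = l' := fun l l' e1 e2 =>
    Subtype.ext (lev_ext hF h (by rw [l.2.1.1, l'.2.1.1]) (by rw [l.2.1.2, l'.2.1.2]) fun w hw => by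
      rw [decomp_iso hF h hvP hfP hf.1 hf.2.1 hvf1 hw]
      simp only [mulVec_add, mulVec_smul, e1, e2])
  have hinj : Function.Injective Φ := fun l l' e => by
    obtain ⟨e1, e2⟩ := Prod.ext_iff.1 e
    have e1' : nu l l.2 = nu l' l'.2 := congrArg (fun a : A => a.1.1) e1
    have e2' : mu l l.2 = mu l' l'.2 := congrArg Subtype.val e2
    exact hdet l l' (by rw [hlv l l.2, hlv l' l'.2, e1']) (by rw [hlf l l.2, hlf l' l'.2, e1', e2'])
  have hG : Nat.card (gPart hF h K) ≤ q * (q - 1) := by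
    refine (Nat.card_le_card_of_injective Φ hinj).trans ?_
    rw [Nat.card_prod, hA, card_trace_ker hF, mul_comm]
  have hWb : wPart hF h K = ⊥ := by
    by_contra hWb
    have hWL := hLW' hWb
    have hT : (q + 1) * (q ^ 3 + 1) = q ^ 4 + q ^ 3 + q + 1 := by ring
    have hpos : 0 < (q ^ 2 - 1) * (q * (q ^ 2 - 1) * q ^ 5) := Nat.mul_pos (by omega)
      (Nat.mul_pos (Nat.mul_pos (by omega) (by omega)) (Nat.pow_pos (by omega)))
    rw [← hform] at hpos
    have hr0 : 0 < q - 2 := by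
      by_contra hr0
      rw [show q - 2 = 0 by omega, mul_zero, Nat.le_zero] at hWL
      rw [show Nat.card (eSet x y K) * (Nat.card (gPart hF h K) *
        (Nat.card (iPart hF h K) * Nat.card (wPart hF h K))) =
        (Nat.card (wPart hF h K) * Nat.card (eSet x y K)) *
        (Nat.card (gPart hF h K) * Nat.card (iPart hF h K)) by ring, hWL, zero_mul, mul_zero] at hpos
      omega
    refine ix_lt_false (D := (q + 1) * (q - 2) * (q * (q - 1)) * q ^ 2)
      (B := (q ^ 2 - 1) * (q * (q ^ 2 - 1) * q ^ 5)) ?_ hsh ?_ ?_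
    · exact Nat.mul_pos (Nat.mul_pos (Nat.mul_pos (by omega) hr0) (Nat.mul_pos (by omega) (by omega)))
        (by omega)
    · rw [← hform]
      refine Nat.mul_le_mul_left _ ?_
      calc _ = (Nat.card (wPart hF h K) * Nat.card (eSet x y K)) * Nat.card (gPart hF h K) *
            Nat.card (iPart hF h K) := by ring
        _ ≤ _ := Nat.mul_le_mul (Nat.mul_le_mul hWL hG) hI
    · obtain ⟨r, hr⟩ : ∃ r, q = r + 2 := ⟨q - 2, by omega⟩
      calc ((q + 1) * (q ^ 3 + 1) - 1) * ((q + 1) * (q - 2) * (q * (q - 1)) * q ^ 2)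
          = (((q + 1) * (q ^ 3 + 1) - 1) * (q - 2)) * ((q + 1) * (q - 1) * q ^ 3) := by ring
        _ < q ^ 3 * ((q + 1) * (q - 1)) * ((q + 1) * (q - 1) * q ^ 3) := by
            refine Nat.mul_lt_mul_of_pos_right ?_
              (Nat.mul_pos (Nat.mul_pos (by omega) (by omega)) (Nat.pow_pos (by omega)))
            rw [hT, Nat.add_sub_cancel, hr, Nat.add_sub_cancel, show r + 2 - 1 = r + 1 from rfl]
            ring_nf; omega
        _ = (q ^ 2 - 1) * (q * (q ^ 2 - 1) * q ^ 5) := by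
            rw [show q ^ 2 - 1 = (q + 1) * (q - 1) by rw [← Nat.sq_sub_sq, one_pow]]; ring
  rw [hWb, AddSubgroup.card_bot, mul_one] at hform
  rw [hWb, AddSubgroup.card_bot, one_mul] at hLW
  obtain ⟨hq2, hq13⟩ : q ^ 2 - 1 ≤ q ^ 3 ∧ q * (q - 1) ≤ q ^ 3 := by
    have h2 : q ^ 2 ≤ q ^ 3 := Nat.pow_le_pow_right (by omega) (by omega)
    have h1 : q * (q - 1) ≤ q * q := Nat.mul_le_mul_left _ (by omega)
    rw [← pow_two] at h1
    omega
  obtain ⟨-, hGe, hIe, hix⟩ := tight hq hq2 hq13 (Nat.pow_le_pow_right (by omega) (by omega)) hLW hG hI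
    (Nat.mul_pos (Nat.mul_pos (by omega) (Nat.mul_pos (by omega) (by omega))) (by omega))
    (ix := K.relIndex (pst x)) (by
      rw [mul_assoc (Nat.card (eSet x y K)), hform,
        show q ^ 2 - 1 = (q + 1) * (q - 1) by rw [← Nat.sq_sub_sq, one_pow]]
      ring) hsh
  refine ⟨⟨hWb, hv0, hf.1, hvP, fun c => ?_, fun β hβ => ?_⟩, hix⟩
  · have hb : Function.Bijective (fun w : iPart hF h K => hh (w : V4) f) := by
      rw [Nat.bijective_iff_injective_and_card]
      refine ⟨fun w w' e => Subtype.ext ?_, by rw [hIe, Nat.card_eq_fintype_card, hF]⟩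
      rw [hall w w.2, hall w' w'.2, show hh (w : V4) f = hh (w' : V4) f from e]
    obtain ⟨⟨w, hw⟩, hc⟩ := hb.2 c
    rw [← hc, ← hall w hw]
    exact hw
  · have hΦ : Function.Bijective Φ := by
      rw [Nat.bijective_iff_injective_and_card]
      exact ⟨hinj, by rw [hGe, Nat.card_prod, hA, card_trace_ker hF, mul_comm]⟩
    obtain ⟨⟨l, hl⟩, hΦl⟩ := hΦ.2 (⟨⟨1, one_pow q⟩, one_ne_zero⟩,
      ⟨β, by rw [AddMonoidHom.mem_ker, traceHom_apply]; exact hβ⟩)
    obtain ⟨e1, e2⟩ := Prod.ext_iff.1 hΦl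
    have e1' : nu l hl = 1 := congrArg (fun a : A => a.1.1) e1
    have e2' : mu l hl = β := congrArg Subtype.val e2
    have hlP := mem_pperp.1 hvP
    convert hl using 1
    refine lev_ext hF h ?_ ?_ fun w hw => ?_
    · rw [hl.1.1, tv_mulVec, (h_eq_zero_comm hF).1 hlP.1, mul_zero, zero_smul, add_zero]
    · rw [hl.1.2, tv_mulVec, (h_eq_zero_comm hF).1 hlP.2, mul_zero, zero_smul, add_zero]
    · rw [decomp_iso hF h hvP hfP hf.1 hf.2.1 hvf1 hw, mulVec_add, mulVec_add, mulVec_smul,
        mulVec_smul, mulVec_smul, mulVec_smul, hlv l hl, hlf l hl, e1', e2', inv_one, one_smul,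
        one_smul, tv_mulVec, tv_mulVec, hf.1, (hf.symm hF).2.2, mul_zero, mul_one, zero_smul,
        add_zero, add_comm f]

/-- Two vectors of the part in the radical that are not orthogonal. -/
theorem plane_case (hW : ∃ t : F, t + t ^ q = 0 ∧ t ∉ wPart hF h K)
    (hsh : K.relIndex (pst x) < (q + 1) * (q ^ 3 + 1))
    (hiso : ∀ w ∈ iPart hF h K, hh w w = 0) {i j : V4} (hi : i ∈ iPart hF h K)
    (hj : j ∈ iPart hF h K) (hij : hh i j ≠ 0) :
    (∃ i' j', PlaneType hF h K i' j') ∧ K.relIndex (pst x) = q ^ 4 + q ^ 3 := by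
  classical
  have hq := two_le hF
  have hq4 : 4 ≤ q ^ 2 := Nat.pow_le_pow_left hq 2
  have hiP := iPart_le_pperp hF h hi
  have hjP := iPart_le_pperp hF h hj
  have hii := hiso i hi
  have hjj := hiso j hj
  set τ := hh i j with hτdef
  have hτ : τ ^ q = -τ := by
    have := hiso _ (add_mem hi hj)
    rw [h_add_left, h_add_right hF, h_add_right hF, hii, hjj, zero_add, add_zero, h_symm hF i j] at this
    linear_combination this
  have hji : hh j i = -τ := by rw [h_symm hF i j, ← hτdef, hτ]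
  have hD : hh i i * hh j j - hh i j * hh j i ≠ 0 := by
    rw [hii, hji, zero_mul, zero_sub, neg_ne_zero]; exact mul_ne_zero hij (neg_ne_zero.2 hij)
  -- real coordinates
  have honly : ∀ w ∈ iPart hF h K, ∃ a b : F, a ^ q = a ∧ b ^ q = b ∧ w = a • i + b • j := by
    intro w hw
    have e := decomp_iso hF h hiP hjP hii hjj hij (iPart_le_pperp hF h hw)
    rw [← hτdef, hji] at e
    have t1 := hiso _ (add_mem hw hj)
    have t2 := hiso _ (add_mem hw hi)
    rw [h_add_left, h_add_right hF, h_add_right hF, hiso w hw, hjj, zero_add, add_zero, h_symm hF w j]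
      at t1
    rw [h_add_left, h_add_right hF, h_add_right hF, hiso w hw, hii, zero_add, add_zero, h_symm hF w i]
      at t2
    refine ⟨_, _, ?_, ?_, e⟩
    · rw [div_pow, hτ, show hh w j ^ q = -hh w j by linear_combination t1, neg_div_neg_eq]
    · rw [div_pow, neg_pow_q hF, hτ, show hh w i ^ q = -hh w i by linear_combination t2, neg_div_neg_eq]
  choose ca cb hca hcb hc using honly
  -- the scalars
  have hsq : ∀ a ∈ eSet x y K, a ≠ 0 ∧ (a ^ q) ^ 2 = a ^ 2 := by
    rintro a ⟨g, ⟨hgK, hgP⟩, rfl⟩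
    obtain ⟨u, hu, t, ht, rfl⟩ := exists_decomp hF h (by norm_num) hgP
    have hea : eig q x y (u * t) = eig q x y t := by
      rw [eig_mul h (stab_le_pst x (radU_le_stab x hu)) ht.1, eig_eq_one h (radU_le_stab x hu), one_mul]
    rw [hea]
    obtain ⟨ha0, htx, hty⟩ := lev_spec hF h ht
    set a := eig q x y t
    refine ⟨ha0, ?_⟩
    have hmem : ∀ w ∈ iPart hF h K, a ^ q • suMat t *ᵥ w ∈ iPart hF h K := by
      rintro _ ⟨v, ⟨hvK, hv⟩, rfl⟩
      obtain ⟨h1, h2⟩ := pr_conj hF h hu ht hv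
      exact ⟨_, ⟨mul_mem (mul_mem hgK hvK) (inv_mem hgK), h1⟩, h2⟩
    have m1 := hmem i hi
    have m2 := hmem j hj
    have haq : a ^ q ≠ 0 := pow_ne_zero _ ha0
    set p1 := ca _ m1
    set r1 := cb _ m1
    set p2 := ca _ m2
    set r2 := cb _ m2
    have hti : suMat t *ᵥ i = ((a ^ q)⁻¹ * p1) • i + ((a ^ q)⁻¹ * r1) • j := by
      rw [mul_smul, mul_smul, ← smul_add, ← hc _ m1, inv_smul_smul₀ haq]
    have htj : suMat t *ᵥ j = ((a ^ q)⁻¹ * p2) • i + ((a ^ q)⁻¹ * r2) • j := by
      rw [mul_smul, mul_smul, ← smul_add, ← hc _ m2, inv_smul_smul₀ haq]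
    have e1 := det_quad hF h hiP hjP hD t htx hty hti htj
    have e2 : hh (a ^ q • suMat t *ᵥ i) (a ^ q • suMat t *ᵥ j) = a ^ q * a * τ := by
      rw [h_smul_left, h_smul_right hF, suMat_h, pow_q_pow_q hF, ← hτdef, mul_assoc]
    rw [hc _ m1, hc _ m2] at e2
    simp only [h_add_left, h_add_right hF, h_smul_left, h_smul_right hF, hii, hjj, hji, ← hτdef,
      hca _ m2, hcb _ m2] at e2
    have e3 : p1 * r2 - p2 * r1 = a ^ q * a := mul_right_cancel₀ hij (by linear_combination e2)
    field_simp at e1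
    have e4 : a * (a ^ q * a) = (a ^ q) ^ 3 := by
      rw [← e3]; linear_combination e1
    exact mul_left_cancel₀ haq (by linear_combination -e4)
  have hdiv : ∀ e ∈ eSet x y K, ∀ e' ∈ eSet x y K, e / e' ∈ eSet x y K := by
    rintro _ ⟨g, hg, rfl⟩ _ ⟨g', hg', rfl⟩
    refine ⟨g * g'⁻¹, mul_mem hg (inv_mem hg'), ?_⟩
    have h1 := eig_mul h (mul_mem hg.2 (inv_mem hg'.2)) hg'.2
    rw [inv_mul_cancel_right] at h1
    rw [eq_div_iff (eig_spec h hg'.2).1, ← h1]
  obtain ⟨tW, htW, htnW⟩ := id hW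
  -- the scalars times the centre
  let R := (fun a : eSet x y K => (a : F) ^ (q + 1)) '' Set.univ
  set c4 := Nat.card {a : F // a ^ 4 = 1} with hc4
  have hLR : Nat.card (eSet x y K) ≤ Nat.card R * c4 := by
    have hsel : ∀ r : R, ∃ a : eSet x y K, (a : F) ^ (q + 1) = r := fun r => by
      obtain ⟨a, -, ha⟩ := r.2; exact ⟨a, ha⟩
    choose sel hsel using hsel
    rw [hc4, ← Nat.card_prod]
    refine Nat.card_le_card_of_injective (fun a : eSet x y K =>
      ((⟨(a : F) ^ (q + 1), a, trivial, rfl⟩ : R),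
        (⟨(a : F) / (sel ⟨(a : F) ^ (q + 1), a, trivial, rfl⟩ : F), ?_⟩ : {b : F // b ^ 4 = 1}))) ?_
    · set s := sel ⟨(a : F) ^ (q + 1), a, trivial, rfl⟩
      have hs : (s : F) ^ (q + 1) = (a : F) ^ (q + 1) := hsel _
      have hb := hsq _ (hdiv _ a.2 _ s.2)
      have hN : ((a : F) / s) ^ (q + 1) = 1 := by
        rw [div_pow, hs, div_self (pow_ne_zero _ (hsq _ a.2).1)]
      have h5 : ((((a : F) / s) ^ q) * ((a : F) / s)) ^ 2 = 1 := by rw [← pow_succ, hN, one_pow]
      rw [mul_pow, hb.2] at h5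
      rw [← h5]; ring
    · intro a a' e
      obtain ⟨e1, e2⟩ := Prod.ext_iff.1 e
      have e2' := congrArg Subtype.val e2
      simp only [show (⟨(a : F) ^ (q + 1), a, trivial, rfl⟩ : R) = ⟨(a' : F) ^ (q + 1), a', trivial, rfl⟩
        from e1] at e2'
      exact Subtype.ext ((div_left_inj' (hsq _ (sel _).2).1).1 e2')
  have hRW : Nat.card R * Nat.card (wPart hF h K) + Nat.card (wPart hF h K) ≤ q := by
    have hR : ∀ r : Option R, (r.elim (0 : F) Subtype.val) ∈ U3Min.mult (wPart hF h K) ∧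
        (r.elim (0 : F) Subtype.val) ^ q = r.elim (0 : F) Subtype.val := by
      rintro (_ | ⟨_, a, -, rfl⟩)
      · exact ⟨Subfield.zero_mem _, zero_pow (q_ne_zero hF)⟩
      · exact ⟨fun w hw => (eig_norm_mul_mem hF h (by norm_num) a.2 hw).2, norm_fixed hF _⟩
    refine le_trans ?_ (card_trace_ker hF).le
    rw [show Nat.card R * Nat.card (wPart hF h K) + Nat.card (wPart hF h K) =
      Nat.card (Option R × wPart hF h K) by rw [Nat.card_prod, Finite.card_option, add_mul, one_mul]]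
    refine Nat.card_le_card_of_injective (fun p => (⟨p.1.elim 0 Subtype.val * tW + p.2.1, ?_⟩ :
      (traceHom hF).ker)) ?_
    · have h1 := wPart_le_trace hF h p.2.2
      rw [AddMonoidHom.mem_ker, traceHom_apply, add_pow_q hF, mul_pow, (hR p.1).2]
      linear_combination h1 + (p.1.elim (0 : F) Subtype.val) * htW
    · rintro ⟨r, w, hw⟩ ⟨r', w', hw'⟩ e
      have e' : r.elim (0 : F) Subtype.val * tW + w = r'.elim (0 : F) Subtype.val * tW + w' :=
        congrArg Subtype.val e
      have hrr : r.elim (0 : F) Subtype.val = r'.elim (0 : F) Subtype.val := by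
        by_contra hne
        have hd := (U3Min.mult (wPart hF h K)).inv_mem
          ((U3Min.mult (wPart hF h K)).sub_mem (hR r).1 (hR r').1)
        have h2 := hd (w' - w) ((wPart hF h K).sub_mem hw' hw)
        rw [show w' - w = (r.elim (0 : F) Subtype.val - r'.elim (0 : F) Subtype.val) * tW by
          linear_combination -e', inv_mul_cancel_left₀ (sub_ne_zero.2 hne)] at h2
        exact htnW h2
      have hr : r = r' := by
        have hne : ∀ r : R, (r : F) ≠ 0 := by
          rintro ⟨_, a, -, rfl⟩; exact pow_ne_zero _ (hsq _ a.2).1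
        rcases r with _ | r <;> rcases r' with _ | r'
        · rfl
        · exact absurd hrr.symm (hne r')
        · exact absurd hrr (hne r)
        · exact congrArg some (Subtype.ext hrr)
      subst hr
      exact Prod.ext rfl (Subtype.ext (add_left_cancel e'))
  -- transvections give a full real form
  have hfull : gPart hF h K = stab2 x y →
      ∀ a b : F, a ^ q = a → b ^ q = b → a • i + b • j ∈ iPart hF h K := by
    intro hG a b ha hb
    have key : ∀ u ∈ iPart hF h K, ∀ v ∈ iPart hF h K, hh v u ≠ 0 → hh v u ^ q = -hh v u →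
        ∀ c : F, c ^ q = c → c • u ∈ iPart hF h K := by
      intro u hu v hv hne hne' c hc'
      have hd : c / hh v u + (c / hh v u) ^ q = 0 := by
        rw [div_pow, hc', hne', div_neg, add_neg_cancel]
      obtain ⟨hux, huy⟩ := mem_pperp.1 (iPart_le_pperp hF h hu)
      have ht : tv hF u (c / hh v u) (hiso u hu) hd ∈ gPart hF h K := by
        rw [hG, mem_stab2]
        constructor <;>
          simp [tv_mulVec, (h_eq_zero_comm hF).1 hux, (h_eq_zero_comm hF).1 huy]
      have := sub_mem (gPart_iPart hF h ht hv) hv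
      rwa [tv_mulVec, add_sub_cancel_left, div_mul_cancel₀ _ hne] at this
    refine add_mem (key i hi j hj ?_ ?_ a ha) (key j hj i hi hij hτ b hb)
    · rw [hji]; exact neg_ne_zero.2 hij
    · rw [hji, neg_pow_q hF, hτ]
  have hT : (q + 1) * (q ^ 3 + 1) = q ^ 4 + q ^ 3 + q + 1 := by ring
  have hI := card_iPart_sq hF h (by norm_num) hW
  have hform := card_formula hF h (K := K)
  have hG := gPart_card_le hF h (K := K)
  have hS : Nat.card (stab2 (q := q) x y) = q * (q ^ 2 - 1) := by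
    rw [card_stab2 hF h (by norm_num), H50.SCBase.card_SU_two hF,
      show q ^ 2 - 1 = (q + 1) * (q - 1) by rw [← Nat.sq_sub_sq, one_pow], mul_assoc]
  obtain ⟨hc44, hc41⟩ := card_fourth_le (F := F)
  have hLW : Nat.card (eSet x y K) * Nat.card (wPart hF h K) ≤
      c4 * (q - Nat.card (wPart hF h K)) :=
    calc _ ≤ Nat.card R * c4 * Nat.card (wPart hF h K) := Nat.mul_le_mul_right _ hLR
      _ = c4 * (Nat.card R * Nat.card (wPart hF h K)) := by ring
      _ ≤ _ := Nat.mul_le_mul_left _ (by omega)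
  by_cases h2 : (2 : F) = 0
  swap
  · exfalso
    have hW1 : 1 ≤ Nat.card (wPart hF h K) := Nat.card_pos
    have hno : ¬ ∀ a b : F, a ^ q = a → b ^ q = b → a • i + b • j ∈ iPart hF h K := by
      intro hall
      refine htnW ?_
      have hr : (tW / (2 * τ)) ^ q = tW / (2 * τ) := by
        have h2' : (2 : F) ^ q = 2 := by
          rw [show (2 : F) = 1 + 1 by norm_num, add_pow_q hF, one_pow]
        rw [div_pow, mul_pow, h2', hτ, show tW ^ q = -tW by linear_combination htW, mul_neg,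
          neg_div_neg_eq]
      have h1 := iPart_skew hF h (hall _ 0 hr (zero_pow (q_ne_zero hF))) hj
      rw [zero_smul, add_zero, skew, h_smul_left, h_smul_right hF, hr, hji, ← hτdef] at h1
      have e : tW / (2 * τ) * τ - tW / (2 * τ) * -τ = tW := by field_simp; ring
      rwa [e] at h1
    have hG2 : Nat.card (gPart hF h K) * 2 ≤ q * (q ^ 2 - 1) := by
      rw [← hS]
      have hle : gPart hF h K ≤ stab2 x y := fun l hl => hl.1
      obtain ⟨m, hm⟩ := Subgroup.card_dvd_of_le hle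
      have hm2 : 2 ≤ m := by
        by_contra hlt
        interval_cases m
        · rw [mul_zero] at hm; exact absurd hm Nat.card_pos.ne'
        · exact hno (hfull (Subgroup.eq_of_le_of_card_ge hle (by rw [hm, mul_one])))
      rw [hm]
      exact Nat.mul_le_mul_left _ hm2
    have hI3 : Nat.card (iPart hF h K) * 3 ≤ q ^ 2 := by
      have hlt : Nat.card (iPart hF h K) < q ^ 2 := by
        refine lt_of_le_of_ne hI fun e => hno fun a b ha hb => ?_
        have hb2 : Function.Bijective (fun w : iPart hF h K =>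
            ((⟨ca w w.2, hca w w.2⟩, ⟨cb w w.2, hcb w w.2⟩) : {r : F // r ^ q = r} × {r : F // r ^ q = r})) := by
          rw [Nat.bijective_iff_injective_and_card]
          refine ⟨fun w w' e' => Subtype.ext ?_, by rw [e, Nat.card_prod, card_fixed hF, pow_two]⟩
          obtain ⟨e1, e2⟩ := Prod.ext_iff.1 e'
          rw [hc w w.2, hc w' w'.2, show ca w w.2 = ca w' w'.2 from congrArg Subtype.val e1,
            show cb w w.2 = cb w' w'.2 from congrArg Subtype.val e2]
        obtain ⟨⟨w, hw⟩, hwe⟩ := hb2.2 (⟨a, ha⟩, ⟨b, hb⟩)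
        obtain ⟨e1, e2⟩ := Prod.ext_iff.1 hwe
        rw [← show ca w hw = a from congrArg Subtype.val e1,
          ← show cb w hw = b from congrArg Subtype.val e2, ← hc w hw]
        exact hw
      obtain ⟨p, k, hp, hqp⟩ := q_prime_pow hF
      have hp3 : 3 ≤ p := by
        by_contra hlt'
        obtain rfl : p = 2 := by have := hp.two_le; omega
        have hk : k ≠ 0 := fun e => by rw [e, pow_zero] at hqp; omega
        have := FiniteField.cast_card_eq_zero F
        rw [hF, hqp, ← pow_mul, Nat.cast_pow, Nat.cast_ofNat] at this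
        exact h2 ((pow_eq_zero_iff (by omega)).1 this)
      have hdvd : Nat.card (iPart hF h K) ∣ p ^ (8 * k) := by
        have h' := (iPart hF h K).card_addSubgroup_dvd_card
        rw [natCard_vec hF, show q ^ (2 * (2 + 2)) = p ^ (8 * k) by
          rw [hqp, ← pow_mul, mul_comm k]] at h'
        exact h'
      obtain ⟨b, -, hb⟩ := (Nat.dvd_prime_pow hp).1 hdvd
      rw [hb, hqp, ← pow_mul] at hlt ⊢
      calc p ^ b * 3 ≤ p ^ b * p := Nat.mul_le_mul_left _ hp3
        _ = p ^ (b + 1) := by rw [pow_succ]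
        _ ≤ _ := Nat.pow_le_pow_right hp.pos
            (Nat.succ_le_of_lt ((Nat.pow_lt_pow_iff_right hp.one_lt).1 hlt))
    have hLW' : Nat.card (eSet x y K) * Nat.card (wPart hF h K) ≤ 4 * (q - 1) :=
      hLW.trans (Nat.mul_le_mul hc44 (by omega))
    refine ix_lt_false (D := 4 * (q - 1) * (q * (q ^ 2 - 1)) * q ^ 2)
      (B := 6 * ((q ^ 2 - 1) * (q * (q ^ 2 - 1) * q ^ 5)))
      (Nat.mul_pos (Nat.mul_pos (by omega) (Nat.mul_pos (by omega) (by omega))) (by omega)) hsh ?_ ?_
    · rw [← hform]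
      calc 6 * (K.relIndex (pst x) * (Nat.card (eSet x y K) * (Nat.card (gPart hF h K) *
            (Nat.card (iPart hF h K) * Nat.card (wPart hF h K)))))
          = K.relIndex (pst x) * ((Nat.card (eSet x y K) * Nat.card (wPart hF h K)) *
            (Nat.card (gPart hF h K) * 2) * (Nat.card (iPart hF h K) * 3)) := by ring
        _ ≤ _ := Nat.mul_le_mul_left _ (Nat.mul_le_mul (Nat.mul_le_mul hLW' hG2) hI3)
    · calc ((q + 1) * (q ^ 3 + 1) - 1) * (4 * (q - 1) * (q * (q ^ 2 - 1)) * q ^ 2)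
          < 6 * (q ^ 3 * (q + 1)) * ((q - 1) * (q * (q ^ 2 - 1)) * q ^ 2) := by
            rw [show ((q + 1) * (q ^ 3 + 1) - 1) * (4 * (q - 1) * (q * (q ^ 2 - 1)) * q ^ 2) =
              4 * ((q + 1) * (q ^ 3 + 1) - 1) * ((q - 1) * (q * (q ^ 2 - 1)) * q ^ 2) by ring]
            refine Nat.mul_lt_mul_of_pos_right ?_
              (Nat.mul_pos (Nat.mul_pos (by omega) (Nat.mul_pos (by omega) (by omega))) (by omega))
            rw [hT, Nat.add_sub_cancel, show q ^ 3 * (q + 1) = q ^ 4 + q ^ 3 by ring]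
            have : 4 * q ≤ q ^ 3 := by
              rw [show q ^ 3 = q ^ 2 * q by ring]; exact Nat.mul_le_mul_right _ hq4
            omega
        _ = _ := by
            rw [show q ^ 2 - 1 = (q + 1) * (q - 1) by rw [← Nat.sq_sub_sq, one_pow]]; ring
  have hc1 := hc41 h2
  have hLWq : Nat.card (eSet x y K) * Nat.card (wPart hF h K) ≤ q - Nat.card (wPart hF h K) :=
    hLW.trans ((Nat.mul_le_mul_right _ hc1).trans_eq (one_mul _))
  have hWb : wPart hF h K = ⊥ := by
    by_contra hWb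
    have hW2 : 2 ≤ Nat.card (wPart hF h K) := by
      have h1 : 1 ≤ Nat.card (wPart hF h K) := Nat.card_pos
      have : Nat.card (wPart hF h K) ≠ 1 := fun e => hWb (AddSubgroup.eq_bot_of_card_eq _ e)
      omega
    have hle : Nat.card (eSet x y K) * Nat.card (wPart hF h K) ≤ q - 2 := hLWq.trans (by omega)
    have hr0 : 0 < q - 2 := by
      by_contra hr0
      rw [show q - 2 = 0 by omega, Nat.le_zero] at hle
      have hpos : 0 < (q ^ 2 - 1) * (q * (q ^ 2 - 1) * q ^ 5) := Nat.mul_pos (by omega)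
        (Nat.mul_pos (Nat.mul_pos (by omega) (by omega)) (Nat.pow_pos (by omega)))
      rw [← hform, show Nat.card (eSet x y K) * (Nat.card (gPart hF h K) *
        (Nat.card (iPart hF h K) * Nat.card (wPart hF h K))) =
        (Nat.card (eSet x y K) * Nat.card (wPart hF h K)) *
        (Nat.card (gPart hF h K) * Nat.card (iPart hF h K)) by ring, hle, zero_mul, mul_zero] at hpos
      omega
    refine ix_lt_false (D := (q - 2) * (q * (q ^ 2 - 1)) * q ^ 2)
      (B := (q ^ 2 - 1) * (q * (q ^ 2 - 1) * q ^ 5))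
      (Nat.mul_pos (Nat.mul_pos hr0 (Nat.mul_pos (by omega) (by omega))) (by omega)) hsh ?_ ?_
    · rw [← hform]
      refine Nat.mul_le_mul_left _ ?_
      calc _ = (Nat.card (eSet x y K) * Nat.card (wPart hF h K)) * Nat.card (gPart hF h K) *
            Nat.card (iPart hF h K) := by ring
        _ ≤ _ := Nat.mul_le_mul (Nat.mul_le_mul hle hG) hI
    · obtain ⟨r, hr⟩ : ∃ r, q = r + 2 := ⟨q - 2, by omega⟩
      calc ((q + 1) * (q ^ 3 + 1) - 1) * ((q - 2) * (q * (q ^ 2 - 1)) * q ^ 2)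
          = (((q + 1) * (q ^ 3 + 1) - 1) * (q - 2)) * (q * (q ^ 2 - 1) * q ^ 2) := by ring
        _ < q ^ 3 * ((q + 1) * (q - 1)) * (q * (q ^ 2 - 1) * q ^ 2) := by
            refine Nat.mul_lt_mul_of_pos_right ?_
              (Nat.mul_pos (Nat.mul_pos (by omega) (by omega)) (by omega))
            rw [hT, Nat.add_sub_cancel, hr, Nat.add_sub_cancel, show r + 2 - 1 = r + 1 from rfl]
            ring_nf; omega
        _ = (q ^ 2 - 1) * (q * (q ^ 2 - 1) * q ^ 5) := by
            rw [show q ^ 2 - 1 = (q + 1) * (q - 1) by rw [← Nat.sq_sub_sq, one_pow]]; ring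
  rw [hWb, AddSubgroup.card_bot, mul_one] at hform hLWq
  have hL : Nat.card (eSet x y K) ≤ q - 1 := hLWq
  obtain ⟨hq1, hS3⟩ : q - 1 ≤ q ^ 3 ∧ q * (q ^ 2 - 1) ≤ q ^ 3 := by
    have h1 : q ≤ q ^ 3 := Nat.le_self_pow (by omega) q
    have h3 : q * (q ^ 2 - 1) ≤ q * q ^ 2 := Nat.mul_le_mul_left _ (by omega)
    rw [← pow_succ'] at h3
    exact ⟨by omega, h3⟩
  obtain ⟨-, hGe, hIe, hix⟩ := tight hq hq1 hS3 (Nat.pow_le_pow_right (by omega) (by omega)) hL hG hI
    (Nat.mul_pos (Nat.mul_pos (by omega) (Nat.mul_pos (by omega) (by omega))) (by omega))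
    (ix := K.relIndex (pst x)) (by
      rw [mul_assoc (Nat.card (eSet x y K)), hform,
        show q ^ 2 - 1 = (q + 1) * (q - 1) by rw [← Nat.sq_sub_sq, one_pow]]
      ring) hsh
  have hGs : gPart hF h K = stab2 x y :=
    Subgroup.eq_of_le_of_card_ge (fun l hl => hl.1) (by rw [hS, hGe])
  have hτ0 : τ⁻¹ ^ q = τ⁻¹ := by
    rw [inv_pow, hτ]; congr 1; linear_combination -τ * h2
  refine ⟨⟨τ⁻¹ • i, j, hWb, h2, Submodule.smul_mem _ _ hiP, hjP, ?_, hjj, ?_, ?_, ?_, hGs⟩, hix⟩
  · rw [h_smul_left, h_smul_right hF, hii, mul_zero, mul_zero]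
  · rw [h_smul_left, ← hτdef, inv_mul_cancel₀ hij]
  · intro a b ha hb
    rw [smul_smul]
    exact hfull hGs _ b (by rw [mul_pow, ha, hτ0]) hb
  · intro w hw
    refine ⟨ca w hw * τ, cb w hw, ?_, hcb w hw, ?_⟩
    · rw [mul_pow, hca w hw, hτ]; linear_combination -(ca w hw * τ) * h2
    · rw [smul_smul, mul_assoc, mul_inv_cancel₀ hij, mul_one]; exact hc w hw

/-- A point that is not a centre. -/
theorem noncentre_cases (hx : ¬ H51.StabMax.IsCtr K x)
    (hsh : K.relIndex (pst x) < (q + 1) * (q ^ 3 + 1)) :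
    ((∃ v, LineType hF h K v) ∨ ∃ i j, PlaneType hF h K i j) ∧
      K.relIndex (pst x) = q ^ 4 + q ^ 3 := by
  have hW := exists_trace_notMem hF h hx
  obtain ⟨v, hv, hv0⟩ := (AddSubgroup.bot_or_exists_ne_zero (iPart hF h K)).resolve_left
    (iPart_ne_bot hF h hW hsh)
  have hiso := fun w (hw : w ∈ iPart hF h K) => iPart_iso hF h hW hsh hw
  by_cases hp : ∃ i ∈ iPart hF h K, ∃ j ∈ iPart hF h K, hh i j ≠ 0
  · obtain ⟨i, hi, j, hj, hij⟩ := hp
    obtain ⟨e, hix⟩ := plane_case hF h hW hsh hiso hi hj hij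
    exact ⟨Or.inr e, hix⟩
  simp only [not_exists, not_and, not_not] at hp
  obtain ⟨f, hfP, hf⟩ := exists_partner hF h (iPart_le_pperp hF h hv) hv0 (hiso v hv)
  obtain ⟨e, hix⟩ := line_case hF h hW hsh hf hfP hv fun w hw =>
    eq_smul_of_orth hF h (iPart_le_pperp hF h hv) hfP hf (iPart_le_pperp hF h hw) (hp w hw v hv)
  exact ⟨Or.inl ⟨v, e⟩, hix⟩

end Pair

end H37.U4Min
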