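import Cfsg.Agent.H37.SUMinMain
import Cfsg.Agent.H37.SUMinLow4

/-!
The least index in dimensions five and six.
-/

set_option autoImplicit false

namespace H37.SUMin

open Matrix Cfsg H50 H50.PointStab H50.RadFrame

universe u

variable {F : Type u} [Field F] {m q : ℕ}

local notation "V" => (Fin (m + 2) → F)
local notation "G" => SU (m + 2) F q

variable [Fintype F] (hF : Fintype.card F = q ^ 2)
include hF

theorem q_prime_pow : ∃ p a : ℕ, p.Prime ∧ q = p ^ a := by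
  obtain ⟨⟨n, hn⟩, hp, hc⟩ := FiniteField.card F (ringChar F)
  rw [hF] at hc
  obtain ⟨a, -, ha⟩ := (Nat.dvd_prime_pow hp).1 (dvd_trans (dvd_pow_self q two_ne_zero) hc.dvd)
  exact ⟨_, a, hp, ha⟩

section Pair

variable {x y : Fin (m + 2) → F} (h : IsHyp q x y) {K : Subgroup (SU (m + 2) F q)}
include h

/-- A proper part of the scalars has at most half of them. -/
theorem eSet_half {a : F} (ha : a ≠ 0) (haE : a ∉ eSet x y K) :
    Nat.card (eSet x y K) * 2 ≤ q ^ 2 - 1 := by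
  classical
  have hnz : ∀ e ∈ eSet x y K, e ≠ 0 := by
    rintro _ ⟨g, hg, rfl⟩
    exact (eig_spec h hg.2).1
  have hdiv : ∀ e ∈ eSet x y K, ∀ e' ∈ eSet x y K, e / e' ∈ eSet x y K := by
    rintro _ ⟨g, hg, rfl⟩ _ ⟨g', hg', rfl⟩
    refine ⟨g * g'⁻¹, mul_mem hg (inv_mem hg'), ?_⟩
    have h1 := eig_mul h (mul_mem hg.2 (inv_mem hg'.2)) hg'.2
    rw [inv_mul_cancel_right] at h1
    rw [eq_div_iff (eig_spec h hg'.2).1, ← h1]
  rw [← hF, ← Fintype.card_units, ← Nat.card_eq_fintype_card, mul_two, ← Nat.card_sum]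
  refine Nat.card_le_card_of_injective (Sum.elim
    (fun e : eSet x y K => Units.mk0 (e : F) (hnz _ e.2))
    (fun e : eSet x y K => Units.mk0 (a * (e : F)) (mul_ne_zero ha (hnz _ e.2)))) ?_
  rintro (e | e) (e' | e') he <;> have he' := congrArg Units.val he <;>
    simp only [Sum.elim_inl, Sum.elim_inr, Units.val_mk0] at he'
  · exact congrArg Sum.inl (Subtype.ext he')
  · refine absurd (hdiv _ e.2 _ e'.2) ?_
    rwa [he', mul_div_cancel_right₀ _ (hnz _ e'.2)]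
  · refine absurd (hdiv _ e'.2 _ e.2) ?_
    rwa [← he', mul_div_cancel_right₀ _ (hnz _ e.2)]
  · exact congrArg Sum.inr (Subtype.ext (mul_left_cancel₀ ha he'))

/-- The data in the complement. -/
theorem exists_data (hm : 1 ≤ m) (hx : ¬ H51.StabMax.IsCtr K x)
    (hG : gPart hF h K ≠ stab2 x y) :
    ∃ (ψ : AddChar F ℂ) (t : F) (I : AddSubgroup (Fin m → F)) (Γ : Subgroup (SU m F q)),
      t + t ^ q = 0 ∧ ψ t ≠ 1 ∧ (∀ a ∈ I, ∀ b ∈ I, ψ (skew q a b) = 1) ∧
      (wPart hF h K = ⊥ → ∀ a ∈ I, ∀ b ∈ I, skew q a b = 0) ∧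
      (∀ g ∈ Γ, ∀ i ∈ I, suMat g *ᵥ i ∈ I) ∧ Γ ≠ ⊤ ∧
      Nat.card I = Nat.card (iPart hF h K) ∧
      K.relIndex (pst x) * (Nat.card (wPart hF h K) * Nat.card (eSet x y K)) * Nat.card I =
        (q ^ 2 - 1) * q ^ (2 * m + 1) * Γ.index := by
  classical
  obtain ⟨t, ht, htW⟩ := exists_trace_notMem hF h hx
  obtain ⟨ψ, hψW, hψt⟩ := exists_char htW
  obtain ⟨ι, j, hιinj, hι, hjinj, hjh, hιj, hjs⟩ := exists_pair_hom hF hm h
  have hskew : ∀ a b, skew q (j a) (j b) = skew q a b := fun a b => by simp only [skew, hjh]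
  have hΓI : ∀ g ∈ (gPart hF h K).comap ι, ∀ i ∈ (iPart hF h K).comap j.toAddMonoidHom,
      suMat g *ᵥ i ∈ (iPart hF h K).comap j.toAddMonoidHom := by
    intro g hg i hi
    show j (suMat g *ᵥ i) ∈ iPart hF h K
    rw [← hιj]
    exact gPart_iPart hF h hg hi
  have hGle : gPart hF h K ≤ ι.range := hι ▸ fun g hg => hg.1
  have hmap : ((gPart hF h K).comap ι).map ι = gPart hF h K := Subgroup.map_comap_eq_self hGle
  have hne : (gPart hF h K).comap ι ≠ ⊤ := fun e => hG (by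
    rw [← hmap, e, ← MonoidHom.range_eq_map, hι])
  have hcI : Nat.card ((iPart hF h K).comap j.toAddMonoidHom) = Nat.card (iPart hF h K) := by
    refine Nat.card_eq_of_bijective (fun i => (⟨j i.1, i.2⟩ : iPart hF h K)) ⟨?_, ?_⟩
    · intro i i' e
      exact Subtype.ext (hjinj (congrArg Subtype.val e :))
    · rintro ⟨w, hw⟩
      obtain ⟨hwx, hwy⟩ := mem_pperp.1 (iPart_le_pperp hF h hw)
      obtain ⟨v, rfl⟩ := hjs w hwx hwy
      exact ⟨⟨v, hw⟩, rfl⟩
  refine ⟨ψ, t, _, _, ht, hψt, fun a ha b hb => hψW _ ?_, fun hW a ha b hb => ?_, hΓI, hne, hcI, ?_⟩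
  · rw [← hskew]; exact iPart_skew hF h ha hb
  · have h1 : skew q (j a) (j b) ∈ wPart hF h K := iPart_skew hF h ha hb
    rw [hW, AddSubgroup.mem_bot, hskew] at h1
    exact h1
  have h2 : Nat.card (gPart hF h K) * ((gPart hF h K).comap ι).index = Nat.card (SU m F q) := by
    rw [← Subgroup.card_mul_index ((gPart hF h K).comap ι)]
    congr 1
    conv_lhs => rw [← hmap]
    exact Nat.card_congr (Subgroup.equivMapOfInjective _ ι hιinj).toEquiv.symm
  have hf := relIndex_formula hF h hm K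
  rw [← h2] at hf
  rw [hcI, pow_succ q (2 * m)]
  refine Nat.eq_of_mul_eq_mul_right (Nat.card_pos (α := gPart hF h K)) ?_
  linear_combination hf

end Pair

theorem five_cases (hm : m = 3) (hq : 3 ≤ q) {K : Subgroup G} {x y : V} (h : IsHyp q x y)
    (hx : ¬ H51.StabMax.IsCtr K x) (hG : gPart hF h K ≠ stab2 x y) :
    Nat.card (IsoPt (m + 2) q F) ≤ K.relIndex (pst x) := by
  classical
  subst hm
  have hW := exists_trace_notMem hF h hx
  obtain ⟨hLW, hLW'⟩ := scalar_card hF h (by omega) hW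
  have hI3 := card_iPart_sq hF h (by omega) hW
  have hex : wPart hF h K = ⊥ → Nat.card (eSet x y K) < q ^ 2 - 1 →
      Nat.card (eSet x y K) * 2 ≤ q ^ 2 - 1 := by
    intro _ hlt
    obtain ⟨a, ha, haE⟩ : ∃ a : F, a ≠ 0 ∧ a ∉ eSet x y K := by
      by_contra hno
      simp only [not_exists, not_and, not_not] at hno
      refine absurd hlt (not_lt.2 ?_)
      rw [← hF, ← Fintype.card_units, ← Nat.card_eq_fintype_card]
      exact Nat.card_le_card_of_injective (fun u : Fˣ => (⟨(u : F), hno _ u.ne_zero⟩ : eSet x y K))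
        fun u v e => Units.ext (congrArg Subtype.val e :)
    exact eSet_half hF h ha haE
  obtain ⟨ψ, t, I, Γ, ht, hψ, hI, hI0, hΓ, hne, hcI, hf⟩ := exists_data hF h (by omega) hx hG
  rw [← hcI] at hI3
  obtain ⟨-, hN2, -, -⟩ := isoPt_bounds hF (m := 3) le_rfl
  have hN : Nat.card (IsoPt (3 + 2) q F) ≤ q ^ 4 * (q ^ 3 + q + 1) := by
    rw [isoPt_card_rec hF (n := 3) (by omega), card_isoPt_three hF]
    have : q ^ 2 + 1 ≤ q ^ 4 := by
      calc q ^ 2 + 1 ≤ q ^ 2 * 2 := by have := Nat.one_le_pow 2 q (by omega); omega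
        _ ≤ q ^ 2 * q ^ 2 := Nat.mul_le_mul_left _ (by nlinarith)
        _ = q ^ 4 := by ring
    have e : q ^ 4 * (q ^ 3 + q + 1) = q ^ (2 * 3 + 1) + q ^ 5 + q ^ 4 := by ring
    have e' : q ^ 2 * (q ^ 3 + 1) = q ^ 5 + q ^ 2 := by ring
    omega
  have hB2 : 2 ≤ Γ.index := Subgroup.one_lt_index_of_ne_top hne
  have hP7 : 0 < q ^ (2 * 3 + 1) := Nat.pow_pos (by omega)
  have hq2 : 9 ≤ q ^ 2 := by nlinarith
  have hd : 0 < Nat.card (wPart hF h K) * Nat.card (eSet x y K) * Nat.card I := by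
    refine Nat.pos_of_ne_zero fun e => ?_
    rw [mul_assoc, e, mul_zero] at hf
    rcases Nat.mul_eq_zero.1 hf.symm with h' | h'
    · rcases Nat.mul_eq_zero.1 h' with h'' | h'' <;> omega
    · omega
  set LW := Nat.card (wPart hF h K) * Nat.card (eSet x y K)
  set ix := K.relIndex (pst x)
  suffices hsuf : Nat.card (IsoPt (3 + 2) q F) * LW * Nat.card I ≤
      (q ^ 2 - 1) * q ^ (2 * 3 + 1) * Γ.index by
    rw [← hf] at hsuf
    exact Nat.le_of_mul_le_mul_right (by simpa only [mul_assoc] using hsuf) hd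
  by_cases hIb : I = ⊥
  · rw [hIb, AddSubgroup.card_bot, mul_one]
    calc Nat.card (IsoPt (3 + 2) q F) * LW ≤ 2 * q ^ (2 * 3 + 1) * (q ^ 2 - 1) := Nat.mul_le_mul hN2 hLW
      _ = (q ^ 2 - 1) * q ^ (2 * 3 + 1) * 2 := by ring
      _ ≤ _ := Nat.mul_le_mul_left _ hB2
  by_cases hsmall : Nat.card I ≤ q ^ 2
  · have h1 := sphere_index hF le_rfl hΓ hIb ((q ^ 3 + 1) * (q ^ 2 - 1))
      (le_of_eq (by rw [card_isoPt_three hF]))
      (by rw [normCount_three_one hF, mul_comm (q ^ 2)]; exact Nat.mul_le_mul_left _ (Nat.sub_le _ _))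
    have h2 : q ^ 3 + 1 ≤ Γ.index := Nat.le_of_mul_le_mul_right
      (h1.trans ((Nat.mul_le_mul_right _ (Nat.sub_le_sub_right hsmall 1)).trans_eq (mul_comm _ _)))
      (by omega)
    calc Nat.card (IsoPt (3 + 2) q F) * LW * Nat.card I
        ≤ q ^ 4 * (q ^ 3 + q + 1) * (q ^ 2 - 1) * q ^ 2 := by gcongr
      _ = (q ^ 2 - 1) * q ^ 6 * (q ^ 3 + q + 1) := by ring
      _ ≤ (q ^ 2 - 1) * q ^ 6 * (q * (q ^ 3 + 1)) := by
          refine Nat.mul_le_mul_left _ ?_
          have : 3 * q ^ 3 ≤ q * q ^ 3 := Nat.mul_le_mul_right _ hq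
          have : q + 1 ≤ q ^ 3 := by nlinarith
          rw [mul_add, mul_one]; omega
      _ = (q ^ 2 - 1) * q ^ (2 * 3 + 1) * (q ^ 3 + 1) := by ring
      _ ≤ _ := Nat.mul_le_mul_left _ h2
  · obtain ⟨hgen, htie⟩ := low_three hF ht hψ hI hΓ hq (not_le.1 hsmall) hI3
    by_cases hT : wPart hF h K = ⊥ ∧ Nat.card (eSet x y K) = q ^ 2 - 1 ∧ Nat.card I = q ^ 3
    · have hB := htie (hI0 hT.1) hT.2.2
      calc Nat.card (IsoPt (3 + 2) q F) * LW * Nat.card I
          ≤ q ^ 4 * (q ^ 3 + q + 1) * (q ^ 2 - 1) * q ^ 3 := by gcongr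
        _ = (q ^ 2 - 1) * q ^ (2 * 3 + 1) * (q ^ 3 + q + 1) := by ring
        _ ≤ _ := Nat.mul_le_mul_left _ hB
    · have hkey : LW * Nat.card I * (q + 1) ≤ (q ^ 2 - 1) * q ^ 4 := by
        by_cases hWb : wPart hF h K = ⊥
        · have hLWe : LW = Nat.card (eSet x y K) := by
            simp only [LW, hWb, AddSubgroup.card_bot, one_mul]
          have h3 : LW * Nat.card I * 2 ≤ (q ^ 2 - 1) * q ^ 3 := by
            by_cases hL : Nat.card (eSet x y K) = q ^ 2 - 1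
            · have hlt : Nat.card I < q ^ 3 := lt_of_le_of_ne hI3 fun e => hT ⟨hWb, hL, e⟩
              obtain ⟨p, a, hp, rfl⟩ := q_prime_pow hF
              have hdvd : Nat.card I ∣ p ^ (2 * 3 * a) := by
                have h' := I.card_addSubgroup_dvd_card
                rw [natCard_vec hF, ← pow_mul, mul_comm] at h'
                exact h'
              obtain ⟨b, -, hb⟩ := (Nat.dvd_prime_pow hp).1 hdvd
              rw [← pow_mul] at hlt
              rw [hb] at hlt ⊢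
              rw [mul_assoc]
              refine Nat.mul_le_mul hLW ?_
              calc p ^ b * 2 ≤ p ^ (b + 1) := by rw [pow_succ]; exact Nat.mul_le_mul_left _ hp.two_le
                _ ≤ p ^ (a * 3) := Nat.pow_le_pow_right hp.pos
                    (Nat.succ_le_of_lt ((Nat.pow_lt_pow_iff_right hp.one_lt).1 hlt))
                _ = _ := pow_mul _ _ _
            · have hle : Nat.card (eSet x y K) ≤ q ^ 2 - 1 := hLWe ▸ hLW
              have h5 : LW * 2 ≤ q ^ 2 - 1 := hLWe ▸ hex hWb (lt_of_le_of_ne hle hL)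
              calc LW * Nat.card I * 2 = LW * 2 * Nat.card I := by ring
                _ ≤ _ := Nat.mul_le_mul h5 hI3
          calc LW * Nat.card I * (q + 1) ≤ LW * Nat.card I * (2 * q) := Nat.mul_le_mul_left _ (by omega)
            _ = LW * Nat.card I * 2 * q := by ring
            _ ≤ (q ^ 2 - 1) * q ^ 3 * q := Nat.mul_le_mul_right _ h3
            _ = _ := by ring
        · obtain ⟨r, rfl⟩ : ∃ r, q = r + 2 := ⟨q - 2, by omega⟩
          calc LW * Nat.card I * (r + 2 + 1) ≤ (r + 2 + 1) * r * (r + 2) ^ 3 * (r + 2 + 1) := by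
                gcongr
                simpa using hLW' hWb
            _ = (r + 2 + 1) * (r + 2) ^ 3 * (r * (r + 3)) := by ring
            _ ≤ (r + 2 + 1) * (r + 2) ^ 3 * ((r + 1) * (r + 2)) :=
                Nat.mul_le_mul_left _ (by ring_nf; omega)
            _ = (r + 3) * (r + 1) * (r + 2) ^ 4 := by ring
            _ = _ := by
                rw [show (r + 2) ^ 2 - 1 = (r + 3) * (r + 1) by
                  rw [show (r + 2) ^ 2 = (r + 3) * (r + 1) + 1 by ring, Nat.add_sub_cancel]]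
      refine Nat.le_of_mul_le_mul_right ?_ (show 0 < q + 1 by omega)
      calc Nat.card (IsoPt (3 + 2) q F) * LW * Nat.card I * (q + 1)
          = Nat.card (IsoPt (3 + 2) q F) * (LW * Nat.card I * (q + 1)) := by ring
        _ ≤ q ^ 4 * (q ^ 3 + q + 1) * ((q ^ 2 - 1) * q ^ 4) := Nat.mul_le_mul hN hkey
        _ = (q ^ 2 - 1) * q ^ (2 * 3 + 1) * (q * (q ^ 3 + q + 1)) := by ring
        _ ≤ (q ^ 2 - 1) * q ^ (2 * 3 + 1) * (Γ.index * (q + 1)) := by
            refine Nat.mul_le_mul_left _ ?_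
            have h9 := Nat.mul_le_mul_right (q + 1) hgen
            have e1 : 3 * q ≤ q ^ 2 := by rw [pow_two]; exact Nat.mul_le_mul_right q hq
            have e2 : 3 * q ^ 2 ≤ q ^ 3 := by rw [pow_succ' q 2]; exact Nat.mul_le_mul_right _ hq
            nlinarith
        _ = _ := by ring

theorem six_cases (hm : m = 4) {K : Subgroup G} {x y : V} (h : IsHyp q x y)
    (hx : ¬ H51.StabMax.IsCtr K x) (hG : gPart hF h K ≠ stab2 x y) :
    Nat.card (IsoPt (m + 2) q F) ≤ K.relIndex (pst x) := by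
  classical
  subst hm
  have hq := two_le hF
  have hW := exists_trace_notMem hF h hx
  obtain ⟨hLW, -⟩ := scalar_card hF h (by omega) hW
  have hI4 := card_iPart_sq hF h (by omega) hW
  obtain ⟨ψ, t, I, Γ, ht, hψ, hI, -, hΓ, hne, hcI, hf⟩ := exists_data hF h (by omega) hx hG
  rw [← hcI] at hI4
  obtain ⟨-, hN2, -, -⟩ := isoPt_bounds hF (m := 4) (by omega)
  have hN : Nat.card (IsoPt (4 + 2) q F) ≤ q ^ 5 * (q ^ 4 + q ^ 2 + 2) := by
    rw [isoPt_card_rec hF (n := 4) (by omega), card_isoPt_four hF]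
    have : q ^ 4 + q ^ 2 + 1 ≤ 2 * q ^ 5 := by
      have h2 : q ^ 4 * 2 ≤ q ^ 5 := by rw [pow_succ q 4]; exact Nat.mul_le_mul_left _ hq
      have h3 : q ^ 2 ≤ q ^ 4 := Nat.pow_le_pow_right (by omega) (by omega)
      have := Nat.one_le_pow 5 q (by omega)
      omega
    have e : q ^ 5 * (q ^ 4 + q ^ 2 + 2) = q ^ (2 * 4 + 1) + q ^ 7 + 2 * q ^ 5 := by ring
    have e' : q ^ 2 * ((q ^ 2 + 1) * (q ^ 3 + 1)) = q ^ 7 + q ^ 5 + q ^ 4 + q ^ 2 := by ring
    have e5 : q ^ 5 + (q ^ 4 + q ^ 2 + 1) ≤ 2 * q ^ 5 := by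
      have h2 : q ^ 4 * 2 ≤ q ^ 5 := by rw [pow_succ q 4]; exact Nat.mul_le_mul_left _ hq
      have h3 : q ^ 2 * 4 ≤ q ^ 4 := by
        rw [show q ^ 4 = q ^ 2 * q ^ 2 by ring]; exact Nat.mul_le_mul_left _ (by nlinarith)
      have := Nat.one_le_pow 2 q (by omega)
      omega
    omega
  have hB2 : 2 ≤ Γ.index := Subgroup.one_lt_index_of_ne_top hne
  have hq4 : 4 ≤ q ^ 2 := by nlinarith
  have hP9 : 0 < q ^ (2 * 4 + 1) := Nat.pow_pos (by omega)
  have hd : 0 < Nat.card (wPart hF h K) * Nat.card (eSet x y K) * Nat.card I := by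
    refine Nat.pos_of_ne_zero fun e => ?_
    rw [mul_assoc, e, mul_zero] at hf
    rcases Nat.mul_eq_zero.1 hf.symm with h' | h'
    · rcases Nat.mul_eq_zero.1 h' with h'' | h'' <;> omega
    · omega
  set LW := Nat.card (wPart hF h K) * Nat.card (eSet x y K)
  set ix := K.relIndex (pst x)
  suffices hsuf : Nat.card (IsoPt (4 + 2) q F) * LW * Nat.card I ≤
      (q ^ 2 - 1) * q ^ (2 * 4 + 1) * Γ.index by
    rw [← hf] at hsuf
    exact Nat.le_of_mul_le_mul_right (by simpa only [mul_assoc] using hsuf) hd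
  by_cases hIb : I = ⊥
  · rw [hIb, AddSubgroup.card_bot, mul_one]
    calc Nat.card (IsoPt (4 + 2) q F) * LW ≤ 2 * q ^ (2 * 4 + 1) * (q ^ 2 - 1) := Nat.mul_le_mul hN2 hLW
      _ = (q ^ 2 - 1) * q ^ (2 * 4 + 1) * 2 := by ring
      _ ≤ _ := Nat.mul_le_mul_left _ hB2
  have hp4 : 16 ≤ q ^ 4 := Nat.pow_le_pow_left hq 4
  have hp3 : 8 ≤ q ^ 3 := Nat.pow_le_pow_left hq 3
  have hq24 : (q ^ 2 + 1) * (q ^ 2 - 1) = q ^ 4 - 1 := by
    rw [← Nat.sq_sub_sq, one_pow, ← pow_mul]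
  by_cases hsmall : Nat.card I ≤ q ^ 3
  · have h1 := sphere_index hF (by omega) hΓ hIb (q ^ 3 * (q ^ 4 - 1))
      (by rw [card_isoPt_four hF, mul_right_comm, hq24, mul_comm (q ^ 4 - 1)]
          exact Nat.mul_le_mul_right _ (Nat.le_succ _))
      (normCount_four_one hF).ge
    have h2 : q ^ 4 - 1 ≤ Γ.index := Nat.le_of_mul_le_mul_left
      (h1.trans (Nat.mul_le_mul_right _ (le_trans (Nat.sub_le _ _) hsmall))) (by omega)
    calc Nat.card (IsoPt (4 + 2) q F) * LW * Nat.card I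
        ≤ q ^ 5 * (q ^ 4 + q ^ 2 + 2) * (q ^ 2 - 1) * q ^ 3 := by gcongr
      _ = (q ^ 2 - 1) * q ^ 8 * (q ^ 4 + q ^ 2 + 2) := by ring
      _ ≤ (q ^ 2 - 1) * q ^ 8 * (q * (q ^ 4 - 1)) := by
          refine Nat.mul_le_mul_left _ ?_
          have : 4 * q ^ 2 ≤ q ^ 4 := by rw [show q ^ 4 = q ^ 2 * q ^ 2 by ring]; gcongr
          have : 2 * q ^ 4 ≤ q * q ^ 4 := Nat.mul_le_mul_right _ hq
          have : 4 * q ≤ q ^ 4 := by
            rw [show q ^ 4 = q ^ 3 * q by ring]; exact Nat.mul_le_mul_right _ (by omega)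
          rw [Nat.mul_sub, mul_one]; omega
      _ = (q ^ 2 - 1) * q ^ (2 * 4 + 1) * (q ^ 4 - 1) := by ring
      _ ≤ _ := Nat.mul_le_mul_left _ h2
  · have hB := low_four hF ht hψ hI hΓ (not_le.1 hsmall) hI4
    calc Nat.card (IsoPt (4 + 2) q F) * LW * Nat.card I
        ≤ q ^ 5 * (q ^ 4 + q ^ 2 + 2) * (q ^ 2 - 1) * q ^ 4 := by gcongr
      _ = (q ^ 2 - 1) * q ^ (2 * 4 + 1) * (q ^ 4 + q ^ 2 + 2) := by ring
      _ ≤ _ := Nat.mul_le_mul_left _ hB

end H37.SUMin
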