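import Cfsg.Agent.H37.SUMinParts
import Cfsg.Agent.H51.ShortRootU

/-!
Bounds on the parts of a subgroup at an isotropic point, and the index through the orbits on isotropic
points.
-/

set_option autoImplicit false

namespace H37.SUMin

open Matrix Cfsg H50 H50.PointStab H50.RadFrame

universe u

/-- Annihilators for a non-degenerate pairing of a finite abelian group with complex values. -/
theorem pairing_annih {A : Type*} [AddCommGroup A] [Finite A] (P : A → A → ℂ)
    (hl : ∀ a b c, P (a + b) c = P a c * P b c) (hr : ∀ a b c, P a (b + c) = P a b * P a c)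
    (h0 : ∀ a, P a 0 = 1) (h0' : ∀ a, P 0 a = 1)
    (hnd : ∀ a, (∀ c, P a c = 1) → a = 0) (I J : AddSubgroup A)
    (hJ : ∀ v, v ∈ J ↔ ∀ i ∈ I, P i v = 1) : Nat.card J * Nat.card I = Nat.card A := by
  classical
  rw [← J.card_mul_index]
  congr 1
  haveI : Fintype (A ⧸ J) := Fintype.ofFinite _
  haveI : Fintype I := Fintype.ofFinite _
  have hne : ∀ a c, P a c ≠ 0 := fun a c e => by
    have := hr a c (-c)
    rw [add_neg_cancel, h0, e, zero_mul] at this
    exact one_ne_zero this
  rw [AddSubgroup.index_eq_card]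
  refine le_antisymm ?_ ?_
  · rw [Nat.card_eq_fintype_card (α := A ⧸ J), ← AddChar.card_eq (α := A ⧸ J),
      ← Nat.card_eq_fintype_card]
    let θ : I → AddChar (A ⧸ J) ℂ := fun i =>
      { toFun := fun v => Quotient.liftOn' v (fun v => P i v) (fun a b h => by
          rw [QuotientAddGroup.leftRel_apply] at h
          have h1 := (hJ _).1 h i.1 i.2
          have h2 := hr (i : A) a (-a + b)
          rw [add_neg_cancel_left, h1, mul_one] at h2
          exact h2.symm)
        map_zero_eq_one' := h0 (i : A)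
        map_add_eq_mul' := fun a b => by
          induction a using QuotientAddGroup.induction_on with | _ a => ?_
          induction b using QuotientAddGroup.induction_on with | _ b => ?_
          exact hr (i : A) a b }
    refine Nat.card_le_card_of_injective θ fun i i' h => Subtype.ext ?_
    rw [← sub_eq_zero]
    refine hnd _ fun c => ?_
    have e := DFunLike.congr_fun h (QuotientAddGroup.mk c)
    change P i c = P i' c at e
    have h2 := hl ((i : A) - i') i' c
    rw [sub_add_cancel, e] at h2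
    exact (mul_eq_right₀ (hne _ _)).1 h2.symm
  · rw [Nat.card_eq_fintype_card (α := I), ← AddChar.card_eq (α := I), ← Nat.card_eq_fintype_card]
    let η : A → AddChar I ℂ := fun v =>
      { toFun := fun i => P i v
        map_zero_eq_one' := h0' v
        map_add_eq_mul' := fun a b => hl _ _ _ }
    refine Nat.card_le_card_of_injective (fun v : A ⧸ J => η v.out) fun a b h => ?_
    rw [← QuotientAddGroup.out_eq' a, ← QuotientAddGroup.out_eq' b, QuotientAddGroup.eq]
    refine (hJ _).2 fun i hi => ?_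
    have e := DFunLike.congr_fun h ⟨i, hi⟩
    change P i a.out = P i b.out at e
    have h2 := hr i a.out (-a.out + b.out)
    rw [add_neg_cancel_left, ← e] at h2
    exact (mul_eq_left₀ (hne _ _)).1 h2.symm

variable {F : Type u} [Field F] {q : ℕ}

/-- The skew part of the form. -/
def skew (q : ℕ) {n : ℕ} (a b : Fin n → F) : F := hermForm n F q a b - hermForm n F q b a

variable [Fintype F] (hF : Fintype.card F = q ^ 2)
include hF

theorem skew_trace {n : ℕ} (a b : Fin n → F) : skew q a b + skew q a b ^ q = 0 := by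
  rw [skew, sub_pow_q hF, ← h_symm hF, ← h_symm hF]; ring

/-- An isotropic vector not orthogonal to a given non-zero vector. -/
theorem exists_iso_not_perp {n : ℕ} (hn : 3 ≤ n) {w : Fin n → F} (hw : w ≠ 0) :
    ∃ z : Fin n → F, hermForm n F q z z = 0 ∧ hermForm n F q w z ≠ 0 := by
  by_cases h0 : hermForm n F q w w = 0
  · obtain ⟨f, hf⟩ := exists_hyp_partner hF hw h0
    exact ⟨f, hf.2.1, by rw [hf.2.2]; exact one_ne_zero⟩
  have hg : GramND q (fun _ : Unit => w) := fun c hc => by
    have := hc ()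
    simp [h_smul_left] at this
    funext i
    exact this.resolve_right h0
  have hr := finrank_perp_range hF (GramND.linearIndependent hF hg)
  simp at hr
  obtain ⟨b, hb, -, hbb⟩ := H51.StabMax.exists_nonzero_norm hF (GramND.isNondeg_perp hF hg)
    (by omega) (r := -hermForm n F q w w) (by rw [neg_pow_q hF, h_self_fixed hF])
  have hbw : hermForm n F q b w = 0 := mem_perp_range.1 hb ()
  refine ⟨w + b, ?_, ?_⟩
  · rw [h_add_left, h_add_right hF, h_add_right hF, hbb, hbw, (h_eq_zero_comm hF).1 hbw]; ring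
  · rw [h_add_right hF, (h_eq_zero_comm hF).1 hbw, add_zero]; exact h0

/-- An invariant group of vectors with skew products in a proper part of the trace-zero scalars. -/
theorem eq_bot_of_invariant {n : ℕ} (hn : 3 ≤ n) (A : AddSubgroup (Fin n → F))
    (hA : ∀ (g : SU n F q), ∀ w ∈ A, suMat g *ᵥ w ∈ A) (W : AddSubgroup F)
    (hW : ∃ t : F, t + t ^ q = 0 ∧ t ∉ W) (hskew : ∀ a ∈ A, ∀ b ∈ A, skew q a b ∈ W) :
    A = ⊥ := by
  rw [AddSubgroup.eq_bot_iff_forall]
  intro w hw
  by_contra hw0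
  obtain ⟨z, hz, hwz⟩ := exists_iso_not_perp hF hn hw0
  obtain ⟨c, hc0, hc⟩ := exists_trace_zero_ne_zero hF
  have hz0 : z ≠ 0 := fun e => hwz (by rw [e, h_zero_right hF])
  have hμ : (c * hermForm n F q w z) • z ∈ A := by
    have := A.sub_mem (hA (tv hF z c hz hc) w hw) hw
    rwa [tv_mulVec, add_sub_cancel_left] at this
  set z' := (c * hermForm n F q w z) • z with hz'
  have hz'0 : z' ≠ 0 := smul_ne_zero (mul_ne_zero hc0 hwz) hz0
  have hz'z : hermForm n F q z' z' = 0 := by
    rw [hz', h_smul_left, h_smul_right hF, hz, mul_zero, mul_zero]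
  have hall : ∀ v, v ≠ 0 → hermForm n F q v v = 0 → v ∈ A := by
    intro v hv0 hv
    obtain ⟨g, -, hg⟩ := reach_isotropic hF hn hz'0 hz'z hv0 hv
    rw [← hg]
    exact hA g _ hμ
  obtain ⟨t, ht, htW⟩ := hW
  obtain ⟨e, he⟩ := H51.ShortU.exists_skew_eq hF ht
  obtain ⟨f, hf⟩ := exists_hyp_partner hF hz0 hz
  have he0 : e ≠ 0 := fun h => htW (by rw [← he, h, zero_pow (q_ne_zero hF), sub_zero]; exact W.zero_mem)
  have hf0 : (e ^ q) • f ≠ 0 := smul_ne_zero (pow_ne_zero _ he0) ((hf.symm hF).fst_ne_zero hF)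
  have h2 := hskew z (hall z hz0 hz) _ (hall _ hf0 (by
    rw [h_smul_left, h_smul_right hF, hf.2.1, mul_zero, mul_zero]))
  rw [skew, h_smul_left, h_smul_right hF, hf.2.2, (hf.symm hF).2.2, mul_one, mul_one,
    pow_q_pow_q hF, he] at h2
  exact htW h2

section Pair

variable {m : ℕ}

local notation "V" => (Fin (m + 2) → F)
local notation "hh" => hermForm (m + 2) F q
local notation "G" => SU (m + 2) F q

variable {x y : Fin (m + 2) → F} (h : IsHyp q x y) {K : Subgroup (SU (m + 2) F q)}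
include h

theorem zRad_comm {u z : G} (hu : u ∈ H55.Psu.radU x) (hz : z ∈ zRad hF h) : u * z = z * u := by
  refine rad_eq hF h ((H55.Psu.radU (q := q) x).mul_mem hu hz.1)
    ((H55.Psu.radU (q := q) x).mul_mem hz.1 hu) ?_ ?_
  · rw [(rad_mul hF h hu hz.1).1, (rad_mul hF h hz.1 hu).1]; abel
  · rw [(rad_mul hF h hu hz.1).2, (rad_mul hF h hz.1 hu).2, hz.2, h_zero_left, h_zero_right hF]
    ring

/-- Conjugating the radical part of `K` by an element of `K` over a Levi element. -/
theorem pr_conj {u t v : G} (hu : u ∈ H55.Psu.radU x) (ht : t ∈ lev q x y)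
    (hv : v ∈ H55.Psu.radU x) : (u * t) * v * (u * t)⁻¹ ∈ H55.Psu.radU (q := q) x ∧
      pr x y ((u * t) * v * (u * t)⁻¹) = eig q x y t ^ q • suMat t *ᵥ pr x y v := by
  have hc : t * v * t⁻¹ ∈ H55.Psu.radU (q := q) x := radU_conj_mem hF h ht.1 hv
  rw [show (u * t) * v * (u * t)⁻¹ = u * (t * v * t⁻¹) * u⁻¹ by group]
  refine ⟨(H55.Psu.radU (q := q) x).mul_mem ((H55.Psu.radU (q := q) x).mul_mem hu hc)
    ((H55.Psu.radU (q := q) x).inv_mem hu), ?_⟩
  rw [(rad_mul hF h ((H55.Psu.radU (q := q) x).mul_mem hu hc)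
    ((H55.Psu.radU (q := q) x).inv_mem hu)).1, (rad_mul hF h hu hc).1, (rad_inv hF h hu).1,
    (rad_conj hF h ht hv).1]
  abel

theorem eig_norm_mul_mem (hm : 1 ≤ m) {a w : F} (ha : a ∈ eSet x y K) (hw : w ∈ wPart hF h K) :
    a ≠ 0 ∧ a ^ (q + 1) * w ∈ wPart hF h K := by
  obtain ⟨g, ⟨hgK, hgP⟩, rfl⟩ := ha
  refine ⟨(eig_spec h hgP).1, ?_⟩
  obtain ⟨z, ⟨hzK, hz⟩, rfl⟩ := hw
  obtain ⟨u, hu, t, ht, rfl⟩ := exists_decomp hF h hm hgP
  have hc : t * z * t⁻¹ ∈ zRad hF h := by
    refine ⟨radU_conj_mem hF h ht.1 hz.1, ?_⟩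
    rw [(rad_conj hF h ht hz.1).1, hz.2, mulVec_zero, smul_zero]
  have e : (u * t) * z * (u * t)⁻¹ = t * z * t⁻¹ := by
    rw [show (u * t) * z * (u * t)⁻¹ = u * (t * z * t⁻¹) * u⁻¹ by group, zRad_comm hF h hu hc,
      mul_inv_cancel_right]
  refine ⟨_, ⟨mul_mem (mul_mem hgK hzK) (inv_mem hgK), by rw [e]; exact hc⟩, ?_⟩
  rw [e, (rad_conj hF h ht hz.1).2, eig_mul h (stab_le_pst x (radU_le_stab x hu)) ht.1,
    eig_eq_one h (radU_le_stab x hu), one_mul]

/-- The centre part times the scalars. -/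
theorem scalar_card (hm : 1 ≤ m) (hW : ∃ t : F, t + t ^ q = 0 ∧ t ∉ wPart hF h K) :
    Nat.card (wPart hF h K) * Nat.card (eSet x y K) ≤ q ^ 2 - 1 ∧
      (wPart hF h K ≠ ⊥ →
        Nat.card (wPart hF h K) * Nat.card (eSet x y K) ≤ (q + 1) * (q - 2)) := by
  classical
  set W := wPart hF h K with hWdef
  let S := {b : F // b ^ q = b ∧ ∀ w ∈ W, b * w ∈ W}
  obtain ⟨e, he, heW⟩ := hW
  have hq := two_le hF
  have hinj : Nat.card W * Nat.card S ≤ q := by
    rw [← Nat.card_prod]
    refine le_trans ?_ (card_trace_ker hF).le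
    refine Nat.card_le_card_of_injective (fun p : W × S => (⟨p.1.1 + p.2.1 * e, ?_⟩ : (traceHom hF).ker)) ?_
    · show p.1.1 + p.2.1 * e + (p.1.1 + p.2.1 * e) ^ q = 0
      have h1 := wPart_le_trace hF h p.1.2
      rw [add_pow_q hF, mul_pow, p.2.2.1]
      linear_combination h1 + (p.2.1 : F) * he
    · rintro ⟨⟨w, hw⟩, ⟨b, hb, hbW⟩⟩ ⟨⟨w', hw'⟩, ⟨b', hb', hb'W⟩⟩ e'
      have e'' : w + b * e = w' + b' * e := congrArg Subtype.val e'
      have hbb : b = b' := by
        by_contra hne
        have hd : b - b' ≠ 0 := sub_ne_zero.2 hne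
        have hdW : ∀ v ∈ W, (b - b') * v ∈ W := fun v hv => by
          rw [sub_mul]; exact W.sub_mem (hbW v hv) (hb'W v hv)
        have hpow : ∀ k : ℕ, ∀ v ∈ W, (b - b') ^ k * v ∈ W := by
          intro k
          induction k with
          | zero => intro v hv; rwa [pow_zero, one_mul]
          | succ k ih => intro v hv; rw [pow_succ, mul_assoc]; exact ih _ (hdW v hv)
        have h1 : (b - b') * e ∈ W := by
          rw [show (b - b') * e = w' - w by linear_combination e'']; exact W.sub_mem hw' hw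
        have h2 := hpow (Fintype.card F - 2) _ h1
        have hF2 : 2 ≤ Fintype.card F := Fintype.one_lt_card
        rw [← mul_assoc, ← pow_succ, show Fintype.card F - 2 + 1 = Fintype.card F - 1 by omega,
          FiniteField.pow_card_sub_one_eq_one _ hd, one_mul] at h2
        exact heW h2
      subst hbb
      obtain rfl : w = w' := by linear_combination e''
      rfl
  have hsc : Nat.card (eSet x y K) ≤ (q + 1) * (Nat.card S - 1) := by
    let Z : S := ⟨0, zero_pow (q_ne_zero hF), fun w _ => by rw [zero_mul]; exact W.zero_mem⟩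
    have hS : Nat.card {b : S // b ≠ Z} = Nat.card S - 1 := by
      haveI := Fintype.ofFinite S
      rw [Nat.card_eq_fintype_card, Nat.card_eq_fintype_card, Fintype.card_subtype_compl,
        Fintype.card_subtype_eq]
    let f : eSet x y K → {b : S // b ≠ Z} := fun a =>
      ⟨⟨(a : F) ^ (q + 1), norm_fixed hF _, fun w hw => (eig_norm_mul_mem hF h hm a.2 hw).2⟩,
        fun e => (eig_norm_mul_mem hF h hm a.2 W.zero_mem).1
          (pow_eq_zero_iff (Nat.succ_ne_zero q) |>.1 (congrArg Subtype.val e))⟩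
    rw [← hS, mul_comm, ← card_norm_eq hF (one_pow q) one_ne_zero, ← Nat.card_prod]
    choose r hr using fun b : {b : S // b ≠ Z} => exists_norm_eq hF (c := ((b.1 : S) : F)) b.1.2.1
    have hb0 : ∀ b : {b : S // b ≠ Z}, ((b.1 : S) : F) ≠ 0 := fun b e => b.2 (Subtype.ext e)
    refine Nat.card_le_card_of_injective (fun a => (f a, ⟨(a : F) / r (f a), ?_⟩)) ?_
    · have e := hr (f a)
      rw [div_pow, e]
      exact div_self (hb0 (f a))
    · intro a a' e
      obtain ⟨e1, e2⟩ := Prod.ext_iff.1 e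
      have e2' : (a : F) / r (f a) = (a' : F) / r (f a') := congrArg Subtype.val e2
      simp only [show f a = f a' from e1] at e2'
      have hr0 : r (f a') ≠ 0 := fun hz => hb0 (f a') (by
        rw [← hr (f a'), hz, zero_pow (Nat.succ_ne_zero q)])
      exact Subtype.ext ((div_left_inj' hr0).1 e2')
  have hb : Nat.card W * Nat.card (eSet x y K) ≤ (q + 1) * (q - Nat.card W) := by
    calc Nat.card W * Nat.card (eSet x y K) ≤ Nat.card W * ((q + 1) * (Nat.card S - 1)) :=
          Nat.mul_le_mul_left _ hsc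
      _ = (q + 1) * (Nat.card W * (Nat.card S - 1)) := by ring
      _ ≤ (q + 1) * (q - Nat.card W) := by
          refine Nat.mul_le_mul_left _ ?_
          rw [Nat.mul_sub, mul_one]
          exact Nat.sub_le_sub_right hinj _
  have hpos : 0 < Nat.card W := Nat.card_pos
  have hsq : q ^ 2 - 1 = (q + 1) * (q - 1) := by
    rw [← Nat.sq_sub_sq, one_pow]
  refine ⟨hb.trans (by rw [hsq]; exact Nat.mul_le_mul_left _ (by omega)), fun hne => hb.trans ?_⟩
  have h2 : Nat.card W ≠ 1 := fun e => hne (AddSubgroup.eq_bot_of_card_eq W e)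
  exact Nat.mul_le_mul_left _ (by omega)

theorem iPart_skew {a b : V} (ha : a ∈ iPart hF h K) (hb : b ∈ iPart hF h K) :
    skew q a b ∈ wPart hF h K := by
  obtain ⟨g, ⟨hgK, hg⟩, rfl⟩ := ha
  obtain ⟨g', ⟨hgK', hg'⟩, rfl⟩ := hb
  have hd := skew_trace hF (pr x y g) (pr x y g')
  have e := comm_radU hF h hg hg' hd
  refine ⟨_, ⟨mul_mem (mul_mem (mul_mem hgK hgK') (inv_mem hgK)) (inv_mem hgK'), ?_⟩, ?_⟩
  · rw [e]; exact ⟨H55.Psu.tv_mem_radU hF h.1 hd, pr_tv hF h hd⟩
  · rw [e, gam]
    erw [tv_mulVec hF x _ h.1 hd]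
    rw [add_sub_cancel_left, h_smul_left, h.2.2, (h.symm hF).2.2, mul_one, mul_one]

/-- Elements of the Levi part permute the part in the radical. -/
theorem gPart_iPart {l : G} (hl : l ∈ gPart hF h K) {w : V} (hw : w ∈ iPart hF h K) :
    suMat l *ᵥ w ∈ iPart hF h K := by
  obtain ⟨hl', u, hu, hul⟩ := hl
  obtain ⟨v, ⟨hvK, hv⟩, rfl⟩ := hw
  obtain ⟨h1, h2⟩ := pr_conj hF h hu (stab2_le_lev hF h hl') hv
  refine ⟨_, ⟨mul_mem (mul_mem hul hvK) (inv_mem hul), h1⟩, ?_⟩
  rw [h2, eig_eq_one h hl'.1, one_pow, one_smul]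

omit h hF in
/-- The pairing on vectors built from a character. -/
theorem exists_char {W : AddSubgroup F} {t : F} (htW : t ∉ W) :
    ∃ ψ : AddChar F ℂ, (∀ w ∈ W, ψ w = 1) ∧ ψ t ≠ 1 := by
  obtain ⟨χ, hχ⟩ := AddChar.exists_apply_ne_zero.2
    (show (QuotientAddGroup.mk t : F ⧸ W) ≠ 0 from fun e => htW ((QuotientAddGroup.eq_zero_iff t).1 e))
  refine ⟨χ.compAddMonoidHom (QuotientAddGroup.mk' W), fun w hw => ?_, hχ⟩
  show χ (QuotientAddGroup.mk w) = 1
  rw [(QuotientAddGroup.eq_zero_iff w).2 hw, AddChar.map_zero_eq_one]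

/-- The annihilator of a group in the complement of the pair. -/
theorem exists_annih (hm : 1 ≤ m) {ψ : AddChar F ℂ} {t : F} (ht : t + t ^ q = 0) (hψ : ψ t ≠ 1)
    (I : AddSubgroup V) (hI : ∀ w ∈ I, w ∈ pperp q x y) :
    ∃ J : AddSubgroup V, (∀ v, v ∈ J ↔ v ∈ pperp q x y ∧ ∀ i ∈ I, ψ (skew q i v) = 1) ∧
      Nat.card J * Nat.card I = q ^ (2 * m) := by
  let J : AddSubgroup V :=
    { carrier := {v | v ∈ pperp q x y ∧ ∀ i ∈ I, ψ (skew q i v) = 1}
      add_mem' := fun {a b} ha hb => ⟨Submodule.add_mem _ ha.1 hb.1, fun i hi => by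
        have e : skew q i (a + b) = skew q i a + skew q i b := by
          simp only [skew, h_add_left, h_add_right hF]; ring
        rw [e, AddChar.map_add_eq_mul, ha.2 i hi, hb.2 i hi, one_mul]⟩
      zero_mem' := ⟨Submodule.zero_mem _, fun i _ => by
        rw [skew, h_zero_left, h_zero_right hF, sub_zero, AddChar.map_zero_eq_one]⟩
      neg_mem' := fun {a} ha => ⟨Submodule.neg_mem _ ha.1, fun i hi => by
        have e : skew q i (-a) = -skew q i a := by
          simp only [skew, h_neg_left, h_neg_right hF]; ring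
        rw [e, AddChar.map_neg_eq_inv, ha.2 i hi, inv_one]⟩ }
  refine ⟨J, fun v => Iff.rfl, ?_⟩
  let A := pperp q x y
  let I' : AddSubgroup A := I.comap A.subtype.toAddMonoidHom
  let J' : AddSubgroup A := J.comap A.subtype.toAddMonoidHom
  have hcard : ∀ (X : AddSubgroup V), (∀ w ∈ X, w ∈ A) →
      Nat.card (X.comap A.subtype.toAddMonoidHom) = Nat.card X := fun X hX =>
    Nat.card_congr
      { toFun := fun v => ⟨v.1.1, v.2⟩
        invFun := fun v => ⟨⟨v.1, hX _ v.2⟩, v.2⟩
        left_inv := fun v => rfl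
        right_inv := fun v => rfl }
  rw [← hcard I hI, ← hcard J fun w hw => hw.1, ← card_pperp hF h hm]
  obtain ⟨e, he⟩ := H51.ShortU.exists_skew_eq hF ht
  refine pairing_annih (A := A) (fun a b => ψ (skew q (a : V) (b : V))) ?_ ?_ ?_ ?_ ?_ I' J' ?_
  · intro a b c
    rw [← AddChar.map_add_eq_mul]; congr 1
    simp only [skew, Submodule.coe_add, h_add_left, h_add_right hF]; ring
  · intro a b c
    rw [← AddChar.map_add_eq_mul]; congr 1
    simp only [skew, Submodule.coe_add, h_add_left, h_add_right hF]; ring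
  · intro a; simp [skew, h_zero_left, h_zero_right hF]
  · intro a; simp [skew, h_zero_left, h_zero_right hF]
  · intro a ha
    by_contra ha0
    obtain ⟨b, hb, hab⟩ : ∃ b ∈ A, hh (a : V) b ≠ 0 := by
      by_contra hcon
      simp only [not_exists, not_and, not_not] at hcon
      exact ha0 (Subtype.ext (GramND.isNondeg_perp hF (h.gramND hF) _ a.2 hcon))
    have hlam := ha ⟨(e / hh (a : V) b) ^ q • b, Submodule.smul_mem _ _ hb⟩
    have he' : skew q (a : V) ((e / hh (a : V) b) ^ q • b) = t := by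
      rw [skew, h_smul_right hF, h_smul_left, pow_q_pow_q hF, h_symm hF (a : V) b, ← mul_pow,
        div_mul_cancel₀ _ hab, he]
    exact hψ (by rw [← he']; exact hlam)
  · exact fun v => ⟨fun hv i hi => hv.2 (i : V) hi,
      fun hv => ⟨v.2, fun i hi => hv ⟨i, hI i hi⟩ hi⟩⟩

/-- The part in the radical has at most as many elements as a maximal isotropic space. -/
theorem card_iPart_sq (hm : 1 ≤ m) (hW : ∃ t : F, t + t ^ q = 0 ∧ t ∉ wPart hF h K) :
    Nat.card (iPart hF h K) ≤ q ^ m := by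
  obtain ⟨t, ht, htW⟩ := hW
  obtain ⟨ψ, hψW, hψt⟩ := exists_char htW
  obtain ⟨J, hJ, hcard⟩ := exists_annih hF h hm ht hψt (iPart hF h K) fun w hw => iPart_le_pperp hF h hw
  have hle : Nat.card (iPart hF h K) ≤ Nat.card J :=
    Nat.card_le_card_of_injective (fun w => (⟨(w : V), (hJ _).2 ⟨iPart_le_pperp hF h w.2,
      fun i hi => hψW _ (iPart_skew hF h hi w.2)⟩⟩ : J)) fun a b e => Subtype.ext (congrArg Subtype.val e :)
  refine le_of_not_gt fun hlt => ?_
  have h2 := Nat.mul_le_mul_right (Nat.card (iPart hF h K)) hle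
  rw [hcard, two_mul, pow_add] at h2
  have := Nat.mul_lt_mul'' hlt hlt
  omega

/-- With the whole derived Levi group, the part in the radical is trivial. -/
theorem iPart_eq_bot (hm : 3 ≤ m) (hW : ∃ t : F, t + t ^ q = 0 ∧ t ∉ wPart hF h K)
    (hfull : gPart hF h K = stab2 x y) : iPart hF h K = ⊥ := by
  obtain ⟨ι, j, -, hι, hj, hjh, hιj, hjs⟩ := exists_pair_hom hF (by omega) h
  have hA := eq_bot_of_invariant hF hm ((iPart hF h K).comap j.toAddMonoidHom) (fun g w hw => by
      show j (suMat g *ᵥ w) ∈ iPart hF h K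
      rw [← hιj]
      exact gPart_iPart hF h (by rw [hfull, ← hι]; exact ⟨g, rfl⟩) hw)
    (wPart hF h K) hW fun a ha b hb => by
      have := iPart_skew hF h ha hb
      simpa only [skew, LinearMap.toAddMonoidHom_coe, hjh] using this
  rw [AddSubgroup.eq_bot_iff_forall]
  intro w hw
  obtain ⟨hwx, hwy⟩ := mem_pperp.1 (iPart_le_pperp hF h hw)
  obtain ⟨v, rfl⟩ := hjs w hwx hwy
  have hv : v ∈ (⊥ : AddSubgroup (Fin m → F)) := hA ▸ hw
  rw [AddSubgroup.mem_bot] at hv
  rw [hv, map_zero]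

theorem pst_eq_stabilizer :
    pst x = MulAction.stabilizer G (IsoPt.mk x (h.fst_ne_zero hF) h.1 : IsoPt (m + 2) q F) := by
  ext g
  rw [MulAction.mem_stabilizer_iff, smul_isoPt_eq]
  constructor
  · rintro ⟨a, -, ha⟩; exact ⟨a, ha.symm⟩
  · rintro ⟨a, ha⟩
    exact ⟨a, fun e => h.fst_ne_zero hF (suMat_injective g (by simp [← ha, e])), ha.symm⟩

theorem index_pst (hm : 1 ≤ m) : (pst (q := q) x).index = Nat.card (IsoPt (m + 2) q F) := by
  haveI := isoPt_pretransitive hF (n := m + 2) (by omega)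
  rw [pst_eq_stabilizer hF h]
  exact MulAction.index_stabilizer_of_transitive G _

/-- The index times the length of an orbit. -/
theorem index_mul_orbit (hm : 1 ≤ m) (K : Subgroup G) :
    K.index * (MulAction.orbit K (IsoPt.mk x (h.fst_ne_zero hF) h.1 : IsoPt (m + 2) q F)).ncard =
      K.relIndex (pst x) * Nat.card (IsoPt (m + 2) q F) := by
  set p : IsoPt (m + 2) q F := IsoPt.mk x (h.fst_ne_zero hF) h.1
  have h1 : (K ⊓ pst x).index = (pst x).relIndex K * K.index := by
    rw [← Subgroup.inf_relIndex_left, Subgroup.relIndex_mul_index inf_le_left]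
  have h2 : (K ⊓ pst x).index = K.relIndex (pst x) * (pst (q := q) x).index := by
    rw [← Subgroup.inf_relIndex_right K, Subgroup.relIndex_mul_index inf_le_right]
  have h3 : (MulAction.orbit K p).ncard = (pst x).relIndex K := by
    rw [← MulAction.index_stabilizer K p, pst_eq_stabilizer hF h]
    rfl
  rw [h3, mul_comm, ← h1, h2, index_pst hF h hm]

end Pair

/-- Two orbits. -/
theorem relIndex_add_le {m : ℕ} (hm : 1 ≤ m) (K : Subgroup (SU (m + 2) F q))
    {x y z w : Fin (m + 2) → F} (h : IsHyp q x y) (h' : IsHyp q z w)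
    (hne : ∀ g ∈ K, ∀ a : F, suMat g *ᵥ x ≠ a • z) :
    K.relIndex (pst x) + K.relIndex (pst z) ≤ K.index := by
  classical
  set p : IsoPt (m + 2) q F := IsoPt.mk x (h.fst_ne_zero hF) h.1 with hp
  set p' : IsoPt (m + 2) q F := IsoPt.mk z (h'.fst_ne_zero hF) h'.1 with hp'
  haveI : Finite (IsoPt (m + 2) q F) := by unfold IsoPt; infer_instance
  have h1 := index_mul_orbit hF h hm K
  have h2 := index_mul_orbit hF h' hm K
  have hd : Disjoint (MulAction.orbit K p) (MulAction.orbit K p') := by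
    rw [Set.disjoint_left]
    rintro r ⟨g, rfl⟩ ⟨g', hg'⟩
    have e : (g'⁻¹ * g) • p = p' := by
      rw [mul_smul, inv_smul_eq_iff]; exact hg'.symm
    obtain ⟨a, ha⟩ := smul_isoPt_eq.1 (show ((g'⁻¹ * g : K) : SU (m + 2) F q) • p = p' from e)
    exact hne _ (g'⁻¹ * g : K).2 a ha.symm
  have hle : (MulAction.orbit K p).ncard + (MulAction.orbit K p').ncard ≤
      Nat.card (IsoPt (m + 2) q F) := by
    rw [← Set.ncard_union_eq hd, ← Set.ncard_univ]
    exact Set.ncard_le_ncard (Set.subset_univ _)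
  have hN : 0 < Nat.card (IsoPt (m + 2) q F) := by
    haveI : Nonempty (IsoPt (m + 2) q F) := ⟨p⟩
    exact Nat.card_pos
  refine Nat.le_of_mul_le_mul_right ?_ hN
  rw [add_mul, ← h1, ← h2, ← mul_add]
  exact Nat.mul_le_mul_left _ hle

end H37.SUMin
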