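import Cfsg.Agent.H37.SUMinLevi

/-!
The field of four elements and `m ≡ 1 (mod 3)`: lifting the Levi subgroup over the centre without a
scalar that moves everything.
-/

set_option autoImplicit false

namespace H37.SUMin

open Matrix Cfsg H50 H50.PointStab H50.RadFrame

universe u

variable {F : Type u} [Field F] {m : ℕ}

local notation "V" => (Fin (m + 2) → F)
local notation "hh" => hermForm (m + 2) F 2
local notation "G" => SU (m + 2) F 2

variable [Fintype F] (hF : Fintype.card F = 2 ^ 2)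
include hF

theorem four_two_eq_zero : (2 : F) = 0 := by
  have := FiniteField.cast_card_eq_zero F
  rw [hF, Nat.cast_pow, Nat.cast_ofNat] at this
  exact pow_eq_zero_iff two_ne_zero |>.1 this

theorem four_cube {a : F} (ha : a ≠ 0) : a ^ 3 = 1 := by
  have := FiniteField.pow_card_sub_one_eq_one a ha
  rwa [hF] at this

theorem exists_four_omega : ∃ w : F, w ≠ 0 ∧ w ≠ 1 ∧ w ^ 2 + w + 1 = 0 := by
  classical
  obtain ⟨w, -, hw⟩ := Finset.exists_mem_notMem_of_card_lt_card (s := ({0, 1} : Finset F))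
    (t := Finset.univ) (by
      rw [Finset.card_univ, hF]
      have := Finset.card_le_two (a := (0 : F)) (b := 1)
      omega)
  simp only [Finset.mem_insert, Finset.mem_singleton, not_or] at hw
  refine ⟨w, hw.1, hw.2, ?_⟩
  have h3 := four_cube hF hw.1
  have : (w - 1) * (w ^ 2 + w + 1) = 0 := by linear_combination h3
  exact (mul_eq_zero.1 this).resolve_left (sub_ne_zero.2 hw.2)

section Pair

variable {x y : Fin (m + 2) → F} (h : IsHyp 2 x y) {K : Subgroup (SU (m + 2) F 2)}
include h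

theorem tv_mem_stab2 {v : V} (hv : v ∈ pperp 2 x y) {c : F} (hvv : hh v v = 0) (hc : c + c ^ 2 = 0) :
    tv hF v c hvv hc ∈ stab2 (q := 2) x y := by
  obtain ⟨hvx, hvy⟩ := mem_pperp.1 hv
  refine mem_stab2.2 ⟨?_, ?_⟩ <;> rw [tv_mulVec]
  · rw [(h_eq_zero_comm hF).1 hvx, mul_zero, zero_smul, add_zero]
  · rw [(h_eq_zero_comm hF).1 hvy, mul_zero, zero_smul, add_zero]

theorem Exact.exists_lev_pureW_four (hK : Exact K x y) (hm : 5 ≤ m) (hm3 : m % 3 = 1) :
    ∃ u₀ ∈ H55.Psu.radU (q := 2) x, lev 2 x y ≤ pureW hF h (conjK K u₀) := by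
  classical
  obtain ⟨k, rfl⟩ : ∃ k, m = k + 5 := ⟨m - 5, by omega⟩
  obtain ⟨e, he⟩ := exists_frame hF (m := k + 5) rfl h
  obtain ⟨w, hw0, hw1, hwq⟩ := exists_four_omega hF
  have hE : ∀ a b, hermForm (k + 5 + 2) F 2 (e a) (e b) = if a = b then 1 else 0 := he.on
  have h2 := four_two_eq_zero hF
  have h3 := four_cube hF hw0
  have hn1 : w ^ (2 + 1) = 1 := h3
  have hn2 : (w ^ 2) ^ (2 + 1) = 1 := by rw [← pow_mul, mul_comm, pow_mul, hn1, one_pow]
  let dP : Fin (k + 5) → F := fun i => if i = 0 ∨ i = 1 then w ^ 2 else 1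
  obtain ⟨s, hs, hsa, hse⟩ := diag_lev hF h he hw0 dP
    (fun i => by simp only [dP]; split_ifs; exacts [hn2, one_pow _]) (by
      have : ∏ i, dP i = w ^ 2 * w ^ 2 := by
        rw [Fin.prod_univ_succ, Fin.prod_univ_succ,
          Finset.prod_eq_one fun i _ => show dP i.succ.succ = 1 by
            simp only [dP]; rw [if_neg]; rintro (h' | h') <;> exact absurd (congrArg Fin.val h') (by simp)]
        simp [dP]
      rw [this]
      linear_combination w ^ 2 * h3)
  have hfix : ∀ v ∈ pperp 2 x y, act 2 x y s v = v → v = 0 := by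
    intro v hv e'
    rw [act, hsa, frame_ext hF h he hv, mulVec_sum, Finset.smul_sum] at e'
    rw [frame_ext hF h he hv]
    refine Finset.sum_eq_zero fun j _ => ?_
    have e1 := congrArg (fun z => hermForm (k + 5 + 2) F 2 z (e j)) e'
    simp only [mulVec_smul, hse, smul_smul, IsON.coeff hF he.on] at e1
    have hne : w ^ 2 * dP j ≠ 1 := by
      simp only [dP]; split_ifs
      · intro h'; exact hw1 (by linear_combination h' - w * h3)
      · intro h'; exact hw1 (by linear_combination h3 - w * h')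
    have : (w ^ 2 * dP j - 1) * hermForm (k + 5 + 2) F 2 v (e j) = 0 := by linear_combination e1
    rw [(mul_eq_zero.1 this).resolve_left (sub_ne_zero.2 hne), zero_smul]
  obtain ⟨u₀, hu₀, hsP⟩ := hK.exists_pureW hF h hs hfix
  refine ⟨u₀, hu₀, ?_⟩
  have hJ := hK.conj hF h hu₀
  set J := conjK K u₀
  have hC : ∀ t ∈ lev 2 x y, s * t = t * s → t ∈ pureW hF h J := fun t ht hst =>
    hJ.pureW_of_comm hF h hsP hfix ht hst
  -- transvections orthogonal to one of the first two frame vectors
  have hgood : ∀ i : Fin (k + 5), i = 0 ∨ i = 1 → ∀ (v : Fin (k + 5 + 2) → F) (hv : v ∈ pperp 2 x y)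
      (hvv : hermForm _ F 2 v v = 0) (c : F) (hc : c + c ^ 2 = 0),
      hermForm _ F 2 v (e i) = 0 → tv hF v c hvv hc ∈ pureW hF h J := by
    intro i hi v hv hvv c hc hvi
    by_cases hv0 : v = 0
    · have : tv hF v c hvv hc = 1 := suMat_ext fun z => by rw [tv_mulVec, hv0, suMat_one]; simp
      rw [this]; exact one_mem _
    obtain ⟨r, hr, hra, hre⟩ := diag_lev hF h he one_ne_zero (fun j => if j = i then 1 else w)
      (fun j => by split_ifs; exacts [one_pow _, hn1]) (by
        rw [Finset.prod_ite, Finset.prod_const_one, one_mul, Finset.prod_const, Finset.filter_ne',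
          Finset.card_erase_of_mem (Finset.mem_univ _), Finset.card_univ, Fintype.card_fin, one_mul,
          one_pow]
        obtain ⟨l, hl⟩ : ∃ l, k + 5 - 1 = 3 * l := ⟨(k + 5) / 3, by omega⟩
        rw [hl, pow_mul, h3, one_pow])
    have hrP : r ∈ pureW hF h J := hC r hr (diag_comm hF h he hs hr hse hre)
    have hline : ∀ g ∈ lev 2 x y, r * g = g * r → ∀ b ∈ H55.Psu.radU x, b * g ∈ J →
        ∃ κ : F, pr x y b = κ • e i := by
      intro g hg hrg b hb hbg
      obtain ⟨hrl, a, ha, har⟩ := hrP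
      have e' := congrArg (pr x y) (hJ.comm_eq hF h hrl hg ha.1 hb har hbg hrg)
      rw [(rad_mul hF h ha.1 (radU_conj_mem hF h hrl.1 hb)).1,
        (rad_mul hF h hb (radU_conj_mem hF h hg.1 ha.1)).1, (rad_conj hF h hrl hb).1,
        (rad_conj hF h hg ha.1).1, ha.2, mulVec_zero, smul_zero, zero_add, add_zero, hra, one_pow,
        one_smul] at e'
      have hb' := pr_mem hF h (radU_le_stab x hb)
      refine ⟨hermForm _ F 2 (pr x y b) (e i), ?_⟩
      conv_lhs => rw [frame_ext hF h he hb']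
      refine Finset.sum_eq_single i (fun j _ hj => ?_) (fun hi' => absurd (Finset.mem_univ _) hi')
      have e1 := congrArg (fun z => hermForm _ F 2 z (e j)) e'
      conv_lhs at e1 => rw [frame_ext hF h he hb', mulVec_sum]
      simp only [mulVec_smul, hre, smul_smul, IsON.coeff hF he.on, if_neg hj] at e1
      have : (w - 1) * hermForm _ F 2 (pr x y b) (e j) = 0 := by linear_combination e1
      rw [(mul_eq_zero.1 this).resolve_left (sub_ne_zero.2 hw1), zero_smul]
    -- a fixed isotropic vector outside the first two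
    let j₂ : Fin (k + 5) := ⟨2, by omega⟩
    let j₃ : Fin (k + 5) := ⟨3, by omega⟩
    set p := e j₂ + e j₃ with hp
    have hj : j₂ ≠ j₃ := by simp [j₂, j₃, Fin.ext_iff]
    have hpp : hermForm _ F 2 p p = 0 := by
      simp only [hp, h_add_left, h_add_right hF, hE, if_neg hj, if_neg hj.symm, if_true]
      linear_combination h2
    have hpi : hermForm _ F 2 p (e i) = 0 := by
      have h1 : j₂ ≠ i := by rcases hi with rfl | rfl <;> simp [j₂, Fin.ext_iff]
      have h1' : j₃ ≠ i := by rcases hi with rfl | rfl <;> simp [j₃, Fin.ext_iff]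
      simp [hp, h_add_left, hE, h1, h1']
    have hpV : p ∈ pperp 2 x y := Submodule.add_mem _ (he.perp _) (he.perp _)
    have hp0 : p ≠ 0 := fun e' => by
      have := congrArg (fun z => hermForm _ F 2 z (e j₂)) e'
      simp [hp, h_add_left, hE, hj.symm, h_zero_left] at this
    have hpP : tv hF p c hpp hc ∈ pureW hF h J := by
      refine hC _ (stab2_le_lev hF h (tv_mem_stab2 hF h hpV hpp hc)) ?_
      have hsp : suMat s *ᵥ p = p := by
        rw [hp, mulVec_add, hse, hse]
        simp only [dP]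
        rw [if_neg (by rintro (h' | h') <;> exact absurd (congrArg Fin.val h') (by simp [j₂])),
          if_neg (by rintro (h' | h') <;> exact absurd (congrArg Fin.val h') (by simp [j₃])),
          one_smul, one_smul]
      rw [← mul_inv_eq_iff_eq_mul, H55.Psu.tv_conj hF]
      exact H55.Psu.tv_ext hF hsp rfl _ _ _ _
    -- partners and the element moving `p` to `v`
    have partner : ∀ z, z ≠ 0 → z ∈ pperp 2 x y → hermForm _ F 2 z z = 0 → hermForm _ F 2 z (e i) = 0 →
        ∃ f, IsHyp 2 z f ∧ f ∈ pperp 2 x y ∧ hermForm _ F 2 f (e i) = 0 := by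
      intro z hz0 hz hzz hzi
      let U := perp 2 (Set.range (Sum.elim ![x, y] fun _ : Unit => e i))
      have hU : IsNondeg 2 U := GramND.isNondeg_perp hF (sumElim_gramND hF (h.gramND hF)
        (fun a b => by simp [hE])
        fun _ l => mem_perp_range.1 (he.perp i) l)
      have hzU : z ∈ U := mem_perp_range.2 fun l => by
        rcases l with l | l
        · exact mem_perp_range.1 hz l
        · exact hzi
      obtain ⟨b, hb, hzb⟩ : ∃ b ∈ U, hermForm _ F 2 z b ≠ 0 := by
        by_contra hno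
        simp only [not_exists, not_and, not_not] at hno
        exact hz0 (hU z hzU hno)
      obtain ⟨f, hfU, hf⟩ := H51.StabMax.exists_partner_in hF hzU hzz hb hzb
      have hf' := mem_perp_range.1 hfU
      exact ⟨f, hf, mem_perp_range.2 fun l => hf' (Sum.inl l), hf' (Sum.inr ())⟩
    obtain ⟨p', hp', hp'V, hp'i⟩ := partner p hp0 hpV hpp hpi
    obtain ⟨v', hv', hv'V, hv'i⟩ := partner v hv0 hv hvv hvi
    have hfr : ∀ (z f : Fin (k + 5 + 2) → F), IsHyp 2 z f → z ∈ pperp 2 x y → f ∈ pperp 2 x y →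
        (∀ a b, hermForm _ F 2 ((![x, z] : Fin 2 → _) a) ((![x, z] : Fin 2 → _) b) = 0) ∧
        (∀ a b, hermForm _ F 2 ((![x, z] : Fin 2 → _) a) ((![y, f] : Fin 2 → _) b) =
          if a = b then 1 else 0) ∧
        (∀ a b, hermForm _ F 2 ((![y, f] : Fin 2 → _) a) ((![y, f] : Fin 2 → _) b) = 0) := by
      intro z f hzf hz hf
      obtain ⟨hzx, hzy⟩ := mem_pperp.1 hz
      obtain ⟨hfx, hfy⟩ := mem_pperp.1 hf
      have hxz := (h_eq_zero_comm hF).1 hzx
      have hxf := (h_eq_zero_comm hF).1 hfx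
      have hyz := (h_eq_zero_comm hF).1 hzy
      have hyf := (h_eq_zero_comm hF).1 hfy
      refine ⟨?_, ?_, ?_⟩ <;> intro a b <;> fin_cases a <;> fin_cases b <;>
        simp [h.1, h.2.1, h.2.2, hzf.1, hzf.2.1, hzf.2.2, hzx, hfy, hxz, hxf, hyf, hzy, hyz]
    obtain ⟨q1, q2, q3⟩ := hfr p p' hp' hpV hp'V
    obtain ⟨r1, r2, r3⟩ := hfr v v' hv' hv hv'V
    have hon : IsON 2 (fun _ : Unit => e i) := fun a b => by simp [hE]
    have hperp : ∀ (z f : Fin (k + 5 + 2) → F), hermForm _ F 2 z (e i) = 0 → hermForm _ F 2 f (e i) = 0 →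
        ∀ (_ : Unit) (l : Fin 2 ⊕ Fin 2),
          hermForm _ F 2 (e i) (Sum.elim ![x, z] ![y, f] l) = 0 := by
      intro z f hz hf _ l
      obtain ⟨hix, hiy⟩ := mem_pperp.1 (he.perp i)
      rcases l with l | l <;> fin_cases l <;>
        simp [hix, hiy, (h_eq_zero_comm hF).1 hz, (h_eq_zero_comm hF).1 hf]
    obtain ⟨g, hg⟩ := exists_SU_of_sameGram hF
      (sumElim_gramND hF (hypFrame_gramND hF q1 q2 q3) hon (hperp p p' hpi hp'i))
      (sumElim_sameGram hF (hypFrame_sameGram hF q1 q2 q3 r1 r2 r3) hon hon (hperp p p' hpi hp'i)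
        (hperp v v' hvi hv'i)) (by simp)
    have hgx : suMat g *ᵥ x = x := hg (Sum.inl (Sum.inl 0))
    have hgy : suMat g *ᵥ y = y := hg (Sum.inl (Sum.inr 0))
    have hgp : suMat g *ᵥ p = v := hg (Sum.inl (Sum.inl 1))
    have hgi : suMat g *ᵥ e i = e i := hg (Sum.inr ())
    have hgl : g ∈ lev 2 x y := stab2_le_lev hF h (mem_stab2.2 ⟨hgx, hgy⟩)
    -- `r` is scalar off `e i`
    have hr' : ∀ z ∈ pperp 2 x y, suMat r *ᵥ z = w • z + ((1 - w) * hermForm _ F 2 z (e i)) • e i := by
      intro z hz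
      conv_lhs => rw [frame_ext hF h he hz, mulVec_sum]
      conv_rhs => arg 1; rw [frame_ext hF h he hz]
      rw [Finset.smul_sum, ← Finset.add_sum_erase _ _ (Finset.mem_univ i),
        ← Finset.add_sum_erase _ (fun j => w • _) (Finset.mem_univ i)]
      rw [Finset.sum_congr rfl (g := fun j => w • hermForm _ F 2 z (e j) • e j) (fun j hj => by
        rw [mulVec_smul, hre, if_neg (Finset.ne_of_mem_erase hj), smul_comm])]
      rw [mulVec_smul, hre, if_pos rfl, one_smul]
      module
    have hrg : r * g = g * r := by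
      obtain ⟨-, hrx, hry⟩ := lev_spec hF h hr
      refine lev_ext hF h ?_ ?_ fun z hz => ?_
      · simp only [suMat_mulVec_mul, hgx, hrx, mulVec_smul]
      · simp only [suMat_mulVec_mul, hgy, hry, mulVec_smul]
      · have hzi : hermForm _ F 2 (suMat g *ᵥ z) (e i) = hermForm _ F 2 z (e i) := by
          conv_lhs => rw [← hgi]
          rw [suMat_h]
        rw [suMat_mulVec_mul, suMat_mulVec_mul, hr' z hz, hr' _ (lev_pperp hF h hgl hz), hzi, mulVec_add,
          mulVec_smul, mulVec_smul, hgi]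
    obtain ⟨b, hb, hbg⟩ := hJ.lift g hgl
    obtain ⟨κ, hκ⟩ := hline g hgl hrg b hb hbg
    obtain ⟨htl, a, ha, hat⟩ := hpP
    have ht' : g * tv hF p c hpp hc * g⁻¹ = tv hF v c hvv hc :=
      (H55.Psu.tv_conj hF g p hpp hc).trans (H55.Psu.tv_ext hF hgp rfl _ _ _ _)
    have htvl : tv hF v c hvv hc ∈ lev 2 x y := stab2_le_lev hF h (tv_mem_stab2 hF h hv hvv hc)
    have hgag : g * a * g⁻¹ = a := zRad_conj_stab2 hF h ha hgl
      (by rw [eig_eq_one h (mem_stab.2 hgx), one_pow])
    have hin := mul_mem (mul_mem hbg hat) (inv_mem hbg)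
    refine ⟨htvl, b * a * (tv hF v c hvv hc * b⁻¹ * (tv hF v c hvv hc)⁻¹), ?_, ?_⟩
    · have hbi : b⁻¹ ∈ H55.Psu.radU (q := 2) x := (H55.Psu.radU (q := 2) x).inv_mem hb
      have hcb := radU_conj_mem hF h htvl.1 hbi
      refine ⟨(H55.Psu.radU (q := 2) x).mul_mem ((H55.Psu.radU (q := 2) x).mul_mem hb ha.1) hcb, ?_⟩
      rw [(rad_mul hF h ((H55.Psu.radU (q := 2) x).mul_mem hb ha.1) hcb).1, (rad_mul hF h hb ha.1).1,
        ha.2, add_zero, (rad_conj hF h htvl hbi).1, (rad_inv hF h hb).1, hκ,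
        eig_eq_one h (tv_mem_stab2 hF h hv hvv hc).1, one_pow, one_smul, mulVec_neg, mulVec_smul,
        tv_mulVec, (h_eq_zero_comm hF).1 hvi, mul_zero, zero_smul, add_zero, add_neg_cancel]
    · convert hin using 1
      rw [← ht']
      conv_lhs => rw [← hgag]
      group
  -- all transvections
  have hall : ∀ (v : Fin (k + 5 + 2) → F) (hv : v ∈ pperp 2 x y) (hvv : hermForm _ F 2 v v = 0) (c : F)
      (hc : c + c ^ 2 = 0), tv hF v c hvv hc ∈ pureW hF h J := by
    intro v hv hvv c hc
    by_cases h0 : hermForm _ F 2 v (e 0) = 0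
    · exact hgood 0 (Or.inl rfl) v hv hvv c hc h0
    by_cases h1 : hermForm _ F 2 v (e 1) = 0
    · exact hgood 1 (Or.inr rfl) v hv hvv c hc h1
    obtain ⟨r, hr, hrr, hr0, hr1, hrv⟩ : ∃ r ∈ pperp 2 x y, hermForm _ F 2 r r = 1 ∧
        hermForm _ F 2 r (e 0) = 0 ∧ hermForm _ F 2 r (e 1) = 0 ∧ hermForm _ F 2 r v = 0 := by
      let j : Fin 3 → Fin (k + 5) := fun l => ⟨l + 2, by omega⟩
      have hj0 : ∀ l, j l ≠ 0 := fun l h' => absurd (congrArg Fin.val h') (by simp [j])
      have hj1 : ∀ l, j l ≠ 1 := fun l h' => absurd (congrArg Fin.val h') (by simp [j])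
      have hjj : ∀ l l', j l = j l' ↔ l = l' := fun l l' =>
        ⟨fun h' => Fin.ext (by have := congrArg Fin.val h'; simp only [j] at this; omega), fun h' => by rw [h']⟩
      by_cases hz : ∃ l, hermForm _ F 2 v (e (j l)) = 0
      · obtain ⟨l, hl⟩ := hz
        exact ⟨e (j l), he.perp _, by simp [hE], by simp [hE, hj0 l],
          by simp [hE, hj1 l], (h_eq_zero_comm hF).1 hl⟩
      simp only [not_exists] at hz
      let a : Fin 3 → F := fun l => hermForm _ F 2 v (e (j l)) * w ^ (l : ℕ)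
      have hN : ∀ l : Fin 3, a l * a l ^ 2 = 1 := fun l => by
        rw [← pow_succ']
        exact four_cube hF (mul_ne_zero (hz l) (pow_ne_zero _ hw0))
      refine ⟨∑ l : Fin 3, a l • e (j l),
        Submodule.sum_mem _ fun l _ => Submodule.smul_mem _ _ (he.perp _), ?_, ?_, ?_, ?_⟩
      · rw [h_sum_left]
        simp only [h_sum_right hF, h_smul_left, h_smul_right hF, hE, hjj]
        simp [Fin.sum_univ_three]
        linear_combination hN 0 + hN 1 + hN 2 + h2
      · simp [h_sum_left, h_smul_left, hE, hj0]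
      · simp [h_sum_left, h_smul_left, hE, hj1]
      · have hN' : ∀ l : Fin 3, hermForm _ F 2 v (e (j l)) ^ 3 = 1 := fun l => four_cube hF (hz l)
        have hs' : ∀ l : Fin 3, hermForm _ F 2 (e (j l)) v = hermForm _ F 2 v (e (j l)) ^ 2 :=
          fun l => h_symm hF _ _
        rw [h_sum_left]
        simp only [a, h_smul_left, hs', Fin.sum_univ_three]
        simp only [Fin.val_zero, Fin.val_one, Fin.val_two]
        linear_combination hN' 0 + w * hN' 1 + w ^ 2 * hN' 2 + hwq
    -- move `v` by the transvection at `e 0 + r`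
    have h00 : hermForm _ F 2 (e 0) (e 0) = 1 := by simp [hE]
    have hu : hermForm _ F 2 (e 0 + r) (e 0 + r) = 0 := by
      rw [h_add_left, h_add_right hF, h_add_right hF, h00, hrr, hr0, (h_eq_zero_comm hF).1 hr0]
      linear_combination h2
    have h11 : (1 : F) + 1 ^ 2 = 0 := by linear_combination h2
    have hu1 : hermForm _ F 2 (e 0 + r) (e 1) = 0 := by
      rw [h_add_left, hr1]; simp [hE]
    have hT : tv hF (e 0 + r) 1 hu h11 ∈ pureW hF h J :=
      hgood 1 (Or.inr rfl) _ (Submodule.add_mem _ (he.perp 0) hr) hu _ h11 hu1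
    have hv' : hermForm _ F 2 (suMat (tv hF (e 0 + r) 1 hu h11) *ᵥ v) (e 0) = 0 := by
      rw [tv_mulVec, h_add_left, h_smul_left, h_add_left, h00, hr0, h_add_right hF,
        (h_eq_zero_comm hF).1 hrv]
      linear_combination hermForm _ F 2 v (e 0) * h2
    have hconj := hgood 0 (Or.inl rfl) _
      (lev_pperp hF h (stab2_le_lev hF h (tv_mem_stab2 hF h
        (Submodule.add_mem _ (he.perp 0) hr) hu h11)) hv)
      (by rw [suMat_h, hvv]) c hc hv'
    rw [← H55.Psu.tv_conj hF _ v hvv hc] at hconj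
    have := mul_mem (mul_mem (inv_mem hT) hconj) hT
    convert this using 1
    group
  have hstab : stab2 (q := 2) x y ≤ pureW hF h J := by
    obtain ⟨ι, j, -, hι, -, hjh, hιj, hjs⟩ := exists_pair_hom hF (by omega) h
    rw [← hι, MonoidHom.range_eq_map,
      ← transSub_eq_top hF (k + 5) (by omega) (fun h' => by omega), transSub, MonoidHom.map_closure,
      Subgroup.closure_le]
    rintro _ ⟨A, ⟨v, c, hvv, hA⟩, rfl⟩
    rcases eq_or_ne v 0 with rfl | hv0
    · have : A = 1 := suMat_ext fun z => by rw [hA, ut_mulVec, suMat_one]; simp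
      rw [this, map_one]; exact one_mem _
    have hc : c + c ^ 2 = 0 := by
      have := (ut_isIso_iff hF hv0).1 (show IsIso 2 (unitaryTransvection (k + 5) 2 v c) by rw [← hA]; exact SU_isIso A)
      rwa [hvv, mul_zero, add_zero] at this
    have hjinj : Function.Injective j := by
      intro a b hab
      refine h_ext_left hF fun u => ?_
      rw [← hjh, ← hjh, hab]
    have hr := finrank_perp_range hF (GramND.linearIndependent hF (h.gramND hF))
    rw [Fintype.card_fin] at hr
    have hrange : pperp 2 x y = LinearMap.range j := by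
      refine Submodule.eq_of_le_of_finrank_eq (fun z hz => ?_) ?_
      · obtain ⟨w', hw'⟩ := hjs z (mem_pperp.1 hz).1 (mem_pperp.1 hz).2
        exact ⟨w', hw'⟩
      · rw [LinearMap.finrank_range_of_inj hjinj, Module.finrank_fin_fun]
        show Module.finrank F (perp 2 (Set.range ![x, y])) = _
        omega
    have hjv : j v ∈ pperp 2 x y := hrange ▸ LinearMap.mem_range_self j v
    have hjvv : hermForm _ F 2 (j v) (j v) = 0 := by rw [hjh, hvv]
    have hιs : ι A ∈ stab2 (q := 2) x y := by rw [← hι]; exact ⟨A, rfl⟩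
    have htv := tv_mem_stab2 hF h hjv hjvv hc
    have : ι A = tv hF (j v) c hjvv hc := by
      refine lev_ext hF h ?_ ?_ fun z hz => ?_
      · rw [mem_stab.1 hιs.1, mem_stab.1 htv.1]
      · rw [mem_stab.1 hιs.2, mem_stab.1 htv.2]
      · rw [hrange] at hz
        obtain ⟨z', rfl⟩ := hz
        rw [hιj, hA, ut_mulVec, tv_mulVec, map_add, map_smul, hjh]
    rw [this]
    exact hall _ hjv hjvv c hc
  intro t ht
  obtain ⟨τ, hτ, hτa, hτe⟩ := diag_lev hF h he (eig_spec h ht.1).1
    (fun i => if i = 0 then eig 2 x y t else 1) (fun i => by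
      split_ifs
      exacts [four_cube hF (eig_spec h ht.1).1, one_pow _])
    (by rw [Finset.prod_ite_eq' Finset.univ (0 : Fin (k + 5))]; simp [pow_two])
  have h1 : t * τ⁻¹ ∈ pureW hF h J := hstab ((stab2_iff_eig hF h).2 ⟨mul_mem ht (inv_mem hτ), by
    rw [eig_mul h ht.1 (inv_mem hτ.1), eig_inv hF h hτ, hτa, mul_inv_cancel₀ (eig_spec h ht.1).1]⟩)
  have := mul_mem h1 (hC τ hτ (diag_comm hF h he hs hτ hse hτe))
  rwa [inv_mul_cancel_right] at this

end Pair

end H37.SUMin
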