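import Cfsg.Agent.H37.SUMinBounds

/-!
A subgroup meeting the radical of a point trivially and covering the Levi subgroup contains, up to
conjugation in the radical, the Levi subgroup itself.
-/

set_option autoImplicit false

namespace H37.SUMin

open Matrix Cfsg H50 H50.PointStab H50.RadFrame

universe u

variable {F : Type u} [Field F] {m q : ℕ}

local notation "V" => (Fin (m + 2) → F)
local notation "hh" => hermForm (m + 2) F q
local notation "G" => SU (m + 2) F q

/-- `K` meets the radical trivially and covers the Levi subgroup. -/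
structure Exact (K : Subgroup (SU (m + 2) F q)) (x y : Fin (m + 2) → F) : Prop where
  inf : ∀ g ∈ K, g ∈ H55.Psu.radU x → g = 1
  lift : ∀ t ∈ lev q x y, ∃ u ∈ H55.Psu.radU x, u * t ∈ K

/-- A conjugate. -/
def conjK (K : Subgroup G) (u : G) : Subgroup G := K.comap (MulAut.conj u).toMonoidHom

theorem mem_conjK {K : Subgroup G} {u g : G} : g ∈ conjK K u ↔ u * g * u⁻¹ ∈ K := Iff.rfl

theorem index_conjK (K : Subgroup G) (u : G) : (conjK K u).index = K.index :=
  Subgroup.index_comap_of_surjective K (MulAut.conj u).surjective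

theorem conjK_conjK (K : Subgroup G) (u v : G) : conjK (conjK K u) v = conjK K (u * v) := by
  ext g
  simp only [mem_conjK, _root_.mul_inv_rev, mul_assoc]

/-- The multiplier of a Levi element on the radical modulo its centre. -/
def act (q : ℕ) (x y : V) (t : SU (m + 2) F q) (w : V) : V := eig q x y t ^ q • suMat t *ᵥ w

variable [Fintype F] (hF : Fintype.card F = q ^ 2)
include hF

section Pair

variable {x y : Fin (m + 2) → F} (h : IsHyp q x y) {K : Subgroup (SU (m + 2) F q)}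
include h

theorem stab2_iff_eig {t : G} :
    t ∈ stab2 (q := q) x y ↔ t ∈ lev q x y ∧ eig q x y t = 1 := by
  refine ⟨fun ht => ⟨stab2_le_lev hF h ht, eig_eq_one h ht.1⟩, fun ⟨ht, he⟩ => ?_⟩
  obtain ⟨-, hx, hy⟩ := lev_spec hF h ht
  rw [he, one_smul] at hx
  rw [he, one_pow, inv_one, one_smul] at hy
  exact mem_stab2.2 ⟨hx, hy⟩

theorem eig_inv {t : G} (ht : t ∈ lev q x y) : eig q x y t⁻¹ = (eig q x y t)⁻¹ :=
  eq_inv_of_mul_eq_one_left (by
    rw [← eig_mul h (inv_mem ht.1) ht.1, inv_mul_cancel, eig_eq_one h (one_mem _)])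

theorem exact_of_parts (hm : 1 ≤ m) (hW : wPart hF h K = ⊥) (hI : iPart hF h K = ⊥)
    (hG : gPart hF h K = stab2 x y) (hE : ∀ a : F, a ≠ 0 → a ∈ eSet x y K) : Exact K x y where
  inf g hg hgQ := by
    have h1 : pr x y g = 0 := by
      have : pr x y g ∈ iPart hF h K := ⟨g, ⟨hg, hgQ⟩, rfl⟩
      rwa [hI, AddSubgroup.mem_bot] at this
    have h2 : gam q y g = 0 := by
      have : gam q y g ∈ wPart hF h K := ⟨g, ⟨hg, hgQ, h1⟩, rfl⟩
      rwa [hW, AddSubgroup.mem_bot] at this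
    exact rad_eq hF h hgQ (H55.Psu.radU (q := q) x).one_mem (h1.trans (rad_one hF h).1.symm)
      (h2.trans (rad_one hF h).2.symm)
  lift t ht := by
    obtain ⟨g, ⟨hgK, hgP⟩, hga⟩ := hE _ (eig_spec h ht.1).1
    obtain ⟨u, hu, t₀, ht₀, rfl⟩ := exists_decomp hF h hm hgP
    rw [eig_mul h (stab_le_pst x (radU_le_stab x hu)) ht₀.1, eig_eq_one h (radU_le_stab x hu),
      one_mul] at hga
    have hl : t * t₀⁻¹ ∈ gPart hF h K := by
      rw [hG, stab2_iff_eig hF h]
      refine ⟨mul_mem ht (inv_mem ht₀), ?_⟩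
      rw [eig_mul h ht.1 (inv_mem ht₀.1), eig_inv hF h ht₀, hga, mul_inv_cancel₀ (eig_spec h ht.1).1]
    obtain ⟨hl', v, hv, hvl⟩ := hl
    refine ⟨v * ((t * t₀⁻¹) * u * (t * t₀⁻¹)⁻¹), (H55.Psu.radU (q := q) x).mul_mem hv
      (radU_conj_mem hF h (stab_le_pst x hl'.1) hu), ?_⟩
    convert mul_mem hvl hgK using 1
    group

theorem Exact.unique (hK : Exact K x y) {u u' t : G} (hu : u ∈ H55.Psu.radU x)
    (hu' : u' ∈ H55.Psu.radU x) (h1 : u * t ∈ K) (h2 : u' * t ∈ K) : u = u' := by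
  have h3 := hK.inf (u * u'⁻¹) (by
    rw [show u * u'⁻¹ = (u * t) * (u' * t)⁻¹ by group]; exact mul_mem h1 (inv_mem h2))
    ((H55.Psu.radU (q := q) x).mul_mem hu ((H55.Psu.radU (q := q) x).inv_mem hu'))
  exact mul_inv_eq_one.1 h3

theorem lift_conj {u₀ u t : G} (hu₀ : u₀ ∈ H55.Psu.radU x) (hu : u ∈ H55.Psu.radU x)
    (ht : t ∈ lev q x y) (hut : u * t ∈ K) :
    u₀⁻¹ * u * (t * u₀ * t⁻¹) ∈ H55.Psu.radU (q := q) x ∧
      u₀⁻¹ * u * (t * u₀ * t⁻¹) * t ∈ conjK K u₀ := by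
  refine ⟨(H55.Psu.radU (q := q) x).mul_mem ((H55.Psu.radU (q := q) x).mul_mem
    ((H55.Psu.radU (q := q) x).inv_mem hu₀) hu) (radU_conj_mem hF h ht.1 hu₀), ?_⟩
  rw [mem_conjK]
  convert hut using 1
  group

theorem Exact.conj (hK : Exact K x y) {u₀ : G} (hu₀ : u₀ ∈ H55.Psu.radU x) :
    Exact (conjK K u₀) x y where
  inf g hg hgQ := by
    have := hK.inf _ (mem_conjK.1 hg) ((H55.Psu.radU (q := q) x).mul_mem
      ((H55.Psu.radU (q := q) x).mul_mem hu₀ hgQ) ((H55.Psu.radU (q := q) x).inv_mem hu₀))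
    rwa [mul_inv_eq_one, mul_eq_left] at this
  lift t ht := by
    obtain ⟨u, hu, hut⟩ := hK.lift t ht
    exact ⟨_, (lift_conj hF h hu₀ hu ht hut).1, (lift_conj hF h hu₀ hu ht hut).2⟩

/-- The lifts of commuting elements. -/
theorem Exact.comm_eq (hK : Exact K x y) {s t a b : G} (hs : s ∈ lev q x y) (ht : t ∈ lev q x y)
    (ha : a ∈ H55.Psu.radU x) (hb : b ∈ H55.Psu.radU x) (has : a * s ∈ K) (hbt : b * t ∈ K)
    (hst : s * t = t * s) : a * (s * b * s⁻¹) = b * (t * a * t⁻¹) :=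
  hK.unique hF h (t := s * t)
    ((H55.Psu.radU (q := q) x).mul_mem ha (radU_conj_mem hF h hs.1 hb))
    ((H55.Psu.radU (q := q) x).mul_mem hb (radU_conj_mem hF h ht.1 ha))
    (by convert mul_mem has hbt using 1; group)
    (by rw [hst]; convert mul_mem hbt has using 1; group)

/-- The Levi elements whose lift lies over the centre of the radical. -/
def pureW (K : Subgroup G) : Subgroup G where
  carrier := {t | t ∈ lev q x y ∧ ∃ u ∈ zRad hF h, u * t ∈ K}
  one_mem' := ⟨one_mem _, 1, one_mem _, by rw [mul_one]; exact one_mem _⟩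
  mul_mem' := by
    rintro s t ⟨hs, a, ha, has⟩ ⟨ht, b, hb, hbt⟩
    refine ⟨mul_mem hs ht, a * (s * b * s⁻¹), mul_mem ha ⟨radU_conj_mem hF h hs.1 hb.1, ?_⟩, ?_⟩
    · rw [(rad_conj hF h hs hb.1).1, hb.2, mulVec_zero, smul_zero]
    · convert mul_mem has hbt using 1; group
  inv_mem' := by
    rintro s ⟨hs, a, ha, has⟩
    refine ⟨inv_mem hs, s⁻¹ * a⁻¹ * s, ⟨radU_conj_mem' hF h hs.1 ((H55.Psu.radU (q := q) x).inv_mem ha.1), ?_⟩, ?_⟩
    · have e := (rad_conj hF h (inv_mem hs) (inv_mem ha : a⁻¹ ∈ zRad hF h).1).1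
      rw [inv_inv, (inv_mem ha : a⁻¹ ∈ zRad hF h).2, mulVec_zero, smul_zero] at e
      exact e
    · convert inv_mem has using 1; group

omit h in
theorem pureW_le_lev {h : IsHyp q x y} {t : G} (ht : t ∈ pureW hF h K) : t ∈ lev q x y := ht.1

/-- An element over the centre without fixed points pulls in what commutes with it. -/
theorem Exact.pureW_of_comm (hK : Exact K x y) {s : G} (hs : s ∈ pureW hF h K)
    (hfix : ∀ w ∈ pperp q x y, act q x y s w = w → w = 0) {t : G} (ht : t ∈ lev q x y)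
    (hst : s * t = t * s) : t ∈ pureW hF h K := by
  obtain ⟨hsl, a, ha, has⟩ := hs
  obtain ⟨b, hb, hbt⟩ := hK.lift t ht
  refine ⟨ht, b, ⟨hb, ?_⟩, hbt⟩
  have e := congrArg (pr x y) (hK.comm_eq hF h hsl ht ha.1 hb has hbt hst)
  rw [(rad_mul hF h ha.1 (radU_conj_mem hF h hsl.1 hb)).1,
    (rad_mul hF h hb (radU_conj_mem hF h ht.1 ha.1)).1, (rad_conj hF h hsl hb).1,
    (rad_conj hF h ht ha.1).1, ha.2, mulVec_zero, smul_zero, zero_add, add_zero] at e
  exact hfix _ (pr_mem hF h (radU_le_stab x hb)) e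

/-- Conjugating an element without fixed points over the centre. -/
theorem Exact.exists_pureW (hK : Exact K x y) {s : G} (hs : s ∈ lev q x y)
    (hfix : ∀ w ∈ pperp q x y, act q x y s w = w → w = 0) :
    ∃ u₀ ∈ H55.Psu.radU (q := q) x, s ∈ pureW hF h (conjK K u₀) := by
  obtain ⟨u, hu, hus⟩ := hK.lift s hs
  have hw := pr_mem hF h (radU_le_stab x hu)
  let f : pperp q x y → pperp q x y := fun v =>
    ⟨(v : V) - act q x y s v,
      Submodule.sub_mem _ v.2 (Submodule.smul_mem _ _ (lev_pperp hF h hs v.2))⟩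
  have hinj : Function.Injective f := fun v v' e => by
    have e' : (v : V) - act q x y s v = v' - act q x y s v' := congrArg Subtype.val e
    refine Subtype.ext (sub_eq_zero.1 (hfix _ (Submodule.sub_mem _ v.2 v'.2) ?_))
    simp only [act, mulVec_sub, smul_sub] at e' ⊢
    rw [sub_eq_sub_iff_sub_eq_sub] at e'
    exact e'.symm
  obtain ⟨⟨w₀, hw₀⟩, e⟩ := Finite.surjective_of_injective hinj ⟨_, hw⟩
  obtain ⟨u₀, hu₀, hpr⟩ := exists_pr hF h hw₀
  refine ⟨u₀, hu₀, hs, _, ⟨(lift_conj hF h hu₀ hu hs hus).1, ?_⟩, (lift_conj hF h hu₀ hu hs hus).2⟩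
  have e' : w₀ - act q x y s w₀ = pr x y u := congrArg Subtype.val e
  rw [(rad_mul hF h ((H55.Psu.radU (q := q) x).mul_mem ((H55.Psu.radU (q := q) x).inv_mem hu₀) hu)
      (radU_conj_mem hF h hs.1 hu₀)).1,
    (rad_mul hF h ((H55.Psu.radU (q := q) x).inv_mem hu₀) hu).1, (rad_inv hF h hu₀).1,
    (rad_conj hF h hs hu₀).1, hpr, ← e']
  show -w₀ + (w₀ - act q x y s w₀) + act q x y s w₀ = 0
  abel

theorem pureW_conj {z : G} (hz : z ∈ zRad hF h) {t : G} (ht : t ∈ pureW hF h K) :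
    t ∈ pureW hF h (conjK K z) := by
  obtain ⟨htl, a, ha, hat⟩ := ht
  refine ⟨htl, _, ?_, (lift_conj hF h hz.1 ha.1 htl hat).2⟩
  refine mul_mem (mul_mem (inv_mem hz) ha) ⟨radU_conj_mem hF h htl.1 hz.1, ?_⟩
  rw [(rad_conj hF h htl hz.1).1, hz.2, mulVec_zero, smul_zero]

/-- An element over the centre whose scalar has non-trivial norm is moved into the subgroup. -/
theorem exists_pure {s : G} (hs : s ∈ pureW hF h K) (hN : eig q x y s ^ (q + 1) ≠ 1) :
    ∃ z ∈ zRad hF h, s ∈ conjK K z := by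
  obtain ⟨hsl, a, ha, has⟩ := hs
  set N := eig q x y s ^ (q + 1) with hNdef
  have h1 : 1 - N ≠ 0 := sub_ne_zero.2 (Ne.symm hN)
  have hγ : gam q y a / (1 - N) + (gam q y a / (1 - N)) ^ q + hh (0 : V) (0 : V) = 0 := by
    have := rad_trace hF h ha.2
    rw [h_zero_left, add_zero, div_pow, sub_pow_q hF, one_pow, norm_fixed hF, ← add_div, this, zero_div]
  obtain ⟨z, hz, e1, e2⟩ := exists_rad hF h (Submodule.zero_mem _) hγ
  refine ⟨z, ⟨hz, e1⟩, ?_⟩
  obtain ⟨h2, h3⟩ := lift_conj hF h hz ha.1 hsl has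
  have hc : pr x y (s * z * s⁻¹) = 0 := by
    rw [(rad_conj hF h hsl hz).1, e1, mulVec_zero, smul_zero]
  have : z⁻¹ * a * (s * z * s⁻¹) = 1 := by
    refine rad_eq hF h h2 (H55.Psu.radU (q := q) x).one_mem ?_ ?_
    · rw [(rad_one hF h).1, (rad_mul hF h ((H55.Psu.radU (q := q) x).mul_mem
        ((H55.Psu.radU (q := q) x).inv_mem hz) ha.1) (radU_conj_mem hF h hsl.1 hz)).1,
        (rad_mul hF h ((H55.Psu.radU (q := q) x).inv_mem hz) ha.1).1, (rad_inv hF h hz).1, e1, ha.2, hc]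
      simp
    · rw [(rad_one hF h).2, (rad_mul hF h ((H55.Psu.radU (q := q) x).mul_mem
        ((H55.Psu.radU (q := q) x).inv_mem hz) ha.1) (radU_conj_mem hF h hsl.1 hz)).2,
        (rad_mul hF h ((H55.Psu.radU (q := q) x).inv_mem hz) ha.1).2, (rad_inv hF h hz).2, hc, e1, ha.2,
        (rad_conj hF h hsl hz).2, e2, h_zero_left, h_zero_left]
      rw [← hNdef]
      field_simp
      simp only [h_zero_left]
      ring
  rw [this, one_mul] at h3
  exact h3

/-- With such an element inside, what commutes with it and lies over the centre is inside. -/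
theorem Exact.mem_of_comm (hK : Exact K x y) {s : G} (hs : s ∈ lev q x y) (hsK : s ∈ K)
    (hN : eig q x y s ^ (q + 1) ≠ 1) {t : G} (ht : t ∈ pureW hF h K) (hst : s * t = t * s) :
    t ∈ K := by
  obtain ⟨htl, b, hb, hbt⟩ := ht
  have e := hK.comm_eq hF h hs htl (H55.Psu.radU (q := q) x).one_mem hb.1
    (by rw [one_mul]; exact hsK) hbt hst
  have e' := congrArg (gam q y) e
  rw [one_mul, (rad_conj hF h hs hb.1).2, mul_one, mul_inv_cancel, mul_one] at e'
  have hb0 : gam q y b = 0 := by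
    have : (eig q x y s ^ (q + 1) - 1) * gam q y b = 0 := by linear_combination e'
    exact (mul_eq_zero.1 this).resolve_left (sub_ne_zero.2 hN)
  have : b = 1 := rad_eq hF h hb.1 (H55.Psu.radU (q := q) x).one_mem
    (hb.2.trans (rad_one hF h).1.symm) (hb0.trans (rad_one hF h).2.symm)
  rwa [this, one_mul] at hbt

theorem zRad_conj_stab2 {z l : G} (hz : z ∈ zRad hF h) (hl : l ∈ lev q x y)
    (he : eig q x y l ^ (q + 1) = 1) : l * z * l⁻¹ = z :=
  rad_eq hF h (radU_conj_mem hF h hl.1 hz.1) hz.1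
    (by rw [(rad_conj hF h hl hz.1).1, hz.2, mulVec_zero, smul_zero])
    (by rw [(rad_conj hF h hl hz.1).2, he, one_mul])

/-- A perfect derived Levi group over the centre lies inside. -/
theorem stab2_le_of_perfect (hm : 3 ≤ m) (h32 : ¬(m = 3 ∧ q = 2))
    (hp : stab2 (q := q) x y ≤ pureW hF h K) : stab2 (q := q) x y ≤ K := by
  obtain ⟨ι, -, -, hι, -⟩ := exists_pair_hom hF (by omega) h
  have hcomm : ⁅stab2 (q := q) x y, stab2 (q := q) x y⁆ ≤ K := by
    rw [Subgroup.commutator_le]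
    intro l hl l' hl'
    obtain ⟨-, a, ha, hal⟩ := hp hl
    obtain ⟨-, b, hb, hbl⟩ := hp hl'
    have h1 := mul_mem (mul_mem (mul_mem hal hbl) (inv_mem hal)) (inv_mem hbl)
    have he : ∀ g ∈ stab2 (q := q) x y, ∀ z ∈ zRad hF h, g * z = z * g := fun g hg z hz =>
      mul_inv_eq_iff_eq_mul.1 (zRad_conj_stab2 hF h hz (stab2_le_lev hF h hg)
        (by rw [eig_eq_one h hg.1, one_pow]))
    have hab : a * b = b * a := zRad_comm hF h ha.1 hb
    convert h1 using 1
    rw [commutatorElement_def]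
    have e1 : a * l * (b * l') = (a * b) * (l * l') := by
      rw [mul_assoc a l, ← mul_assoc l b, he _ hl _ hb]; group
    have e2 : b * l' * (a * l) = (a * b) * (l' * l) := by
      rw [mul_assoc b l', ← mul_assoc l' a, he _ hl' _ ha, hab]; group
    have hC : l * l' * (l' * l)⁻¹ ∈ stab2 (q := q) x y :=
      mul_mem (mul_mem hl hl') (inv_mem (mul_mem hl' hl))
    have e3 := he _ hC _ (mul_mem ha hb)
    calc l * l' * l⁻¹ * l'⁻¹ = (l * l' * (l' * l)⁻¹) * (a * b) * (a * b)⁻¹ := by group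
      _ = (a * b) * (l * l') * ((a * b) * (l' * l))⁻¹ := by rw [e3]; group
      _ = a * l * (b * l') * (b * l' * (a * l))⁻¹ := by rw [e1, e2]
      _ = _ := by group
  refine le_trans ?_ hcomm
  rw [← hι, MonoidHom.range_eq_map, ← Subgroup.map_commutator, ← commutator_def,
    SU_perfect hF hm h32]

/-- Squares in characteristic two. -/
theorem Exact.sq_mem (hK : Exact K x y) (h2 : (2 : F) = 0) {t : G} (ht : t ∈ pureW hF h K)
    (he : eig q x y t ^ (q + 1) = 1) : t * t ∈ K := by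
  obtain ⟨htl, a, ha, hat⟩ := ht
  have h1 := mul_mem hat hat
  have haa : a * a = 1 := rad_eq hF h (mul_mem ha ha).1 (H55.Psu.radU (q := q) x).one_mem
    ((mul_mem ha ha).2.trans (rad_one hF h).1.symm)
    (by rw [(rad_mul hF h ha.1 ha.1).2, ha.2, h_zero_left, sub_zero, (rad_one hF h).2, ← two_mul, h2,
      zero_mul])
  have hc : t * a = a * t := mul_inv_eq_iff_eq_mul.1 (zRad_conj_stab2 hF h ha htl he)
  convert h1 using 1
  rw [mul_assoc a t, ← mul_assoc t a t, hc, ← mul_assoc, ← mul_assoc a a t, haa, one_mul]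

end Pair

end H37.SUMin
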