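import Cfsg.Agent.H50.Simple
import Cfsg.Agent.H50.Count

/-!
The number of isotropic points of a hermitian space, and inequalities between counts of vectors.
-/

set_option autoImplicit false

namespace H37.SUMin

open Matrix Cfsg H50

universe u

variable {F : Type u} [Field F] [Fintype F] {n q : ℕ} (hF : Fintype.card F = q ^ 2)
include hF

/-- Isotropic points times scalars, and the zero vector. -/
theorem card_isoPt_mul : Nat.card (IsoPt n q F) * (q ^ 2 - 1) + 1 = normCount n q F 0 := by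
  classical
  have e : IsoPt n q F × Fˣ ≃
      {v : {v : Fin n → F // hermForm n F q v v = 0} // v.1 ≠ 0} := by
    have hc := fun p : IsoPt n q F => p.exists_mk
    choose vec h0 h1 hmk using hc
    refine Equiv.ofBijective (fun x => ⟨⟨(x.2 : F) • vec x.1, by
      rw [h_smul_left, h_smul_right hF, h1, mul_zero, mul_zero]⟩,
        smul_ne_zero x.2.ne_zero (h0 x.1)⟩) ⟨?_, ?_⟩
    · rintro ⟨p, a⟩ ⟨p', b⟩ h
      have h' : (a : F) • vec p = (b : F) • vec p' := congrArg (fun v => v.1.1) h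
      have hp : p = p' := by
        rw [hmk p, hmk p', IsoPt.mk_eq_mk]
        exact ⟨(a : F)⁻¹ * b, by
          rw [← smul_smul, ← h', smul_smul, inv_mul_cancel₀ a.ne_zero, one_smul]⟩
      subst hp
      exact Prod.ext rfl (Units.ext (smul_left_injective F (h0 p) h'))
    · rintro ⟨⟨v, hv⟩, hv0⟩
      obtain ⟨a, ha⟩ := IsoPt.mk_eq_mk.1 ((hmk (IsoPt.mk v hv0 hv)))
      refine ⟨(IsoPt.mk v hv0 hv, Units.mk0 a fun h => hv0 (show v = 0 by rw [← ha, h, zero_smul])), ?_⟩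
      exact Subtype.ext (Subtype.ext ha)
  have h := Nat.card_congr e
  rw [Nat.card_prod, Nat.card_units, Nat.card_eq_fintype_card (α := F), hF] at h
  rw [h, normCount]
  let o : {v : Fin n → F // hermForm n F q v v = 0} := ⟨0, by rw [h_zero_left]⟩
  have hs : ({o}ᶜ : Set _) = {v : {v : Fin n → F // hermForm n F q v v = 0} | v.1 ≠ 0} := by
    ext v; simp [o, Subtype.ext_iff]
  have h2 := Set.ncard_add_ncard_compl ({o} : Set _)
  rw [Set.ncard_singleton, hs, ← Nat.card_coe_set_eq, Set.coe_setOf] at h2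
  rw [add_comm]; exact h2

theorem iso_count_ineq (hn : 1 ≤ n) :
    normCount n q F 0 ≤ q ^ (2 * n - 1) + q ^ n ∧ q ^ (2 * n - 1) ≤ normCount n q F 0 + q ^ n := by
  have h := q_mul_norm_zero_count hF (n := n)
  have hq := two_le hF
  obtain ⟨k, rfl⟩ : ∃ k, n = k + 1 := ⟨n - 1, by omega⟩
  rw [show 2 * (k + 1) - 1 = 2 * k + 1 by omega]
  have e1 : (q : ℤ) ^ (2 * (k + 1)) = q * (q : ℤ) ^ (2 * k + 1) := by rw [← pow_succ']; congr 1
  rw [e1] at h
  have hq' : (2 : ℤ) ≤ q := by exact_mod_cast hq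
  have hP : (0 : ℤ) ≤ (q : ℤ) ^ (k + 1) := by positivity
  constructor
  · have : (q : ℤ) * normCount (k + 1) q F 0 ≤ q * ((q : ℤ) ^ (2 * k + 1) + (q : ℤ) ^ (k + 1)) := by
      rw [h]
      rcases neg_one_pow_eq_or ℤ (k + 1) with e | e <;> rw [e] <;> nlinarith
    exact_mod_cast le_of_mul_le_mul_left this (by omega)
  · have : (q : ℤ) * (q : ℤ) ^ (2 * k + 1) ≤ q * ((normCount (k + 1) q F 0 : ℤ) + (q : ℤ) ^ (k + 1)) := by
      rw [mul_add, h]
      rcases neg_one_pow_eq_or ℤ (k + 1) with e | e <;> rw [e] <;> nlinarith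
    exact_mod_cast le_of_mul_le_mul_left this (by omega)

theorem norm_one_count_ineq (hn : 1 ≤ n) :
    q ^ (2 * n - 1) ≤ normCount n q F 1 + q ^ (n - 1) := by
  obtain ⟨k, rfl⟩ : ∃ k, n = k + 1 := ⟨n - 1, by omega⟩
  rw [norm_one_count_succ hF, show 2 * (k + 1) - 1 = k + (k + 1) by omega, Nat.add_sub_cancel, pow_add]
  have h1 : 1 ≤ q ^ (k + 1) := Nat.one_le_pow _ _ (q_pos hF)
  split_ifs
  · rw [mul_add, mul_one]; omega
  · rw [Nat.mul_sub, mul_one]; omega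

/-- Points of the space two dimensions larger: the point, those orthogonal to it, the others. -/
theorem isoPt_count_rec : (normCount (n + 2) q F 0 : ℤ) =
    ((q : ℤ) ^ 2 - 1) * ((q : ℤ) ^ (2 * n + 1) + 1) + (q : ℤ) ^ 2 * ((normCount n q F 0 : ℤ) - 1) + 1 := by
  have hq : (q : ℤ) ≠ 0 := by exact_mod_cast q_ne_zero hF
  refine mul_left_cancel₀ hq ?_
  rw [q_mul_norm_zero_count hF]
  have h := q_mul_norm_zero_count hF (n := n)
  rw [pow_succ (-1 : ℤ) (n + 1), pow_succ (-1 : ℤ) n]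
  linear_combination (-(q : ℤ) ^ 2) * h

theorem isoPt_card_rec (hn : 1 ≤ n) :
    Nat.card (IsoPt (n + 2) q F) = q ^ (2 * n + 1) + 1 + q ^ 2 * Nat.card (IsoPt n q F) := by
  have h1 := card_isoPt_mul hF (n := n + 2)
  have h2 := card_isoPt_mul hF (n := n)
  have h3 := isoPt_count_rec hF (n := n)
  have hq := two_le hF
  have h4 : 1 ≤ q ^ 2 := Nat.one_le_pow _ _ (by omega)
  have hpos : (0 : ℤ) < (q : ℤ) ^ 2 - 1 := by
    have : (4 : ℤ) ≤ (q : ℤ) ^ 2 := by exact_mod_cast Nat.pow_le_pow_left hq 2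
    omega
  have key : ((q : ℤ) ^ 2 - 1) * (Nat.card (IsoPt (n + 2) q F) : ℤ) =
      ((q : ℤ) ^ 2 - 1) * ((q : ℤ) ^ (2 * n + 1) + 1 + (q : ℤ) ^ 2 * Nat.card (IsoPt n q F)) := by
    rw [← h1, ← h2] at h3
    push_cast [Nat.cast_sub h4] at h3
    linear_combination h3
  exact_mod_cast mul_left_cancel₀ hpos.ne' key

/-- Bounds on the number of points. -/
theorem isoPt_bounds {m : ℕ} (hm : 3 ≤ m) :
    Nat.card (IsoPt (m + 2) q F) * q ≤ q ^ (2 * m + 1) * (q + 1) ∧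
    Nat.card (IsoPt (m + 2) q F) ≤ 2 * q ^ (2 * m + 1) ∧
    Nat.card (IsoPt (m + 2) q F) * (q - 2) ≤ q ^ (2 * m + 1) * (q - 1) ∧
    q ^ (2 * m + 1) + 2 ≤ Nat.card (IsoPt (m + 2) q F) := by
  have hq := two_le hF
  set N := Nat.card (IsoPt (m + 2) q F) with hN
  set M := Nat.card (IsoPt m q F) with hM
  set P := q ^ (2 * m + 1) with hP
  have hrec : N = P + 1 + q ^ 2 * M := isoPt_card_rec hF (by omega)
  have hMb := (iso_count_ineq hF (n := m) (by omega)).1
  rw [← card_isoPt_mul hF, ← hM] at hMb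
  have h4 : q ^ 2 - 1 + 1 = q ^ 2 := Nat.sub_add_cancel (Nat.one_le_pow _ _ (by omega))
  have hP2 : q ^ 2 * q ^ (2 * m - 1) = P := by rw [hP, ← pow_add]; congr 1; omega
  have hP3 : q ^ 2 * q ^ m * q ^ 2 ≤ P := by
    rw [hP, ← pow_add, ← pow_add]; exact Nat.pow_le_pow_right (by omega) (by omega)
  -- (q ^ 2 - 1) * (N - P) ≤ (1 + q⁻²) P
  have key : (q ^ 2 - 1) * (q ^ 2 * M) * q ^ 2 ≤ P * (q ^ 2 + 1) := by
    calc (q ^ 2 - 1) * (q ^ 2 * M) * q ^ 2 = q ^ 2 * (M * (q ^ 2 - 1)) * q ^ 2 := by ring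
      _ ≤ q ^ 2 * (q ^ (2 * m - 1) + q ^ m) * q ^ 2 := by gcongr; omega
      _ = P * q ^ 2 + q ^ 2 * q ^ m * q ^ 2 := by rw [← hP2]; ring
      _ ≤ P * (q ^ 2 + 1) := by rw [mul_add P, mul_one]; omega
  have hP8 : 8 * q ^ 2 ≤ P := by
    calc 8 * q ^ 2 ≤ q ^ 3 * q ^ 2 := by gcongr; nlinarith
      _ ≤ P := by rw [hP, ← pow_add]; exact Nat.pow_le_pow_right (by omega) (by omega)
  have hM0 : 1 ≤ M := by
    obtain ⟨e, he0, he⟩ := exists_isotropic (F := F) hF (n := m) (by omega)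
    haveI : Finite (IsoPt m q F) := by unfold IsoPt; infer_instance
    haveI : Nonempty (IsoPt m q F) := ⟨IsoPt.mk e he0 he⟩
    exact Nat.card_pos
  have main : q * (q ^ 2 * M + 1) ≤ P := by
    obtain ⟨s, hs⟩ : ∃ s, q ^ 2 = s + 1 := ⟨q ^ 2 - 1, h4.symm⟩
    rw [hs, Nat.add_sub_cancel] at key
    rw [hs] at hP8 ⊢
    have hs3 : 3 ≤ s := by nlinarith
    have haux : 8 * (q * (s + 2)) ≤ 7 * (s * (s + 1)) := by
      obtain ⟨r, rfl⟩ : ∃ r, q = r + 2 := ⟨q - 2, by omega⟩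
      have e : s = r * r + 4 * r + 3 := by nlinarith
      subst e
      nlinarith [Nat.zero_le (r * r * r * r), Nat.zero_le (r * r * r)]
    have hqP : 8 * q ≤ P := le_trans (by nlinarith) hP8
    refine Nat.le_of_mul_le_mul_left ?_ (show 0 < 8 * (s * (s + 1)) by positivity)
    calc 8 * (s * (s + 1)) * (q * ((s + 1) * M + 1))
        = 8 * q * (s * ((s + 1) * M) * (s + 1)) + 8 * q * (s * (s + 1)) := by ring
      _ ≤ 8 * q * (P * (s + 1 + 1)) + P * (s * (s + 1)) := by gcongr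
      _ = P * (8 * (q * (s + 2))) + P * (s * (s + 1)) := by ring
      _ ≤ P * (7 * (s * (s + 1))) + P * (s * (s + 1)) := by gcongr
      _ = _ := by ring
  refine ⟨?_, ?_, ?_, ?_⟩
  · rw [hrec, mul_add P, mul_one, add_assoc, add_mul, add_comm 1 (q ^ 2 * M),
      mul_comm (q ^ 2 * M + 1) q]
    omega
  · rw [hrec]
    have : q ^ 2 * M + 1 ≤ P := le_trans (Nat.le_mul_of_pos_left _ (by omega)) main
    omega
  · rw [hrec, add_assoc, add_mul, add_comm 1 (q ^ 2 * M)]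
    have h5 : (q ^ 2 * M + 1) * (q - 2) ≤ P := le_trans
      (by rw [mul_comm q]; exact Nat.mul_le_mul_left _ (Nat.sub_le _ _)) main
    rcases Nat.lt_or_ge q 3 with hq3 | hq3
    · rw [show q - 2 = 0 by omega, mul_zero, mul_zero]; exact Nat.zero_le _
    · calc P * (q - 2) + (q ^ 2 * M + 1) * (q - 2) ≤ P * (q - 2) + P := Nat.add_le_add_left h5 _
        _ = P * (q - 1) := by rw [show q - 1 = q - 2 + 1 by omega, mul_add, mul_one]
  · rw [hrec]
    nlinarith [Nat.mul_le_mul (show 2 ≤ q ^ 2 by nlinarith) hM0]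

end H37.SUMin
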