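import Cfsg.Agent.H37.SUMinPSU
import Cfsg.Agent.H50.SCBase

/-!
The least index in dimension five over the field with four elements.
-/

set_option autoImplicit false

namespace H37.SUMin

open Matrix Cfsg H50 H50.PointStab H50.RadFrame

universe u

variable {F : Type u} [Field F]

local notation "V" => (Fin (3 + 2) → F)
local notation "G" => SU (3 + 2) F 2

variable [Fintype F] (hF : Fintype.card F = 2 ^ 2)
include hF

/-- Few isotropic vectors in a maximal group with trivial skew part. -/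
theorem card_iso_two {ψ : AddChar F ℂ} {t : F} (ht : t + t ^ 2 = 0) (hψ : ψ t ≠ 1)
    {I : AddSubgroup (Fin 3 → F)} (hI : ∀ a ∈ I, ∀ b ∈ I, ψ (skew 2 a b) = 1)
    (hI0 : ∀ a ∈ I, ∀ b ∈ I, skew 2 a b = 0) (hcard : Nat.card I = 8)
    (hno : ∀ v, v ≠ 0 → hermForm 3 F 2 v v = 0 → Nat.card (lineSub I v) ≤ 2) :
    Nat.card {i : Fin 3 → F | i ∈ I ∧ i ≠ 0 ∧ hermForm 3 F 2 i i = 0} ≤ 3 := by
  classical
  have h2 := four_two_eq_zero hF
  obtain ⟨a, ha, haa⟩ := exists_aniso hF ht hψ hI (by omega) hno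
  set R := {i : Fin 3 → F | i ∈ I ∧ i ≠ 0 ∧ hermForm 3 F 2 i i = 0}
  have hadd : ∀ i ∈ I, ∀ j ∈ I,
      hermForm 3 F 2 (i + j) (i + j) = hermForm 3 F 2 i i + hermForm 3 F 2 j j := by
    intro i hi j hj
    rw [h_add_left, h_add_right hF, h_add_right hF]
    have h1 := hI0 i hi j hj
    rw [skew, sub_eq_zero] at h1
    rw [h1]
    linear_combination hermForm 3 F 2 j i * h2
  have key : Nat.card (Option R ⊕ Option R) ≤ Nat.card I := by
    refine Nat.card_le_card_of_injective (Sum.elim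
      (fun o => o.elim (0 : I) fun i => ⟨i.1, i.2.1⟩)
      (fun o => o.elim (⟨a, ha⟩ : I) fun i => ⟨i.1 + a, add_mem i.2.1 ha⟩)) ?_
    have hne : ∀ i : R, ∀ j : Fin 3 → F, hermForm 3 F 2 j j = 0 → i.1 + a ≠ j := by
      intro i j hj e
      have := hadd i.1 i.2.1 a ha
      rw [e, hj, i.2.2.2, zero_add] at this
      exact haa this.symm
    rintro ((_ | i) | (_ | i)) ((_ | j) | (_ | j)) h <;> have h' := congrArg Subtype.val h <;>
      simp only [Sum.elim_inl, Sum.elim_inr, Option.elim_none, Option.elim_some,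
        ZeroMemClass.coe_zero] at h'
    · rfl
    · exact absurd h'.symm j.2.2.1
    · exact absurd (by rw [← h', h_zero_left]) haa
    · exact absurd h'.symm (hne j 0 (h_zero_left 0))
    · exact absurd h' i.2.2.1
    · exact congrArg Sum.inl (congrArg some (Subtype.ext h'))
    · exact absurd (by rw [← h', i.2.2.2]) haa
    · exact absurd h'.symm (hne j _ i.2.2.2)
    · exact absurd (by rw [h', h_zero_left]) haa
    · exact absurd (by rw [h', j.2.2.2]) haa
    · rfl
    · exact absurd (add_eq_right.1 h'.symm) j.2.2.1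
    · exact absurd h' (hne i 0 (h_zero_left 0))
    · exact absurd h' (hne i _ j.2.2.2)
    · exact absurd (add_eq_right.1 h') i.2.2.1
    · exact congrArg Sum.inr (congrArg some (Subtype.ext (add_right_cancel h')))
  rw [Nat.card_sum, Finite.card_option, hcard] at key
  omega

section Cases

variable {x y : Fin (3 + 2) → F} (h : IsHyp 2 x y) {K : Subgroup (SU (3 + 2) F 2)}
include h

theorem five_cases_two (hx : ¬ H51.StabMax.IsCtr K x) (hG : gPart hF h K ≠ stab2 x y) :
    Nat.card (IsoPt (3 + 2) 2 F) ≤ K.relIndex (pst x) := by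
  classical
  have hW := exists_trace_notMem hF h hx
  obtain ⟨hLW, hLW'⟩ := scalar_card hF h (by omega) hW
  have hI3 := card_iPart_sq hF h (by omega) hW
  obtain ⟨ψ, t, I, Γ, ht, hψ, hI, hI0, hΓ, hne, hcI, hf⟩ := exists_data hF h (by omega) hx hG
  rw [← hcI] at hI3
  have hWb : wPart hF h K = ⊥ := by
    by_contra hWb
    have := hLW' hWb
    haveI : Nonempty (eSet x y K) := ⟨⟨_, 1, one_mem _, rfl⟩⟩
    have hpos : 0 < Nat.card (wPart hF h K) * Nat.card (eSet x y K) :=
      Nat.mul_pos Nat.card_pos Nat.card_pos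
    omega
  have hI0' := hI0 hWb
  rw [hWb, AddSubgroup.card_bot, one_mul] at hf hLW
  have hN : Nat.card (IsoPt (3 + 2) 2 F) = 165 := by
    rw [isoPt_card_rec hF (n := 3) (by omega), card_isoPt_three hF]; norm_num
  rw [hN]
  norm_num [-Nat.card_eq_fintype_card] at hI3 hLW hf
  -- the needed lower bound
  suffices hB : 165 * Nat.card I ≤ 128 * Γ.index by
    by_contra hlt
    have h1 := Nat.mul_le_mul (show K.relIndex (pst x) ≤ 164 by omega)
      (Nat.mul_le_mul hLW (le_refl (Nat.card I)))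
    rw [← mul_assoc, hf] at h1
    have : 0 < Nat.card I := Nat.card_pos
    omega
  have hB2 : 2 ≤ Γ.index := Subgroup.one_lt_index_of_ne_top hne
  by_cases hIb : I = ⊥
  · rw [hIb, AddSubgroup.card_bot]; omega
  have hN3 : Nat.card (IsoPt 3 2 F) = 9 := by rw [card_isoPt_three hF]; norm_num
  have h31 : normCount 3 2 F 1 = 36 := by rw [normCount_three_one hF]; norm_num
  by_cases hsmall : Nat.card I ≤ 4
  · have h1 := sphere_index hF le_rfl hΓ hIb 27 (by rw [hN3]; norm_num) (by rw [h31]; norm_num)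
    have h2 := Nat.mul_le_mul_right Γ.index (show Nat.card I - 1 ≤ 3 by omega)
    omega
  have hI8 : Nat.card I = 8 := by
    have hdvd : Nat.card I ∣ 2 ^ 12 := by
      have h' := I.card_addSubgroup_dvd_card
      rw [natCard_vec hF] at h'
      exact h'.trans (pow_dvd_pow 2 (by norm_num))
    obtain ⟨b, -, hb⟩ := (Nat.dvd_prime_pow Nat.prime_two).1 hdvd
    rw [hb] at hsmall hI3 ⊢
    have hb1 : ¬ b ≤ 2 := fun hb2 => hsmall (Nat.pow_le_pow_right (n := 2) (by norm_num) hb2)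
    have hb2 : ¬ 4 ≤ b := fun hb4 => by
      have := Nat.pow_le_pow_right (n := 2) (by norm_num) hb4
      omega
    rw [show b = 3 by omega]; rfl
  rw [hI8]
  suffices hB : 11 ≤ Γ.index by omega
  by_cases hP : ∃ v : Fin 3 → F, v ≠ 0 ∧ hermForm 3 F 2 v v = 0 ∧ 2 < Nat.card (lineSub I v)
  · obtain ⟨v, hv0, hv, hS⟩ := hP
    have := (line_case hF ht hψ hI hΓ (by omega) hv0 hv hS).2 hI0' (by rw [hI8]; norm_num)
    norm_num [-Nat.card_eq_fintype_card] at this
    omega
  have hno : ∀ v, v ≠ 0 → hermForm 3 F 2 v v = 0 → Nat.card (lineSub I v) ≤ 2 :=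
    fun v h0 h1 => le_of_not_gt fun hlt => hP ⟨v, h0, h1, hlt⟩
  have hR := card_iso_two hF ht hψ hI hI0' hI8 hno
  obtain ⟨v, hvI, hv0, hv⟩ : ∃ v ∈ I, v ≠ 0 ∧ hermForm 3 F 2 v v = 0 := by
    by_contra hiso
    simp only [not_exists, not_and] at hiso
    obtain ⟨a, ha, haa⟩ := exists_aniso hF ht hψ hI (by omega) hno
    obtain ⟨b, hb, hb0⟩ : ∃ b ∈ perpI 2 I a, b ≠ 0 := by
      by_contra h0
      simp only [not_exists, not_and, not_not] at h0
      have h5 := card_le_perpI hF I a Set.univ fun i _ => Set.mem_univ _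
      rw [(AddSubgroup.eq_bot_iff_forall _).2 h0, AddSubgroup.card_bot, one_mul,
        Nat.card_coe_set_eq, Set.ncard_univ, Nat.card_eq_fintype_card (α := F), hF] at h5
      norm_num [-Nat.card_eq_fintype_card] at h5
      omega
    have h2 := four_two_eq_zero hF
    have hone : ∀ i ∈ I, i ≠ 0 → hermForm 3 F 2 i i = 1 := fun i hi hi0 => by
      have hfix := h_self_fixed hF i
      rw [pow_two] at hfix
      exact (mul_eq_left₀ (hiso i hi hi0)).1 hfix
    have hab : a + b ≠ 0 := fun e => by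
      have e1 : hermForm 3 F 2 (a + b) a = 0 := by rw [e, h_zero_left]
      rw [h_add_left, hb.2, add_zero] at e1
      exact haa e1
    have := hone _ (add_mem ha hb.1) hab
    rw [h_add_left, h_add_right hF, h_add_right hF, hb.2, (h_eq_zero_comm hF).1 hb.2,
      hone a ha (fun e => haa (by rw [e, h_zero_left])), hone b hb.1 hb0] at this
    exact one_ne_zero (show (1 : F) = 0 by linear_combination h2 - this)
  obtain ⟨i, hi, hne'⟩ := exists_partner_of_big hF ht hψ hI (by omega) hv0 hv (hno v hv0 hv)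
  have key := orbit_le_index (fun g => (suMat g *ᵥ v, suMat g *ᵥ i))
    (fun g g' k e => by simp only [Prod.ext_iff] at e ⊢; simp only [suMat_mulVec_mul, e.1, e.2, and_self]) Γ
    (hypPairs 2 (hermForm 3 F 2 i v) (hermForm 3 F 2 i i))
    {p | (p.1 ∈ I ∧ p.1 ≠ 0 ∧ hermForm 3 F 2 p.1 p.1 = 0) ∧ p.2 ∈ I ∧
      hermForm 3 F 2 p.2 p.1 = hermForm 3 F 2 i v}
    (hypPairs_subset hF le_rfl hv hne')
    (fun g hg => ⟨⟨hΓ g hg _ hvI, fun e => hv0 (suMat_injective g (by simpa using e)),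
      by rw [suMat_h, hv]⟩, hΓ g hg _ hi, by rw [suMat_h]⟩)
    (card_hypPairs hF (n := 3) (m := 1) rfl le_rfl hne' (h_self_fixed hF i))
    ((card_pairs_le hF I {a | a ∈ I ∧ a ≠ 0 ∧ hermForm 3 F 2 a a = 0} (hermForm 3 F 2 i v) 4
      fun a ha => (card_perpI_iso hF ht hψ hI ha.2.1 ha.2.2).trans
        (Nat.mul_le_mul_right 2 (hno a ha.2.1 ha.2.2))).trans (Nat.mul_le_mul_right 4 hR))
  rw [hN3] at key
  norm_num [-Nat.card_eq_fintype_card] at key
  omega

theorem rad_norm {g : G} (hg : g ∈ H55.Psu.radU x) :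
    gam 2 y g + gam 2 y g ^ 2 + hermForm (3 + 2) F 2 (pr x y g) (pr x y g) = 0 := by
  obtain ⟨h1, h2⟩ := mem_pperp.1 (pr_mem hF h (radU_le_stab x hg))
  have e := suMat_h g y y
  rw [rad_mulVec_y hF h g] at e
  simp [h_add_left, h_add_right hF, h_smul_left, h_smul_right hF, h.1, h.2.1, h.2.2,
    (h.symm hF).2.2, h1, h2, (h_eq_zero_comm hF).1 h1, (h_eq_zero_comm hF).1 h2] at e
  linear_combination e

/-- The complement contains the Levi subgroup. -/
theorem lev_le_of_two (hK : Exact K x y) (hp : lev 2 x y ≤ pureW hF h K) : lev 2 x y ≤ K := by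
  classical
  have h2 := four_two_eq_zero hF
  have hz1 : ∀ a ∈ zRad hF h, ∀ t ∈ lev 2 x y, t * a = a * t := fun a ha t ht =>
    mul_inv_eq_iff_eq_mul.1 (zRad_conj_stab2 hF h ha ht (by
      exact four_cube hF (lev_spec hF h ht).1))
  -- the centre has two elements
  have hzc : ∀ a ∈ zRad hF h, ∀ b ∈ zRad hF h, a ≠ 1 → b ≠ 1 → a = b := by
    intro a ha b hb ha1 hb1
    have hval : ∀ c ∈ zRad hF h, c ≠ 1 → gam 2 y c = 1 := by
      intro c hc hc1
      have hc0 : gam 2 y c ≠ 0 := fun e => hc1 (rad_eq hF h hc.1 (H55.Psu.radU (q := 2) x).one_mem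
        (hc.2.trans (rad_one hF h).1.symm) (e.trans (rad_one hF h).2.symm))
      have := rad_trace hF h hc.2
      have h1 : gam 2 y c * (gam 2 y c + 1) = 0 := by linear_combination this
      have h3 := (mul_eq_zero.1 h1).resolve_left hc0
      linear_combination h3 - h2
    exact rad_eq hF h ha.1 hb.1 (ha.2.trans hb.2.symm) ((hval a ha ha1).trans (hval b hb hb1).symm)
  -- two elements outside have a product inside
  have hprod : ∀ s ∈ lev 2 x y, ∀ t ∈ lev 2 x y, s ∉ K → t ∉ K → s * t ∈ K := by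
    intro s hs t ht hsK htK
    obtain ⟨-, a, ha, has⟩ := hp hs
    obtain ⟨-, b, hb, hbt⟩ := hp ht
    have ha1 : a ≠ 1 := fun e => hsK (by simpa [e] using has)
    have hb1 : b ≠ 1 := fun e => htK (by simpa [e] using hbt)
    obtain rfl := hzc a ha b hb ha1 hb1
    have haa : a * a = 1 := by
      by_contra hne
      have := hzc _ (mul_mem ha ha) a ha hne ha1
      exact ha1 (mul_eq_left.1 this)
    have e : a * s * (a * t) = s * t := by
      rw [mul_assoc a s, ← mul_assoc s a t, hz1 a ha s hs, ← mul_assoc, ← mul_assoc, haa, one_mul]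
    exact e ▸ mul_mem has hbt
  let H := lev 2 x y ⊓ K
  have hcomm : ∀ s ∈ lev 2 x y, ∀ t ∈ lev 2 x y, s * t * s⁻¹ * t⁻¹ ∈ H := by
    intro s hs t ht
    refine Subgroup.mem_inf.2 ⟨(lev 2 x y).mul_mem ((lev 2 x y).mul_mem ((lev 2 x y).mul_mem hs ht)
      ((lev 2 x y).inv_mem hs)) ((lev 2 x y).inv_mem ht), ?_⟩
    have hbij : ∀ u ∈ lev 2 x y, ∀ v ∈ lev 2 x y, (u * v ∈ K ↔ (u ∈ K ↔ v ∈ K)) := by
      intro u hu v hv
      by_cases huK : u ∈ K
      · exact ⟨fun huv => iff_of_true huK ((K.mul_mem_cancel_left huK).1 huv),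
          fun h' => mul_mem huK (h'.1 huK)⟩
      by_cases hvK : v ∈ K
      · exact ⟨fun huv => absurd ((K.mul_mem_cancel_right hvK).1 huv) huK, fun h' => absurd (h'.2 hvK) huK⟩
      exact ⟨fun _ => iff_of_false huK hvK, fun _ => hprod u hu v hv huK hvK⟩
    rw [hbij _ (mul_mem (mul_mem hs ht) (inv_mem hs)) _ (inv_mem ht), hbij _ (mul_mem hs ht) _ (inv_mem hs),
      hbij _ hs _ ht, K.inv_mem_iff, K.inv_mem_iff]
    tauto
  -- an isotropic pair and a unit vector in the complement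
  obtain ⟨ι, j, -, -, -, hjh, -, hjs⟩ := exists_pair_hom hF (m := 3) (by omega) h
  have hR := pperp_eq_range hF h hjh hjs
  obtain ⟨e₁, f₁, hef⟩ := exists_hyp (F := F) hF (n := 3) (by omega)
  obtain ⟨g₁, hg1, hg1e, hg1f⟩ := exists_norm_one_perp_hyp hF le_rfl hef
  set v := j e₁
  set w := j f₁
  set f := j g₁
  have hmemj : ∀ u, j u ∈ pperp 2 x y := fun u => hR ▸ LinearMap.mem_range_self j u
  have hvw : IsHyp 2 v w := ⟨by rw [hjh, hef.1], by rw [hjh, hef.2.1], by rw [hjh, hef.2.2]⟩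
  have hfv : hermForm (3 + 2) F 2 f v = 0 := by rw [hjh, hg1e]
  have hfw : hermForm (3 + 2) F 2 f w = 0 := by rw [hjh, hg1f]
  have hff : hermForm (3 + 2) F 2 f f = 1 := by rw [hjh, hg1]
  have hfP : f ∈ pperp 2 v w := mem_pperp.2 ⟨hfv, hfw⟩
  obtain ⟨hvx, hvy⟩ := mem_pperp.1 (hmemj e₁)
  obtain ⟨hwx, hwy⟩ := mem_pperp.1 (hmemj f₁)
  obtain ⟨hfx, hfy⟩ := mem_pperp.1 (hmemj g₁)
  have hxP : x ∈ pperp 2 v w :=
    mem_pperp.2 ⟨(h_eq_zero_comm hF).1 hvx, (h_eq_zero_comm hF).1 hwx⟩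
  have hyP : y ∈ pperp 2 v w :=
    mem_pperp.2 ⟨(h_eq_zero_comm hF).1 hvy, (h_eq_zero_comm hF).1 hwy⟩
  let R : Subgroup G :=
    { carrier := {g | g ∈ H55.Psu.radU v ∧ ∃ b : F, pr v w g = b • f}
      one_mem' := ⟨(H55.Psu.radU (q := 2) v).one_mem, 0, by rw [(rad_one hF hvw).1, zero_smul]⟩
      mul_mem' := by
        rintro g g' ⟨hg, b, hb⟩ ⟨hg', b', hb'⟩
        exact ⟨(H55.Psu.radU (q := 2) v).mul_mem hg hg', b + b', by
          rw [(rad_mul hF hvw hg hg').1, hb, hb', add_smul]⟩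
      inv_mem' := by
        rintro g ⟨hg, b, hb⟩
        exact ⟨(H55.Psu.radU (q := 2) v).inv_mem hg, -b, by rw [(rad_inv hF hvw hg).1, hb, neg_smul]⟩ }
  have hRlev : ∀ g ∈ R, g ∈ lev 2 x y := by
    rintro g ⟨hg, b, hb⟩
    refine stab2_le_lev hF h (mem_stab2.2 ⟨?_, ?_⟩)
    · rw [radU_mulVec hF hvw hg hxP, hb, h_smul_right hF, (h_eq_zero_comm hF).1 hfx, mul_zero,
        zero_smul, sub_zero]
    · rw [radU_mulVec hF hvw hg hyP, hb, h_smul_right hF, (h_eq_zero_comm hF).1 hfy, mul_zero,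
        zero_smul, sub_zero]
  -- an element moving the unit vector
  obtain ⟨om, hom0, hom1, -⟩ := exists_four_omega hF
  obtain ⟨e, he, he0⟩ := exists_frame_cons hF (m := 2) rfl h (hmemj g₁) hff
  have hqa : om ^ 2 / om = om := by rw [pow_two, mul_div_cancel_right₀ _ hom0]
  obtain ⟨T, hT, -, hTe⟩ := diag_lev hF h he hom0 (fun i => if i = 0 then om ^ 2 / om else 1)
    (fun i => by
      split_ifs
      · rw [hqa]; exact four_cube hF hom0
      · rw [one_pow])
    (by rw [Finset.prod_ite_eq' Finset.univ (0 : Fin (2 + 1))]; simp [hqa, pow_two])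
  have hTf : suMat T *ᵥ f = om • f := by
    show suMat T *ᵥ j g₁ = om • j g₁
    rw [← he0, hTe, if_pos rfl, hqa]
  have hTfix : ∀ u ∈ pperp 2 x y, hermForm (3 + 2) F 2 u f = 0 → suMat T *ᵥ u = u := by
    intro u hu huf
    conv_lhs => rw [frame_ext hF h he hu, mulVec_sum]
    conv_rhs => rw [frame_ext hF h he hu]
    refine Finset.sum_congr rfl fun i _ => ?_
    rw [mulVec_smul, hTe]
    by_cases hi : i = 0
    · subst hi
      rw [he0, huf, zero_smul, zero_smul]
    · rw [if_neg hi, one_smul]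
  have hTv : suMat T *ᵥ v = v := hTfix v (hmemj e₁) ((h_eq_zero_comm hF).1 hfv)
  have hTw : suMat T *ᵥ w = w := hTfix w (hmemj f₁) ((h_eq_zero_comm hF).1 hfw)
  have hTs : T ∈ stab2 (q := 2) v w := mem_stab2.2 ⟨hTv, hTw⟩
  obtain ⟨hTl, hT1⟩ := (stab2_iff_eig hF hvw).1 hTs
  have hex : ∀ b : F, ∃ g ∈ R, pr v w g = b • f := by
    intro b
    obtain ⟨a, ha⟩ := exists_trace_eq hF (c := -hermForm (3 + 2) F 2 (b • f) (b • f))
      (by rw [neg_pow_q hF, h_self_fixed hF])
    obtain ⟨g, hg, e1, -⟩ := exists_rad hF hvw (Submodule.smul_mem _ b hfP)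
      (show a + a ^ 2 + hermForm (3 + 2) F 2 (b • f) (b • f) = 0 by rw [ha]; ring)
    exact ⟨g, ⟨hg, b, e1⟩, e1⟩
  have hRH : ∀ g ∈ R, g ∈ H := by
    -- squares
    have hsq : ∀ g ∈ R, g * g ∈ H := fun g hg => by
      refine ⟨mul_mem (hRlev g hg) (hRlev g hg), ?_⟩
      by_cases hgK : g ∈ K
      · exact mul_mem hgK hgK
      · exact hprod g (hRlev g hg) g (hRlev g hg) hgK hgK
    have hZ : ∀ g ∈ R, pr v w g = 0 → g ∈ H := by
      intro g hg h0
      obtain ⟨g', hg', e'⟩ := hex 1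
      rw [one_smul] at e'
      by_cases hg1' : g = 1
      · rw [hg1']; exact one_mem _
      have h0' : gam 2 w g ≠ 0 := fun e0 => hg1' (rad_eq hF hvw hg.1 (H55.Psu.radU (q := 2) v).one_mem
        (h0.trans (rad_one hF hvw).1.symm) (e0.trans (rad_one hF hvw).2.symm))
      have htr := rad_trace hF hvw h0
      have h1 : gam 2 w g * (gam 2 w g + 1) = 0 := by linear_combination htr
      have h3 := (mul_eq_zero.1 h1).resolve_left h0'
      have e2 : g = g' * g' := by
        refine rad_eq hF hvw hg.1 ((H55.Psu.radU (q := 2) v).mul_mem hg'.1 hg'.1) ?_ ?_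
        · rw [h0, (rad_mul hF hvw hg'.1 hg'.1).1, e', ← two_smul F f, h2, zero_smul]
        · rw [(rad_mul hF hvw hg'.1 hg'.1).2, e', hff]
          linear_combination h3 - gam 2 w g' * h2
      rw [e2]; exact hsq g' hg'
    intro g hg
    obtain ⟨hgr, b, hb⟩ := hg
    obtain ⟨g', hg', e'⟩ := hex (b / (om - 1))
    have hc := hcomm T hT g' (hRlev g' hg')
    set c := T * g' * T⁻¹ * g'⁻¹
    have hcU : c ∈ H55.Psu.radU (q := 2) v :=
      (H55.Psu.radU (q := 2) v).mul_mem (radU_conj_mem hF hvw hTl.1 hg'.1)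
        ((H55.Psu.radU (q := 2) v).inv_mem hg'.1)
    have hcp : pr v w c = b • f := by
      rw [(rad_mul hF hvw (radU_conj_mem hF hvw hTl.1 hg'.1)
        ((H55.Psu.radU (q := 2) v).inv_mem hg'.1)).1, (rad_conj hF hvw hTl hg'.1).1,
        (rad_inv hF hvw hg'.1).1, hT1, one_pow, one_smul, e', mulVec_smul, hTf, smul_smul,
        ← neg_smul, ← add_smul]
      congr 1
      rw [← sub_eq_add_neg, ← mul_sub_one, div_mul_cancel₀ _ (sub_ne_zero.2 hom1)]
    have hd : g * c⁻¹ ∈ H := by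
      refine hZ _ (mul_mem ⟨hgr, b, hb⟩ (inv_mem ⟨hcU, b, hcp⟩)) ?_
      rw [(rad_mul hF hvw hgr ((H55.Psu.radU (q := 2) v).inv_mem hcU)).1, (rad_inv hF hvw hcU).1, hb,
        hcp, add_neg_cancel]
    have := mul_mem hd hc
    rwa [inv_mul_cancel_right] at this
  -- eight elements
  have hRc : Nat.card R = 8 := by
    have hs : ∀ b : F, ∃ a : F, a + a ^ 2 = -hermForm (3 + 2) F 2 (b • f) (b • f) := fun b =>
      exists_trace_eq hF (by rw [neg_pow_q hF, h_self_fixed hF])
    choose a ha using hs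
    have hcard : Nat.card (F × (traceHom hF).ker) = 8 := by
      rw [Nat.card_prod, card_trace_ker hF, Nat.card_eq_fintype_card, hF]; rfl
    rw [← hcard]
    have hg : ∀ p : F × (traceHom hF).ker, ∃ g ∈ H55.Psu.radU (q := 2) v,
        pr v w g = p.1 • f ∧ gam 2 w g = a p.1 + p.2.1 := by
      intro p
      have hk : p.2.1 + p.2.1 ^ 2 = 0 := by
        have := p.2.2; rwa [AddMonoidHom.mem_ker, traceHom_apply] at this
      exact exists_rad hF hvw (Submodule.smul_mem _ p.1 hfP)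
        (by rw [add_pow_q hF]; linear_combination ha p.1 + hk)
    choose g hgm hgp hgg using hg
    refine (Nat.card_eq_of_bijective (fun p => (⟨g p, hgm p, p.1, hgp p⟩ : R)) ⟨?_, ?_⟩).symm
    · intro p p' e
      have e' : g p = g p' := congrArg Subtype.val e
      have hf0 : f ≠ 0 := fun e0 => by rw [e0, h_zero_left] at hff; exact zero_ne_one hff
      have e1 : p.1 = p'.1 := smul_left_injective F hf0
        (show p.1 • f = p'.1 • f by rw [← hgp, ← hgp, e'])
      have e2 : a p.1 + p.2.1 = a p'.1 + p'.2.1 := by rw [← hgg, ← hgg, e']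
      rw [e1] at e2
      exact Prod.ext e1 (Subtype.ext (add_left_cancel e2))
    · rintro ⟨r, hr, b, hb⟩
      have htr : gam 2 w r - a b ∈ (traceHom hF).ker := by
        rw [AddMonoidHom.mem_ker, traceHom_apply, sub_pow_q hF]
        have h1 := (rad_inv hF hvw hr).2
        have h5 : gam 2 w r + gam 2 w r ^ 2 + hermForm (3 + 2) F 2 (b • f) (b • f) = 0 := by
          rw [← hb]; exact rad_norm hF hvw hr
        linear_combination h5 - ha b
      refine ⟨(b, ⟨_, htr⟩), Subtype.ext ?_⟩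
      exact rad_eq hF hvw (hgm _) hr ((hgp _).trans hb.symm) ((hgg _).trans (add_sub_cancel _ _))
  -- the order of the Levi subgroup
  have hlc : Nat.card (lev 2 x y) = 3 * Nat.card (SU 3 F 2) := by
    rw [card_fibres (lev 2 x y) (stab2 (q := 2) x y) (eig 2 x y) (stab2_le_lev hF h), card_stab2 hF h (by omega)]
    · congr 1
      have : eig 2 x y '' (lev 2 x y : Set G) = {a : F | a ≠ 0} := by
        ext a
        refine ⟨?_, fun ha => ?_⟩
        · rintro ⟨t, ht, rfl⟩; exact (lev_spec hF h ht).1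
        · obtain ⟨t, ht, e⟩ := exists_lev_eig hF h (by omega) ha
          exact ⟨t, ht, e⟩
      rw [this, show Nat.card {a : F | a ≠ 0} = Nat.card Fˣ from (Nat.card_congr unitsEquivNeZero).symm,
        Nat.card_units,
        Nat.card_eq_fintype_card, hF]
      rfl
    · intro s hs t ht
      rw [stab2_iff_eig hF h, and_iff_right (mul_mem (inv_mem hs) ht), eig_mul h (inv_mem hs).1 ht.1,
        eig_inv hF h hs, inv_mul_eq_one₀ (lev_spec hF h hs).1]
  rw [SCBase.card_SU_three hF] at hlc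
  norm_num [-Nat.card_eq_fintype_card] at hlc
  by_contra hle
  obtain ⟨s, hs, hsK⟩ := SetLike.not_le_iff_exists.1 hle
  have hH2 : Nat.card H * 2 = Nat.card (lev 2 x y) := by
    rw [mul_two, ← Nat.card_sum]
    refine Nat.card_eq_of_bijective (Sum.elim (fun g : H => (⟨g.1, g.2.1⟩ : lev 2 x y))
      (fun g : H => ⟨s * g.1, mul_mem hs g.2.1⟩)) ⟨?_, ?_⟩
    · rintro (g | g) (g' | g') e <;> have e' := congrArg Subtype.val e <;>
        simp only [Sum.elim_inl, Sum.elim_inr] at e'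
      · exact congrArg Sum.inl (Subtype.ext e')
      · exact absurd ((K.mul_mem_cancel_right g'.2.2).1 (e' ▸ g.2.2)) hsK
      · exact absurd ((K.mul_mem_cancel_right g.2.2).1 (e'.symm ▸ g'.2.2)) hsK
      · exact congrArg Sum.inr (Subtype.ext (mul_left_cancel e'))
    · rintro ⟨t, ht⟩
      by_cases htK : t ∈ K
      · exact ⟨Sum.inl ⟨t, ht, htK⟩, rfl⟩
      · have hsi : s⁻¹ ∉ K := fun hh => hsK (inv_inv s ▸ inv_mem hh)
        exact ⟨Sum.inr ⟨s⁻¹ * t, (lev 2 x y).mul_mem ((lev 2 x y).inv_mem hs) ht, hprod _ ((lev 2 x y).inv_mem hs) _ ht hsi htK⟩,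
          Subtype.ext (mul_inv_cancel_left s t)⟩
  have h8 : 8 ∣ Nat.card H := hRc ▸ Subgroup.card_dvd_of_le (fun g hg => hRH g hg)
  omega

end Cases

theorem base_five_two : BaseBound F 2 3 := by
  intro K hK
  obtain ⟨x, y, h, hx⟩ := exists_noncentre hF (by omega) hK
  rcases ix_or_exact hF h le_rfl (five_cases_two hF h hx) hx with hN | ⟨hE, hix⟩
  · exact Or.inl (hN.trans (relIndex_le_index hF K _))
  obtain ⟨u₀, hu₀, hp⟩ := hE.exists_lev_pureW hF h (by omega)
  have hu : u₀ ∈ pst (q := 2) x := stab_le_pst x (mem_stab.2 hu₀.1)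
  have hE' := hE.conj hF h hu₀
  have hix' := (relIndex_conjK hF h (K := K) hu).trans hix
  refine Target.mono (target_of_lev hF h le_rfl (hE'.not_isCtr hF h) hix'.ge hix'.le
    (lev_le_of_two hF h hE' hp) fun e => hK ?_) (index_conjK K u₀).le
  rw [← Subgroup.index_eq_one, ← index_conjK K u₀, e, Subgroup.index_top]

end H37.SUMin
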