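import Cfsg.Agent.H37.SUMinCentre
import Cfsg.Agent.H37.SUMinCount
import Cfsg.Agent.H37.SUMinChain

/-!
The least index of a proper subgroup of a special unitary group, from a bound two dimensions below.
-/

set_option autoImplicit false

namespace H37.SUMin

open Matrix Cfsg H50 H50.PointStab H50.RadFrame

universe u

variable {F : Type u} [Field F] {m q : ℕ}

local notation "V" => (Fin (m + 2) → F)
local notation "hh" => hermForm (m + 2) F q
local notation "G" => SU (m + 2) F q

/-- The bound to be shown: the isotropic points, or for `q = 2` in even dimension the anisotropic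
ones. -/
def Target (K : Subgroup (SU (m + 2) F q)) : Prop :=
  Nat.card (IsoPt (m + 2) q F) ≤ K.index ∨
    (q = 2 ∧ Even m ∧ 2 ^ (m + 1) * (2 ^ (m + 2) - 1) ≤ 3 * K.index)

theorem Target.mono {K K' : Subgroup (SU (m + 2) F q)} (h : Target K) (e : K.index ≤ K'.index) :
    Target K' :=
  h.imp (fun h1 => h1.trans e) fun h1 => ⟨h1.1, h1.2.1, h1.2.2.trans (Nat.mul_le_mul_left _ e)⟩

variable [Fintype F] (hF : Fintype.card F = q ^ 2)
include hF

theorem relIndex_le_index (K H : Subgroup G) : K.relIndex H ≤ K.index :=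
  (Subgroup.relIndex_le_of_le_right le_top (by
    rw [Subgroup.relIndex_top_right]; exact Subgroup.index_ne_zero_of_finite)).trans
    (Subgroup.relIndex_top_right K).le

theorem exists_noncentre (hm : 2 ≤ m) {K : Subgroup G} (hK : K ≠ ⊤) :
    ∃ (x y : V) (_ : IsHyp q x y), ¬ H51.StabMax.IsCtr K x := by
  by_contra hno
  simp only [not_exists, not_not] at hno
  refine hK (H51.StabMax.eq_top_of_ctr hF (by omega) K fun v hv => ?_)
  by_cases hv0 : v = 0
  · subst hv0
    obtain ⟨e, f, hef⟩ := exists_hyp (F := F) hF (n := m + 2) (by omega)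
    simpa using H51.StabMax.ctr_smul hF (hno e f hef) 0
  · obtain ⟨f, hf⟩ := exists_hyp_partner hF hv0 hv
    exact hno v f hf

section Pair

variable {x y : Fin (m + 2) → F} (h : IsHyp q x y) {K : Subgroup (SU (m + 2) F q)}
include h

theorem exists_trace_notMem (hx : ¬ H51.StabMax.IsCtr K x) :
    ∃ t : F, t + t ^ q = 0 ∧ t ∉ wPart hF h K := by
  by_contra hno
  simp only [not_exists, not_and, not_not] at hno
  refine hx (isCtr_of_zRad hF h fun g hg => ?_)
  obtain ⟨g', ⟨hg', hgz⟩, e⟩ := hno _ (rad_trace hF h hg.2 (g := g))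
  rwa [rad_eq hF h hg.1 hgz.1 (hg.2.trans hgz.2.symm) e.symm]

theorem relIndex_conjK {u : G} (hu : u ∈ pst (q := q) x) :
    (conjK K u).relIndex (pst x) = K.relIndex (pst x) := by
  rw [conjK, Subgroup.relIndex_comap]
  congr 1
  ext g
  refine ⟨?_, fun hg => ⟨u⁻¹ * g * u, mul_mem (mul_mem (inv_mem hu) hg) hu, ?_⟩⟩
  · rintro ⟨a, ha, rfl⟩
    exact mul_mem (mul_mem hu ha) (inv_mem hu)
  · show u * (u⁻¹ * g * u) * u⁻¹ = g
    group

/-- A point that is not a centre has a long orbit, or its stabiliser in the subgroup is a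
complement of the radical. -/
theorem ix_or_exact (hm : 3 ≤ m)
    (hb : gPart hF h K ≠ stab2 x y → Nat.card (IsoPt (m + 2) q F) ≤ K.relIndex (pst x))
    (hx : ¬ H51.StabMax.IsCtr K x) :
    Nat.card (IsoPt (m + 2) q F) ≤ K.relIndex (pst x) ∨
      (Exact K x y ∧ K.relIndex (pst x) = q ^ (2 * m + 1)) := by
  classical
  have hq := two_le hF
  have hW := exists_trace_notMem hF h hx
  have hf := relIndex_formula hF h (by omega) K
  obtain ⟨hLW, hLW'⟩ := scalar_card hF h (by omega) hW
  have hS : 0 < Nat.card (SU m F q) := Nat.card_pos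
  have hq4 : 4 ≤ q ^ 2 := by nlinarith
  obtain ⟨-, hN2, hN3, -⟩ := isoPt_bounds hF hm
  by_cases hG : gPart hF h K = stab2 x y
  · have hI := iPart_eq_bot hF h hm hW hG
    rw [hG, card_stab2 hF h (by omega), hI, AddSubgroup.card_bot, one_mul, ← pow_succ] at hf
    have hf' : K.relIndex (pst x) * (Nat.card (wPart hF h K) * Nat.card (eSet x y K)) =
        (q ^ 2 - 1) * q ^ (2 * m + 1) := Nat.eq_of_mul_eq_mul_right hS (by linear_combination hf)
    by_cases hWb : wPart hF h K = ⊥
    · rw [hWb, AddSubgroup.card_bot, one_mul] at hf'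
      have hnz : ∀ a ∈ eSet x y K, a ≠ 0 := by
        rintro _ ⟨g, hg, rfl⟩
        exact (eig_spec h hg.2).1
      by_cases hE : ∀ a : F, a ≠ 0 → a ∈ eSet x y K
      · refine Or.inr ⟨exact_of_parts hF h (by omega) hWb hI hG hE, ?_⟩
        have e : eSet x y K = {a : F | a ≠ 0} := Set.ext fun a => ⟨hnz a, hE a⟩
        have hc : Nat.card {a : F | a ≠ 0} = q ^ 2 - 1 := by
          rw [← hF, ← Fintype.card_units, ← Nat.card_eq_fintype_card]
          exact (Nat.card_congr (unitsEquivNeZero (G₀ := F))).symm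
        rw [e, hc, mul_comm (q ^ 2 - 1)] at hf'
        exact Nat.eq_of_mul_eq_mul_right (by omega) hf'
      · left
        simp only [not_forall] at hE
        obtain ⟨a, ha, haE⟩ := hE
        have hinj : Function.Injective (Sum.elim
            (fun e : eSet x y K => Units.mk0 (e : F) (hnz _ e.2))
            (fun e : eSet x y K => Units.mk0 a ha * Units.mk0 (e : F) (hnz _ e.2))) := by
          rintro (e | e) (e' | e') he <;> simp only [Sum.elim_inl, Sum.elim_inr] at he
          · exact congrArg Sum.inl (Subtype.ext (congrArg Units.val he :))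
          · exact absurd e.2 fun _ => haE (by
              obtain ⟨g, hg, he1⟩ := e.2
              obtain ⟨g', hg', he2⟩ := e'.2
              refine ⟨g * g'⁻¹, mul_mem hg (inv_mem hg'), ?_⟩
              have h1 := eig_mul h (mul_mem hg.2 (inv_mem hg'.2)) hg'.2
              rw [inv_mul_cancel_right, he1, he2] at h1
              exact mul_right_cancel₀ (hnz _ e'.2) (h1.symm.trans (congrArg Units.val he :)))
          · exact absurd e.2 fun _ => haE (by
              obtain ⟨g, hg, he1⟩ := e'.2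
              obtain ⟨g', hg', he2⟩ := e.2
              refine ⟨g * g'⁻¹, mul_mem hg (inv_mem hg'), ?_⟩
              have h1 := eig_mul h (mul_mem hg.2 (inv_mem hg'.2)) hg'.2
              rw [inv_mul_cancel_right, he1, he2] at h1
              exact mul_right_cancel₀ (hnz _ e.2) (h1.symm.trans (congrArg Units.val he.symm :)))
          · exact congrArg Sum.inr (Subtype.ext (congrArg Units.val (mul_left_cancel he) :))
        have h2 := Nat.card_le_card_of_injective _ hinj
        rw [Nat.card_sum, Nat.card_units, Nat.card_eq_fintype_card (α := F), hF] at h2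
        refine hN2.trans (Nat.le_of_mul_le_mul_right ?_ (show 0 < q ^ 2 - 1 by omega))
        calc 2 * q ^ (2 * m + 1) * (q ^ 2 - 1)
            = K.relIndex (pst x) * (Nat.card (eSet x y K) + Nat.card (eSet x y K)) := by
              rw [mul_assoc, mul_comm _ (q ^ 2 - 1), ← hf']; ring
          _ ≤ _ := Nat.mul_le_mul_left _ h2
    · left
      have h1 := hLW' hWb
      have h2 : (q - 1) * q ^ (2 * m + 1) ≤ K.relIndex (pst x) * (q - 2) := by
        refine Nat.le_of_mul_le_mul_left ?_ (show 0 < q + 1 by omega)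
        calc (q + 1) * ((q - 1) * q ^ (2 * m + 1)) = (q ^ 2 - 1) * q ^ (2 * m + 1) := by
              rw [← mul_assoc, ← Nat.sq_sub_sq, one_pow]
          _ = _ := hf'.symm
          _ ≤ K.relIndex (pst x) * ((q + 1) * (q - 2)) := Nat.mul_le_mul_left _ h1
          _ = _ := by ring
      rcases Nat.lt_or_ge q 3 with hq3 | hq3
      · rw [show q - 2 = 0 by omega, mul_zero] at h2
        have := Nat.pow_pos (n := 2 * m + 1) (show 0 < q by omega)
        have h3 : 0 < (q - 1) * q ^ (2 * m + 1) := Nat.mul_pos (by omega) this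
        omega
      · exact Nat.le_of_mul_le_mul_right (hN3.trans (by rwa [mul_comm] at h2)) (by omega)
  · exact Or.inl (hb hG)

/-- From a bound in two dimensions fewer. -/
theorem ix_of_bound (hm : 3 ≤ m)
    (hB : ∀ H : Subgroup (SU m F q), H ≠ ⊤ →
      Nat.card (IsoPt (m + 2) q F) ≤ q ^ (m + 1) * H.index)
    (hx : ¬ H51.StabMax.IsCtr K x) (hG : gPart hF h K ≠ stab2 x y) :
    Nat.card (IsoPt (m + 2) q F) ≤ K.relIndex (pst x) := by
  classical
  have hq := two_le hF
  have hW := exists_trace_notMem hF h hx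
  have hf := relIndex_formula hF h (by omega) K
  obtain ⟨hLW, -⟩ := scalar_card hF h (by omega) hW
  have hS : 0 < Nat.card (SU m F q) := Nat.card_pos
  have hq4 : 4 ≤ q ^ 2 := by nlinarith
  obtain ⟨ι, j, hιinj, hι, -⟩ := exists_pair_hom hF (by omega) h
  have hGle : gPart hF h K ≤ ι.range := hι ▸ fun g hg => hg.1
  have hmap : ((gPart hF h K).comap ι).map ι = gPart hF h K := Subgroup.map_comap_eq_self hGle
  have hne : (gPart hF h K).comap ι ≠ ⊤ := fun e => hG (by
    rw [← hmap, e, ← MonoidHom.range_eq_map, hι])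
  have h1 := hB _ hne
  have h2 : Nat.card (gPart hF h K) * ((gPart hF h K).comap ι).index = Nat.card (SU m F q) := by
    rw [← Subgroup.card_mul_index ((gPart hF h K).comap ι)]
    congr 1
    conv_lhs => rw [← hmap]
    exact Nat.card_congr (Subgroup.equivMapOfInjective _ ι hιinj).toEquiv.symm
  have hI := card_iPart_sq hF h (by omega) hW
  set B := ((gPart hF h K).comap ι).index
  set ix := K.relIndex (pst x)
  refine h1.trans (Nat.le_of_mul_le_mul_left ?_
    (show 0 < (q ^ 2 - 1) * Nat.card (SU m F q) * q ^ m from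
      Nat.mul_pos (Nat.mul_pos (by omega) hS) (Nat.pow_pos (by omega))))
  calc (q ^ 2 - 1) * Nat.card (SU m F q) * q ^ m * (q ^ (m + 1) * B)
      = B * ((q ^ 2 - 1) * (Nat.card (SU m F q) * (q ^ (2 * m) * q))) := by
        rw [show 2 * m = m + m by ring, pow_add, pow_succ]; ring
    _ = ix * (Nat.card (wPart hF h K) * Nat.card (eSet x y K) *
          ((Nat.card (gPart hF h K) * B) * Nat.card (iPart hF h K))) := by rw [← hf]; ring
    _ ≤ ix * ((q ^ 2 - 1) * (Nat.card (SU m F q) * q ^ m)) := by rw [h2]; gcongr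
    _ = _ := by ring

/-- Up to conjugation the complement contains a Levi subgroup. -/
theorem Exact.exists_lev_conj (hK : Exact K x y) (hm : 3 ≤ m) (h32 : ¬(m = 3 ∧ q = 2))
    (h42 : ¬(m = 4 ∧ q = 2)) :
    ∃ u ∈ pst (q := q) x, Exact (conjK K u) x y ∧ lev q x y ≤ conjK K u := by
  obtain ⟨u₀, hu₀, hp⟩ : ∃ u₀ ∈ H55.Psu.radU (q := q) x,
      lev q x y ≤ pureW hF h (conjK K u₀) := by
    by_cases hcase : q = 2 ∧ m % 3 = 1
    · obtain ⟨rfl, hm3⟩ := hcase
      exact hK.exists_lev_pureW_four hF h (by omega) hm3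
    · exact hK.exists_lev_pureW hF h hcase
  obtain ⟨z, hz, hl⟩ := (hK.conj hF h hu₀).exists_lev_le hF h hm h32 hp
  have hsub : ∀ g ∈ H55.Psu.radU (q := q) x, g ∈ pst (q := q) x := fun g hg =>
    stab_le_pst x (mem_stab.2 hg.1)
  refine ⟨u₀ * z, mul_mem (hsub _ hu₀) (hsub _ hz.1), ?_, ?_⟩
  · exact hK.conj hF h ((H55.Psu.radU (q := q) x).mul_mem hu₀ hz.1)
  · rwa [← conjK_conjK]

theorem Exact.not_isCtr (hK : Exact K x y) : ¬ H51.StabMax.IsCtr K x := by
  intro hc
  obtain ⟨t, ht0, ht⟩ := exists_trace_zero_ne_zero hF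
  obtain ⟨g, hg, e1, e2⟩ := exists_rad hF h (zero_mem (pperp q x y))
    (show t + t ^ q + hh 0 0 = 0 by rw [h_zero_left, add_zero, ht])
  have h1 := hK.inf g (zRad_le_of_isCtr hF h hc ⟨hg, e1⟩) hg
  rw [h1, (rad_one hF h).2] at e2
  exact ht0 e2.symm

/-- The estimate when a Levi subgroup is contained. -/
theorem target_of_lev (hm : 3 ≤ m) (hx : ¬ H51.StabMax.IsCtr K x)
    (hix : q ^ (2 * m + 1) ≤ K.relIndex (pst x)) (hixe : K.relIndex (pst x) ≤ q ^ (2 * m + 1))
    (hlev : lev q x y ≤ K) (hK : K ≠ ⊤) : Target K := by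
  classical
  have hq := two_le hF
  have hq4 : 4 ≤ q ^ 2 := by nlinarith
  obtain ⟨z, w, hzw, hz, hb⟩ := centre_bound hF h hm hlev hK
  have hsum : K.relIndex (pst x) + K.relIndex (pst z) ≤ K.index := by
    refine relIndex_add_le hF (by omega) K h hzw fun g hg a e => hx ?_
    have h1 := H51.StabMax.ctr_group (H51.StabMax.ctr_smul hF hz a) (inv_mem hg)
    rwa [← e, suMat_inv_mulVec] at h1
  obtain ⟨-, -, -, hN4⟩ := isoPt_bounds hF hm
  have hrec := isoPt_card_rec hF (n := m) (by omega)
  have hc := card_isoPt_mul hF (n := m)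
  set P := q ^ (2 * m + 1) with hP
  set N := Nat.card (IsoPt (m + 2) q F)
  set M := Nat.card (IsoPt m q F)
  have conclude : q ^ 2 * M ≤ K.relIndex (pst z) → Target K := fun hle => by
    left
    by_contra hlt
    have horb := index_mul_orbit hF h (by omega) K
    have hi : K.index = N - 1 := by omega
    rw [hi, le_antisymm hixe hix] at horb
    have hcop : Nat.Coprime (N - 1) N := by
      have := Nat.coprime_self_add_right (m := N - 1) (n := 1)
      rw [Nat.sub_add_cancel (by omega)] at this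
      exact this.2 (Nat.coprime_one_right _)
    have hd : N - 1 ∣ P := hcop.dvd_of_dvd_mul_right ⟨_, horb.symm⟩
    have := Nat.le_of_dvd (Nat.pow_pos (by omega)) hd
    omega
  rcases hb with hb | ⟨rfl, hb⟩
  · refine conclude (Nat.le_of_mul_le_mul_left ?_ (show 0 < q ^ 2 - 1 by omega))
    rw [← hc, Nat.add_sub_cancel] at hb
    exact le_trans (le_of_eq (by ring)) hb
  · have e0 := q_mul_norm_zero_count hF (n := m)
    have e1 := norm_one_count_mul hF (n := m)
    by_cases hev : Even m
    · right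
      refine ⟨rfl, hev, ?_⟩
      rw [hev.neg_one_pow] at e0
      push_cast at e0 e1
      have h4 : (1 : ℕ) ≤ 2 ^ (m + 2) := Nat.one_le_two_pow
      have hb' : (4 : ℤ) * normCount m 2 F 1 ≤ 3 * K.relIndex (pst z) := by exact_mod_cast hb
      have hs' : (2 : ℤ) ^ (2 * m + 1) + K.relIndex (pst z) ≤ K.index := by
        have : P + K.relIndex (pst z) ≤ K.index := by omega
        rw [hP] at this; exact_mod_cast this
      have goal : (2 : ℤ) ^ (m + 1) * (2 ^ (m + 2) - 1) ≤ 3 * K.index := by
        have p1 : (2 : ℤ) ^ (2 * m + 1) = 2 * 2 ^ (2 * m) := pow_succ' _ _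
        have p2 : (2 : ℤ) ^ (m + 1) * (2 ^ (m + 2) - 1) = 8 * 2 ^ (2 * m) - 2 * 2 ^ m := by
          rw [show 2 * m = m + m by ring, pow_add, pow_succ, pow_add]; ring
        rw [p2]; rw [p1] at hs'
        linarith
      zify [h4]
      exact goal
    · refine conclude (Nat.le_of_mul_le_mul_left ?_ (show 0 < 3 by omega))
      rw [(Nat.not_even_iff_odd.1 hev).neg_one_pow] at e0
      push_cast at e0 e1
      have hb' : (4 : ℤ) * normCount m 2 F 1 ≤ 3 * K.relIndex (pst z) := by exact_mod_cast hb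
      have hc' : (M : ℤ) * 3 + 1 = normCount m 2 F 0 := by exact_mod_cast hc
      have hp : (0 : ℤ) < 2 ^ m := by positivity
      have goal : (3 : ℤ) * (2 ^ 2 * M) ≤ 3 * K.relIndex (pst z) := by linarith
      exact_mod_cast goal

end Pair

/-- The least index, given the case of a smaller part in the Levi subgroup. -/
theorem target_of_cases (hm : 3 ≤ m) (h32 : ¬(m = 3 ∧ q = 2)) (h42 : ¬(m = 4 ∧ q = 2))
    {K : Subgroup G} (hK : K ≠ ⊤)
    (hb : ∀ (x y : V) (h : IsHyp q x y), ¬ H51.StabMax.IsCtr K x → gPart hF h K ≠ stab2 x y →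
      Nat.card (IsoPt (m + 2) q F) ≤ K.relIndex (pst x)) : Target K := by
  obtain ⟨x, y, h, hx⟩ := exists_noncentre hF (by omega) hK
  rcases ix_or_exact hF h hm (hb x y h hx) hx with hN | ⟨hE, hix⟩
  · exact Or.inl (hN.trans (relIndex_le_index hF K _))
  obtain ⟨u, hu, hE', hl⟩ := hE.exists_lev_conj hF h hm h32 h42
  have hix' := (relIndex_conjK hF h (K := K) hu).trans hix
  refine Target.mono (target_of_lev hF h hm (hE'.not_isCtr hF h) hix'.ge hix'.le hl fun e => hK ?_)
    (index_conjK K u).le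
  rw [← Subgroup.index_eq_one, ← index_conjK K u, e, Subgroup.index_top]

/-- The least index, given a weak bound two dimensions below. -/
theorem target_of_bound (hm : 3 ≤ m) (h32 : ¬(m = 3 ∧ q = 2)) (h42 : ¬(m = 4 ∧ q = 2))
    (hB : ∀ H : Subgroup (SU m F q), H ≠ ⊤ →
      Nat.card (IsoPt (m + 2) q F) ≤ q ^ (m + 1) * H.index)
    {K : Subgroup G} (hK : K ≠ ⊤) : Target K := by
  exact target_of_cases hF hm h32 h42 hK fun x y h hx hG => ix_of_bound hF h hm hB hx hG

end H37.SUMin
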