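import Cfsg.Agent.H37.SUMinBounds
import Cfsg.Agent.H37.SUMinCount

/-!
Orbits of vectors and pairs of vectors of subgroups that keep an additive group with small skew
part.
-/

set_option autoImplicit false

namespace H37.SUMin

open Matrix Cfsg H50 H50.PointStab H50.RadFrame

universe u

variable {F : Type u} [Field F] {n q : ℕ}

local notation "V" => (Fin n → F)
local notation "hh" => hermForm n F q

/-- A comparison of orbits. -/
theorem orbit_le {A X : Type*} [Group A] [Finite A] [Finite X] (f : A → X)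
    (hinv : ∀ a b c : A, f a = f b → f (c * a) = f (c * b)) (Γ : Subgroup A) (O T : Set X)
    (hO : O ⊆ Set.range f) (hT : ∀ g ∈ Γ, f g ∈ T) :
    Nat.card O * Nat.card Γ ≤ Nat.card T * Nat.card A := by
  classical
  have hiff : ∀ a b : A, f a = f b ↔ f (a⁻¹ * b) = f 1 := fun a b => by
    refine ⟨fun e => ?_, fun e => ?_⟩
    · have := hinv _ _ a⁻¹ e
      rwa [inv_mul_cancel, eq_comm] at this
    · have := hinv _ _ a e
      rwa [mul_inv_cancel_left, mul_one, eq_comm] at this
  let H : Subgroup A :=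
    { carrier := {a | f a = f 1}
      one_mem' := rfl
      mul_mem' := fun {a b} (ha : f a = f 1) (hb : f b = f 1) => by
        show f (a * b) = f 1
        rw [hinv b 1 a hb, mul_one, ha]
      inv_mem' := fun {a} (ha : f a = f 1) => by
        show f a⁻¹ = f 1
        have := hinv _ _ a⁻¹ ha
        rwa [inv_mul_cancel, mul_one, eq_comm] at this }
  have hall := card_fibres ⊤ H f le_top fun a _ b _ => hiff a b
  rw [Subgroup.card_top] at hall
  have hΓ := card_fibres Γ (Γ ⊓ H) f inf_le_left fun a ha b hb => by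
    rw [Subgroup.mem_inf, and_iff_right (Γ.mul_mem (Γ.inv_mem ha) hb)]
    exact hiff a b
  have h1 : Nat.card Γ ≤ Nat.card T * Nat.card H := by
    rw [hΓ]
    refine Nat.mul_le_mul (Nat.card_mono (Set.toFinite _) ?_) (Subgroup.card_le_of_le inf_le_right)
    rintro _ ⟨g, hg, rfl⟩
    exact hT g hg
  have h2 : Nat.card O * Nat.card H ≤ Nat.card A := by
    rw [hall]
    refine Nat.mul_le_mul_right _ (Nat.card_mono (Set.toFinite _) fun x hx => ?_)
    obtain ⟨g, rfl⟩ := hO hx
    exact ⟨g, Subgroup.mem_top g, rfl⟩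
  calc Nat.card O * Nat.card Γ ≤ Nat.card O * (Nat.card T * Nat.card H) := Nat.mul_le_mul_left _ h1
    _ = Nat.card T * (Nat.card O * Nat.card H) := by ring
    _ ≤ _ := Nat.mul_le_mul_left _ h2

/-- In terms of the index. -/
theorem orbit_le_index {A X : Type*} [Group A] [Finite A] [Finite X] (f : A → X)
    (hinv : ∀ a b c : A, f a = f b → f (c * a) = f (c * b)) (Γ : Subgroup A) (O T : Set X)
    (hO : O ⊆ Set.range f) (hT : ∀ g ∈ Γ, f g ∈ T) {o t : ℕ} (ho : o ≤ Nat.card O)
    (ht : Nat.card T ≤ t) : o ≤ t * Γ.index := by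
  have h := orbit_le f hinv Γ O T hO hT
  rw [← Γ.card_mul_index] at h
  refine ho.trans (le_trans ?_ (Nat.mul_le_mul_right _ ht))
  refine Nat.le_of_mul_le_mul_right ?_ (Nat.card_pos (α := Γ))
  exact h.trans (le_of_eq (by ring))

/-- The members of an additive group orthogonal to a vector. -/
def perpI (q : ℕ) (I : AddSubgroup (Fin n → F)) (a : Fin n → F) : AddSubgroup (Fin n → F) where
  carrier := {i | i ∈ I ∧ hermForm n F q i a = 0}
  zero_mem' := ⟨zero_mem _, h_zero_left a⟩
  add_mem' := fun hi hj => ⟨add_mem hi.1 hj.1, by rw [h_add_left, hi.2, hj.2, add_zero]⟩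
  neg_mem' := fun hi => ⟨neg_mem hi.1, by rw [h_neg_left, hi.2, neg_zero]⟩

/-- The multiples of a vector in an additive group. -/
def lineSub (I : AddSubgroup (Fin n → F)) (v : Fin n → F) : AddSubgroup F where
  carrier := {s | s • v ∈ I}
  zero_mem' := by show (0 : F) • v ∈ I; rw [zero_smul]; exact zero_mem _
  add_mem' := fun {s s'} hs hs' => by show (s + s') • v ∈ I; rw [add_smul]; exact add_mem hs hs'
  neg_mem' := fun {s} hs => by show (-s) • v ∈ I; rw [neg_smul]; exact neg_mem hs

variable [Fintype F] (hF : Fintype.card F = q ^ 2)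
include hF

theorem card_fibre_le (I : AddSubgroup V) (a : V) (e : F) :
    Nat.card {i : V | i ∈ I ∧ hh i a = e} ≤ Nat.card (perpI q I a) := by
  by_cases hne : {i : V | i ∈ I ∧ hh i a = e}.Nonempty
  · obtain ⟨i₀, hi₀, he⟩ := hne
    refine Nat.card_le_card_of_injective (fun i => ⟨i.1 - i₀, sub_mem i.2.1 hi₀, ?_⟩)
      fun i i' h => Subtype.ext (sub_left_injective (congrArg Subtype.val h :))
    rw [sub_eq_add_neg, h_add_left, h_neg_left, i.2.2, he, add_neg_cancel]
  · rw [Set.not_nonempty_iff_eq_empty.1 hne, Nat.card_coe_set_eq, Set.ncard_empty]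
    exact Nat.zero_le _

theorem card_le_perpI (I : AddSubgroup V) (a : V) (T : Set F) (hT : ∀ i ∈ I, hh i a ∈ T) :
    Nat.card I ≤ Nat.card (perpI q I a) * Nat.card T := by
  classical
  have h : ∀ t : T, ∃ i : V, (i ∈ I ∧ hh i a = t) ∨ ¬∃ i ∈ I, hh i a = t := fun t => by
    by_cases h : ∃ i ∈ I, hh i a = t
    · obtain ⟨i, hi, e⟩ := h; exact ⟨i, Or.inl ⟨hi, e⟩⟩
    · exact ⟨0, Or.inr h⟩
  choose r hr using h
  rw [← Nat.card_prod]
  refine Nat.card_le_card_of_injective (fun i : I =>
    ((⟨i.1 - r ⟨_, hT i i.2⟩, ?_⟩ : perpI q I a), (⟨_, hT i i.2⟩ : T))) ?_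
  · rcases hr ⟨_, hT i i.2⟩ with ⟨h1, h2⟩ | h1
    · have h3 : hh (i.1 - r ⟨_, hT i i.2⟩) a = 0 := by
        rw [sub_eq_add_neg, h_add_left, h_neg_left, h2]; exact add_neg_cancel _
      exact ⟨sub_mem i.2 h1, h3⟩
    · exact absurd ⟨i.1, i.2, rfl⟩ h1
  · intro i i' h
    obtain ⟨h1, h2⟩ := Prod.ext_iff.1 h
    dsimp only at h1 h2
    have h3 : i.1 - r ⟨_, hT i i.2⟩ = i'.1 - r ⟨_, hT i' i'.2⟩ := congrArg Subtype.val h1
    rw [congrArg r h2] at h3
    exact Subtype.ext (sub_left_injective h3)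

theorem perpI_half (I : AddSubgroup V) (a : V) (hne : ∃ i ∈ I, hh i a ≠ 0) :
    Nat.card (perpI q I a) * 2 ≤ Nat.card I := by
  classical
  obtain ⟨i₀, hi₀, hne⟩ := hne
  rw [mul_two, ← Nat.card_sum]
  refine Nat.card_le_card_of_injective (Sum.elim (fun i => (⟨i.1, i.2.1⟩ : I))
    (fun i => ⟨i.1 + i₀, add_mem i.2.1 hi₀⟩)) ?_
  rintro (i | i) (i' | i') h <;> have h' := congrArg Subtype.val h <;>
    simp only [Sum.elim_inl, Sum.elim_inr] at h'
  · exact congrArg Sum.inl (Subtype.ext h')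
  · have := i.2.2
    rw [h', h_add_left, i'.2.2, zero_add] at this
    exact absurd this hne
  · have := i'.2.2
    rw [← h', h_add_left, i.2.2, zero_add] at this
    exact absurd this hne
  · exact congrArg Sum.inr (Subtype.ext (add_left_injective i₀ h'))

/-- Pairs with a given product. -/
theorem card_pairs_le (I : AddSubgroup V) (A : Set V) (e : F) (M : ℕ)
    (hM : ∀ a ∈ A, Nat.card (perpI q I a) ≤ M) :
    Nat.card {p : V × V | p.1 ∈ A ∧ p.2 ∈ I ∧ hh p.2 p.1 = e} ≤ Nat.card A * M := by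
  classical
  let σ : {p : V × V | p.1 ∈ A ∧ p.2 ∈ I ∧ hh p.2 p.1 = e} →
      Σ a : A, {i : V | i ∈ I ∧ hh i (a : V) = e} := fun p => ⟨⟨p.1.1, p.2.1⟩, p.1.2, p.2.2⟩
  refine (Nat.card_le_card_of_injective σ fun p p' h => Subtype.ext ?_).trans ?_
  · have h' := congrArg (fun s : Σ a : A, {i : V | i ∈ I ∧ hh i (a : V) = e} => (s.1.1, s.2.1)) h
    exact h'
  · rw [Nat.card_sigma]
    refine (Finset.sum_le_card_nsmul _ _ M fun a _ => ?_).trans ?_
    · exact (card_fibre_le hF I _ e).trans (hM _ a.2)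
    · rw [Finset.card_univ, smul_eq_mul, ← Nat.card_eq_fintype_card]

theorem skew_smul (s s' : F) (v v' : V) :
    skew q (s • v) (s' • v') = s * s' ^ q * hh v v' - (s * s' ^ q * hh v v') ^ q := by
  rw [skew, h_smul_left, h_smul_right hF, h_smul_left, h_smul_right hF, h_symm hF v v', mul_pow,
    mul_pow, pow_q_pow_q hF]
  ring

section Char

variable {ψ : AddChar F ℂ} {t : F} (ht : t + t ^ q = 0) (hψ : ψ t ≠ 1)
include ht hψ

/-- Scalars paired trivially. -/
theorem line_pairing {e : F} (he : e ≠ 0) (S S' : AddSubgroup F)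
    (hSS : ∀ s ∈ S, ∀ s' ∈ S', ψ (s * s' ^ q * e - (s * s' ^ q * e) ^ q) = 1) :
    Nat.card S * Nat.card S' ≤ q ^ 2 := by
  obtain ⟨e₁, he₁⟩ := H51.ShortU.exists_skew_eq hF ht
  let P : F → F → ℂ := fun s s' => ψ (s * s' ^ q * e - (s * s' ^ q * e) ^ q)
  let J : AddSubgroup F :=
    { carrier := {v | ∀ s ∈ S, P s v = 1}
      zero_mem' := fun s _ => by simp [P, zero_pow (q_ne_zero hF)]
      add_mem' := fun {a b} ha hb s hs => by
        have h1 : ψ (s * a ^ q * e - (s * a ^ q * e) ^ q) = 1 := ha s hs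
        have h2 : ψ (s * b ^ q * e - (s * b ^ q * e) ^ q) = 1 := hb s hs
        show ψ _ = 1
        rw [add_pow_q hF, mul_add, add_mul, add_pow_q hF, add_sub_add_comm, AddChar.map_add_eq_mul,
          h1, h2, one_mul]
      neg_mem' := fun {a} ha s hs => by
        have h1 : ψ (s * a ^ q * e - (s * a ^ q * e) ^ q) = 1 := ha s hs
        show ψ _ = 1
        rw [neg_pow_q hF, mul_neg, neg_mul, neg_pow_q hF, neg_sub_neg, ← neg_sub,
          AddChar.map_neg_eq_inv, h1, inv_one] }
  have hcard : Nat.card J * Nat.card S = Nat.card F := by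
    refine pairing_annih P ?_ ?_ ?_ ?_ ?_ S J fun v => Iff.rfl
    · intro a b c
      simp only [P]
      rw [← AddChar.map_add_eq_mul, add_mul, add_mul, add_pow_q hF]
      congr 1
      ring
    · intro a b c
      simp only [P]
      rw [← AddChar.map_add_eq_mul, add_pow_q hF, mul_add, add_mul, add_pow_q hF]
      congr 1
      ring
    · intro a; simp [P, zero_pow (q_ne_zero hF)]
    · intro a; simp [P, zero_pow (q_ne_zero hF)]
    · intro a ha
      by_contra ha0
      have h := ha ((e₁ / (a * e)) ^ q)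
      simp only [P] at h
      rw [pow_q_pow_q hF, mul_right_comm, mul_div_cancel₀ _ (mul_ne_zero ha0 he), he₁] at h
      exact hψ h
  rw [Nat.card_eq_fintype_card (α := F), hF] at hcard
  rw [← hcard, mul_comm (Nat.card J)]
  refine Nat.mul_le_mul_left _ (AddSubgroup.card_le_of_le fun s' hs' s hs => hSS s hs s' hs')

/-- No vector is paired trivially with all. -/
theorem skew_nondeg {a : V} (ha : ∀ c, ψ (skew q a c) = 1) : a = 0 := by
  by_contra ha0
  obtain ⟨e₁, he₁⟩ := H51.ShortU.exists_skew_eq hF ht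
  obtain ⟨b, hb⟩ : ∃ b, hh a b ≠ 0 := by
    by_contra hno
    simp only [not_exists, not_not] at hno
    exact ha0 (eq_zero_of_h_left hF hno)
  have h := ha ((e₁ / hh a b) ^ q • b)
  rw [show skew q a ((e₁ / hh a b) ^ q • b) = t by
    rw [← one_smul F a, skew_smul hF, one_smul, one_mul, pow_q_pow_q hF, div_mul_cancel₀ _ hb, he₁]] at h
  exact hψ h

variable {I : AddSubgroup (Fin n → F)} (hI : ∀ a ∈ I, ∀ b ∈ I, ψ (skew q a b) = 1)
include hI

/-- The orthogonal of an anisotropic vector. -/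
theorem card_perpI {a : V} (ha : hh a a ≠ 0) : Nat.card (perpI q I a) * q ≤ q ^ n := by
  let J : AddSubgroup V :=
    { carrier := {v | ∀ i ∈ perpI q I a, ψ (skew q i v) = 1}
      zero_mem' := fun i _ => by rw [skew, h_zero_left, h_zero_right hF, sub_zero, AddChar.map_zero_eq_one]
      add_mem' := fun {u w} hu hw i hi => by
        have e : skew q i (u + w) = skew q i u + skew q i w := by
          simp only [skew, h_add_left, h_add_right hF]; ring
        rw [e, AddChar.map_add_eq_mul, hu i hi, hw i hi, one_mul]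
      neg_mem' := fun {u} hu i hi => by
        have e : skew q i (-u) = -skew q i u := by
          simp only [skew, h_neg_left, h_neg_right hF]; ring
        rw [e, AddChar.map_neg_eq_inv, hu i hi, inv_one] }
  have hcard : Nat.card J * Nat.card (perpI q I a) = Nat.card V := by
    refine pairing_annih (fun u w => ψ (skew q u w)) ?_ ?_ ?_ ?_
      (fun u hu => skew_nondeg hF ht hψ hu) _ J fun v => Iff.rfl
    · intro u v w
      rw [← AddChar.map_add_eq_mul]; congr 1
      simp only [skew, h_add_left, h_add_right hF]; ring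
    · intro u v w
      rw [← AddChar.map_add_eq_mul]; congr 1
      simp only [skew, h_add_left, h_add_right hF]; ring
    · intro u; simp [skew, h_zero_left, h_zero_right hF]
    · intro u; simp [skew, h_zero_left, h_zero_right hF]
  have hle : Nat.card (perpI q I a) * q ^ 2 ≤ Nat.card J := by
    rw [← hF, ← Nat.card_eq_fintype_card, ← Nat.card_prod]
    refine Nat.card_le_card_of_injective (fun p : perpI q I a × F =>
      (⟨p.1.1 + p.2 • a, fun i hi => ?_⟩ : J)) fun p p' h => ?_
    · have e : skew q i (p.1.1 + p.2 • a) = skew q i p.1.1 := by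
        simp only [skew, h_add_left, h_add_right hF, h_smul_left, h_smul_right hF, hi.2,
          (h_eq_zero_comm hF).1 hi.2, mul_zero, add_zero]
      rw [e]
      exact hI _ hi.1 _ p.1.2.1
    · have h' := congrArg Subtype.val h
      dsimp only at h'
      have h2 := congrArg (fun v => hh v a) h'
      simp only [h_add_left, h_smul_left, p.1.2.2, p'.1.2.2, zero_add] at h2
      have h3 := mul_right_cancel₀ ha h2
      rw [h3] at h'
      exact Prod.ext (Subtype.ext (add_left_injective _ h')) h3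
  rw [natCard_vec hF] at hcard
  refine le_of_not_gt fun hlt => ?_
  have h2 := Nat.mul_lt_mul'' hlt hlt
  have h3 := Nat.mul_le_mul_right (Nat.card (perpI q I a)) hle
  rw [hcard, two_mul, pow_add] at h3
  nlinarith

end Char

/-- Pairs with an isotropic first vector. -/
def hypPairs (q : ℕ) (e d : F) : Set (V × V) :=
  {p | p.1 ≠ 0 ∧ hermForm n F q p.1 p.1 = 0 ∧ hermForm n F q p.2 p.1 = e ∧ hermForm n F q p.2 p.2 = d}

theorem card_hypPairs {m : ℕ} (hnm : n = m + 2) (hm : 1 ≤ m) {e d : F} (he : e ≠ 0) (hd : d ^ q = d) :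
    Nat.card (IsoPt n q F) * (q ^ 2 - 1) * (q ^ (2 * m) * q) ≤
      Nat.card (hypPairs (n := n) q e d) := by
  classical
  subst hnm
  have hnum : Nat.card {v : {v : Fin (m + 2) → F // hermForm (m + 2) F q v v = 0} // v.1 ≠ 0} =
      Nat.card (IsoPt (m + 2) q F) * (q ^ 2 - 1) := by
    have h := card_isoPt_mul hF (n := m + 2)
    let o : {v : Fin (m + 2) → F // hermForm (m + 2) F q v v = 0} := ⟨0, by rw [h_zero_left]⟩
    have hs : ({o}ᶜ : Set _) =
        {v : {v : Fin (m + 2) → F // hermForm (m + 2) F q v v = 0} | v.1 ≠ 0} := by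
      ext v; simp [o, Subtype.ext_iff]
    have h2 := Set.ncard_add_ncard_compl ({o} : Set _)
    rw [Set.ncard_singleton, hs, ← Nat.card_coe_set_eq, Set.coe_setOf] at h2
    rw [normCount] at h
    omega
  have hf := fun v : {v : {v : Fin (m + 2) → F // hermForm (m + 2) F q v v = 0} // v.1 ≠ 0} =>
    exists_hyp_partner hF v.2 v.1.2
  choose f hf using hf
  have hb : ∀ u : Fin (m + 2) → F, ∃ b : F, b + b ^ q = d - hermForm (m + 2) F q u u := fun u =>
    exists_trace_eq hF (by rw [sub_pow_q hF, hd, h_self_fixed hF])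
  choose b hb using hb
  have hX : ∀ v, Nat.card (pperp q v.1.1 (f v)) = q ^ (2 * m) := fun v => card_pperp hF (hf v) hm
  have hS : Nat.card (Σ v : {v : {v : Fin (m + 2) → F // hermForm (m + 2) F q v v = 0} // v.1 ≠ 0},
      pperp q v.1.1 (f v) × (traceHom hF).ker) =
      Nat.card {v : {v : Fin (m + 2) → F // hermForm (m + 2) F q v v = 0} // v.1 ≠ 0} *
        (q ^ (2 * m) * q) := by
    rw [Nat.card_sigma]
    simp only [Nat.card_prod, hX, card_trace_ker hF]
    rw [Finset.sum_const, Finset.card_univ, smul_eq_mul,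
      Nat.card_eq_fintype_card (α := {v : {v : Fin (m + 2) → F // hermForm (m + 2) F q v v = 0} // v.1 ≠ 0})]
  rw [← hnum, ← hS]
  refine Nat.card_le_card_of_injective (fun s => (⟨(s.1.1.1,
    e • f s.1 + s.2.1.1 + ((b s.2.1.1 + s.2.2.1) / e ^ q) • s.1.1.1),
    s.1.2, s.1.1.2, ?_, ?_⟩ : hypPairs (n := m + 2) q e d)) ?_
  · obtain ⟨h1, h2⟩ := mem_pperp.1 s.2.1.2
    have := (hf s.1).symm hF
    simp [h_add_left, h_smul_left, this.2.2, h1, s.1.1.2]
  · obtain ⟨h1, h2⟩ := mem_pperp.1 s.2.1.2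
    have hk : s.2.2.1 + s.2.2.1 ^ q = 0 := by
      have := s.2.2.2; rwa [AddMonoidHom.mem_ker, traceHom_apply] at this
    simp only [h_add_left, h_add_right hF, h_smul_left, h_smul_right hF, h1, h2,
      (h_eq_zero_comm hF).1 h1, (h_eq_zero_comm hF).1 h2, (hf s.1).2.1, s.1.1.2, (hf s.1).2.2,
      ((hf s.1).symm hF).2.2, div_pow, pow_q_pow_q hF, add_pow_q hF]
    have he' : e ^ q ≠ 0 := pow_ne_zero _ he
    field_simp
    linear_combination (e * e ^ q) * hb s.2.1.1 + (e * e ^ q) * hk
  · rintro ⟨v, u, k⟩ ⟨v', u', k'⟩ h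
    obtain ⟨h1, h2⟩ := Prod.ext_iff.1 (congrArg Subtype.val h :)
    obtain rfl : v = v' := Subtype.ext (Subtype.ext h1)
    dsimp only at h2
    obtain ⟨a1, a2⟩ := mem_pperp.1 u.2
    obtain ⟨b1, b2⟩ := mem_pperp.1 u'.2
    have h3 := congrArg (fun w => hermForm (m + 2) F q w (f v)) h2
    simp only [h_add_left, h_smul_left, (hf v).2.1, a2, b2, (hf v).2.2, mul_zero, mul_one,
      zero_add] at h3
    rw [h3] at h2
    have hu : u = u' := Subtype.ext (add_left_cancel (add_right_cancel h2))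
    subst hu
    rw [div_left_inj' (pow_ne_zero _ he), add_right_inj] at h3
    rw [Subtype.ext h3]

/-- Such pairs form one orbit. -/
theorem hypPairs_subset (hn : 3 ≤ n) {v w : V} (hv : hh v v = 0) (he : hh w v ≠ 0) :
    hypPairs q (hh w v) (hh w w) ⊆ Set.range fun g : SU n F q => (suMat g *ᵥ v, suMat g *ᵥ w) := by
  rintro ⟨v', w'⟩ ⟨-, h1, h2, h3⟩
  have hnd : GramND q ![v, w] := fun c hc => by
    have e0 := hc 0
    have e1 := hc 1
    simp [Fin.sum_univ_two, h_add_left, h_smul_left, hv, he] at e0 e1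
    rw [e0, zero_mul, add_zero, mul_eq_zero, or_iff_left (mt (h_eq_zero_comm hF).1 he)] at e1
    funext i
    fin_cases i
    · exact e1
    · exact e0
  obtain ⟨g, hg⟩ := exists_SU_of_sameGram hF hnd (b' := ![v', w']) (fun i j => by
    fin_cases i <;> fin_cases j <;> simp [hv, h1, h2, h3, h_symm hF w v, h_symm hF w' v'])
    (by rw [Fintype.card_fin]; omega)
  exact ⟨g, Prod.ext (hg 0) (hg 1)⟩

/-- Orthogonal anisotropic pairs. -/
def orthPairs (q : ℕ) (c d : F) : Set (V × V) :=
  {p | hermForm n F q p.1 p.1 = c ∧ hermForm n F q p.2 p.2 = d ∧ hermForm n F q p.2 p.1 = 0}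

theorem normCount_scale (c : F) (hc : c ^ q = c) (hc0 : c ≠ 0) :
    normCount n q F 1 ≤ normCount n q F c := by
  obtain ⟨x, hx⟩ := exists_norm_eq hF hc
  have hx0 : x ≠ 0 := fun h => hc0 (by rw [← hx, h, zero_pow (by omega)])
  refine Nat.card_le_card_of_injective (fun v => ⟨x • v.1, by
    rw [h_smul_left, h_smul_right hF, v.2, mul_one, ← pow_succ', hx]⟩) fun v v' e => ?_
  exact Subtype.ext (smul_right_injective _ hx0 (congrArg Subtype.val e :))

theorem card_orthPairs {k : ℕ} (hnk : n = k + 1) {c d : F} (hc : c ^ q = c) (hc0 : c ≠ 0)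
    (hd : d ^ q = d) (hd0 : d ≠ 0) :
    normCount n q F 1 * normCount k q F 1 ≤ Nat.card (orthPairs (n := n) q c d) := by
  classical
  subst hnk
  have hnd : ∀ a : {a : Fin (k + 1) → F // hermForm (k + 1) F q a a = c},
      GramND q (fun _ : Unit => a.1) := fun a co hco => by
    have := hco ()
    simp [h_smul_left, a.2] at this
    funext i
    exact this.resolve_right hc0
  have hD := fun a => exists_completion hF (hnd a)
  choose D hD hDa using hD
  let T : ∀ a, (Fin k → F) → (Fin (k + 1) → F) := fun a w => ∑ i, w i • D a ⟨i, by simp⟩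
  have hDD : ∀ a (i j : Fin k),
      hermForm (k + 1) F q (D a ⟨i, by simp⟩) (D a ⟨j, by simp⟩) = if i = j then 1 else 0 := by
    intro a i j
    rw [hD a]
    simp [Fin.ext_iff]
  have hTh : ∀ a w w', hermForm (k + 1) F q (T a w) (T a w') = hermForm k F q w w' := by
    intro a w w'
    simp only [T, h_sum_left, h_sum_right hF, h_smul_left, h_smul_right hF, hDD]
    simp [hermForm, Finset.sum_ite_eq, mul_comm]
  have h1 := normCount_scale hF (n := k + 1) c hc hc0
  have h2 := normCount_scale hF (n := k) d hd hd0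
  refine le_trans (Nat.mul_le_mul h1 h2) ?_
  rw [normCount, normCount, ← Nat.card_prod]
  refine Nat.card_le_card_of_injective (fun p => (⟨(p.1.1, T p.1 p.2.1), p.1.2, ?_, ?_⟩ :
    orthPairs (n := k + 1) q c d)) fun p p' h => ?_
  · rw [hTh, p.2.2]
  · simp only [T, h_sum_left, h_smul_left]
    exact Finset.sum_eq_zero fun i _ => mul_eq_zero_of_right _ (hDa p.1 _ ())
  · obtain ⟨e1, e2⟩ := Prod.ext_iff.1 (congrArg Subtype.val h :)
    obtain ⟨a, w⟩ := p
    obtain ⟨a', w'⟩ := p'
    obtain rfl : a = a' := Subtype.ext e1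
    refine Prod.ext rfl (Subtype.ext (h_ext_left hF fun u => ?_))
    rw [← hTh a, ← hTh a, show T a w.1 = T a w'.1 from e2]

theorem orthPairs_subset (hn : 3 ≤ n) {a b : V} (ha : hh a a ≠ 0) (hb : hh b b ≠ 0)
    (hab : hh b a = 0) :
    orthPairs q (hh a a) (hh b b) ⊆ Set.range fun g : SU n F q => (suMat g *ᵥ a, suMat g *ᵥ b) := by
  rintro ⟨a', b'⟩ ⟨h1, h2, h3⟩
  have hnd : GramND q ![a, b] := fun c hc => by
    have e0 := hc 0
    have e1 := hc 1
    simp [Fin.sum_univ_two, h_add_left, h_smul_left, hab, (h_eq_zero_comm hF).1 hab, ha, hb] at e0 e1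
    funext i
    fin_cases i
    · exact e0
    · exact e1
  obtain ⟨g, hg⟩ := exists_SU_of_sameGram hF hnd (b' := ![a', b']) (fun i j => by
    fin_cases i <;> fin_cases j <;>
      simp [hab, (h_eq_zero_comm hF).1 hab, h1, h2, h3, (h_eq_zero_comm hF).1 h3])
    (by rw [Fintype.card_fin]; omega)
  exact ⟨g, Prod.ext (hg 0) (hg 1)⟩

/-- Vectors of a given norm form one orbit. -/
theorem sphere_subset (hn : 3 ≤ n) {a : V} (ha0 : a ≠ 0) :
    {v : V | v ≠ 0 ∧ hh v v = hh a a} ⊆ Set.range fun g : SU n F q => suMat g *ᵥ a := by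
  rintro v ⟨hv0, hv⟩
  by_cases h0 : hh a a = 0
  · obtain ⟨g, -, hg⟩ := reach_isotropic hF hn ha0 h0 hv0 (hv.trans h0)
    exact ⟨g, hg⟩
  · obtain ⟨g, hg⟩ := exists_SU_of_sameGram hF (b := fun _ : Unit => a) (b' := fun _ : Unit => v)
      (fun c hc => by
        have := hc ()
        simp [h_smul_left] at this
        funext i
        exact this.resolve_right h0)
      (fun _ _ => hv.symm) (by simp; omega)
    exact ⟨g, hg ()⟩

end H37.SUMin
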