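import Cfsg.Agent.H50.RadFrame
import Cfsg.Agent.H51.StabMaxU

/-!
A subgroup of `SU` at an isotropic point: the parts in the centre of the radical, in the radical modulo
its centre, in the torus and in the Levi subgroup, and the index formula made from their orders.
-/

set_option autoImplicit false

namespace H37.SUMin

open Matrix Cfsg H50 H50.PointStab H50.RadFrame

universe u

variable {F : Type u} [Field F] {m q : ℕ}

local notation "V" => (Fin (m + 2) → F)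
local notation "hh" => hermForm (m + 2) F q
local notation "G" => SU (m + 2) F q

/-- Orders through the fibres of a map. -/
theorem card_fibres {A' : Type*} [Group A'] [Finite A'] {X : Type*} (A B : Subgroup A') (f : A' → X)
    (hBA : B ≤ A) (h : ∀ a ∈ A, ∀ b ∈ A, f a = f b ↔ a⁻¹ * b ∈ B) :
    Nat.card A = Nat.card (f '' (A : Set A')) * Nat.card B := by
  classical
  choose sec hsec hsec' using fun z : f '' (A : Set A') => z.2
  rw [← Nat.card_prod]
  refine (Nat.card_eq_of_bijective (fun p : (f '' (A : Set A')) × B =>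
    (⟨sec p.1 * p.2, A.mul_mem (hsec p.1) (hBA p.2.2)⟩ : A)) ⟨?_, ?_⟩).symm
  · rintro ⟨z, b⟩ ⟨z', b'⟩ e
    have e' : sec z * (b : A') = sec z' * b' := congrArg Subtype.val e
    have hm : (sec z)⁻¹ * sec z' ∈ B := by
      rw [show (sec z)⁻¹ * sec z' = b * (b' : A')⁻¹ by
        rw [inv_mul_eq_iff_eq_mul, ← mul_assoc, eq_mul_inv_iff_mul_eq, e']]
      exact B.mul_mem b.2 (B.inv_mem b'.2)
    have hz : z = z' := Subtype.ext (by
      rw [← hsec' z, ← hsec' z']; exact (h _ (hsec z) _ (hsec z')).2 hm)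
    subst hz
    exact Prod.ext rfl (Subtype.ext (mul_left_cancel e'))
  · rintro ⟨a, ha⟩
    have hb : (sec ⟨f a, a, ha, rfl⟩)⁻¹ * a ∈ B := (h _ (hsec _) _ ha).1 (hsec' ⟨f a, a, ha, rfl⟩)
    exact ⟨(⟨f a, a, ha, rfl⟩, ⟨_, hb⟩), Subtype.ext (mul_inv_cancel_left _ _)⟩

/-- The stabiliser of a point. -/
def pst (x : V) : Subgroup G where
  carrier := {g | ∃ a : F, a ≠ 0 ∧ suMat g *ᵥ x = a • x}
  one_mem' := ⟨1, one_ne_zero, by rw [suMat_one, one_mulVec, one_smul]⟩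
  mul_mem' := by
    rintro g g' ⟨a, ha, hg⟩ ⟨b, hb, hg'⟩
    exact ⟨b * a, mul_ne_zero hb ha, by rw [suMat_mulVec_mul, hg', mulVec_smul, hg, smul_smul]⟩
  inv_mem' := by
    rintro g ⟨a, ha, hg⟩
    refine ⟨a⁻¹, inv_ne_zero ha, ?_⟩
    have h1 := suMat_inv_mulVec g x
    rw [hg, mulVec_smul] at h1
    calc suMat g⁻¹ *ᵥ x = a⁻¹ • (a • (suMat g⁻¹ *ᵥ x)) := (inv_smul_smul₀ ha _).symm
      _ = _ := by rw [h1]

theorem stab_le_pst (x : V) : stab (q := q) x ≤ pst x := fun _ hg =>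
  ⟨1, one_ne_zero, by rw [mem_stab.1 hg, one_smul]⟩

variable (q)

/-- The Levi subgroup at a pair. -/
def lev (x y : V) : Subgroup G := pst x ⊓ pst y

/-- The scalar on `x`. -/
def eig (x y : V) (g : G) : F := hh (suMat g *ᵥ x) y

/-- The parameter in the centre of the radical. -/
def gam (y : V) (g : G) : F := hh (suMat g *ᵥ y - y) y

variable {q}

/-- The scalars on `x` of a subgroup. -/
def eSet (x y : V) (K : Subgroup G) : Set F := eig q x y '' ((K ⊓ pst x : Subgroup G) : Set G)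

theorem eig_spec {x y : V} (h : IsHyp q x y) {g : G} (hg : g ∈ pst x) :
    eig q x y g ≠ 0 ∧ suMat g *ᵥ x = eig q x y g • x := by
  obtain ⟨a, ha, hga⟩ := hg
  have : eig q x y g = a := by rw [eig, hga, h_smul_left, h.2.2, mul_one]
  rw [this]; exact ⟨ha, hga⟩

theorem eig_eq_one {x y : V} (h : IsHyp q x y) {g : G} (hg : g ∈ stab (q := q) x) : eig q x y g = 1 := by
  rw [eig, mem_stab.1 hg, h.2.2]

theorem eig_mul {x y : V} (h : IsHyp q x y) {g g' : G} (hg : g ∈ pst x) (hg' : g' ∈ pst x) :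
    eig q x y (g * g') = eig q x y g * eig q x y g' := by
  conv_lhs => rw [eig, suMat_mulVec_mul, (eig_spec h hg').2, mulVec_smul, (eig_spec h hg).2, h_smul_left,
    h_smul_left, h.2.2, mul_one, mul_comm]

theorem stab_iff_eig {x y : V} (h : IsHyp q x y) {g : G} :
    g ∈ stab (q := q) x ↔ g ∈ pst x ∧ eig q x y g = 1 :=
  ⟨fun hg => ⟨stab_le_pst x hg, eig_eq_one h hg⟩, fun ⟨hg, he⟩ => mem_stab.2 (by
    rw [(eig_spec h hg).2, he, one_smul])⟩

variable [Fintype F] (hF : Fintype.card F = q ^ 2)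
include hF

section Pair

variable {x y : Fin (m + 2) → F} (h : IsHyp q x y)
include h

theorem radU_conj_mem {g u : G} (hg : g ∈ pst x) (hu : u ∈ H55.Psu.radU x) :
    g * u * g⁻¹ ∈ H55.Psu.radU (q := q) x := by
  obtain ⟨a, ha, hga⟩ := hg
  have hgi : suMat g⁻¹ *ᵥ x = a⁻¹ • x := by
    have h1 := suMat_inv_mulVec g x
    rw [hga, mulVec_smul] at h1
    calc suMat g⁻¹ *ᵥ x = a⁻¹ • (a • (suMat g⁻¹ *ᵥ x)) := (inv_smul_smul₀ ha _).symm
      _ = _ := by rw [h1]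
  refine ⟨?_, fun w hw => ?_⟩
  · rw [suMat_mulVec_mul, suMat_mulVec_mul, hgi, mulVec_smul, hu.1, mulVec_smul, hga, smul_smul,
      inv_mul_cancel₀ ha, one_smul]
  · obtain ⟨k, hk⟩ := hu.2 (suMat g⁻¹ *ᵥ w) (by rw [suMat_inv_h, hga, h_smul_right hF, hw, mul_zero])
    exact ⟨k * a, by
      rw [suMat_mulVec_mul, suMat_mulVec_mul, hk, mulVec_add, mulVec_smul, suMat_mulVec_inv, hga,
        smul_smul]⟩

theorem radU_conj_mem' {g u : G} (hg : g ∈ pst x) (hu : u ∈ H55.Psu.radU x) :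
    g⁻¹ * u * g ∈ H55.Psu.radU (q := q) x := by
  simpa using radU_conj_mem hF h (inv_mem hg) hu

theorem lev_spec {t : G} (ht : t ∈ lev q x y) :
    eig q x y t ≠ 0 ∧ suMat t *ᵥ x = eig q x y t • x ∧ suMat t *ᵥ y = (eig q x y t ^ q)⁻¹ • y := by
  obtain ⟨h0, hx⟩ := eig_spec h ht.1
  obtain ⟨b, hb, hy⟩ := ht.2
  refine ⟨h0, hx, ?_⟩
  have h1 := suMat_h t x y
  rw [hx, hy, h_smul_left, h_smul_right hF, h.2.2, mul_one] at h1
  have hb' : b ^ q = (eig q x y t)⁻¹ := eq_inv_of_mul_eq_one_right h1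
  have : b = (eig q x y t ^ q)⁻¹ := by rw [← pow_q_pow_q hF b, hb', inv_pow]
  rw [hy, this]

theorem stab2_le_lev : stab2 (q := q) x y ≤ lev q x y := fun _ hg =>
  ⟨stab_le_pst x hg.1, stab_le_pst y hg.2⟩

theorem lev_pperp {t : G} (ht : t ∈ lev q x y) {w : V} (hw : w ∈ pperp q x y) :
    suMat t *ᵥ w ∈ pperp q x y := by
  obtain ⟨h0, hx, hy⟩ := lev_spec hF h ht
  obtain ⟨hwx, hwy⟩ := mem_pperp.1 hw
  have h1 := suMat_h t w x
  have h2 := suMat_h t w y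
  rw [hx, h_smul_right hF, hwx] at h1
  rw [hy, h_smul_right hF, hwy] at h2
  exact mem_pperp.2 ⟨(mul_eq_zero.1 h1).resolve_left (pow_ne_zero _ h0),
    (mul_eq_zero.1 h2).resolve_left (pow_ne_zero _ (inv_ne_zero (pow_ne_zero _ h0)))⟩

/-- Two elements of the Levi subgroup agreeing on the pair and on its complement are equal. -/
theorem lev_ext {t t' : G} (hx : suMat t *ᵥ x = suMat t' *ᵥ x) (hy : suMat t *ᵥ y = suMat t' *ᵥ y)
    (hw : ∀ w ∈ pperp q x y, suMat t *ᵥ w = suMat t' *ᵥ w) : t = t' := by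
  refine suMat_ext fun z => ?_
  obtain ⟨w, hwx, hwy, hz⟩ := pair_decomp hF h z
  rw [hz]
  simp only [mulVec_add, mulVec_smul, hx, hy, hw w (mem_pperp.2 ⟨hwx, hwy⟩)]

theorem exists_decomp_stab {g : G} (hg : g ∈ stab (q := q) x) :
    ∃ u ∈ H55.Psu.radU x, ∃ l ∈ stab2 (q := q) x y, g = u * l := by
  have h1 : g ∈ ((H55.Psu.radU x ⊔ stab2 x y : Subgroup G) : Set G) := by
    rw [SetLike.mem_coe, ← (stab_eq_sup hF h).1]; exact hg
  rw [Subgroup.coe_mul_of_right_le_normalizer_left _ _ (stab2_le_normalizer hF x y)] at h1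
  obtain ⟨u, hu, l, hl, e⟩ := h1
  exact ⟨u, hu, l, hl, e.symm⟩

theorem radU_inf_lev {g : G} (hg : g ∈ H55.Psu.radU x) (hg' : g ∈ lev q x y) : g = 1 := by
  obtain ⟨-, hx, hy⟩ := lev_spec hF h hg'
  rw [eig_eq_one h (radU_le_stab x hg), one_pow, inv_one, one_smul] at hy
  have : g ∈ H55.Psu.radU (q := q) x ⊓ stab2 x y :=
    ⟨hg, radU_le_stab (q := q) x hg, mem_stab.2 hy⟩
  rwa [(stab_eq_sup hF h).2, Subgroup.mem_bot] at this

theorem decomp_unique {u u' l l' : G} (hu : u ∈ H55.Psu.radU x) (hu' : u' ∈ H55.Psu.radU x)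
    (hl : l ∈ lev q x y) (hl' : l' ∈ lev q x y) (e : u * l = u' * l') : u = u' ∧ l = l' := by
  have h1 : u'⁻¹ * u = l' * l⁻¹ := by
    rw [inv_mul_eq_iff_eq_mul, ← mul_assoc, ← e, mul_inv_cancel_right]
  have h2 := radU_inf_lev hF h ((H55.Psu.radU (q := q) x).mul_mem
    ((H55.Psu.radU (q := q) x).inv_mem hu') hu) (h1 ▸ mul_mem hl' (inv_mem hl))
  rw [inv_mul_eq_one] at h2
  subst h2
  exact ⟨rfl, mul_left_cancel e⟩

/-- An element of the Levi subgroup with any scalar on `x`. -/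
theorem exists_lev_eig (hm : 1 ≤ m) {a : F} (ha : a ≠ 0) : ∃ t ∈ lev q x y, eig q x y t = a := by
  obtain ⟨e, he⟩ := exists_frame hF (m := m) rfl h
  obtain ⟨i, rfl⟩ : ∃ i, m = i + 1 := ⟨m - 1, by omega⟩
  have hq := two_le hF
  have haq : a ^ q ≠ 0 := pow_ne_zero _ ha
  obtain ⟨t, htx, hty, -⟩ := exists_diag hF h he a ha (fun i => if i = 0 then a ^ q / a else 1)
    (fun i => by
      split_ifs with hi
      · rw [div_pow, pow_succ, pow_succ, ← pow_mul, show q * q = q ^ 2 by ring, ← hF,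
          FiniteField.pow_card, mul_comm (a ^ q) a, div_self (mul_ne_zero ha haq)]
      · rw [one_pow])
    (by rw [Finset.prod_ite_eq' Finset.univ (0 : Fin (i + 1))]; simp [mul_div_cancel₀ _ ha])
  exact ⟨t, ⟨⟨a, ha, htx⟩, ⟨_, inv_ne_zero haq, hty⟩⟩, by rw [eig, htx, h_smul_left, h.2.2, mul_one]⟩

theorem exists_decomp (hm : 1 ≤ m) {g : G} (hg : g ∈ pst x) :
    ∃ u ∈ H55.Psu.radU x, ∃ t ∈ lev q x y, g = u * t := by
  obtain ⟨h0, -⟩ := eig_spec h hg
  obtain ⟨τ, hτ, hτa⟩ := exists_lev_eig hF h hm h0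
  have hτi : eig q x y (τ⁻¹) = (eig q x y g)⁻¹ := by
    refine eq_inv_of_mul_eq_one_left ?_
    rw [← hτa, ← eig_mul h (inv_mem hτ.1) hτ.1, inv_mul_cancel, eig_eq_one h (one_mem _)]
  have h1 : g * τ⁻¹ ∈ stab (q := q) x :=
    (stab_iff_eig h).2 ⟨mul_mem hg (inv_mem hτ.1),
      by rw [eig_mul h hg (inv_mem hτ.1), hτi, mul_inv_cancel₀ h0]⟩
  obtain ⟨u, hu, l, hl, e⟩ := exists_decomp_stab hF h h1
  exact ⟨u, hu, l * τ, mul_mem (stab2_le_lev hF h hl) hτ, by rw [← mul_assoc, ← e, inv_mul_cancel_right]⟩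

/-! ### Coordinates on the radical -/

theorem rad_mulVec_y (g : G) : suMat g *ᵥ y = y + pr x y g + gam q y g • x :=
  mulVec_y g x y

theorem rad_mul {g g' : G} (hg : g ∈ H55.Psu.radU x) (hg' : g' ∈ H55.Psu.radU x) :
    pr x y (g * g') = pr x y g + pr x y g' ∧
      gam q y (g * g') = gam q y g + gam q y g' - hh (pr x y g') (pr x y g) :=
  pr_mul hF h hg hg'

theorem rad_one : pr x y (1 : G) = 0 ∧ gam q y (1 : G) = 0 := by
  simp [pr, gam, suMat_one, h_zero_left]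

theorem rad_eq {g g' : G} (hg : g ∈ H55.Psu.radU x) (hg' : g' ∈ H55.Psu.radU x)
    (e1 : pr x y g = pr x y g') (e2 : gam q y g = gam q y g') : g = g' :=
  eq_of_y hF h hg hg' (by rw [rad_mulVec_y hF h, rad_mulVec_y hF h, e1, e2])

theorem rad_inv {g : G} (hg : g ∈ H55.Psu.radU x) : pr x y g⁻¹ = -pr x y g ∧
    gam q y g⁻¹ = -gam q y g - hh (pr x y g) (pr x y g) := by
  have hi : g⁻¹ ∈ H55.Psu.radU (q := q) x := (H55.Psu.radU (q := q) x).inv_mem hg
  obtain ⟨h1, h2⟩ := rad_mul hF h hi hg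
  rw [inv_mul_cancel, (rad_one hF h).1] at h1
  rw [inv_mul_cancel, (rad_one hF h).2] at h2
  have e : pr x y g⁻¹ = -pr x y g := eq_neg_of_add_eq_zero_left h1.symm
  rw [e, h_neg_right hF] at h2
  exact ⟨e, by linear_combination -h2⟩

theorem rad_trace {g : G} (h0 : pr x y g = 0) : gam q y g + gam q y g ^ q = 0 :=
  trace_of_pr_zero hF h h0

theorem rad_conj {t : G} (ht : t ∈ lev q x y) {g : G} (hg : g ∈ H55.Psu.radU x) :
    pr x y (t * g * t⁻¹) = eig q x y t ^ q • suMat t *ᵥ pr x y g ∧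
      gam q y (t * g * t⁻¹) = eig q x y t ^ (q + 1) * gam q y g := by
  obtain ⟨h0, hx, hy⟩ := lev_spec hF h ht
  obtain ⟨-, e1, e2⟩ := conj_radU hF h h0 hx hy hg
  refine ⟨e1, ?_⟩
  have hw : hh (suMat t *ᵥ pr x y g) y = 0 :=
    (mem_pperp.1 (lev_pperp hF h ht (pr_mem hF h (radU_le_stab x hg)))).2
  rw [gam, e2]
  simp [h_sub_left, h_add_left, h_smul_left, hw, h.2.2, gam]

theorem exists_rad {w : V} (hw : w ∈ pperp q x y) {a : F} (ha : a + a ^ q + hh w w = 0) :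
    ∃ g ∈ H55.Psu.radU (q := q) x, pr x y g = w ∧ gam q y g = a := by
  obtain ⟨hwx, hwy⟩ := mem_pperp.1 hw
  refine ⟨eich hF x w a h.1 hwx ha, H55.Psu.eich_mem_radU hF h.1 hwx ha, ?_⟩
  have e1 : suMat (eich hF x w a h.1 hwx ha) *ᵥ y - y = w + a • x := by
    simp [suMat_eich, (h.symm hF).2.2, (h_eq_zero_comm hF).1 hwy]
    abel
  have e2 : gam q y (eich hF x w a h.1 hwx ha) = a := by
    simp [gam, e1, h_add_left, h_smul_left, hwy, h.2.2]
  refine ⟨?_, e2⟩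
  rw [pr, e1, show hh (w + a • x) y = a by simp [h_add_left, h_smul_left, hwy, h.2.2]]
  abel

/-! ### The parts of a subgroup -/

/-- The centre of the radical. -/
def zRad : Subgroup G where
  carrier := {g | g ∈ H55.Psu.radU x ∧ pr x y g = 0}
  one_mem' := ⟨(H55.Psu.radU (q := q) x).one_mem, (rad_one hF h).1⟩
  mul_mem' := fun {a b} ha hb => ⟨(H55.Psu.radU (q := q) x).mul_mem ha.1 hb.1, by
    rw [(rad_mul hF h ha.1 hb.1).1, ha.2, hb.2, add_zero]⟩
  inv_mem' := fun {a} ha => ⟨(H55.Psu.radU (q := q) x).inv_mem ha.1, by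
    rw [(rad_inv hF h ha.1).1, ha.2, neg_zero]⟩

/-- The part in the centre of the radical. -/
def wPart (K : Subgroup G) : AddSubgroup F where
  carrier := gam q y '' {g : G | g ∈ K ∧ g ∈ zRad hF h}
  zero_mem' := ⟨1, ⟨one_mem _, one_mem _⟩, (rad_one hF h).2⟩
  add_mem' := by
    rintro _ _ ⟨g, ⟨hg, hgz⟩, rfl⟩ ⟨g', ⟨hg', hgz'⟩, rfl⟩
    exact ⟨g * g', ⟨mul_mem hg hg', mul_mem hgz hgz'⟩, by
      rw [(rad_mul hF h hgz.1 hgz'.1).2, hgz'.2, h_zero_left, sub_zero]⟩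
  neg_mem' := by
    rintro _ ⟨g, ⟨hg, hgz⟩, rfl⟩
    exact ⟨g⁻¹, ⟨inv_mem hg, inv_mem hgz⟩, by
      rw [(rad_inv hF h hgz.1).2, hgz.2, h_zero_left, sub_zero]⟩

/-- The part in the radical modulo its centre. -/
def iPart (K : Subgroup G) : AddSubgroup V where
  carrier := pr x y '' {g : G | g ∈ K ∧ g ∈ H55.Psu.radU x}
  zero_mem' := ⟨1, ⟨one_mem _, (H55.Psu.radU (q := q) x).one_mem⟩, (rad_one hF h).1⟩
  add_mem' := by
    rintro _ _ ⟨g, ⟨hg, hgQ⟩, rfl⟩ ⟨g', ⟨hg', hgQ'⟩, rfl⟩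
    exact ⟨g * g', ⟨mul_mem hg hg', (H55.Psu.radU (q := q) x).mul_mem hgQ hgQ'⟩,
      (rad_mul hF h hgQ hgQ').1⟩
  neg_mem' := by
    rintro _ ⟨g, ⟨hg, hgQ⟩, rfl⟩
    exact ⟨g⁻¹, ⟨inv_mem hg, (H55.Psu.radU (q := q) x).inv_mem hgQ⟩, (rad_inv hF h hgQ).1⟩

/-- The image in the derived Levi subgroup. -/
def gPart (K : Subgroup G) : Subgroup G where
  carrier := {l | l ∈ stab2 (q := q) x y ∧ ∃ u ∈ H55.Psu.radU x, u * l ∈ K}
  one_mem' := ⟨one_mem _, 1, (H55.Psu.radU (q := q) x).one_mem, by rw [mul_one]; exact one_mem _⟩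
  mul_mem' := by
    rintro l l' ⟨hl, u, hu, hul⟩ ⟨hl', u', hu', hul'⟩
    refine ⟨mul_mem hl hl', u * (l * u' * l⁻¹), (H55.Psu.radU (q := q) x).mul_mem hu
      (radU_conj_mem hF h (stab2_le_lev hF h hl).1 hu'), ?_⟩
    convert mul_mem hul hul' using 1; group
  inv_mem' := by
    rintro l ⟨hl, u, hu, hul⟩
    refine ⟨inv_mem hl, l⁻¹ * u⁻¹ * l, radU_conj_mem' hF h (stab2_le_lev hF h hl).1
      ((H55.Psu.radU (q := q) x).inv_mem hu), ?_⟩
    convert inv_mem hul using 1; group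

variable {K : Subgroup (SU (m + 2) F q)}

theorem card_K_pst : Nat.card (K ⊓ pst x : Subgroup G) =
    Nat.card (eSet x y K) * (Nat.card (gPart hF h K) *
      (Nat.card (iPart hF h K) * Nat.card (wPart hF h K))) := by
  classical
  rw [card_fibres (K ⊓ pst x) (K ⊓ stab x) (eig q x y) (inf_le_inf_left _ (stab_le_pst x)) ?_]
  swap
  · intro a ha b hb
    rw [Subgroup.mem_inf, stab_iff_eig h, and_iff_right (K.mul_mem (K.inv_mem ha.1) hb.1),
      and_iff_right ((pst x).mul_mem ((pst x).inv_mem ha.2) hb.2)]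
    have e := eig_mul h ha.2 ((pst x).mul_mem ((pst x).inv_mem ha.2) hb.2)
    rw [mul_inv_cancel_left] at e
    rw [e]
    constructor
    · intro e'
      exact mul_left_cancel₀ (eig_spec h ha.2).1 (by rw [← e', mul_one])
    · intro e'; rw [e', mul_one]
  congr 1
  rw [card_fibres (K ⊓ stab x) (K ⊓ H55.Psu.radU x) (fun g => (g : G ⧸ H55.Psu.radU (q := q) x))
    (inf_le_inf_left _ (radU_le_stab x)) ?_]
  swap
  · intro a ha b hb
    rw [QuotientGroup.eq, Subgroup.mem_inf, and_iff_right (K.mul_mem (K.inv_mem ha.1) hb.1)]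
  congr 1
  · refine (Nat.card_eq_of_bijective (fun l : gPart hF h K =>
      (⟨((l : G) : G ⧸ H55.Psu.radU (q := q) x), ?_⟩ :
        (fun g : G => (g : G ⧸ H55.Psu.radU (q := q) x)) '' ((K ⊓ stab x : Subgroup G) : Set G)))
      ⟨?_, ?_⟩).symm
    · obtain ⟨hl, u, hu, hul⟩ := l.2
      refine ⟨u * l, ⟨hul, mul_mem (radU_le_stab x hu) hl.1⟩, ?_⟩
      rw [QuotientGroup.eq, _root_.mul_inv_rev]
      exact radU_conj_mem' hF h (stab2_le_lev hF h hl).1 ((H55.Psu.radU (q := q) x).inv_mem hu)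
    · rintro ⟨l, hl⟩ ⟨l', hl'⟩ e
      have e' : ((l : G) : G ⧸ H55.Psu.radU (q := q) x) = l' := congrArg Subtype.val e
      rw [QuotientGroup.eq] at e'
      have := radU_inf_lev hF h e' (stab2_le_lev hF h (mul_mem (inv_mem hl.1) hl'.1))
      exact Subtype.ext (inv_mul_eq_one.1 this)
    · rintro ⟨_, g, ⟨hgK, hgx⟩, rfl⟩
      obtain ⟨u, hu, l, hl, rfl⟩ := exists_decomp_stab hF h hgx
      refine ⟨⟨l, hl, u, hu, hgK⟩, Subtype.ext ?_⟩
      show ((l : G) : G ⧸ H55.Psu.radU (q := q) x) = ((u * l : G) : G ⧸ H55.Psu.radU (q := q) x)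
      rw [QuotientGroup.eq, ← mul_assoc]
      exact radU_conj_mem' hF h (stab2_le_lev hF h hl).1 hu
  rw [card_fibres (K ⊓ H55.Psu.radU x) (K ⊓ zRad hF h) (pr x y)
    (inf_le_inf_left _ fun g hg => hg.1) ?_]
  swap
  · intro a ha b hb
    have hai : a⁻¹ ∈ H55.Psu.radU (q := q) x := (H55.Psu.radU (q := q) x).inv_mem ha.2
    rw [Subgroup.mem_inf, and_iff_right (K.mul_mem (K.inv_mem ha.1) hb.1)]
    show _ ↔ _ ∧ _
    rw [and_iff_right ((H55.Psu.radU (q := q) x).mul_mem hai hb.2), (rad_mul hF h hai hb.2).1,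
      (rad_inv hF h ha.2).1, neg_add_eq_zero]
  congr 1
  refine Nat.card_eq_of_bijective (fun g : (K ⊓ zRad hF h : Subgroup G) =>
    (⟨gam q y g, g, ⟨g.2.1, g.2.2⟩, rfl⟩ : wPart hF h K)) ⟨?_, ?_⟩
  · rintro ⟨g, hg⟩ ⟨g', hg'⟩ e
    exact Subtype.ext (rad_eq hF h hg.2.1 hg'.2.1 (hg.2.2.trans hg'.2.2.symm) (congrArg Subtype.val e))
  · rintro ⟨_, g, ⟨hg, hgz⟩, rfl⟩
    exact ⟨⟨g, hg, hgz⟩, rfl⟩

theorem wPart_le_trace {a : F} (ha : a ∈ wPart hF h K) : a + a ^ q = 0 := by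
  obtain ⟨g, ⟨-, hgz⟩, rfl⟩ := ha
  exact rad_trace hF h hgz.2

theorem iPart_le_pperp {w : V} (hw : w ∈ iPart hF h K) : w ∈ pperp q x y := by
  obtain ⟨g, ⟨-, hg⟩, rfl⟩ := hw
  exact pr_mem hF h (radU_le_stab x hg)

theorem card_pperp (hm : 1 ≤ m) : Nat.card (pperp q x y) = q ^ (2 * m) := by
  have hr := finrank_perp_range hF (GramND.linearIndependent hF (h.gramND hF))
  rw [Fintype.card_fin] at hr
  have hr' : Module.finrank F (pperp q x y) = m := by
    show Module.finrank F (perp q (Set.range ![x, y])) = m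
    omega
  rw [Module.natCard_eq_pow_finrank (K := F), hr', Nat.card_eq_fintype_card, hF, ← pow_mul]

theorem card_stab2 (hm : 1 ≤ m) : Nat.card (stab2 (q := q) x y) = Nat.card (SU m F q) := by
  obtain ⟨ι, -, hι, hr, -⟩ := exists_pair_hom hF hm h
  rw [← hr]
  exact Nat.card_congr (MonoidHom.ofInjective hι).symm.toEquiv

theorem card_pst (hm : 1 ≤ m) :
    Nat.card (pst (q := q) x) = (q ^ 2 - 1) * (Nat.card (SU m F q) * (q ^ (2 * m) * q)) := by
  have h1 := card_K_pst hF h (K := ⊤)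
  rw [top_inf_eq] at h1
  have e1 : Nat.card (eSet x y (⊤ : Subgroup G)) = q ^ 2 - 1 := by
    classical
    rw [← hF, ← Fintype.card_units, ← Nat.card_eq_fintype_card]
    refine (Nat.card_eq_of_bijective (fun a : Fˣ => (⟨(a : F), ?_⟩ : eSet x y (⊤ : Subgroup G)))
      ⟨fun a b e => Units.ext (congrArg Subtype.val e), ?_⟩).symm
    · obtain ⟨t, ht, hta⟩ := exists_lev_eig hF h hm a.ne_zero
      exact ⟨t, ⟨trivial, ht.1⟩, hta⟩
    · rintro ⟨_, g, hg, rfl⟩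
      exact ⟨Units.mk0 _ (eig_spec h hg.2).1, rfl⟩
  have e2 : gPart hF h (⊤ : Subgroup G) = stab2 (q := q) x y :=
    le_antisymm (fun l hl => hl.1) fun l hl =>
      ⟨hl, 1, (H55.Psu.radU (q := q) x).one_mem, trivial⟩
  have e3 : Nat.card (iPart hF h (⊤ : Subgroup G)) = q ^ (2 * m) := by
    rw [← card_pperp hF h hm]
    refine Nat.card_eq_of_bijective (fun w : iPart hF h (⊤ : Subgroup G) =>
      (⟨w.1, iPart_le_pperp hF h w.2⟩ : pperp q x y)) ⟨fun a b e => Subtype.ext (congrArg Subtype.val e :), ?_⟩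
    rintro ⟨w, hw⟩
    obtain ⟨g, hg, e⟩ := exists_pr hF h hw
    exact ⟨⟨w, g, ⟨trivial, hg⟩, e⟩, rfl⟩
  have e4 : Nat.card (wPart hF h (⊤ : Subgroup G)) = q := by
    refine Eq.trans ?_ (card_trace_ker hF)
    refine Nat.card_eq_of_bijective (fun a : wPart hF h (⊤ : Subgroup G) =>
      (⟨a.1, wPart_le_trace hF h a.2⟩ : (traceHom hF).ker)) ⟨fun a b e => Subtype.ext (congrArg Subtype.val e :), ?_⟩
    rintro ⟨a, ha⟩
    have ha' : a + a ^ q = 0 := ha
    obtain ⟨g, hg, e1, e2⟩ := exists_rad hF h (Submodule.zero_mem _)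
      (show a + a ^ q + hh (0 : V) (0 : V) = 0 by rw [h_zero_left, add_zero, ha'])
    exact ⟨⟨a, g, ⟨trivial, hg, e1⟩, e2⟩, rfl⟩
  rw [e1, e2, e3, e4, card_stab2 hF h hm] at h1
  exact h1

/-- The index at a point. -/
theorem relIndex_formula (hm : 1 ≤ m) (K : Subgroup G) :
    K.relIndex (pst x) * (Nat.card (eSet x y K) * (Nat.card (gPart hF h K) *
      (Nat.card (iPart hF h K) * Nat.card (wPart hF h K)))) =
      (q ^ 2 - 1) * (Nat.card (SU m F q) * (q ^ (2 * m) * q)) := by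
  rw [← card_K_pst hF h, ← card_pst hF h hm, ← (K.subgroupOf (pst x)).index_mul_card]
  congr 1
  rw [← Subgroup.inf_subgroupOf_right]
  exact Nat.card_congr (Subgroup.subgroupOfEquivOfLe inf_le_right).toEquiv.symm

end Pair

end H37.SUMin
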