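import Cfsg.Agent.H37.SUMinPSU

/-!
The least index in dimension six over the field with four elements: five points on a line cannot be
paired off.
-/

set_option autoImplicit false

namespace H37.SUMin

open Matrix Cfsg H50 H50.PointStab H50.RadFrame

universe u

variable {F : Type u} [Field F]

local notation "V" => (Fin (4 + 2) → F)
local notation "hh" => hermForm (4 + 2) F 2
local notation "G" => SU (4 + 2) F 2

variable [Fintype F] (hF : Fintype.card F = 2 ^ 2)
include hF

theorem one_trace : (1 : F) + 1 ^ 2 = 0 := by linear_combination four_two_eq_zero hF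

/-- The transvection of a vector, if isotropic. -/
noncomputable def tvOne (v : V) : G :=
  open Classical in if hv : hh v v = 0 then tv hF v 1 hv (one_trace hF) else 1

theorem tvOne_eq {v : V} (hv : hh v v = 0) : tvOne hF v = tv hF v 1 hv (one_trace hF) := dif_pos hv

theorem tvOne_mulVec {v : V} (hv : hh v v = 0) (z : V) :
    suMat (tvOne hF v) *ᵥ z = z + hh z v • v := by
  rw [tvOne_eq hF hv, tv_mulVec, one_mul]

theorem tvOne_smul {v : V} (hv : hh v v = 0) {a : F} (ha : a ≠ 0) : tvOne hF (a • v) = tvOne hF v := by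
  have hav : hh (a • v) (a • v) = 0 := by rw [h_smul_left, h_smul_right hF, hv, mul_zero, mul_zero]
  refine suMat_ext fun z => ?_
  rw [tvOne_mulVec hF hav, tvOne_mulVec hF hv, h_smul_right hF, smul_smul]
  congr 2
  linear_combination hh z v * four_cube hF ha

theorem tvOne_sq {v : V} (hv : hh v v = 0) : tvOne hF v * tvOne hF v = 1 := by
  refine suMat_ext fun z => ?_
  rw [suMat_mulVec_mul, suMat_one, one_mulVec, tvOne_mulVec hF hv, tvOne_mulVec hF hv, h_add_left,
    h_smul_left, hv, mul_zero, add_zero, add_assoc, ← two_smul F, four_two_eq_zero hF, zero_smul, add_zero]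

theorem tvOne_comm {v w : V} (hv : hh v v = 0) (hw : hh w w = 0) (hvw : hh v w = 0) :
    tvOne hF v * tvOne hF w = tvOne hF w * tvOne hF v := by
  refine suMat_ext fun z => ?_
  simp only [suMat_mulVec_mul, tvOne_mulVec hF hv, tvOne_mulVec hF hw, h_add_left, h_smul_left, hvw,
    (h_eq_zero_comm hF).1 hvw, mul_zero, add_zero]
  abel

section Pair

variable {x y : Fin (4 + 2) → F} (h : IsHyp 2 x y) {K : Subgroup (SU (4 + 2) F 2)}
include h

theorem isCtr_of_tvOne {v : V} (hv : hh v v = 0) (hmem : tvOne hF v ∈ K) : H51.StabMax.IsCtr K v := by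
  refine ⟨hv, fun A c hc hA => ?_⟩
  rcases eq_or_ne c 0 with rfl | hc0
  · rw [show A = 1 from suMat_ext fun z => by rw [hA, ut_mulVec, suMat_one]; simp]
    exact one_mem _
  · have hc1 : c = 1 := by
      have h1 : c * (c + 1) = 0 := by linear_combination hc
      linear_combination (mul_eq_zero.1 h1).resolve_left hc0 - four_two_eq_zero hF
    subst hc1
    rwa [show A = tvOne hF v from suMat_ext fun z => by
      rw [hA, ut_mulVec, tvOne_mulVec hF hv, one_mul]]

theorem zRad_two {z : G} (hz : z ∈ zRad hF h) : z = 1 ∨ z = tvOne hF x := by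
  obtain ⟨a, ha, rfl⟩ := eq_tv_of_pr_zero hF h hz.1 hz.2
  rcases eq_or_ne a 0 with rfl | ha0
  · exact Or.inl (suMat_ext fun z => by simp [tv_mulVec, suMat_one])
  · right
    have h1 : a * (a + 1) = 0 := by linear_combination ha
    have h2 : a = 1 := by
      linear_combination (mul_eq_zero.1 h1).resolve_left ha0 - four_two_eq_zero hF
    rw [tvOne_eq hF h.1]
    exact H55.Psu.tv_ext hF rfl h2 _ _ _ _

/-- Each line through the point has a point whose transvection goes with the one of the point. -/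
theorem exists_mate (hE : Exact K x y) {v : V} (hvP : v ∈ pperp 2 x y) (hv : hh v v = 0) (hv0 : v ≠ 0)
    (hno : ∀ c : V, c ≠ 0 → hh c c = 0 → ¬ H51.StabMax.IsCtr K c) :
    ∃ μ : F, tvOne hF x * tvOne hF (v + μ • x) ∈ K := by
  classical
  have h2 := four_two_eq_zero hF
  obtain ⟨hvx, hvy⟩ := mem_pperp.1 hvP
  have hxv := (h_eq_zero_comm hF).1 hvx
  have hyv := (h_eq_zero_comm hF).1 hvy
  have hts : tvOne hF v ∈ stab2 (q := 2) x y := by
    rw [tvOne_eq hF hv]; exact tv_mem_stab2 hF h hvP hv (one_trace hF)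
  obtain ⟨htl, ht1⟩ := (stab2_iff_eig hF h).1 hts
  obtain ⟨u, hu, hut⟩ := hE.lift _ htl
  set b := pr x y u with hb
  have hbP : b ∈ pperp 2 x y := pr_mem hF h (radU_le_stab x hu)
  -- a pair and two units in the complement
  obtain ⟨w, hvw, hwP⟩ : ∃ w, IsHyp 2 v w ∧ w ∈ pperp 2 x y := by
    obtain ⟨ι, j, -, -, -, hjh, -, hjs⟩ := exists_pair_hom hF (m := 4) (by omega) h
    have hR := pperp_eq_range hF h hjh hjs
    obtain ⟨a, ha⟩ := (hR ▸ hvP : v ∈ LinearMap.range j)
    have ha0 : a ≠ 0 := fun e => hv0 (by rw [← ha, e, map_zero])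
    obtain ⟨a', ha'⟩ := exists_hyp_partner hF ha0 (by rw [← hjh, ha, hv])
    exact ⟨j a', ⟨hv, by rw [hjh, ha'.2.1], by rw [← ha, hjh, ha'.2.2]⟩,
      hR ▸ LinearMap.mem_range_self j a'⟩
  obtain ⟨hwx, hwy⟩ := mem_pperp.1 hwP
  have hxy := (h.symm hF).2.2
  let E : Fin 2 ⊕ Fin 2 → V := Sum.elim ![x, v] ![y, w]
  have hEg : GramND 2 E := by
    refine hypFrame_gramND hF ?_ ?_ ?_ <;> intro a b <;> fin_cases a <;> fin_cases b <;>
      simp [h.1, h.2.1, h.2.2, hvw.1, hvw.2.1, hvw.2.2, hxv, hvx, hvy, hyv, hwy,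
        (h_eq_zero_comm hF).1 hwx, (h_eq_zero_comm hF).1 hwy]
  have hUr : Module.finrank F (perp 2 (Set.range E)) = 2 := by
    have := finrank_perp_range hF (GramND.linearIndependent hF hEg)
    simp only [Fintype.card_sum, Fintype.card_fin] at this
    omega
  obtain ⟨ee, hee, heU, hspan⟩ := exists_ON_basis hF (GramND.isNondeg_perp hF hEg) hUr
  have heq : ∀ i, hh (ee i) x = 0 ∧ hh (ee i) y = 0 ∧ hh (ee i) v = 0 ∧ hh (ee i) w = 0 := fun i => by
    have e' := mem_perp_range.1 (heU i)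
    exact ⟨e' (Sum.inl 0), e' (Sum.inr 0), e' (Sum.inl 1), e' (Sum.inr 1)⟩
  -- commuting elements
  obtain ⟨om, hom0, hom1, -⟩ := exists_four_omega hF
  have hmove : om ^ 2 - 1 ≠ 0 := fun e => hom1 (by linear_combination four_cube hF hom0 - om * e)
  have hkey : ∀ i j : Fin 2, i ≠ j → hh b (ee j) = 0 ∧ hh b v = 0 := by
    intro i j hij
    have heP : ee i ∈ pperp 2 x y := mem_pperp.2 ⟨(heq i).1, (heq i).2.1⟩
    obtain ⟨f, hf, hf0⟩ := exists_frame_cons hF (m := 3) rfl h heP (by simpa using hee i i)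
    have hqa : om ^ 2 / om = om := by rw [pow_two, mul_div_cancel_right₀ _ hom0]
    obtain ⟨T, hT, hTa, hTe⟩ := diag_lev hF h hf hom0 (fun l => if l = 0 then om ^ 2 / om else 1)
      (fun l => by
        split_ifs
        · rw [hqa]; exact four_cube hF hom0
        · rw [one_pow])
      (by rw [Finset.prod_ite_eq' Finset.univ (0 : Fin (3 + 1))]; simp [pow_two])
    have hTfix : ∀ z ∈ pperp 2 x y, hh z (ee i) = 0 → suMat T *ᵥ z = z := by
      intro z hz hzf
      conv_lhs => rw [frame_ext hF h hf hz, mulVec_sum]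
      conv_rhs => rw [frame_ext hF h hf hz]
      refine Finset.sum_congr rfl fun l _ => ?_
      rw [mulVec_smul, hTe]
      by_cases hl : l = 0
      · subst hl
        rw [hf0, hzf, zero_smul, zero_smul]
      · rw [if_neg hl, one_smul]
    have hTv : suMat T *ᵥ v = v := hTfix v hvP ((h_eq_zero_comm hF).1 (heq i).2.2.1)
    have hcomm : tvOne hF v * T = T * tvOne hF v := by
      rw [eq_comm, ← mul_inv_eq_iff_eq_mul, tvOne_eq hF hv, H55.Psu.tv_conj hF]
      exact H55.Psu.tv_ext hF hTv rfl _ _ _ _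
    obtain ⟨a, ha, haT⟩ := hE.lift T hT
    have e1 := congrArg (pr x y) (hE.comm_eq hF h htl hT hu ha hut haT hcomm)
    rw [(rad_mul hF h hu (radU_conj_mem hF h htl.1 ha)).1, (rad_mul hF h ha (radU_conj_mem hF h hT.1 hu)).1,
      (rad_conj hF h htl ha).1, (rad_conj hF h hT hu).1, ht1, one_pow, one_smul, hTa, tvOne_mulVec hF hv] at e1
    rw [← hb] at e1
    -- pairing with a fixed vector
    have hpair : ∀ g ∈ pperp 2 x y, hh g (ee i) = 0 → hh v g = 0 → hh b g = 0 := by
      intro g hg hge hvg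
      have e2 := congrArg (fun z => hh z g) e1
      have hTg : hh (suMat T *ᵥ b) g = hh b g := by
        conv_lhs => rw [← hTfix g hg hge]
        rw [suMat_h]
      simp only [h_add_left, h_smul_left, hvg, hTg, mul_zero, add_zero] at e2
      have h3 : (om ^ 2 - 1) * hh b g = 0 := by linear_combination -e2
      exact (mul_eq_zero.1 h3).resolve_left hmove
    refine ⟨hpair _ (mem_pperp.2 ⟨(heq j).1, (heq j).2.1⟩) ?_ ((h_eq_zero_comm hF).1 (heq j).2.2.1),
      hpair v hvP ((h_eq_zero_comm hF).1 (heq i).2.2.1) hv⟩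
    rw [hee j i, if_neg (Ne.symm hij)]
  obtain ⟨hb1, hbv⟩ := hkey 0 1 (by decide)
  obtain ⟨hb0, -⟩ := hkey 1 0 (by decide)
  obtain ⟨hbx, hby⟩ := mem_pperp.1 hbP
  have hbe : b = hh b w • v := by
    rw [← sub_eq_zero]
    set d := b - hh b w • v with hd
    have hdmem : d ∈ perp 2 (Set.range E) := by
      rw [mem_perp_range]
      rintro (l | l) <;> fin_cases l <;>
        simp [E, hd, h_sub_left, h_smul_left, hbx, hby, hbv, hv, hvx, hvy, hvw.2.2]
    refine GramND.isNondeg_perp hF hEg d hdmem fun z hz => ?_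
    rw [← hspan, Submodule.mem_span_range_iff_exists_fun] at hz
    obtain ⟨c, rfl⟩ := hz
    rw [h_sum_right hF]
    refine Finset.sum_eq_zero fun l _ => ?_
    rw [h_smul_right hF]
    have : hh d (ee l) = 0 := by
      fin_cases l <;>
        simp [hd, h_sub_left, h_smul_left, hb0, hb1, (h_eq_zero_comm hF).1 (heq 0).2.2.1,
          (h_eq_zero_comm hF).1 (heq 1).2.2.1]
    rw [this, mul_zero]
  set κ := hh b w with hκ
  refine ⟨κ ^ 2, ?_⟩
  set v' := v + κ ^ 2 • x with hv'
  have hv'v' : hh v' v' = 0 := by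
    simp [hv', h_add_left, h_add_right hF, h_smul_left, h_smul_right hF, hv, hvx, hxv, h.1]
  have hv'x : hh v' x = 0 := by simp [hv', h_add_left, h_smul_left, hvx, h.1]
  -- the quotient by the transvection lies in the radical
  have hxv' := (h_eq_zero_comm hF).1 hv'x
  set u' := tvOne hF v' * (tvOne hF v)⁻¹ with hu'
  have hinv : (tvOne hF v)⁻¹ = tvOne hF v := inv_eq_of_mul_eq_one_right (tvOne_sq hF hv)
  have hu'm : ∀ z, suMat u' *ᵥ z = z + hh z v • v + (hh z v' + hh z v * hh v v') • v' := by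
    intro z
    rw [hu', hinv, suMat_mulVec_mul, tvOne_mulVec hF hv, tvOne_mulVec hF hv'v', h_add_left, h_smul_left]
  have hvv' : hh v v' = 0 := by simp [hv', h_add_right hF, h_smul_right hF, hv, hvx]
  have hu'R : u' ∈ H55.Psu.radU (q := 2) x := by
    refine ⟨by rw [hu'm, hxv, hxv', hvv']; simp, fun z hz => ⟨hh z v * κ ^ 2, ?_⟩⟩
    have hzv' : hh z v' = hh z v := by simp [hv', h_add_right hF, h_smul_right hF, hz]
    rw [hu'm, hzv', hvv', mul_zero, add_zero, hv', smul_add, ← add_assoc, add_assoc z, ← two_smul F,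
      h2, zero_smul, add_zero, smul_smul]
  have hu'y : suMat u' *ᵥ y = y + κ • v + (κ * κ ^ 2) • x := by
    rw [hu'm, hyv, hvv', zero_smul, add_zero, zero_mul, add_zero,
      show hh y v' = κ by simp [hv', h_add_right hF, h_smul_right hF, hyv, hxy, pow_q_pow_q hF],
      hv', smul_add, smul_smul, ← add_assoc]
  have hu'p : pr x y u' = κ • v := by
    simp [pr, hu'y, h_sub_left, h_add_left, h_smul_left, hvy, h.2.2]
    abel
  have hz : u * u'⁻¹ ∈ zRad hF h := by
    refine ⟨(H55.Psu.radU (q := 2) x).mul_mem hu ((H55.Psu.radU (q := 2) x).inv_mem hu'R), ?_⟩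
    rw [(rad_mul hF h hu ((H55.Psu.radU (q := 2) x).inv_mem hu'R)).1, (rad_inv hF h hu'R).1, hu'p,
      ← hb, hbe, add_neg_cancel]
  have e : u * tvOne hF v = u * u'⁻¹ * tvOne hF v' := by rw [hu']; group
  rw [e] at hut
  rcases zRad_two hF h hz with h1 | h1
  · rw [h1, one_mul] at hut
    have hv'0 : v' ≠ 0 := fun e0 => hv0 (by
      have e1 := congrArg (fun z => hh z y) e0
      simp [hv', h_add_left, h_smul_left, hvy, h.2.2, h_zero_left] at e1
      rw [hv', e1, zero_pow (by norm_num), zero_smul, add_zero] at e0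
      exact e0)
    exact absurd (isCtr_of_tvOne hF h hv'v' hut) (hno _ hv'0 hv'v')
  · rwa [h1] at hut

/-- On a line the mate is unique. -/
theorem mate_unique (hE : Exact K x y) {v v' : V} (hv : hh v v = 0) (hv' : hh v' v' = 0)
    (hvx : hh v x = 0) (hspan : ∃ a b : F, a ≠ 0 ∧ v' = a • v + b • x)
    (h1 : tvOne hF x * tvOne hF v ∈ K) (h2 : tvOne hF x * tvOne hF v' ∈ K) :
    tvOne hF v = tvOne hF v' := by
  obtain ⟨a, b, ha, hv'e⟩ := hspan
  have hxv := (h_eq_zero_comm hF).1 hvx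
  have hv'x : hh v' x = 0 := by simp [hv'e, h_add_left, h_smul_left, hvx, h.1]
  have hxv' := (h_eq_zero_comm hF).1 hv'x
  have hvv' : hh v v' = 0 := by simp [hv'e, h_add_right hF, h_smul_right hF, hv, hvx]
  have hK := mul_mem h1 h2
  have e : tvOne hF x * tvOne hF v * (tvOne hF x * tvOne hF v') = tvOne hF v * tvOne hF v' := by
    rw [tvOne_comm hF h.1 hv hxv, mul_assoc, ← mul_assoc (tvOne hF x), tvOne_sq hF h.1, one_mul]
  rw [e] at hK
  have hR : tvOne hF v * tvOne hF v' ∈ H55.Psu.radU (q := 2) x := by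
    have hm : ∀ z, suMat (tvOne hF v * tvOne hF v') *ᵥ z = z + hh z v' • v' + hh z v • v := by
      intro z
      rw [suMat_mulVec_mul, tvOne_mulVec hF hv', tvOne_mulVec hF hv, h_add_left, h_smul_left,
        (h_eq_zero_comm hF).1 hvv', mul_zero, add_zero]
    refine ⟨by rw [hm, hxv, hxv']; simp, fun z hz => ⟨hh z v' * b, ?_⟩⟩
    have hzv' : hh z v' = a ^ 2 * hh z v := by simp [hv'e, h_add_right hF, h_smul_right hF, hz]
    have e2 : hh z v' * a + hh z v = 0 := by
      rw [hzv']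
      linear_combination hh z v * four_cube hF ha + hh z v * four_two_eq_zero hF
    rw [hm, hv'e, smul_add, smul_smul, smul_smul, ← hv'e, add_assoc z, add_right_comm _ _ (hh z v • v),
      ← add_smul, e2, zero_smul, zero_add]
  have := hE.inf _ hK hR
  rw [mul_eq_one_iff_eq_inv] at this
  rw [this, inv_eq_of_mul_eq_one_right (tvOne_sq hF hv')]

/-- A group with the whole radical at a centre: the orthogonal isotropic vectors are centres. -/
theorem ctr_of_full (hc : H51.StabMax.IsCtr K x) (hall : ∀ z ∈ pperp 2 x y, z ∈ iPart hF h K)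
    {v : V} (hv : hh v v = 0) (hvx : hh v x = 0)
    (hexact : ∀ a b : V, IsHyp 2 a b → ¬ H51.StabMax.IsCtr K a → Exact K a b) :
    H51.StabMax.IsCtr K v := by
  classical
  have h2 := four_two_eq_zero hF
  set ρ := hh v y with hρ
  set v₀ := v - ρ • x with hv₀
  have hv₀P : v₀ ∈ pperp 2 x y := mem_pperp.2
    ⟨by simp [hv₀, h_sub_left, h_smul_left, hvx, h.1], by simp [hv₀, hρ, h_sub_left, h_smul_left, h.2.2]⟩
  by_cases hv00 : v₀ = 0
  · rw [sub_eq_zero.1 hv00]; exact H51.StabMax.ctr_smul hF hc ρ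
  by_contra hnc
  have hvne : v ≠ 0 := fun e => hv00 (by simp [hv₀, hρ, e, h_zero_left])
  obtain ⟨f, hf⟩ := exists_hyp_partner hF hvne hv
  have hE := hexact v f hf hnc
  obtain ⟨g₁, ⟨hg₁K, hg₁⟩, e₁⟩ := hall v₀ hv₀P
  have hγ : (ρ + ρ ^ 2) + (ρ + ρ ^ 2) ^ 2 + hh v₀ v₀ = 0 := by
    have hxv := (h_eq_zero_comm hF).1 hvx
    have : hh v₀ v₀ = 0 := by
      simp [hv₀, h_sub_left, h_sub_right hF, h_smul_left, h_smul_right hF, hv, hvx, hxv, h.1]
    rw [this, add_pow_q hF, pow_q_pow_q hF]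
    linear_combination (ρ + ρ ^ 2) * h2
  obtain ⟨g, hg, e, eγ⟩ := exists_rad hF h hv₀P hγ
  have hgK : g ∈ K := by
    have hz : g * g₁⁻¹ ∈ zRad hF h := by
      refine ⟨(H55.Psu.radU (q := 2) x).mul_mem hg ((H55.Psu.radU (q := 2) x).inv_mem hg₁), ?_⟩
      rw [(rad_mul hF h hg ((H55.Psu.radU (q := 2) x).inv_mem hg₁)).1, (rad_inv hF h hg₁).1, e, e₁,
        add_neg_cancel]
    have := mul_mem (zRad_le_of_isCtr hF h hc hz) hg₁K
    rwa [inv_mul_cancel_right] at this
  have hm : ∀ z, suMat g *ᵥ z = z + hh z x • v₀ + (hh z x * (ρ + ρ ^ 2) - hh z v₀) • x := by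
    intro z
    obtain ⟨r, hrx, hry, er⟩ := pair_decomp hF h z
    obtain ⟨hv₀x, hv₀y⟩ := mem_pperp.1 hv₀P
    have hzr : hh z v₀ = hh r v₀ := by
      conv_lhs => rw [er]
      simp [h_add_left, h_smul_left, (h_eq_zero_comm hF).1 hv₀x, (h_eq_zero_comm hF).1 hv₀y]
    conv_lhs => rw [er]
    rw [mulVec_add, mulVec_add, mulVec_smul, mulVec_smul, mem_stab.1 (radU_le_stab x hg),
      rad_mulVec_y hF h g, radU_mulVec hF h hg (mem_pperp.2 ⟨hrx, hry⟩), e, eγ, hzr]
    conv_rhs => arg 1; arg 1; rw [er]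
    module
  have hgv : g ∈ H55.Psu.radU (q := 2) v := by
    have hvv₀ : hh v v₀ = 0 := by
      simp [hv₀, h_sub_right hF, h_smul_right hF, hv, hvx]
    refine ⟨by rw [hm, hvx, hvv₀]; simp, fun z hz => ⟨hh z x, ?_⟩⟩
    have hzv : hh z v₀ = -(ρ ^ 2 * hh z x) := by
      simp [hv₀, h_sub_right hF, h_smul_right hF, hz]
    rw [hm, hzv, hv₀, smul_sub, smul_smul, add_assoc, sub_add, ← sub_smul]
    conv_lhs => rw [show hh z x * ρ - (hh z x * (ρ + ρ ^ 2) - -(ρ ^ 2 * hh z x)) = 0 by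
      linear_combination -(hh z x * ρ ^ 2) * h2]
    rw [zero_smul, sub_zero]
  have hg1 := hE.inf g hgK hgv
  rw [hg1, (rad_one hF h).1] at e
  exact hv00 e.symm

/-- The index at a centre without the whole radical. -/
theorem ix_centre (hne : ∃ z ∈ pperp 2 x y, z ∉ iPart hF h K) : 120 ≤ K.relIndex (pst x) := by
  classical
  obtain ⟨t, ht0, ht⟩ := exists_trace_zero_ne_zero hF
  obtain ⟨ψ, -, hψ⟩ := exists_char (W := (⊥ : AddSubgroup F)) (t := t) (by simpa using ht0)
  obtain ⟨J, hJ, hJc⟩ := exists_annih hF h (by omega) ht hψ (iPart hF h K)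
    fun w hw => iPart_le_pperp hF h hw
  obtain ⟨ι, j, hιinj, hι, hjinj, hjh, hιj, hjs⟩ := exists_pair_hom hF (m := 4) (by omega) h
  set Γ := (gPart hF h K).comap ι
  set J' := J.comap j.toAddMonoidHom
  have hΓ : ∀ g ∈ Γ, ∀ i ∈ J', suMat g *ᵥ i ∈ J' := by
    intro g hg i hi
    obtain ⟨hiP, hi'⟩ := (hJ _).1 hi
    show j (suMat g *ᵥ i) ∈ J
    rw [← hιj, hJ]
    refine ⟨lev_pperp hF h (stab2_le_lev hF h hg.1) hiP, fun s hs => ?_⟩
    have h1 := hi' _ (gPart_iPart hF h ((gPart hF h K).inv_mem hg) hs)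
    have e : skew 2 (suMat (ι g)⁻¹ *ᵥ s) (j i) = skew 2 s (suMat (ι g) *ᵥ j i) := by
      simp only [skew]
      rw [suMat_inv_h, ← suMat_h (ι g) (j i) (suMat (ι g)⁻¹ *ᵥ s), suMat_mulVec_inv]
    rwa [← e]
  have hcJ : Nat.card J' = Nat.card J := by
    refine Nat.card_eq_of_bijective (fun i => (⟨j i.1, i.2⟩ : J)) ⟨?_, ?_⟩
    · intro i i' e
      exact Subtype.ext (hjinj (congrArg Subtype.val e :))
    · rintro ⟨w, hw⟩
      obtain ⟨hwx, hwy⟩ := mem_pperp.1 ((hJ _).1 hw).1
      obtain ⟨v, rfl⟩ := hjs w hwx hwy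
      exact ⟨⟨v, hw⟩, rfl⟩
  have hIc : Nat.card (iPart hF h K) < 256 := by
    obtain ⟨z, hz, hzI⟩ := hne
    have hP := card_pperp hF h (m := 4) (by omega)
    norm_num [-Nat.card_eq_fintype_card, -Nat.card_coe_set_eq] at hP
    rw [← hP, ← SetLike.coe_sort_coe, ← SetLike.coe_sort_coe (pperp 2 x y), Nat.card_coe_set_eq,
      Nat.card_coe_set_eq]
    exact Set.ncard_lt_ncard (Set.ssubset_iff_of_subset (fun w hw => iPart_le_pperp hF h hw) |>.2
      ⟨z, hz, hzI⟩)
  norm_num [-Nat.card_eq_fintype_card, -Nat.card_coe_set_eq] at hJc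
  have hJ2 : 2 ≤ Nat.card J := by
    rcases Nat.lt_or_ge (Nat.card J) 2 with h' | h'
    · interval_cases hh' : Nat.card J <;> omega
    · exact h'
  have hJ'b : J' ≠ ⊥ := fun e => by
    rw [e, AddSubgroup.card_bot] at hcJ; omega
  have h1 := sphere_index hF (n := 4) (by omega) hΓ hJ'b 120
    (by rw [card_isoPt_four hF]; norm_num) (by rw [normCount_four_one hF]; norm_num)
  have hGle : gPart hF h K ≤ ι.range := hι ▸ fun g hg => hg.1
  have hmap : Γ.map ι = gPart hF h K := Subgroup.map_comap_eq_self hGle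
  have h2 : Nat.card (gPart hF h K) * Γ.index = Nat.card (SU 4 F 2) := by
    rw [← Subgroup.card_mul_index Γ]
    congr 1
    conv_lhs => rw [← hmap]
    exact Nat.card_congr (Subgroup.equivMapOfInjective _ ι hιinj).toEquiv.symm
  have hW : Nat.card (wPart hF h K) ≤ 2 := by
    refine le_trans ?_ (card_trace_ker hF).le
    exact Nat.card_le_card_of_injective (fun a => (⟨a.1, wPart_le_trace hF h a.2⟩ : (traceHom hF).ker))
      fun a b e => Subtype.ext (congrArg Subtype.val e :)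
  have hL : Nat.card (eSet x y K) ≤ 3 := by
    rw [show 3 = Fintype.card Fˣ by rw [Fintype.card_units, hF]; rfl, ← Nat.card_eq_fintype_card]
    refine Nat.card_le_card_of_injective (fun a : eSet x y K => Units.mk0 a.1 ?_)
      fun a b e => Subtype.ext (congrArg Units.val e)
    obtain ⟨g, hg, e⟩ := a.2
    rw [← e]
    exact (eig_spec h hg.2).1
  have hf := relIndex_formula hF h (by omega) K
  rw [← h2] at hf
  norm_num [-Nat.card_eq_fintype_card, -Nat.card_coe_set_eq] at hf
  set ix := K.relIndex (pst x)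
  set Ic := Nat.card (iPart hF h K)
  set Γc := Nat.card (gPart hF h K)
  set B := Γ.index
  have hIc0 : 0 < Ic := Nat.card_pos
  have h3 : 256 * B ≤ ix * Ic := by
    refine Nat.le_of_mul_le_mul_left ?_ (show 0 < 6 * Γc from Nat.mul_pos (by norm_num) Nat.card_pos)
    calc 6 * Γc * (256 * B) = ix * (Nat.card (eSet x y K) * (Γc * (Ic * Nat.card (wPart hF h K)))) := by
          rw [hf]; ring
      _ ≤ ix * (3 * (Γc * (Ic * 2))) := by gcongr
      _ = _ := by ring
  rw [← hJc] at h3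
  have h4 : Nat.card J * B ≤ ix :=
    Nat.le_of_mul_le_mul_right (le_trans (le_of_eq (by ring)) h3) hIc0
  refine le_trans h1 (le_trans ?_ h4)
  rw [hcJ]
  exact Nat.mul_le_mul_right _ (Nat.sub_le _ _)

/-- All isotropic vectors centres at a pair with the whole radical. -/
theorem eq_top_of_full (hcx : H51.StabMax.IsCtr K x) (hcy : H51.StabMax.IsCtr K y)
    (hall : ∀ z ∈ pperp 2 x y, z ∈ iPart hF h K) : K = ⊤ := by
  have hT : ∀ {a b : V}, IsHyp 2 a b → H51.StabMax.IsCtr K a →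
      ∀ d : F, d + d ^ 2 = 0 → ∃ g ∈ K, H37.IsEich a 0 d g := by
    intro a b hab ha d hd
    obtain ⟨g, hg⟩ := H37.exists_isEich hF hab.1 (h_zero_left a)
      (show d + d ^ 2 + hh (0 : V) 0 = 0 by rw [h_zero_left, add_zero, hd])
    refine ⟨g, ha.2 g d hd (Matrix.ext_of_mulVec_single fun j => ?_), hg⟩
    rw [hg, ut_mulVec, smul_zero, add_zero, h_zero_right hF, sub_zero]
  refine H37.eq_top_of_radical hF (by omega) (by omega) h (hT h hcx) (hT (h.symm hF) hcy) ?_
  intro v γ hvx hvy hγ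
  have hv : v ∈ pperp 2 x y := mem_pperp.2 ⟨hvx, hvy⟩
  obtain ⟨g, ⟨hgK, hgQ⟩, hgv⟩ := hall v hv
  obtain ⟨g', hg', e1, e2⟩ := exists_rad hF h hv hγ
  have hd : g' * g⁻¹ ∈ zRad hF h := by
    refine ⟨(H55.Psu.radU (q := 2) x).mul_mem hg' ((H55.Psu.radU (q := 2) x).inv_mem hgQ), ?_⟩
    rw [(rad_mul hF h hg' ((H55.Psu.radU (q := 2) x).inv_mem hgQ)).1, (rad_inv hF h hgQ).1, e1, hgv,
      add_neg_cancel]
  refine ⟨g', ?_, ?_⟩
  · have := mul_mem (zRad_le_of_isCtr hF h hcx hd) hgK
    rwa [inv_mul_cancel_right] at this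
  · refine H37.isEich_of_inQ hF h ⟨hg'.1, hg'.2⟩ hvx hvy ?_
    rw [rad_mulVec_y hF h, e1, e2]

/-- A centre with a long orbit. -/
theorem exists_long_centre (hK : K ≠ ⊤) (hc : H51.StabMax.IsCtr K x)
    (hexact : ∀ a b : V, IsHyp 2 a b → ¬ H51.StabMax.IsCtr K a → Exact K a b) :
    ∃ d d' : V, IsHyp 2 d d' ∧ H51.StabMax.IsCtr K d ∧ 120 ≤ K.relIndex (pst d) := by
  by_cases hall : ∀ z ∈ pperp 2 x y, z ∈ iPart hF h K
  · obtain ⟨ι, j, -, -, -, hjh, -, hjs⟩ := exists_pair_hom hF (m := 4) (by omega) h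
    have hR := pperp_eq_range hF h hjh hjs
    obtain ⟨a, b, hab⟩ := exists_hyp (F := F) hF (n := 4) (by omega)
    have hd : IsHyp 2 (j a) (j b) := ⟨by rw [hjh, hab.1], by rw [hjh, hab.2.1], by rw [hjh, hab.2.2]⟩
    have hmem : ∀ u, hh (j u) x = 0 := fun u =>
      (mem_pperp.1 (hR ▸ LinearMap.mem_range_self j u : j u ∈ pperp 2 x y)).1
    have c1 := ctr_of_full hF h hc hall hd.1 (hmem a) hexact
    have c2 := ctr_of_full hF h hc hall hd.2.1 (hmem b) hexact
    refine ⟨_, _, hd, c1, ix_centre hF hd ?_⟩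
    by_contra hno
    simp only [not_exists, not_and, not_not] at hno
    exact hK (eq_top_of_full hF hd c1 c2 hno)
  · simp only [not_forall] at hall
    obtain ⟨z, hz, hzI⟩ := hall
    exact ⟨x, y, h, hc, ix_centre hF h ⟨z, hz, hzI⟩⟩

/-- Some point is a centre. -/
theorem exists_centre {K : Subgroup (SU (4 + 2) F 2)}
    (hexact : ∀ a b : V, IsHyp 2 a b → ¬ H51.StabMax.IsCtr K a → Exact K a b) :
    ∃ c : V, c ≠ 0 ∧ hh c c = 0 ∧ H51.StabMax.IsCtr K c := by
  classical
  by_contra hcon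
  simp only [not_exists, not_and] at hcon
  have hno : ∀ c : V, c ≠ 0 → hh c c = 0 → ¬ H51.StabMax.IsCtr K c := hcon
  obtain ⟨ι, j, -, -, -, hjh, -, hjs⟩ := exists_pair_hom hF (m := 4) (by omega) h
  have hR := pperp_eq_range hF h hjh hjs
  obtain ⟨a, ha0, ha⟩ := exists_isotropic (F := F) hF (n := 4) (by omega)
  set v := j a
  have hvP : v ∈ pperp 2 x y := hR ▸ LinearMap.mem_range_self j a
  have hv : hh v v = 0 := by rw [hjh, ha]
  have hv0 : v ≠ 0 := fun e => ha0 (h_ext_left hF fun u => by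
    rw [h_zero_left, ← hjh, show j a = 0 from e, h_zero_left])
  obtain ⟨hvx, hvy⟩ := mem_pperp.1 hvP
  have hxv := (h_eq_zero_comm hF).1 hvx
  -- the five points
  let pt : Option F → V := fun o => o.elim x fun c => v + c • x
  have hiso : ∀ o o', hh (pt o) (pt o') = 0 := by
    rintro (_ | c) (_ | c') <;>
      simp [pt, h.1, hv, hvx, hxv, h_add_left, h_add_right hF, h_smul_left, h_smul_right hF]
  have hli : LinearIndependent F ![x, v] := by
    refine (LinearIndependent.pair_iff' (h.fst_ne_zero hF)).2 fun c e => hv0 ?_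
    have e1 := congrArg (fun z => hh z y) e
    simp [h_smul_left, h.2.2, hvy] at e1
    rw [← e, e1, zero_smul]
  have hcoef : ∀ α β α' β' : F, α • x + β • v = α' • x + β' • v → α = α' ∧ β = β' := by
    intro α β α' β' e
    have := (LinearIndependent.pair_iff.1 hli) (α - α') (β - β') (by
      rw [sub_smul, sub_smul, sub_add_sub_comm, e, sub_self])
    exact ⟨sub_eq_zero.1 this.1, sub_eq_zero.1 this.2⟩
  have hpt : ∀ o, pt o = (o.elim 1 fun c => c) • x + (o.elim 0 fun _ => (1 : F)) • v := by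
    rintro (_ | c) <;> simp [pt, add_comm]
  have hptne : ∀ o o' : Option F, o ≠ o' → ∀ s : F, pt o' ≠ s • pt o := by
    intro o o' hne s e
    rw [hpt, hpt, smul_add, smul_smul, smul_smul] at e
    obtain ⟨e1, e2⟩ := hcoef _ _ _ _ e
    rcases o with _ | c <;> rcases o' with _ | c' <;> simp at e1 e2 hne
    all_goals grind
  have hpt0 : ∀ o, pt o ≠ 0 := by
    intro o e
    rw [hpt] at e
    obtain ⟨e1, e2⟩ := hcoef _ _ 0 0 (e.trans (by simp))
    rcases o with _ | c <;> simp at e1 e2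
  -- any combination is a multiple of a point
  have hcomb : ∀ α β : F, α • x + β • v ≠ 0 → ∃ o, ∃ s : F, s ≠ 0 ∧ α • x + β • v = s • pt o := by
    intro α β hne
    by_cases hβ : β = 0
    · subst hβ
      refine ⟨none, α, fun e => hne (by simp [e]), by simp [pt]⟩
    · exact ⟨some (α / β), β, hβ, by simp [pt, smul_add, smul_smul, mul_div_cancel₀ _ hβ, add_comm]⟩
  -- mates
  have hmate : ∀ o, ∃ o', o ≠ o' ∧ tvOne hF (pt o) * tvOne hF (pt o') ∈ K ∧
      ∀ o'', o ≠ o'' → tvOne hF (pt o) * tvOne hF (pt o'') ∈ K → o'' = o' := by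
    intro o
    obtain ⟨f, hf⟩ := exists_hyp_partner hF (hpt0 o) (hiso o o)
    have hE := hexact _ _ hf (hno _ (hpt0 o) (hiso o o))
    obtain ⟨o₁, ho₁⟩ : ∃ o₁, o ≠ o₁ := exists_ne o |>.imp fun _ h => h.symm
    set w := pt o₁ - hh (pt o₁) f • pt o with hw
    have hwP : w ∈ pperp 2 (pt o) f := mem_pperp.2
      ⟨by simp [hw, h_sub_left, h_smul_left, hiso], by simp [hw, h_sub_left, h_smul_left, hf.2.2]⟩
    have hww : hh w w = 0 := by simp [hw, h_sub_left, h_sub_right hF, h_smul_left, h_smul_right hF, hiso]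
    have hw0 : w ≠ 0 := fun e => hptne o o₁ ho₁ _ (sub_eq_zero.1 e)
    obtain ⟨μ, hμ⟩ := exists_mate hF hf hE hwP hww hw0 hno
    -- the mate is one of the points
    set r := w + μ • pt o with hr
    have hr_eq : r = pt o₁ + (μ - hh (pt o₁) f) • pt o := by rw [hr, hw]; module
    obtain ⟨o', s, hs, hro'⟩ : ∃ o', ∃ s : F, s ≠ 0 ∧ r = s • pt o' := by
      have hr0 : r ≠ 0 := fun e => hptne o o₁ ho₁ (-(μ - hh (pt o₁) f)) (by
        rw [neg_smul]; exact eq_neg_of_add_eq_zero_left (hr_eq ▸ e))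
      rw [hr_eq, hpt o, hpt o₁, smul_add, smul_smul, smul_smul, add_add_add_comm, ← add_smul, ← add_smul] at hr0 ⊢
      exact hcomb _ _ hr0
    rw [hro', tvOne_smul hF (hiso o' o') hs] at hμ
    have hoo' : o ≠ o' := by
      rintro rfl
      apply hptne o o₁ ho₁ (s - (μ - hh (pt o₁) f))
      rw [sub_smul, ← hro', hr_eq, add_sub_cancel_right]
    refine ⟨o', hoo', hμ, fun o'' hne hm => ?_⟩
    -- span
    obtain ⟨A, B, hA, hAB⟩ : ∃ A B : F, A ≠ 0 ∧ pt o'' = A • pt o' + B • pt o := by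
      have hd : (o.elim 1 fun c => c) * (o'.elim 0 fun _ => (1 : F)) -
          (o'.elim 1 fun c => c) * (o.elim 0 fun _ => (1 : F)) ≠ 0 := by
        rcases o with _ | c <;> rcases o' with _ | c' <;> simp at hoo' ⊢
        exact fun e => hoo' (sub_eq_zero.1 e)
      refine ⟨((o.elim 1 fun c => c) * (o''.elim 0 fun _ => (1 : F)) -
          (o''.elim 1 fun c => c) * (o.elim 0 fun _ => (1 : F))) / ((o.elim 1 fun c => c) *
          (o'.elim 0 fun _ => (1 : F)) - (o'.elim 1 fun c => c) * (o.elim 0 fun _ => (1 : F))),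
        ((o''.elim 1 fun c => c) * (o'.elim 0 fun _ => (1 : F)) -
          (o'.elim 1 fun c => c) * (o''.elim 0 fun _ => (1 : F))) / ((o.elim 1 fun c => c) *
          (o'.elim 0 fun _ => (1 : F)) - (o'.elim 1 fun c => c) * (o.elim 0 fun _ => (1 : F))), ?_, ?_⟩
      · refine div_ne_zero ?_ hd
        rcases o with _ | c <;> rcases o'' with _ | c'' <;> simp at hne ⊢
        exact fun e => hne (sub_eq_zero.1 e)
      · rw [hpt o, hpt o', hpt o'']
        generalize (o.elim 1 fun c => c) = a, (o.elim 0 fun _ => (1 : F)) = b,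
          (o'.elim 1 fun c => c) = a', (o'.elim 0 fun _ => (1 : F)) = b',
          (o''.elim 1 fun c => c) = a'', (o''.elim 0 fun _ => (1 : F)) = b'' at hd ⊢
        match_scalars <;> simp only [div_mul_eq_mul_div, ← add_div, mul_one] <;>
          rw [eq_div_iff hd] <;> ring
    have := mate_unique hF hf hE (hiso o' o') (hiso o'' o'') (hiso o' o) ⟨A, B, hA, hAB⟩ hμ hm
    by_contra hne'
    -- equal transvections at different points
    obtain ⟨g, hg⟩ := exists_hyp_partner hF (hpt0 o') (hiso o' o')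
    have e1 := congrArg (fun T : G => suMat T *ᵥ g) this
    simp only [tvOne_mulVec hF (hiso o' o'), tvOne_mulVec hF (hiso o'' o''),
      (hg.symm hF).2.2, one_smul] at e1
    have e2 := add_left_cancel e1
    by_cases hk : hh g (pt o'') = 0
    · rw [hk, zero_smul] at e2; exact hpt0 o' e2
    · exact hptne o' o'' (fun e => hne' e.symm) (hh g (pt o''))⁻¹ (by
        rw [e2, inv_smul_smul₀ hk])
  choose σ hσne hσK hσu using hmate
  have hinv : Function.Involutive σ := fun o => by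
    refine (hσu (σ o) o (hσne o).symm ?_).symm
    rw [← tvOne_comm hF (hiso o o) (hiso _ _) (hiso _ _)]
    exact hσK o
  obtain ⟨o, ho⟩ := Equiv.Perm.exists_fixed_point_of_prime (p := 2) (n := 1) (σ := hinv.toPerm σ)
    (by rw [Fintype.card_option, hF]; decide) (by
      rw [pow_one, pow_two]; exact Equiv.ext fun o => hinv o)
  exact hσne o ho.symm

end Pair

theorem base_six_two : BaseBound F 2 4 := by
  intro K hK
  by_contra hT
  have hlt : K.index < 672 := by
    by_contra hge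
    exact hT (Or.inr ⟨rfl, ⟨2, rfl⟩, by norm_num; omega⟩)
  have hN : Nat.card (IsoPt (4 + 2) 2 F) = 693 := by
    rw [isoPt_card_rec hF (n := 4) (by omega), card_isoPt_four hF]; norm_num
  have hexact : ∀ a b : V, IsHyp 2 a b → ¬ H51.StabMax.IsCtr K a →
      Exact K a b ∧ K.relIndex (pst a) = 512 := by
    intro a b hab hna
    rcases ix_or_exact hF hab (by omega) (six_cases hF rfl hab hna) hna with h1 | h1
    · have := relIndex_le_index hF K (pst a)
      omega
    · exact ⟨h1.1, by rw [h1.2]; norm_num⟩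
  have hex := fun a b hab hna => (hexact a b hab hna).1
  obtain ⟨x, y, h, hx⟩ := exists_noncentre hF (by omega) hK
  obtain ⟨c, hc0, hcc, hc⟩ := exists_centre hF h hex
  obtain ⟨c', hcc'⟩ := exists_hyp_partner hF hc0 hcc
  obtain ⟨d, d', hd, hdc, hd120⟩ := exists_long_centre hF hcc' hK hc hex
  have hix := (hexact x y h hx).2
  have hsum : K.relIndex (pst x) + K.relIndex (pst d) ≤ K.index := by
    refine relIndex_add_le hF (by omega) K h hd fun g hg a e => hx ?_
    have h1 := H51.StabMax.ctr_group (H51.StabMax.ctr_smul hF hdc a) (inv_mem hg)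
    rwa [← e, suMat_inv_mulVec] at h1
  have horb := index_mul_orbit hF h (by omega) K
  rw [hix, hN] at horb
  norm_num at horb
  have hlo : 632 ≤ K.index := by omega
  generalize K.index = i at horb hlo hlt
  interval_cases i <;> omega

end H37.SUMin

namespace H37.SUMin

open Matrix Cfsg H50 H50.PointStab H50.RadFrame

universe u

variable {F : Type u} [Field F] [Fintype F] (hF : Fintype.card F = 2 ^ 2)
include hF

/-- The stabiliser of an anisotropic point. -/
theorem exists_anisoPt_stab {n : ℕ} (hn : 3 ≤ n) :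
    ∃ K : Subgroup (SU n F 2), Subgroup.center (SU n F 2) ≤ K ∧ K.index * 3 = normCount n 2 F 1 := by
  classical
  let i₀ : Fin n := ⟨0, by omega⟩
  set u : Fin n → F := Pi.single i₀ 1 with hu
  have huu : hermForm n F 2 u u = 1 := by rw [hu, h_single_single hF, if_pos rfl]
  have hu0 : u ≠ 0 := fun e => by rw [e, h_zero_left] at huu; exact zero_ne_one huu
  let K : Subgroup (SU n F 2) :=
    { carrier := {g | ∃ a : F, suMat g *ᵥ u = a • u}
      one_mem' := ⟨1, by rw [suMat_one, one_mulVec, one_smul]⟩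
      mul_mem' := by
        rintro g g' ⟨a, ha⟩ ⟨b, hb⟩
        exact ⟨b * a, by rw [suMat_mulVec_mul, hb, mulVec_smul, ha, smul_smul]⟩
      inv_mem' := by
        rintro g ⟨a, ha⟩
        have ha0 : a ≠ 0 := fun e => hu0 (suMat_injective g (by simp [ha, e]))
        refine ⟨a⁻¹, ?_⟩
        have h1 := suMat_inv_mulVec g u
        rw [ha, mulVec_smul] at h1
        calc suMat g⁻¹ *ᵥ u = a⁻¹ • (a • (suMat g⁻¹ *ᵥ u)) := (inv_smul_smul₀ ha0 _).symm
          _ = _ := by rw [h1] }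
  refine ⟨K, fun g hg => ?_, ?_⟩
  · obtain ⟨l, hl⟩ := (mem_center_iff_scalar hF (by omega)).1 hg
    exact ⟨l, by rw [hl, smul_mulVec, one_mulVec]⟩
  let H : Subgroup (SU n F 2) :=
    { carrier := {g | suMat g *ᵥ u = u}
      one_mem' := by show suMat 1 *ᵥ u = u; rw [suMat_one, one_mulVec]
      mul_mem' := fun {g g'} (hg : suMat g *ᵥ u = u) (hg' : suMat g' *ᵥ u = u) => by
        show suMat (g * g') *ᵥ u = u; rw [suMat_mulVec_mul, hg', hg]
      inv_mem' := fun {g} (hg : suMat g *ᵥ u = u) => by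
        show suMat g⁻¹ *ᵥ u = u; conv_lhs => rw [← hg, suMat_inv_mulVec] }
  have hiff : ∀ a b : SU n F 2, suMat a *ᵥ u = suMat b *ᵥ u ↔ a⁻¹ * b ∈ H := by
    intro a b
    show _ ↔ suMat (a⁻¹ * b) *ᵥ u = u
    rw [suMat_mulVec_mul]
    constructor
    · intro e; rw [← e, suMat_inv_mulVec]
    · intro e
      have := congrArg (fun v => suMat a *ᵥ v) e
      rwa [suMat_mulVec_inv, eq_comm] at this
  have hall := card_fibres ⊤ H (fun g => suMat g *ᵥ u) le_top fun a _ b _ => hiff a b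
  have hHK : H ≤ K := fun g hg => ⟨1, by rw [one_smul]; exact hg⟩
  have hKc := card_fibres K H (fun g => suMat g *ᵥ u) hHK fun a _ b _ => hiff a b
  have hreach : ∀ v : Fin n → F, hermForm n F 2 v v = 1 → ∃ g : SU n F 2, suMat g *ᵥ u = v := by
    intro v hv
    obtain ⟨g, hg⟩ := exists_SU_of_sameGram hF (b := fun _ : Unit => u) (b' := fun _ : Unit => v)
      (fun c hc => by
        have := hc ()
        simp [h_smul_left, huu] at this
        funext i
        exact this)
      (fun _ _ => huu.trans hv.symm) (by simp; omega)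
    exact ⟨g, hg ()⟩
  have hO : Nat.card ((fun g : SU n F 2 => suMat g *ᵥ u) '' ((⊤ : Subgroup (SU n F 2)) : Set (SU n F 2))) =
      normCount n 2 F 1 := by
    rw [normCount]
    refine Nat.card_congr (Equiv.subtypeEquivRight fun v => ⟨?_, fun hv => ?_⟩)
    · rintro ⟨g, -, rfl⟩; rw [suMat_h, huu]
    · obtain ⟨g, hg⟩ := hreach v hv; exact ⟨g, Subgroup.mem_top g, hg⟩
  have hK3 : Nat.card ((fun g : SU n F 2 => suMat g *ᵥ u) '' (K : Set (SU n F 2))) = 3 := by
    rw [show 3 = Fintype.card Fˣ by rw [Fintype.card_units, hF]; rfl, ← Nat.card_eq_fintype_card]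
    refine (Nat.card_eq_of_bijective (fun a : Fˣ => (⟨(a : F) • u, ?_⟩ :
      ((fun g : SU n F 2 => suMat g *ᵥ u) '' (K : Set (SU n F 2))))) ⟨?_, ?_⟩).symm
    · obtain ⟨g, hg⟩ := hreach ((a : F) • u) (by
        rw [h_smul_left, h_smul_right hF, huu, mul_one, ← pow_succ', four_cube hF a.ne_zero])
      exact ⟨g, ⟨_, hg⟩, hg⟩
    · intro a b e
      exact Units.ext (smul_left_injective F hu0 (congrArg Subtype.val e :))
    · rintro ⟨_, g, ⟨a, ha⟩, rfl⟩
      refine ⟨Units.mk0 a fun e => hu0 (suMat_injective g (by simp [ha, e])), Subtype.ext ?_⟩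
      exact ha.symm
  rw [hO, Subgroup.card_top, ← K.card_mul_index, hKc, hK3] at hall
  refine Nat.eq_of_mul_eq_mul_left (Nat.card_pos (α := H)) ?_
  linear_combination hall

theorem two_six_target {n : ℕ} (hn : 6 ∣ n) (hpos : 6 ≤ n) (K : Subgroup (SU n F 2)) (hK : K ≠ ⊤) :
    2 ^ (n - 1) * (2 ^ n - 1) / 3 ≤ K.index := by
  obtain ⟨m, rfl⟩ : ∃ m, n = m + 2 := ⟨n - 2, by omega⟩
  have hev : m % 2 = 0 := by obtain ⟨k, hk⟩ := hn; omega
  refine Nat.div_le_of_le_mul ?_
  rw [show m + 2 - 1 = m + 1 by omega]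
  rcases target_all hF m (by omega) (fun m₀ h h' => by
    obtain rfl : m₀ = 4 := by omega
    exact base_six_two hF) K hK with h1 | ⟨-, -, h1⟩
  · refine le_trans ?_ (Nat.mul_le_mul_left 3 h1)
    have h := card_isoPt_mul hF (n := m + 2)
    have h0 := q_mul_norm_zero_count hF (n := m + 2)
    rw [← h, (Nat.even_iff.2 (show (m + 2) % 2 = 0 by omega)).neg_one_pow] at h0
    have h4 : 1 ≤ 2 ^ (m + 2) := Nat.one_le_two_pow
    zify [h4] at h0 ⊢
    push_cast [Nat.cast_sub (show 1 ≤ 2 ^ 2 by norm_num)] at h0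
    have e : (2 : ℤ) ^ (2 * (m + 2)) = 2 * (2 ^ (m + 1) * 2 ^ (m + 2)) := by ring
    have e2 : (2 : ℤ) ^ (m + 2) = 2 * 2 ^ (m + 1) := by ring
    have hp : (1 : ℤ) ≤ 2 ^ (m + 1) := one_le_pow₀ (by norm_num)
    rw [mul_sub, mul_one]
    linarith
  · exact h1

end H37.SUMin
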