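import Mathlib
import Cfsg.Agent.H37.SUFlag
import Cfsg.Agent.H39.PronormalPSL

/-!
Overgroups of a Sylow subgroup normalized by its normalizer, and antidiagonal frames in characteristic two.
-/

set_option autoImplicit false

namespace H37.SUF

open Subgroup
open H73 (cj cj_cj cj_mono cj_one mem_cj cj_of_mem)

section generic

variable {G : Type*} [Group G] [Finite G]

/-- If every element of `N(U)` is, modulo `U`, in the normalizer of any given conjugate of `U`, and
`N(U)/U` is abelian, then `N(U)` normalizes all overgroups of the Sylow subgroup `U`. -/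
theorem normalizer_le_of_factor {p : ℕ} [Fact p.Prime] (U : Sylow p G)
    (hfac : ∀ g : G, ∀ x ∈ normalizer ((U : Subgroup G) : Set G), ∃ u ∈ (U : Subgroup G),
      u⁻¹ * x ∈ normalizer ((cj g (U : Subgroup G)) : Set G))
    (hab : ∀ x ∈ normalizer ((U : Subgroup G) : Set G), ∀ y ∈ normalizer ((U : Subgroup G) : Set G),
      x * y * x⁻¹ * y⁻¹ ∈ (U : Subgroup G))
    {H : Subgroup G} (hUH : (U : Subgroup G) ≤ H) :
    normalizer ((U : Subgroup G) : Set G) ≤ normalizer (H : Set G) := by
  set L : Subgroup G := ⨆ h : H, cj (h : G) (U : Subgroup G) with hL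
  have hUL : (U : Subgroup G) ≤ L := by
    refine le_trans ?_ (le_iSup _ ⟨1, H.one_mem⟩)
    rw [cj_one]
  have hLH : L ≤ H := iSup_le fun h => H73.cj_le_of_mem h.2 hUH
  have hxL : ∀ x ∈ normalizer ((U : Subgroup G) : Set G), cj x L ≤ L := by
    intro x hx
    rw [hL, cj, Subgroup.map_iSup]
    refine iSup_le fun h => ?_
    obtain ⟨u, hu, hu'⟩ := hfac (h : G) x hx
    show cj x (cj (h : G) (U : Subgroup G)) ≤ L
    rw [show x = u * (u⁻¹ * x) by rw [mul_inv_cancel_left], ← cj_cj _ (u⁻¹ * x),
      H73.mem_normalizer_iff_cj.1 hu']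
    exact H73.cj_le_of_mem (hUL hu) (le_iSup (fun h : H => cj (h : G) (U : Subgroup G)) h)
  have key : ∀ x ∈ normalizer ((U : Subgroup G) : Set G), cj x H ≤ H := by
    intro x hx z hz
    obtain ⟨h, hh, rfl⟩ := hz
    show x * h * x⁻¹ ∈ H
    have hsylL : H73.SylIn p (U : Subgroup G) L :=
      (H73.sylIn_top U).of_le hUL le_top
    obtain ⟨l, hl, hle⟩ := hsylL.exists_conj_le (P := cj h (U : Subgroup G)) (U.isPGroup'.map _)
      (le_iSup (fun h : H => cj (h : G) (U : Subgroup G)) ⟨h, hh⟩)
    rw [cj_cj] at hle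
    have hy : l * h ∈ normalizer ((U : Subgroup G) : Set G) :=
      H73.mem_normalizer_iff_cj.mpr (eq_of_le_of_card_ge hle (H73.card_cj _ _).ge)
    have e1 : x * l⁻¹ * x⁻¹ ∈ H := hLH (hxL x hx ⟨l⁻¹, L.inv_mem hl, rfl⟩)
    have e2 : x * (l * h) * x⁻¹ * (l * h)⁻¹ ∈ H := hUH (hab x hx _ hy)
    have e3 := H.mul_mem e1 (H.mul_mem e2 (H.mul_mem (hLH hl) hh))
    simpa [mul_assoc] using e3
  intro x hx
  exact H73.mem_normalizer_iff_cj.mpr (eq_of_le_of_card_ge (key x hx) (H73.card_cj _ _).ge)

end generic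

open Matrix Cfsg H50

/-- In characteristic two an antidiagonal frame exists in even dimension. -/
theorem exists_frame_char_two {F : Type*} [Field F] [Fintype F] [CharP F 2] {n q : ℕ}
    (hF : Fintype.card F = q ^ 2) (hn : Even n) : ∃ b : Fin n → Fin n → F, Frame q b := by
  classical
  obtain ⟨k, rfl⟩ := hn
  obtain ⟨μ, hμ⟩ := exists_trace_eq hF (c := (1 : F)) (one_pow q)
  have hμ' : μ ^ q = 1 + μ := by
    linear_combination hμ - (CharTwo.add_self_eq_zero μ : μ + μ = 0)
  have h2 : (2 : F) = 0 := CharTwo.two_eq_zero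
  let a : Fin (k + k) → Fin (k + k) := fun l =>
    ⟨2 * min (l : ℕ) (l.rev : ℕ), by have := l.2; simp only [Fin.val_rev]; omega⟩
  let a' : Fin (k + k) → Fin (k + k) := fun l =>
    ⟨2 * min (l : ℕ) (l.rev : ℕ) + 1, by have := l.2; simp only [Fin.val_rev]; omega⟩
  let A : Fin (k + k) → F := fun l => if (l : ℕ) < k then 1 else μ
  let B : Fin (k + k) → F := fun l => if (l : ℕ) < k then 1 else 1 + μ
  refine ⟨fun l => A l • Pi.single (a l) 1 + B l • Pi.single (a' l) 1, fun i j => ?_⟩
  simp only [h_add_left, h_add_right hF, h_smul_left, h_smul_right hF, h_single_single hF]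
  have hi := i.2
  have hj := j.2
  have n1 : a i ≠ a' j := by simp only [a, a', ne_eq, Fin.ext_iff]; omega
  have n2 : a' i ≠ a j := by simp only [a, a', ne_eq, Fin.ext_iff]; omega
  rw [if_neg n1, if_neg n2]
  by_cases hij : a i = a j
  · have hij' : a' i = a' j := by
      simp only [a, a', Fin.ext_iff] at hij ⊢; omega
    rw [if_pos hij, if_pos hij']
    have hcase : j = i ∨ j = i.rev := by
      simp only [a, Fin.ext_iff, Fin.val_rev] at hij ⊢; omega
    rcases hcase with e | e <;> subst e
    · have hne : j ≠ j.rev := by simp only [ne_eq, Fin.ext_iff, Fin.val_rev]; omega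
      rw [if_neg hne]
      by_cases h : (j : ℕ) < k
      · simp [A, B, h, CharTwo.add_self_eq_zero]
      · simp only [A, B, if_neg h, add_pow_q hF, one_pow, hμ']
        linear_combination (μ * μ + 2 * μ + 1) * h2
    · rw [if_pos rfl]
      by_cases h : (i : ℕ) < k
      · have h' : ¬ (i.rev : ℕ) < k := by simp only [Fin.val_rev]; omega
        simp only [A, B, if_pos h, if_neg h', add_pow_q hF, one_pow, hμ']
        linear_combination (μ + 1) * h2
      · have h' : (i.rev : ℕ) < k := by simp only [Fin.val_rev]; omega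
        simp only [A, B, if_neg h, if_pos h', one_pow]
        linear_combination μ * h2
  · have hij' : a' i ≠ a' j := by
      simp only [a, a', ne_eq, Fin.ext_iff] at hij ⊢; omega
    have hne : ¬ j = i.rev := by
      intro e
      apply hij
      simp only [a, Fin.ext_iff, e, Fin.val_rev]
      omega
    rw [if_neg hij, if_neg hij', if_neg hne]
    ring

end H37.SUF
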