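import Mathlib
import Cfsg.Agent.H39.SylowWreath
import Cfsg.Agent.H50.Transvection
import Cfsg.Agent.H51.Herm
import Cfsg.Agent.H89.PSL2Inv

/-!
Sylow 2-subgroups of `GU_n(q)` and `SU_n(q)`, `q` odd, `n ≥ 4` a power of two: self-normalizing in `SU_n(q)`.
-/

set_option autoImplicit false
set_option linter.unusedSectionVars false

namespace H37.SUW

open Matrix Cfsg H39

variable {F : Type*} [Field F] [Fintype F] {q : ℕ}

theorem odd_q (hodd : Odd (Fintype.card F)) (hF : Fintype.card F = q ^ 2) : Odd q := by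
  rw [hF, Nat.odd_pow_iff two_ne_zero] at hodd
  exact hodd

section val

variable (hq : 1 < q) (hodd : Odd q)
include hq hodd

theorem val_pow_add_one_odd {i : ℕ} (hi : Odd i) :
    (q ^ i + 1).factorization 2 + (q - 1).factorization 2 = (q ^ 2 - 1).factorization 2 := by
  have h1 := H18.val_pow_sub_one_odd hq hodd hi
  have hi0 : i ≠ 0 := by rcases hi with ⟨k, rfl⟩; omega
  have h2 := H18.val_pow_sub_one_even hq hodd hi0
  have h3 : i.factorization 2 = 0 := Nat.factorization_eq_zero_of_not_dvd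
    fun h => Nat.not_even_iff_odd.2 hi (even_iff_two_dvd.2 h)
  have h4 : 1 < q ^ i := Nat.one_lt_pow hi0 hq
  have h5 : q ^ (2 * i) - 1 = (q ^ i + 1) * (q ^ i - 1) := by
    rw [← Nat.sq_sub_sq (q ^ i) 1, ← pow_mul, mul_comm i 2, one_pow]
  rw [h5, Nat.factorization_mul (by omega) (by omega), Finsupp.add_apply, h3, h1] at h2
  omega

/-- The 2-part of a factor of the order of the unitary group. -/
def fac (q i : ℕ) : ℕ := if Even i then q ^ (i + 1) + 1 else q ^ (i + 1) - 1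

theorem sum_val_fac (m : ℕ) :
    ∑ i ∈ Finset.range (2 * m), (fac q i).factorization 2 + m * (q - 1).factorization 2 =
      2 * m * (q ^ 2 - 1).factorization 2 + m.factorial.factorization 2 := by
  induction m with
  | zero => simp
  | succ m ih =>
    have h1 := val_pow_add_one_odd hq hodd (i := 2 * m + 1) ⟨m, rfl⟩
    have h2 := H18.val_pow_sub_one_even hq hodd (Nat.succ_ne_zero m)
    have h3 := H18.val_factorial_succ m
    rw [Nat.mul_succ, Finset.sum_range_succ, Finset.sum_range_succ, fac, fac,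
      if_pos (even_two_mul m), if_neg (by simp), show 2 * m + 1 + 1 = 2 * m.succ by omega]
    simp only [Nat.succ_eq_add_one, mul_add, add_mul, one_mul, mul_one, show (1 + 1 : ℕ) = 2 from rfl] at *
    omega

end val

variable (hF : Fintype.card F = q ^ 2)
include hF

theorem val_card_GU (hodd : Odd (Fintype.card F)) (n : ℕ) :
    (Nat.card (GU n F q)).factorization 2 = ∑ i ∈ Finset.range n, (fac q i).factorization 2 := by
  have hq := H51.one_lt_q hF
  have hoq := odd_q hodd hF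
  have hne : ∀ i ∈ Finset.range n, fac q i ≠ 0 := fun i _ => by
    have := Nat.one_lt_pow (Nat.succ_ne_zero i) hq
    simp only [Nat.succ_eq_add_one] at this
    unfold fac
    split_ifs <;> omega
  rw [H50.card_GU hF]
  show (q ^ (n * (n - 1) / 2) * ∏ i ∈ Finset.range n, fac q i).factorization 2 = _
  rw [Nat.factorization_mul (pow_ne_zero _ (by omega)) (Finset.prod_ne_zero_iff.2 hne), Finsupp.add_apply,
    Nat.factorization_eq_zero_of_not_dvd (fun h => Nat.not_even_iff_odd.2 hoq.pow (even_iff_two_dvd.2 h)),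
    zero_add, H18.val_prod _ _ hne]

theorem val_card_double (hodd : Odd (Fintype.card F)) (j : ℕ) :
    (Nat.card (GU (2 ^ (j + 2)) F q)).factorization 2 =
      2 * (Nat.card (GU (2 ^ (j + 1)) F q)).factorization 2 + 1 := by
  have hq := H51.one_lt_q hF
  have hoq := odd_q hodd hF
  rw [val_card_GU hF hodd, val_card_GU hF hodd]
  have a := sum_val_fac hq hoq (2 ^ (j + 1))
  have b := sum_val_fac hq hoq (2 ^ j)
  rw [show 2 * 2 ^ (j + 1) = 2 ^ (j + 2) by ring] at a
  rw [show 2 * 2 ^ j = 2 ^ (j + 1) by ring] at b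
  have h1 := Wr.val_factorial_two_pow (j + 1)
  have h2 := Wr.val_factorial_two_pow j
  have e1 : 2 ^ (j + 1) = 2 * 2 ^ j := pow_succ' 2 j
  have e2 : 2 ^ (j + 2) = 2 * 2 ^ (j + 1) := pow_succ' 2 (j + 1)
  have e3 : 2 ^ (j + 1) * (q - 1).factorization 2 = 2 * (2 ^ j * (q - 1).factorization 2) := by
    rw [e1]; ring
  have e4 : 2 ^ (j + 2) * (q ^ 2 - 1).factorization 2 = 2 * (2 ^ (j + 1) * (q ^ 2 - 1).factorization 2) := by
    rw [e2]; ring
  omega

theorem neg_one_mem_GU {n : ℕ} : (-1 : GL (Fin n) F) ∈ GU n F q := by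
  rw [H51.mem_GU_iff hF, Units.val_neg, Units.val_one, H51.adj_neg, H51.adj_one, neg_mul_neg, one_mul]

theorem neg_one_mem_sylow {n : ℕ} (P : Sylow 2 (GU n F q)) :
    (-1 : GL (Fin n) F) ∈ (P : Subgroup (GU n F q)).map (GU n F q).subtype := by
  haveI : Fact (Nat.Prime 2) := ⟨Nat.prime_two⟩
  set z : GU n F q := ⟨-1, neg_one_mem_GU hF⟩
  have hz : ∀ g : GU n F q, Commute g z := fun g => Subtype.ext (by simp [z])
  have hp : IsPGroup 2 (Subgroup.zpowers z) := by
    rintro ⟨y, k, rfl⟩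
    refine ⟨1, Subtype.ext ?_⟩
    show (z ^ k) ^ 2 ^ 1 = 1
    rw [pow_one, sq, ← _root_.zpow_add, ← two_mul, _root_.zpow_mul]
    have : z ^ (2 : ℤ) = 1 := Subtype.ext (by simp [z])
    rw [this, _root_.one_zpow]
  haveI : (Subgroup.zpowers z).Normal := by
    constructor
    rintro _ ⟨k, rfl⟩ g
    refine ⟨k, ?_⟩
    show z ^ k = g * z ^ k * g⁻¹
    rw [((hz g).zpow_right k).eq, mul_inv_cancel_right]
  obtain ⟨Q, hQ⟩ := hp.exists_le_sylow
  obtain ⟨c, hc⟩ := MulAction.exists_smul_eq (GU n F q) Q P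
  refine ⟨z, ?_, rfl⟩
  rw [← hc]
  refine ⟨z, hQ (Subgroup.mem_zpowers z), ?_⟩
  show c * z * c⁻¹ = z
  rw [(hz c).eq, mul_inv_cancel_right]

theorem good_transport {n : ℕ} {k : ℕ} {W P : Sylow 2 (GU n F q)}
    (h : Wr.Good k ((W : Subgroup (GU n F q)).map (GU n F q).subtype)) :
    Wr.Good k ((P : Subgroup (GU n F q)).map (GU n F q).subtype) := by
  haveI : Fact (Nat.Prime 2) := ⟨Nat.prime_two⟩
  obtain ⟨g, hg⟩ := MulAction.exists_smul_eq (GU n F q) W P
  have := h.map (Wr.conjAlg (g : GL (Fin n) F)) (Wr.det_conjAlg _)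
  rw [Wr.glMap_conjAlg] at this
  have e : (P : Subgroup (GU n F q)).map (GU n F q).subtype =
      ((W : Subgroup (GU n F q)).map (GU n F q).subtype).map (MulAut.conj (g : GL (Fin n) F)).toMonoidHom := by
    rw [← hg]
    ext x
    constructor
    · rintro ⟨_, ⟨w, hw, rfl⟩, rfl⟩
      exact ⟨w, ⟨w, hw, rfl⟩, rfl⟩
    · rintro ⟨_, ⟨w, hw, rfl⟩, rfl⟩
      exact ⟨_, ⟨w, hw, rfl⟩, rfl⟩
  rw [e]
  exact this

theorem good_two (hodd : Odd (Fintype.card F)) :
    ∃ W : Sylow 2 (GU 2 F q), Wr.Good 1 ((W : Subgroup (GU 2 F q)).map (GU 2 F q).subtype) := by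
  classical
  haveI : Fact (Nat.Prime 2) := ⟨Nat.prime_two⟩
  have h2 := H67.two_ne_zero_of_odd_card (F := F) hodd
  have hoq := odd_q hodd hF
  -- two anticommuting unitary matrices of determinant one
  obtain ⟨θ, hθ0, hθ⟩ : ∃ θ : F, θ ≠ 0 ∧ θ + θ ^ q = 0 := by
    obtain ⟨x, hx⟩ := H50.exists_trace_zero_ne_zero hF
    first
      | exact ⟨x, hx.1, hx.2⟩
      | exact ⟨x, hx.2, hx.1⟩
  let K := (RingHom.eqLocusField (H51.qFrob hF) (RingHom.id F))
  have hθ' : θ ^ q = -θ := eq_neg_of_add_eq_zero_right hθ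
  have hc : (-1 / θ ^ 2) ∈ K := by
    show (-1 / θ ^ 2 : F) ^ q = -1 / θ ^ 2
    rw [div_pow, hoq.neg_one_pow, ← pow_mul, mul_comm 2 q, pow_mul, hθ', neg_sq]
  have hmem : ∀ u : K, ((u : F)) ^ q = u := fun u => u.2
  obtain ⟨u, v, huv⟩ : ∃ u v : K, u ^ 2 + v ^ 2 = ⟨-1 / θ ^ 2, hc⟩ := by
    haveI : Fintype K := Fintype.ofFinite K
    obtain ⟨u, v, h⟩ := H89.exists_sq_add_sq (F := K) ⟨-1 / θ ^ 2, hc⟩
    exact ⟨u, v, by rw [sq, sq]; exact h⟩
  have hF2 : ((u : F)) ^ 2 + (v : F) ^ 2 = -1 / θ ^ 2 := congrArg Subtype.val huv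
  set a : F := θ * u with ha
  set b : F := θ * v with hb
  have haq : a ^ q = -a := by rw [ha, mul_pow, hθ', hmem]; ring
  have hbq : b ^ q = -b := by rw [hb, mul_pow, hθ', hmem]; ring
  have hab : a * a + b * b = -1 := by
    rw [ha, hb, show θ * u * (θ * u) + θ * v * (θ * v) = θ ^ 2 * ((u : F) ^ 2 + (v : F) ^ 2) by ring,
      hF2, mul_div_cancel₀ _ (pow_ne_zero 2 hθ0)]
  have h0q : (0 : F) ^ q = 0 := zero_pow hoq.pos.ne'
  have hn1 : (-1 : F) ^ q = -1 := hoq.neg_one_pow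
  let w : GL (Fin 2) F := H51.mkGL hF !![0, 1; -1, 0] (by
    ext i j
    fin_cases i <;> fin_cases j <;> simp [Matrix.mul_apply, Fin.sum_univ_two, h0q, hn1])
  let h : GL (Fin 2) F := H51.mkGL hF !![a, b; b, -a] (by
    ext i j
    fin_cases i <;> fin_cases j <;>
      simp [Matrix.mul_apply, Fin.sum_univ_two, haq, hbq, H51.neg_pow_q hF] <;>
      first | linear_combination -hab | linear_combination hab | ring1)
  have hwv : (w : Matrix (Fin 2) (Fin 2) F) = !![0, 1; -1, 0] := rfl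
  have hhv : (h : Matrix (Fin 2) (Fin 2) F) = !![a, b; b, -a] := rfl
  have hw2 : w * w = -1 := Units.ext (by
    rw [Units.val_mul, Units.val_neg, Units.val_one, hwv]
    ext i j; fin_cases i <;> fin_cases j <;> simp [Matrix.mul_apply, Fin.sum_univ_two])
  have hh2 : h * h = -1 := Units.ext (by
    rw [Units.val_mul, Units.val_neg, Units.val_one, hhv]
    ext i j
    fin_cases i <;> fin_cases j <;> simp [Matrix.mul_apply, Fin.sum_univ_two] <;>
      first | linear_combination hab | linear_combination -hab | ring1)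
  have hwh : h * w * h⁻¹ = w⁻¹ := by
    have e : h * w = -(w * h) := Units.ext (by
      rw [Units.val_mul, Units.val_neg, Units.val_mul, hwv, hhv]
      ext i j; fin_cases i <;> fin_cases j <;> simp [Matrix.mul_apply, Fin.sum_univ_two])
    have e2 : w⁻¹ = -w := inv_eq_of_mul_eq_one_right (by rw [mul_neg, hw2, neg_neg])
    rw [e, e2, ← neg_mul, mul_inv_cancel_right]
  have hp4 : ∀ x : GL (Fin 2) F, x * x = -1 → IsPGroup 2 (Subgroup.zpowers x) := by
    intro x hx
    rintro ⟨y, k, rfl⟩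
    refine ⟨2, Subtype.ext ?_⟩
    show (x ^ k) ^ 2 ^ 2 = 1
    have h4 : x ^ 4 = 1 := by
      rw [show 4 = 2 * 2 from rfl, pow_mul, sq x, hx, sq, neg_mul_neg, one_mul]
    rw [← zpow_natCast, ← _root_.zpow_mul, mul_comm, _root_.zpow_mul, zpow_natCast,
      show (2 : ℕ) ^ 2 = 4 from rfl, h4, _root_.one_zpow]
  have hQp : IsPGroup 2 (Subgroup.zpowers w ⊔ Subgroup.zpowers h : Subgroup (GL (Fin 2) F)) := by
    refine IsPGroup.to_sup_of_normal_left' (hp4 w hw2) (hp4 h hh2) ?_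
    rw [Subgroup.zpowers_le, Subgroup.mem_normalizer_iff_map_conj_eq, MonoidHom.map_zpowers]
    show Subgroup.zpowers (h * w * h⁻¹) = _
    rw [hwh, Subgroup.zpowers_inv]
  have hQle : Subgroup.zpowers w ⊔ Subgroup.zpowers h ≤ GU 2 F q :=
    sup_le (Subgroup.zpowers_le.2 (H51.mkGL_mem hF _ _)) (Subgroup.zpowers_le.2 (H51.mkGL_mem hF _ _))
  obtain ⟨W, hW⟩ := (hQp.comap_subtype (K := GU 2 F q)).exists_le_sylow
  have hWmem : ∀ x ∈ Subgroup.zpowers w ⊔ Subgroup.zpowers h,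
      x ∈ (W : Subgroup (GU 2 F q)).map (GU 2 F q).subtype :=
    fun x hx => ⟨⟨x, hQle hx⟩, hW hx, rfl⟩
  have hwm : w ∈ (W : Subgroup (GU 2 F q)).map (GU 2 F q).subtype ⊓ Wr.detOne (Fin 2) F :=
    ⟨hWmem _ (Subgroup.mem_sup_left (Subgroup.mem_zpowers w)), Wr.mem_detOne.2 (by
      rw [hwv, det_fin_two]; simp)⟩
  have hhm : h ∈ (W : Subgroup (GU 2 F q)).map (GU 2 F q).subtype ⊓ Wr.detOne (Fin 2) F :=
    ⟨hWmem _ (Subgroup.mem_sup_right (Subgroup.mem_zpowers h)), Wr.mem_detOne.2 (by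
      rw [hhv, det_fin_two]; simp; linear_combination -hab)⟩
  have hI : Wr.Irr ((W : Subgroup (GU 2 F q)).map (GU 2 F q).subtype) := by
    intro M hM
    refine Wr.scalar_of_commute_two (hM _ hwm) (hM _ hhm) fun hc => ?_
    rw [hwv, hhv] at hc
    have e1 := congrFun (congrFun hc 0) 0
    have e2 := congrFun (congrFun hc 0) 1
    simp [Matrix.mul_apply, Fin.sum_univ_two] at e1 e2
    have hb0 : b = 0 := by
      by_contra hb0
      exact h2 (mul_left_cancel₀ hb0 (by linear_combination e1))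
    have ha0 : a = 0 := by
      by_contra ha0
      exact h2 (mul_left_cancel₀ ha0 (by first | linear_combination e2 | linear_combination -e2))
    rw [ha0, hb0] at hab
    simp at hab
  refine ⟨W, hI, ?_, fun h => absurd h (by norm_num)⟩
  obtain ⟨h1, h3⟩ := H67.gu2_sylow q hF hoq W
  have hrig : H89.OddRigid ((W : Subgroup (GU 2 F q)).map (GU 2 F q).subtype) := by
    refine H89.oddRigid_equiv
      (Subgroup.equivMapOfInjective (W : Subgroup (GU 2 F q)) _ (GU 2 F q).subtype_injective) ?_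
    have h4 : q % 4 = 1 ∨ q % 4 = 3 := by
      have := Nat.odd_iff.1 hoq
      omega
    rcases h4 with h | h
    · obtain ⟨n, x, y, hQ⟩ := H67.exists_QD (h1 h)
      exact H89.oddRigid_qd hQ
    · obtain ⟨n, x, y, z, hQ⟩ := H67.exists_WR (h3 h)
      exact H89.oddRigid_wr hQ
  intro g ho hg
  have hc := H89.oddNormalizerTrivial_of_rigid hrig g hg (orderOf g) ho (pow_orderOf_eq_one g)
  refine hI _ fun c hc' => ?_
  rw [← Units.val_mul, ← Units.val_mul]
  exact congrArg Units.val (mul_inv_eq_iff_eq_mul.1 (hc c hc'.1))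

/-- Sylow 2-subgroups of `GU_{2^(k+1)}(q)`. -/
theorem good_sylow (hodd : Odd (Fintype.card F)) :
    ∀ (k : ℕ) (P : Sylow 2 (GU (2 ^ (k + 1)) F q)),
      Wr.Good (k + 1) ((P : Subgroup (GU (2 ^ (k + 1)) F q)).map (GU (2 ^ (k + 1)) F q).subtype) := by
  classical
  haveI : Fact (Nat.Prime 2) := ⟨Nat.prime_two⟩
  have h2 := H67.two_ne_zero_of_odd_card (F := F) hodd
  intro k
  induction k with
  | zero =>
    intro P
    obtain ⟨W, hW⟩ := good_two hF hodd
    exact good_transport hF hW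
  | succ j ih =>
    intro P
    set ι := Fin (2 ^ (j + 1))
    let W : Sylow 2 (GU (2 ^ (j + 1)) F q) := default
    set Wm := (W : Subgroup (GU (2 ^ (j + 1)) F q)).map (GU (2 ^ (j + 1)) F q).subtype with hWm
    obtain ⟨hI, hR, -⟩ := ih W
    have h2j : 2 ≤ 2 ^ (j + 1) := Nat.le_self_pow (Nat.succ_ne_zero j) 2
    have he : Even (Fintype.card ι) := by
      rw [Fintype.card_fin]
      exact Nat.even_pow.2 ⟨even_two, Nat.succ_ne_zero j⟩
    haveI : Nontrivial ι := Fin.nontrivial_iff_two_le.2 h2j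
    have hneg : (-1 : GL ι F) ∈ Wm := neg_one_mem_sylow hF W
    have hWp : IsPGroup 2 Wm := W.2.map _
    have hU : ∃ c ∈ Wm ⊓ Wr.detOne ι F, c ≠ 1 ∧ c ≠ -1 := by
      by_contra hc
      push Not at hc
      obtain ⟨i, o, hio⟩ := exists_pair_ne ι
      obtain ⟨a, ha⟩ := hI (Matrix.single i o 1) fun c hcW => by
        by_cases h1 : c = 1
        · simp [h1]
        · rw [hc c hcW h1]; simp
      have := congrFun (congrFun ha i) o
      simp [hio] at this
    have hI' := Wr.irr_wr h2 he hI hneg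
    have hR' := Wr.rig_wr_aux h2 he hI hR hWp hneg hU
    have hG : Wr.Good (j + 1 + 1) (Wr.wr Wm) := ⟨hI', Wr.Rig.of_detOne hR', fun _ => hR'⟩
    let e := (finSumFinEquiv (m := 2 ^ (j + 1)) (n := 2 ^ (j + 1))).trans
        (finCongr (show 2 ^ (j + 1) + 2 ^ (j + 1) = 2 ^ (j + 1 + 1) by ring))
    let f := Matrix.reindexAlgEquiv F F e
    have hG' := hG.map f (fun A => Matrix.det_reindexAlgEquiv F F _ A)
    set W2 := (Wr.wr Wm).map (Wr.glMap f).toMonoidHom with hW2
    have hadj : ∀ a c : GL ι F, a ∈ Wm → c ∈ Wm →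
        Wr.glMap f (Wr.pairHom ι F (a, c)) ∈ GU (2 ^ (j + 1 + 1)) F q := by
      intro a c ha hc
      obtain ⟨⟨a', ha'⟩, -, rfl⟩ := ha
      obtain ⟨⟨c', hc'⟩, -, rfl⟩ := hc
      have ea := (H51.mem_GU_iff hF a').1 ha'
      have ec := (H51.mem_GU_iff hF c').1 hc'
      rw [H51.mem_GU_iff hF, Wr.glMap_val, Wr.pairHom_val]
      have hb : H51.adj hF (fromBlocks (a' : Matrix ι ι F) 0 0 (c' : Matrix ι ι F)) =
          fromBlocks (H51.adj hF (a' : Matrix ι ι F)) 0 0 (H51.adj hF (c' : Matrix ι ι F)) := by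
        ext (i | i) (l | l) <;> simp [zero_pow (H51.q_pos hF).ne']
      show H51.adj hF (Matrix.reindex e e _) * f _ = 1
      rw [H51.adj_reindex, ← Matrix.coe_reindexLinearEquiv F F]
      show f (H51.adj hF (fromBlocks (a' : Matrix ι ι F) 0 0 (c' : Matrix ι ι F))) * f _ = 1
      rw [← map_mul, hb, fromBlocks_multiply]
      simp only [mul_zero, zero_mul, add_zero, zero_add]
      show f (fromBlocks (H51.adj hF (a' : Matrix ι ι F) * (a' : Matrix ι ι F)) 0 0
        (H51.adj hF (c' : Matrix ι ι F) * (c' : Matrix ι ι F))) = 1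
      rw [ea, ec, fromBlocks_one, map_one]
    have hsw : Wr.glMap f (Wr.swapEl ι F) ∈ GU (2 ^ (j + 1 + 1)) F q := by
      rw [H51.mem_GU_iff hF, Wr.glMap_val, Wr.swapEl_val]
      have hb : H51.adj hF (fromBlocks (0 : Matrix ι ι F) (1 : Matrix ι ι F) (1 : Matrix ι ι F) (0 : Matrix ι ι F)) =
          fromBlocks (0 : Matrix ι ι F) (1 : Matrix ι ι F) (1 : Matrix ι ι F) (0 : Matrix ι ι F) := by
        ext (i | i) (l | l) <;>
          simp [Matrix.one_apply, zero_pow (H51.q_pos hF).ne', eq_comm]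
      show H51.adj hF (Matrix.reindex e e _) * f _ = 1
      rw [H51.adj_reindex, ← Matrix.coe_reindexLinearEquiv F F]
      show f (H51.adj hF (fromBlocks (0 : Matrix ι ι F) (1 : Matrix ι ι F) (1 : Matrix ι ι F) (0 : Matrix ι ι F))) * f _ = 1
      rw [← map_mul, hb, fromBlocks_multiply]
      simp [fromBlocks_one]
    have hle : W2 ≤ GU (2 ^ (j + 1 + 1)) F q := by
      rintro _ ⟨x, ⟨a, ha, c, hc, rfl | rfl⟩, rfl⟩
      · exact hadj a c ha hc
      · show Wr.glMap f (_ * _) ∈ _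
        rw [map_mul]
        exact Subgroup.mul_mem _ (hadj a c ha hc) hsw
    have hcard : Nat.card (W2.subgroupOf (GU (2 ^ (j + 1 + 1)) F q)) =
        2 ^ (Nat.card (GU (2 ^ (j + 1 + 1)) F q)).factorization 2 := by
      rw [Nat.card_congr (Subgroup.subgroupOfEquivOfLe hle).toEquiv]
      show Nat.card ((Wr.wr Wm).map (Wr.glMap f).toMonoidHom) = _
      rw [Subgroup.card_map_of_injective (f := (Wr.glMap f).toMonoidHom) (Wr.glMap f).injective,
        Wr.card_wr, hWm, Subgroup.card_map_of_injective (GU (2 ^ (j + 1)) F q).subtype_injective,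
        W.card_eq_multiplicity, val_card_double hF hodd j]
      ring
    refine good_transport hF (W := Sylow.ofCard _ hcard) ?_
    rw [Sylow.coe_ofCard, Subgroup.map_subgroupOf_eq_of_le hle]
    exact hG'

/-- The Sylow 2-subgroups of `SU_{2^w}(q)`, `q` odd, `w ≥ 2`, are self-normalizing. -/
theorem sylow_SU_self_normalizing (hodd : Odd (Fintype.card F)) (w : ℕ) (hw : 2 ≤ w)
    (S : Sylow 2 (SU (2 ^ w) F q)) :
    Subgroup.normalizer ((S : Subgroup (SU (2 ^ w) F q)) : Set (SU (2 ^ w) F q)) =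
      (S : Subgroup (SU (2 ^ w) F q)) := by
  classical
  haveI : Fact (Nat.Prime 2) := ⟨Nat.prime_two⟩
  obtain ⟨k, rfl⟩ : ∃ k, w = k + 1 := ⟨w - 1, by omega⟩
  let f : SU (2 ^ (k + 1)) F q →* GL (Fin (2 ^ (k + 1))) F :=
    Matrix.SpecialLinearGroup.toGL.comp (SU (2 ^ (k + 1)) F q).subtype
  have hf : Function.Injective f :=
    Matrix.SpecialLinearGroup.toGL_injective.comp (SU (2 ^ (k + 1)) F q).subtype_injective
  have hfGU : ∀ y, f y ∈ GU (2 ^ (k + 1)) F q := fun y => y.2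
  obtain ⟨P, hP⟩ := ((S.isPGroup'.map f).comap_subtype (K := GU (2 ^ (k + 1)) F q)).exists_le_sylow
  set Pm := (P : Subgroup (GU (2 ^ (k + 1)) F q)).map (GU (2 ^ (k + 1)) F q).subtype
  have hSP : (S : Subgroup (SU (2 ^ (k + 1)) F q)).map f ≤ Pm := by
    rintro _ ⟨y, hy, rfl⟩
    exact ⟨⟨f y, hfGU y⟩, hP (show (⟨f y, hfGU y⟩ : GU (2 ^ (k + 1)) F q) ∈ ((S : Subgroup (SU (2 ^ (k + 1)) F q)).map f).comap (GU (2 ^ (k + 1)) F q).subtype from ⟨y, hy, rfl⟩), rfl⟩
  have hmap : (S : Subgroup (SU (2 ^ (k + 1)) F q)).map f = Pm ⊓ Wr.detOne (Fin (2 ^ (k + 1))) F := by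
    refine le_antisymm (le_inf hSP ?_) ?_
    · rintro _ ⟨y, -, rfl⟩
      exact Wr.mem_detOne.2 y.1.2
    · rintro x ⟨hx, hxd⟩
      obtain ⟨⟨x', hxGU⟩, -, rfl⟩ := id hx
      let y : SU (2 ^ (k + 1)) F q := H50.mkSU (x' : Matrix (Fin (2 ^ (k + 1))) (Fin (2 ^ (k + 1))) F)
        (H50.mem_GU.1 hxGU) (Wr.mem_detOne.1 hxd)
      have hy : f y = x' := Units.ext rfl
      refine ⟨y, ?_, hy⟩
      have hp : IsPGroup 2 (Pm.comap f) :=
        (P.isPGroup'.map _).comap_of_injective f hf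
      have := S.is_maximal' hp (fun z hz => hSP ⟨z, hz, rfl⟩)
      exact this.le (show f y ∈ Pm by rw [hy]; exact hx)
  obtain ⟨-, -, hrig⟩ := good_sylow hF hodd k P
  have hcent : ∀ g ∈ Subgroup.normalizer
      ((S : Subgroup (SU (2 ^ (k + 1)) F q)) : Set (SU (2 ^ (k + 1)) F q)),
      Odd (orderOf g) → g = 1 := by
    intro g hg ho
    have hgn : f g ∈ Subgroup.normalizer
        ((Pm ⊓ Wr.detOne (Fin (2 ^ (k + 1))) F : Subgroup (GL (Fin (2 ^ (k + 1))) F)) :
          Set (GL (Fin (2 ^ (k + 1))) F)) := by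
      rw [← hmap]
      exact Subgroup.le_normalizer_map f ⟨g, hg, rfl⟩
    obtain ⟨a, ha⟩ := hrig hw (f g) (by rwa [orderOf_injective f hf]) hgn
    have ha' : H50.suMat g = a • 1 := ha
    have hdet : a ^ 2 ^ (k + 1) = 1 := by
      have := g.1.2
      rwa [show (g.1 : Matrix (Fin (2 ^ (k + 1))) (Fin (2 ^ (k + 1))) F) = a • 1 from ha', Matrix.det_smul, Matrix.det_one, mul_one,
        Fintype.card_fin] at this
    have hg2 : g ^ 2 ^ (k + 1) = 1 := by
      refine H50.SU_ext ?_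
      rw [SubgroupClass.coe_pow, Matrix.SpecialLinearGroup.coe_pow,
        show (g.1 : Matrix (Fin (2 ^ (k + 1))) (Fin (2 ^ (k + 1))) F) = a • 1 from ha', smul_pow, one_pow, hdet, one_smul]
      rfl
    exact orderOf_eq_one_iff.1 (((Nat.coprime_two_right.2 ho).pow_right (k + 1)).eq_one_of_dvd
      (orderOf_dvd_of_pow_eq_one hg2))
  refine le_antisymm ?_ Subgroup.le_normalizer
  set N := Subgroup.normalizer ((S : Subgroup (SU (2 ^ (k + 1)) F q)) : Set (SU (2 ^ (k + 1)) F q))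
  have hN : IsPGroup 2 N := by
    rw [IsPGroup.iff_card]
    refine ⟨_, Nat.eq_prime_pow_of_unique_prime_dvd Nat.card_pos.ne' fun {r} hr hd => ?_⟩
    by_contra hr2
    haveI : Fact r.Prime := ⟨hr⟩
    obtain ⟨g, hg⟩ := exists_prime_orderOf_dvd_card' r hd
    have := hcent g g.2 (by
      rw [Subgroup.orderOf_coe, hg]
      exact hr.odd_of_ne_two hr2)
    rw [show g = 1 from Subtype.ext this, orderOf_one] at hg
    exact hr.one_lt.ne hg
  exact (S.is_maximal' hN Subgroup.le_normalizer).le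

end H37.SUW
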