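import Cfsg.Agent.H37.SUChain
import Cfsg.Agent.H37.SUEmb

/-!
`SU_n(q)`, `n ≥ 5` odd and `q ≥ 3`: three conjugate regular unipotents generate.
-/

set_option autoImplicit false

namespace H37

open Matrix Cfsg H50

universe u

variable {F : Type u} [Field F] [Fintype F] {q n : ℕ} (hF : Fintype.card F = q ^ 2)

/-- The conclusion for `SU_n(q)`. -/
def SUThree (F : Type u) [Field F] [Fintype F] (n q : ℕ) : Prop :=
  ∃ u g h : SU n F q, (IsNilpotent (suMat u - 1) ∧ (suMat u - 1) ^ (n - 1) ≠ 0) ∧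
    Subgroup.closure ({u, g * u * g⁻¹, h * u * h⁻¹} : Set (SU n F q)) = ⊤

include hF

/-- The torus of a hyperbolic pair with a fixed scalar. -/
theorem exists_torus {e f z : Fin n → F} (hf : IsHyp q e f) (hzz : hermForm n F q z z = 1)
    (hze : hermForm n F q z e = 0) (hzf : hermForm n F q z f = 0) {l : F} (hl0 : l ≠ 0)
    (hl : l ^ q = l) :
    ∃ k : SU n F q, ∀ y, suMat k *ᵥ y = y + ((l - 1) * hermForm n F q y f) • e +
      ((l⁻¹ - 1) * hermForm n F q y e) • f := by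
  obtain ⟨e₃, z₃, f₃, Φ⟩ := exists_uframe hF
  obtain ⟨ι, hι⟩ := exists_frameEmb hF Φ hf hzz hze hzf
  set M : Matrix (Fin 3) (Fin 3) F := vecMulVec (l • e₃) (fun j => f₃ j ^ q) +
    vecMulVec z₃ (fun j => z₃ j ^ q) + vecMulVec (l⁻¹ • f₃) (fun j => e₃ j ^ q) with hM
  have hMx : ∀ x, M *ᵥ x = (hermForm 3 F q x f₃ * l) • e₃ + hermForm 3 F q x z₃ • z₃ +
      (hermForm 3 F q x e₃ * l⁻¹) • f₃ := by
    intro x
    rw [hM, add_mulVec, add_mulVec, vecMulVec_pow_mulVec, vecMulVec_pow_mulVec, vecMulVec_pow_mulVec,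
      smul_smul, smul_smul]
  have hiso : IsIso q M := by
    intro x y
    conv_rhs => rw [Φ.dec hF x, Φ.dec hF y]
    rw [hMx, hMx]
    simp only [h_add_left, h_add_right hF, h_smul_left, h_smul_right hF, Φ.hyp.1, Φ.hyp.2.1,
      Φ.hyp.2.2, Φ.fe hF, Φ.zz, Φ.ze, Φ.zf, Φ.ez hF, Φ.fz hF, mul_pow, inv_pow, hl]
    field_simp
    ring
  have hdet : M.det = 1 := by
    rw [det_of_frame hF Φ (D := !![l, 0, 0; 0, 1, 0; 0, 0, l⁻¹])
      (by rw [hMx]; simp [Φ.hyp.1, Φ.ez hF, Φ.hyp.2.2])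
      (by rw [hMx]; simp [Φ.zz, Φ.ze, Φ.zf])
      (by rw [hMx]; simp [Φ.hyp.2.1, Φ.fe hF, Φ.fz hF]), Matrix.det_fin_three]
    simp [hl0]
  refine ⟨ι (mkSU M hiso hdet), fun y => ?_⟩
  rw [hι]
  set J' := frameMap q f z e e₃ z₃ f₃ y with hJ'
  have hd : suMat (mkSU M hiso hdet) *ᵥ J' - J' =
      ((l - 1) * hermForm n F q y f) • e₃ + ((l⁻¹ - 1) * hermForm n F q y e) • f₃ := by
    show M *ᵥ J' - J' = _
    obtain ⟨c1, c2, c3⟩ := Φ.coords hF (hermForm n F q y f) (hermForm n F q y z) (hermForm n F q y e)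
    rw [hMx, hJ', frameMap_apply, c1, c2, c3]
    module
  rw [hd, frameMap_apply]
  simp [h_add_left, h_smul_left, Φ.hyp.1, Φ.hyp.2.1, Φ.hyp.2.2, Φ.fe hF, Φ.ez hF, Φ.fz hF, add_assoc]

theorem IsEich.trace {e f w : Fin n → F} {γ : F} {g : SU n F q} (h : IsEich e w γ g)
    (hf : IsHyp q e f) (hwe : hermForm n F q w e = 0) (hwf : hermForm n F q w f = 0) :
    γ + γ ^ q + hermForm n F q w w = 0 := by
  have h1 := suMat_h g f f
  rw [h f, (hf.symm hF).2.2, (h_eq_zero_comm hF).1 hwf, one_smul, mul_one, sub_zero] at h1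
  simp [h_add_left, h_add_right hF, h_smul_left, h_smul_right hF, hf.1, hf.2.1, hf.2.2,
    (hf.symm hF).2.2, hwe, hwf, (h_eq_zero_comm hF).1 hwe, (h_eq_zero_comm hF).1 hwf] at h1
  linear_combination h1

theorem isEich_smul_self {e : Fin n → F} {c : F} {g : SU n F q} (h : IsEich e (c • e) 0 g) :
    IsEich e 0 (c - c ^ q) g := fun x => by
  rw [h, h_smul_right hF, h_zero_right hF]
  module

/-- A partner of the fixed vector with prescribed norm of its image. -/
theorem RChain.exists_partner_norm {u : SU n F q} {ε : ℕ → Fin n → F} (C : RChain u ε) {m : ℕ}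
    (hn : n = 2 * m + 1) (hm : 2 ≤ m) {τ : F} (hτ : τ ^ q = τ) :
    ∃ f, IsHyp q (ε (n - 1)) f ∧ hermForm n F q (nilMap u f) (nilMap u f) = τ := by
  set e := ε (n - 1) with he
  set c₁ := hermForm n F q (ε 0) e with hc₁
  have hc₁0 : c₁ ≠ 0 := C.lead_ne_zero hF (by omega)
  obtain ⟨f₀, hf₀⟩ : ∃ x, x = c₁⁻¹ • ε 0 := ⟨_, rfl⟩
  set N₁ := hermForm n F q (nilMap u f₀) (nilMap u f₀)
  obtain ⟨t, ht⟩ := exists_trace_eq hF (c := τ - N₁)
    (by rw [sub_pow_q hF, hτ, h_self_fixed hF])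
  obtain ⟨f₁, hf₁⟩ : ∃ x, x = f₀ + (-t) • ε (n - 3) := ⟨_, rfl⟩
  have hf₁e : hermForm n F q f₁ e = 1 := by
    rw [hf₁, h_add_left, h_smul_left, hf₀, h_smul_left, ← hc₁, inv_mul_cancel₀ hc₁0, he,
      C.gram_vanish hF (a := n - 3) (b := n - 1) (by omega), mul_zero, add_zero]
  have hef₁ : hermForm n F q e f₁ = 1 := by rw [h_symm hF f₁ e, hf₁e, one_pow]
  have hN : hermForm n F q (nilMap u f₁) (nilMap u f₁) = τ := by
    have e1 : hermForm n F q (nilMap u f₀) (ε (n - 2)) = -1 := by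
      rw [hf₀, map_smul, C.nil, h_smul_left, C.gram_anti hF (a := 1) (b := n - 2) (by omega)]
      rw [← he, ← hc₁]; field_simp
    rw [hf₁, map_add, map_smul, C.nil, show n - 3 + 1 = n - 2 by omega, h_add_left, h_add_right hF,
      h_add_right hF, h_smul_left, h_smul_left, h_smul_right hF, h_smul_right hF,
      h_symm hF (nilMap u f₀) (ε (n - 2)), e1,
      C.gram_vanish hF (a := n - 2) (b := n - 2) (by omega), neg_pow_q hF, neg_pow_q hF, one_pow]
    linear_combination ht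
  obtain ⟨γ, hγ⟩ := exists_trace_eq hF (c := -hermForm n F q f₁ f₁)
    (by rw [neg_pow_q hF, h_self_fixed hF])
  have hee : hermForm n F q e e = 0 := C.gram_vanish hF (by omega)
  refine ⟨f₁ + γ • e, ⟨hee, ?_, ?_⟩, ?_⟩
  · simp only [h_add_left, h_add_right hF, h_smul_left, h_smul_right hF, hf₁e, hef₁, hee]
    linear_combination hγ
  · simp [h_add_right hF, h_smul_right hF, hee, hef₁]
  · rw [map_add, map_smul, he, C.nil, C.vanish (n - 1 + 1) (by omega), smul_zero, add_zero, hN]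

/-- Powers of `u - 1` saturate a stable subgroup. -/
theorem RChain.mem_of_surj {u : SU n F q} {ε : ℕ → Fin n → F} (C : RChain u ε) (hn : 0 < n)
    {S : AddSubgroup (Fin n → F)} (hS : ∀ w ∈ S, nilMap u w ∈ S) {J : ℕ}
    (hsurj : ∀ c : F, ∃ w ∈ S, (nilMap u ^ J) w = c • ε (n - 1)) :
    ∀ j, j ≤ J + 1 → ∀ w, (nilMap u ^ j) w = 0 → w ∈ S := by
  have hpow : ∀ j, ∀ w ∈ S, (nilMap u ^ j) w ∈ S := by
    intro j
    induction j with
    | zero => intro w hw; simpa using hw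
    | succ j ih => intro w hw; rw [pow_succ, Module.End.mul_apply]; exact ih _ (hS w hw)
  intro j
  induction j with
  | zero => intro _ w hw; simp at hw; rw [hw]; exact zero_mem S
  | succ j ih =>
    intro hj w hw
    rw [pow_succ', Module.End.mul_apply] at hw
    obtain ⟨c, hc⟩ := C.ker_nil hF hn hw
    obtain ⟨m', hm', hm'c⟩ := hsurj c
    have hmem := hpow (J - j) m' hm'
    have : w - (nilMap u ^ (J - j)) m' ∈ S := ih (by omega) _ (by
      rw [map_sub, hc, ← Module.End.mul_apply, ← pow_add, show j + (J - j) = J by omega, hm'c,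
        sub_self])
    have := add_mem this hmem
    rwa [sub_add_cancel] at this

/-- A conjugate of `u` moving `e` to `f` with prescribed effect on `z`. -/
theorem RChain.exists_mover {u : SU n F q} {ε : ℕ → Fin n → F} (C : RChain u ε) {m : ℕ}
    (hn : n = 2 * m + 1) (hm : 2 ≤ m) {e f z : Fin n → F} (hf : IsHyp q e f)
    (hzz : hermForm n F q z z = 1) (hze : hermForm n F q z e = 0) (hzf : hermForm n F q z f = 0)
    {η K c s κ d : F} (hη : η * η ^ q = 1) (hK : K ≠ 0) (hc : c ≠ 0) (hs : s = η ^ q)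
    (hκ : κ = c * c ^ q / K ^ q) (hd : d = 3 * s + s ^ q - 3 - (s ^ 2 - s * κ))
    (hd0 : d + d ^ q ≠ 0) :
    ∃ g : SU n F q, suMat (g * u * g⁻¹) *ᵥ e = K ^ q • f ∧
      suMat (g * u * g⁻¹) *ᵥ z = η • z + c • f := by
  have hss : s * s ^ q = 1 := by rw [hs, pow_q_pow_q hF, mul_comm]; exact hη
  have hs0 : s ≠ 0 := fun h => by rw [h, zero_mul] at hss; exact zero_ne_one hss
  set G := hermForm n F q (ε m) (ε m) with hG
  have hG0 : G ≠ 0 := by
    rw [hG, C.gram_anti hF (by omega)]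
    exact mul_ne_zero (pow_ne_zero _ (neg_ne_zero.2 one_ne_zero)) (C.lead_ne_zero hF (by omega))
  set ρ := -G / (d + d ^ q) with hρ
  have hρ0 : ρ ≠ 0 := div_ne_zero (neg_ne_zero.2 hG0) hd0
  have hρq : ρ ^ q = ρ := by rw [hρ, div_pow, neg_pow_q hF, h_self_fixed hF, trace_fixed hF]
  obtain ⟨Q₀, -, hQQ, hQD, hDD, hD2⟩ := C.exists_window hF hn hm (N₀ := ρ) (d := ρ * (s - 1))
    (d₂ := ρ * d) hρq (by
      rw [mul_pow, hρq, ← mul_add, hρ, div_mul_cancel₀ _ hd0, ← hG, neg_add_cancel])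
  obtain ⟨α, hα⟩ := exists_norm_eq hF (c := ρ⁻¹) (by rw [inv_pow, hρq])
  have hαn : α * α ^ q = ρ⁻¹ := by rw [← pow_succ', hα]
  have hρi : ρ⁻¹ * ρ = 1 := inv_mul_cancel₀ hρ0
  obtain ⟨Q, hQdef⟩ : ∃ x, x = α • Q₀ := ⟨_, rfl⟩
  obtain ⟨Q1, hQ1⟩ : ∃ x, x = suMat u *ᵥ Q := ⟨_, rfl⟩
  obtain ⟨Q2, hQ2⟩ : ∃ x, x = suMat u *ᵥ Q1 := ⟨_, rfl⟩
  have hN : ∀ x, suMat u *ᵥ x = x + nilMap u x := fun x => by rw [nilMap_apply]; abel
  have g00 : hermForm n F q Q Q = 1 := by
    rw [hQdef, h_smul_left, h_smul_right hF, hQQ]; linear_combination ρ * hαn + hρi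
  have g01 : hermForm n F q Q Q1 = s := by
    rw [hQ1, hN, h_add_right hF, g00, hQdef, map_smul, h_smul_left, h_smul_right hF, hQD]
    linear_combination (ρ * (s - 1)) * hαn + (s - 1) * hρi
  have g02 : hermForm n F q Q Q2 = s ^ 2 - s * κ := by
    have e2 : hermForm n F q Q₀ (nilMap u (nilMap u Q₀)) = ρ * (s - 1) + (ρ * (s - 1)) ^ q - ρ * d := by
      have h := h_nil u Q₀ (nilMap u Q₀) hF
      rw [hDD, hD2] at h
      linear_combination h
    rw [hQ2, hQ1, hN, hN Q, map_add, h_add_right hF, h_add_right hF, h_add_right hF]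
    rw [g00, hQdef]
    simp only [map_smul, h_smul_left, h_smul_right hF, hQD, e2]
    rw [mul_pow, hρq, sub_pow_q hF, one_pow]
    linear_combination (ρ * (2 * (s - 1) + (s - 1 + (s ^ q - 1) - d))) * hαn +
      (2 * (s - 1) + (s - 1 + (s ^ q - 1) - d)) * hρi - hd
  have g11 : hermForm n F q Q1 Q1 = 1 := by rw [hQ1, suMat_h, g00]
  have g12 : hermForm n F q Q1 Q2 = s := by rw [hQ2, hQ1, suMat_h, ← hQ1, g01]
  have g22 : hermForm n F q Q2 Q2 = 1 := by rw [hQ2, suMat_h, g11]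
  have g10 : hermForm n F q Q1 Q = s ^ q := by rw [h_symm hF Q Q1, g01]
  have g21 : hermForm n F q Q2 Q1 = s ^ q := by rw [h_symm hF Q1 Q2, g12]
  obtain ⟨X, hX⟩ : ∃ x, x = Q - s • Q1 := ⟨_, rfl⟩
  obtain ⟨Y, hY⟩ : ∃ x, x = Q1 - s • Q2 := ⟨_, rfl⟩
  have hXY : suMat u *ᵥ X = Y := by rw [hX, hY, hQ2, hQ1, mulVec_sub, mulVec_smul]
  have hXX : hermForm n F q X X = 0 := by
    rw [hX, h_sub_left, h_sub_right hF, h_sub_right hF, h_smul_left, h_smul_left, h_smul_right hF,
      h_smul_right hF, g00, g01, g10, g11]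
    linear_combination -hss
  have hX1 : hermForm n F q X Q1 = 0 := by rw [hX, h_sub_left, h_smul_left, g01, g11]; ring
  have hY1 : hermForm n F q Y Q1 = 0 := by
    rw [hY, h_sub_left, h_smul_left, g11, g21]; linear_combination -hss
  have hYY : hermForm n F q Y Y = 0 := by rw [← hXY, suMat_h, hXX]
  have hκ' : hermForm n F q X Y = κ := by
    rw [hX, hY, h_sub_left, h_sub_right hF, h_sub_right hF, h_smul_left, h_smul_left,
      h_smul_right hF, h_smul_right hF, g01, g02, g11, g12]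
    linear_combination (κ + s - s) * hss
  obtain ⟨l, hl⟩ : ∃ x, x = -(c * s) / K ^ q := ⟨_, rfl⟩
  have hKq : K ^ q ≠ 0 := pow_ne_zero _ hK
  have hl0 : l ≠ 0 := hl ▸ div_ne_zero (neg_ne_zero.2 (mul_ne_zero hc hs0)) hKq
  obtain ⟨X', hX'⟩ : ∃ x, x = l⁻¹ • X := ⟨_, rfl⟩
  obtain ⟨Y', hY'⟩ : ∃ x, x = (K ^ q)⁻¹ • (l⁻¹ • Y) := ⟨_, rfl⟩
  have hhyp : IsHyp q X' Y' := by
    refine ⟨?_, ?_, ?_⟩
    · rw [hX', h_smul_left, h_smul_right hF, hXX, mul_zero, mul_zero]
    · rw [hY', smul_smul, h_smul_left, h_smul_right hF, hYY, mul_zero, mul_zero]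
    · have hll : l * l ^ q * (K * K ^ q) = c * c ^ q := by
        rw [hl, div_pow, neg_pow_q hF, mul_pow, pow_q_pow_q hF]
        field_simp
        linear_combination hss
      rw [hX', hY', smul_smul, h_smul_left, h_smul_right hF, hκ', hκ, mul_pow, inv_pow, inv_pow,
        pow_q_pow_q hF]
      field_simp
      linear_combination -hll
  have hZ1 : hermForm n F q Q1 X' = 0 := by
    rw [hX', h_smul_right hF, (h_eq_zero_comm hF).1 hX1, mul_zero]
  have hZ2 : hermForm n F q Q1 Y' = 0 := by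
    rw [hY', h_smul_right hF, h_smul_right hF, (h_eq_zero_comm hF).1 hY1, mul_zero, mul_zero]
  have hsame : SameGram q ![X', Y', Q1] ![e, f, z] := by
    intro i j
    fin_cases i <;> fin_cases j <;>
      simp [hhyp.1, hhyp.2.1, hhyp.2.2, (hhyp.symm hF).2.2, g11, hZ1, hZ2, hzz, hze, hzf, hf.1,
        hf.2.1, hf.2.2, (hf.symm hF).2.2, (h_eq_zero_comm hF).1 hZ1, (h_eq_zero_comm hF).1 hZ2,
        (h_eq_zero_comm hF).1 hze, (h_eq_zero_comm hF).1 hzf]
  obtain ⟨g, hg⟩ := exists_SU_of_sameGram hF (gramND_triple hF hhyp g11 hZ1 hZ2) hsame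
    (by simp; omega)
  have ge : suMat g *ᵥ X' = e := hg 0
  have gf : suMat g *ᵥ Y' = f := hg 1
  have gz : suMat g *ᵥ Q1 = z := hg 2
  have hYl : Y = (K ^ q * l) • Y' := by
    rw [hY', smul_smul, smul_smul, show K ^ q * l * (K ^ q)⁻¹ * l⁻¹ = 1 by field_simp, one_smul]
  refine ⟨g, ?_, ?_⟩
  · rw [suMat_mulVec_mul, suMat_mulVec_mul, ← ge, suMat_inv_mulVec, hX', mulVec_smul (suMat u),
      hXY, hYl, smul_smul, mulVec_smul, gf, show l⁻¹ * (K ^ q * l) = K ^ q by field_simp]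
  · have hηs : η * s = 1 := by rw [hs]; exact hη
    have e3 : Q2 = η • Q1 - (η * (K ^ q * l)) • Y' := by
      rw [← smul_smul, ← hYl, hY, smul_sub, smul_smul, hηs, one_smul]; abel
    rw [suMat_mulVec_mul, suMat_mulVec_mul, ← gz, suMat_inv_mulVec, ← hQ2, e3, mulVec_sub,
      mulVec_smul, mulVec_smul, gf, show η * (K ^ q * l) = -c by
        rw [hl, mul_div_cancel₀ _ hKq]; linear_combination (-c) * hηs,
      neg_smul, sub_neg_eq_add]

/-- The parameters of the mover. -/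
theorem exists_mover_params {M D : F} (hM : M ≠ 0) (hq : 3 ≤ q) (hD : D + D ^ q = 0)
    (h : (2 : F) = 0 ∨ M + M ^ q ≠ 0) {a : F} (ha : a ≠ 0) :
    ∃ η K c κ d : F, η * η ^ q = 1 ∧ K ≠ 0 ∧ c ≠ 0 ∧ K * η = M ∧
      K * a * c - (K * a * c) ^ q = D ∧ κ = c * c ^ q / K ^ q ∧
      d = 3 * η ^ q + (η ^ q) ^ q - 3 - ((η ^ q) ^ 2 - η ^ q * κ) ∧ d + d ^ q ≠ 0 := by
  classical
  obtain ⟨θ, hθ⟩ := exists_trace_eq hF (one_pow q)
  have hDq : D ^ q = -D := by linear_combination hD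
  have hKc : ∀ K t : F, t ^ q = t → K ≠ 0 →
      K * a * ((θ * D + t) / (K * a)) - (K * a * ((θ * D + t) / (K * a))) ^ q = D := by
    intro K t ht hK
    rw [mul_div_cancel₀ _ (mul_ne_zero hK ha), add_pow_q hF, mul_pow, hDq, ht]
    linear_combination D * hθ
  by_cases hTr : M + M ^ q = 0
  · have h2 : (2 : F) = 0 := h.resolve_right (not_not.2 hTr)
    have hMq : M ^ q = M := by linear_combination hTr - M * h2
    obtain ⟨η, hη1, hη⟩ : ∃ η : F, η ≠ 1 ∧ η * η ^ q = 1 := by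
      by_contra hno
      push Not at hno
      have h1 := card_norm_eq hF (c := (1 : F)) (one_pow q) one_ne_zero
      have h2' : Nat.card {x : F // x ^ (q + 1) = 1} ≤ Nat.card {x : F // x = 1} :=
        Nat.card_le_card_of_injective (fun x => ⟨x.1, by
          by_contra hx
          exact hno x.1 hx (by rw [← pow_succ', x.2])⟩)
          (fun x y hxy => Subtype.ext (congrArg (fun z : {x : F // x = 1} => z.1) hxy))
      rw [h1, Nat.card_unique] at h2'
      omega
    have hη0 : η ≠ 0 := fun h => by rw [h, zero_mul] at hη; exact zero_ne_one hη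
    set K := M * η ^ q with hK
    have hK0 : K ≠ 0 := mul_ne_zero hM (pow_ne_zero _ hη0)
    obtain ⟨t, ht, hx0, hxA⟩ : ∃ t : F, t ^ q = t ∧ θ * D + t ≠ 0 ∧
        (θ * D + t) * (θ * D + t) ^ q ≠ M * (K * a * (K * a) ^ q) := by
      by_contra hno
      push Not at hno
      set A := M * (K * a * (K * a) ^ q)
      have h4 : 4 ≤ q := by
        obtain ⟨p, k, hp, hk⟩ := H50.exists_prime_pow hF
        by_contra hlt
        have hq3 : q = 3 := by omega
        have h3 : ((9 : ℕ) : F) = 0 := by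
          have := FiniteField.cast_card_eq_zero F
          rwa [hF, hq3] at this
        exact one_ne_zero (α := F) (by push_cast at h3; linear_combination h3 - 4 * h2)
      let P : Polynomial F := (Polynomial.X + Polynomial.C (θ * D)) *
        ((Polynomial.X + Polynomial.C (θ * D)) * (Polynomial.X + Polynomial.C ((θ * D) ^ q)) -
          Polynomial.C A)
      have hdeg : P.natDegree ≤ 3 := by
        simp only [P]; compute_degree
      have hP0 : P ≠ 0 := by
        intro h0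
        have : P.coeff 3 = 1 := by simp only [P]; compute_degree!
        rw [h0] at this; simp at this
      have hle : Nat.card {x : F // x ^ q = x} ≤ Nat.card {x : F // P.eval x = 0} :=
        Nat.card_le_card_of_injective (fun x => ⟨x.1, by
          simp only [P, Polynomial.eval_mul, Polynomial.eval_sub, Polynomial.eval_add,
            Polynomial.eval_X, Polynomial.eval_C]
          by_cases hz : θ * D + x.1 = 0
          · rw [add_comm x.1, hz, zero_mul]
          · have := hno x.1 x.2 hz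
            rw [add_pow_q hF, x.2] at this
            linear_combination (x.1 + θ * D) * this⟩)
          (fun x y hxy => Subtype.ext
            (congrArg (fun z : {x : F // P.eval x = 0} => z.1) hxy))
      rw [card_fixed hF] at hle
      have := hle.trans ((card_roots_le hP0).trans hdeg)
      omega
    refine ⟨η, K, (θ * D + t) / (K * a), _, _, hη, hK0, div_ne_zero hx0 (mul_ne_zero hK0 ha), ?_,
      hKc K t ht hK0, rfl, rfl, ?_⟩
    · rw [hK]; linear_combination M * hη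
    set s := η ^ q with hs
    have hsq : s ^ q = η := pow_q_pow_q hF η
    set X := θ * D + t
    have hKq : K ^ q = M * η := by rw [hK, mul_pow, hMq, hsq]
    set R := X * X ^ q / (K * a * (K * a) ^ q) with hR
    have hRq : R ^ q = R := by
      rw [hR, div_pow]
      congr 1 <;> rw [mul_pow _ (_ ^ q), pow_q_pow_q hF, mul_comm]
    have hcc : X / (K * a) * (X / (K * a)) ^ q = R := by rw [hR, div_pow, div_mul_div_comm]
    rw [hcc, hKq, hsq]
    clear_value R s
    have e1 : s * (R / (M * η)) = s ^ 2 * (R / M) := by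
      field_simp
      linear_combination -(R * s) * hη
    rw [e1]
    simp only [add_pow_q hF, sub_pow_q hF, mul_pow, div_pow, hRq, hMq, ← pow_mul, mul_comm 2 q,
      pow_mul, hsq]
    have h3 : (3 : F) ^ q = 3 := by
      rw [show (3 : F) = 1 + 1 + 1 by norm_num, add_pow_q hF, add_pow_q hF, one_pow]
    rw [h3, ← pow_mul s, mul_comm 2 q, pow_mul s, hsq]
    simp only [← hs]
    intro h0
    have h4 : (s ^ 2 + η ^ 2) * (1 + R / M) = 0 := by
      linear_combination h0 + (s ^ 2 + η ^ 2 + 3 - 2 * s - 2 * η) * h2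
    rcases mul_eq_zero.1 h4 with h5 | h5
    · have e2 : (η - 1) ^ 4 = 0 := by
        linear_combination η ^ 2 * h5 - (η * s + 1) * hη +
          (-2 * η ^ 3 + 3 * η ^ 2 - 2 * η) * h2
      exact hη1 (sub_eq_zero.1 (eq_zero_of_pow_eq_zero e2))
    · apply hxA
      have e2 : R = M := by
        have : M + R = 0 := by field_simp at h5; linear_combination h5
        linear_combination this - M * h2
      rw [← e2, hR, div_mul_cancel₀ _ (mul_ne_zero (mul_ne_zero hK0 ha)
        (pow_ne_zero _ (mul_ne_zero hK0 ha)))]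
  · obtain ⟨t, ht, hx0⟩ : ∃ t : F, t ^ q = t ∧ θ * D + t ≠ 0 := by
      by_cases hz : θ * D = 0
      · exact ⟨1, one_pow q, by rw [hz, zero_add]; exact one_ne_zero⟩
      · exact ⟨0, zero_pow (q_ne_zero hF), by rwa [add_zero]⟩
    set c := (θ * D + t) / (M * a) with hc
    refine ⟨1, M, c, _, _, by rw [one_pow, one_mul], hM, div_ne_zero hx0 (mul_ne_zero hM ha),
      mul_one M, hKc M t ht hM, rfl, rfl, ?_⟩
    simp only [one_pow, one_mul]
    clear_value c
    have hcq : (c * c ^ q) ^ q = c * c ^ q := by rw [mul_pow, pow_q_pow_q hF, mul_comm]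
    rw [show (3 : F) * 1 + 1 - 3 - (1 - c * c ^ q / M ^ q) = c * c ^ q / M ^ q by ring, div_pow,
      hcq, pow_q_pow_q hF]
    intro h0
    apply hTr
    have hMq0 : M ^ q ≠ 0 := pow_ne_zero _ hM
    have hc0' : c ≠ 0 := hc ▸ div_ne_zero hx0 (mul_ne_zero hM ha)
    have hc0 : c * c ^ q ≠ 0 := mul_ne_zero hc0' (pow_ne_zero _ hc0')
    field_simp at h0
    refine (mul_eq_zero.1 ?_).resolve_left hc0
    linear_combination h0

theorem suThree_of_three_le (hq : 3 ≤ q) {m : ℕ} (hn : n = 2 * m + 1) (hm : 2 ≤ m) :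
    SUThree F n q := by
  classical
  obtain ⟨e₃, z₃, f₃, a, β, a', β', Φ, ha, ha', htr, htr', hM, hgen⟩ := exists_su3Pair hF hq
  obtain ⟨l, hl, hl0, hl1⟩ : ∃ l : F, l ^ q = l ∧ l ≠ 0 ∧ l ≠ 1 := by
    by_contra hno
    push Not at hno
    have h1 : Nat.card {x : F // x ^ q = x} ≤ Nat.card {x : F // x = 0 ∨ x = 1} :=
      Nat.card_le_card_of_injective (fun x => ⟨x.1, or_iff_not_imp_left.2 (hno x.1 x.2)⟩)
        (fun x y hxy => Subtype.ext (congrArg (fun z : {x : F // x = 0 ∨ x = 1} => z.1) hxy))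
    rw [card_fixed hF, Nat.card_eq_fintype_card, Fintype.card_subtype] at h1
    have h2 : (Finset.univ.filter fun x : F => x = 0 ∨ x = 1) ⊆ {0, 1} := by
      intro x; simp
    have := (h1.trans (Finset.card_le_card h2)).trans Finset.card_le_two
    omega
  have hl1' : l - 1 ≠ 0 := sub_ne_zero.2 hl1
  set τ := a * a ^ q / ((l - 1) * (l - 1)) with hτ
  have hτq : τ ^ q = τ := by
    rw [hτ, div_pow, mul_pow, mul_pow, pow_q_pow_q hF, sub_pow_q hF, hl, one_pow, mul_comm]
  obtain ⟨u, ε, C⟩ := exists_rchain hF (n := n) (by omega)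
  obtain ⟨f, hf, hNf⟩ := C.exists_partner_norm hF hn hm hτq
  set e := ε (n - 1) with he
  have hue : suMat u *ᵥ e = e := C.fix (by omega)
  have hfe : hermForm n F q f e = 1 := (hf.symm hF).2.2
  set N₀ := nilMap u f with hN₀
  have hN₀e : hermForm n F q N₀ e = 0 := C.h_fix_nil hF (by omega) f
  obtain ⟨w₀, hw₀⟩ : ∃ x, x = N₀ - hermForm n F q N₀ f • e := ⟨_, rfl⟩
  have hw₀e : hermForm n F q w₀ e = 0 := by
    rw [hw₀, h_sub_left, h_smul_left, hN₀e, hf.1, mul_zero, sub_zero]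
  have hw₀f : hermForm n F q w₀ f = 0 := by
    rw [hw₀, h_sub_left, h_smul_left, hf.2.2, mul_one, sub_self]
  have hw₀w : hermForm n F q w₀ w₀ = τ := by
    rw [hw₀, h_sub_left, h_sub_right hF, h_sub_right hF, h_smul_left, h_smul_left, h_smul_right hF,
      h_smul_right hF, hNf, hN₀e, (h_eq_zero_comm hF).1 hN₀e, hf.1]
    ring
  obtain ⟨z, hz⟩ : ∃ x, x = ((l - 1) / a) • w₀ := ⟨_, rfl⟩
  have haz : a • z = (l - 1) • w₀ := by rw [hz, smul_smul, mul_div_cancel₀ _ ha]
  have hze : hermForm n F q z e = 0 := by rw [hz, h_smul_left, hw₀e, mul_zero]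
  have hzf : hermForm n F q z f = 0 := by rw [hz, h_smul_left, hw₀f, mul_zero]
  have hzz : hermForm n F q z z = 1 := by
    rw [hz, h_smul_left, h_smul_right hF, hw₀w, hτ, div_pow, sub_pow_q hF, hl, one_pow]
    have := pow_ne_zero q ha
    field_simp
  obtain ⟨k, hk⟩ := exists_torus hF hf hzz hze hzf hl0 hl
  have hke : suMat k *ᵥ e = l • e := by rw [hk, hf.2.2, hf.1]; module
  have hkf : suMat k *ᵥ f = l⁻¹ • f := by rw [hk, hf.2.1, hfe]; module
  have hkinv : ∀ y, hermForm n F q y e = 0 →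
      suMat k⁻¹ *ᵥ y = y + (-((l - 1) * hermForm n F q y f) / l) • e := by
    intro y hy
    have h1 : suMat k *ᵥ (y + (-((l - 1) * hermForm n F q y f) / l) • e) = y := by
      rw [mulVec_add, mulVec_smul, hke, hk, hy, smul_smul, div_mul_cancel₀ _ hl0]
      module
    conv_lhs => rw [← h1]
    rw [suMat_inv_mulVec]
  set u' := k * u * k⁻¹ with hu'
  have hki : suMat k⁻¹ *ᵥ e = l⁻¹ • e := by
    have : suMat k *ᵥ (l⁻¹ • e) = e := by rw [mulVec_smul, hke, inv_smul_smul₀ hl0]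
    conv_lhs => rw [← this]
    rw [suMat_inv_mulVec]
  have hu'e : suMat u' *ᵥ e = e := by
    rw [hu', suMat_mulVec_mul, suMat_mulVec_mul, hki, mulVec_smul, hue, mulVec_smul, hke,
      inv_smul_smul₀ hl0]
  set E₀ := u' * u⁻¹ with hE₀
  have hE₀Q : InQ e E₀ := by
    refine ⟨by rw [hE₀, suMat_mulVec_mul, suMat_inv_fix hue, hu'e], fun w hw => ?_⟩
    set y := suMat u⁻¹ *ᵥ w
    have hye : hermForm n F q y e = 0 := by rw [suMat_inv_h, hue, hw]
    refine ⟨(l - 1) * hermForm n F q w f + -((l - 1) * hermForm n F q y f) / l * l, ?_⟩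
    rw [hE₀, suMat_mulVec_mul, hu', suMat_mulVec_mul, suMat_mulVec_mul, hkinv y hye, mulVec_add,
      mulVec_smul, hue, suMat_mulVec_inv, mulVec_add, mulVec_smul, hke, hk, hw]
    module
  obtain ⟨γ₀, hE₀f⟩ : ∃ γ₀ : F, suMat E₀ *ᵥ f = f + a • z + γ₀ • e := by
    set q₀ := suMat u⁻¹ *ᵥ f - f with hq₀
    have hq₀e : hermForm n F q q₀ e = 0 := by
      rw [hq₀, h_sub_left, suMat_inv_h, hue, sub_self]
    have hkif : suMat k⁻¹ *ᵥ f = l • f := by
      have : suMat k *ᵥ (l • f) = f := by rw [mulVec_smul, hkf, smul_inv_smul₀ hl0]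
      conv_lhs => rw [← this]
      rw [suMat_inv_mulVec]
    have huq₀ : suMat u *ᵥ q₀ = -N₀ := by
      rw [hq₀, mulVec_sub, suMat_mulVec_inv, hN₀, nilMap_apply]; abel
    refine ⟨(l - 1) * ((l - 1) * hermForm n F q N₀ f) + (l - 1) * hermForm n F q N₀ f +
      -((l - 1) * hermForm n F q q₀ f) / l * l, ?_⟩
    rw [hE₀, suMat_mulVec_mul, show suMat u⁻¹ *ᵥ f = f + q₀ by rw [hq₀]; abel, hu',
      suMat_mulVec_mul, suMat_mulVec_mul, mulVec_add (suMat k⁻¹), hkif, hkinv q₀ hq₀e]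
    simp only [mulVec_add, mulVec_smul, huq₀, hue, hke, mulVec_neg]
    rw [show suMat u *ᵥ f = f + N₀ by rw [hN₀, nilMap_apply]; abel, mulVec_add, hkf, hk N₀, hN₀e,
      haz, hw₀]
    match_scalars <;> field_simp <;> ring
  have hE₀E : IsEich e (a • z) γ₀ E₀ :=
    isEich_of_inQ hF hf hE₀Q (by rw [h_smul_left, hze, mul_zero])
      (by rw [h_smul_left, hzf, mul_zero]) hE₀f
  have hazz : hermForm n F q (a • z) (a • z) = a * a ^ q := by
    rw [h_smul_left, h_smul_right hF, hzz, mul_one]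
  have hγ₀ : γ₀ + γ₀ ^ q + a * a ^ q = 0 := by
    rw [← hazz]
    exact hE₀E.trace hF hf (by rw [h_smul_left, hze, mul_zero]) (by rw [h_smul_left, hzf, mul_zero])
  -- adjust the centre
  set d := β - γ₀ with hd
  have hdq : d + d ^ q = 0 := by rw [hd, sub_pow_q hF]; linear_combination htr - hγ₀
  obtain ⟨θ, hθ⟩ := exists_trace_eq hF (one_pow q)
  obtain ⟨σ, hσ⟩ : ∃ x, x = -(θ * d) := ⟨_, rfl⟩
  have hε2 : nilMap u (ε (n - 2)) = e := by rw [C.nil, he]; congr 1; omega
  obtain ⟨p₁, hp₁⟩ : ∃ x, x = (σ / l) • ε (n - 2) := ⟨_, rfl⟩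
  obtain ⟨p, hp⟩ : ∃ x, x = suMat k *ᵥ p₁ := ⟨_, rfl⟩
  have hp₁e : hermForm n F q p₁ e = 0 := by
    rw [hp₁, h_smul_left, he, C.gram_vanish hF (a := n - 2) (b := n - 1) (by omega), mul_zero]
  have hup₁ : suMat u *ᵥ p₁ = p₁ + (σ / l) • e := by
    rw [← hε2, hp₁, ← map_smul, nilMap_apply]; abel
  have hpe : hermForm n F q p e = 0 := by
    have := suMat_h k p₁ e
    rw [hke, h_smul_right hF, hp₁e, hl, ← hp] at this
    exact (mul_eq_zero.1 this).resolve_left hl0
  have hu'p : suMat u' *ᵥ p = p + σ • e := by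
    rw [hu', hp, suMat_mulVec_mul, suMat_mulVec_mul, suMat_inv_mulVec, hup₁, mulVec_add,
      mulVec_smul, hke, smul_smul, div_mul_cancel₀ _ hl0]
  obtain ⟨γ, hγ⟩ := exists_trace_eq hF (c := -hermForm n F q p p)
    (by rw [neg_pow_q hF, h_self_fixed hF])
  obtain ⟨h, hh⟩ := exists_isEich hF hf.1 hpe (γ := γ) (by linear_combination hγ)
  have hT : IsEich e 0 d (h * (u' * h⁻¹ * u'⁻¹)) := by
    have h2 := (hh.inv hF hf.1 hpe (by linear_combination hγ)).conj u'
    rw [hu'e, mulVec_neg, hu'p] at h2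
    have h3 := hh.mul hF h2 hf.1 hpe (by
      rw [h_neg_left, h_add_left, h_smul_left, hpe, hf.1, mul_zero, add_zero, neg_zero])
    rw [show p + -(p + σ • e) = (-σ) • e by rw [neg_smul]; abel, h_neg_left, h_add_left,
      h_smul_left, (h_eq_zero_comm hF).1 hpe, mul_zero, add_zero, sub_neg_eq_add,
      show γ + γ ^ q + hermForm n F q p p = 0 by linear_combination hγ] at h3
    have h4 := isEich_smul_self hF h3
    rwa [show -σ - (-σ) ^ q = d by
      rw [neg_pow_q hF, hσ, neg_pow_q hF, mul_pow, show d ^ q = -d by linear_combination hdq]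
      linear_combination d * hθ] at h4
  set u'' := (h * k) * u * (h * k)⁻¹ with hu''
  have hE : IsEich e (a • z) β (u'' * u⁻¹) := by
    have h5 := hT.mul hF hE₀E hf.1 (h_zero_left e) (by rw [h_smul_left, hze, mul_zero])
    rw [zero_add, h_zero_right hF, sub_zero, hd, sub_add_cancel] at h5
    rwa [show u'' * u⁻¹ = h * (u' * h⁻¹ * u'⁻¹) * E₀ by rw [hu'', hE₀, hu']; group]
  -- the mover
  set M := a' / a with hMdef
  have hM0 : M ≠ 0 := div_ne_zero ha' ha
  set D := β' - M * M ^ q * β with hD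
  have hDtr : D + D ^ q = 0 := by
    rw [hD, sub_pow_q hF, mul_pow, mul_pow, pow_q_pow_q hF]
    have e1 : M * a = a' := div_mul_cancel₀ _ ha
    have e2 : M ^ q * a ^ q = a' ^ q := by rw [← mul_pow, e1]
    linear_combination htr' - M * M ^ q * htr + M ^ q * a ^ q * e1 + a' * e2
  obtain ⟨η, K, c, κ, δ, hη, hK, hc, hKη, hKD, hκ, hδ, hδ0⟩ :=
    exists_mover_params hF hM0 hq hDtr hM ha
  obtain ⟨g, hge, hgz⟩ := C.exists_mover hF hn hm hf hzz hze hzf hη hK hc rfl hκ hδ hδ0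
  set v := g * u * g⁻¹ with hv
  have hV : IsEich f (a' • z) β' (v * (u'' * u⁻¹) * v⁻¹) := by
    intro x
    have h1 := hE.conj v x
    rw [hge, mulVec_smul, hgz] at h1
    rw [h1, h_smul_right hF, h_smul_right hF, h_smul_right hF, h_add_right hF, h_smul_right hF,
      h_smul_right hF, pow_q_pow_q hF]
    have e1 : a' = K * a * η := by rw [mul_right_comm, hKη, hMdef, div_mul_cancel₀ _ ha]
    have hη0 : η ≠ 0 := fun h0 => by rw [h0, zero_mul] at hη; exact zero_ne_one hη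
    have e2 : β' = K * K ^ q * β + K * a * c - (K * a * c) ^ q := by
      have : M * M ^ q = K * K ^ q := by
        rw [← hKη, mul_pow]; linear_combination (K * K ^ q) * hη
      rw [hD, this] at hKD
      linear_combination -hKD
    rw [e1, e2]
    simp only [mul_pow, smul_add, smul_smul, h_smul_right hF]
    module
  set H := Subgroup.closure ({u, u'', v} : Set (SU n F q)) with hH
  have huH : u ∈ H := Subgroup.subset_closure (Or.inl rfl)
  have hu''H : u'' ∈ H := Subgroup.subset_closure (Or.inr (Or.inl rfl))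
  have hvH : v ∈ H := Subgroup.subset_closure (Or.inr (Or.inr rfl))
  have hEH : u'' * u⁻¹ ∈ H := mul_mem hu''H (inv_mem huH)
  obtain ⟨hTe, hTf, hzM⟩ := pair_consequences hF Φ hgen htr htr' hf hzz hze hzf hEH hE
    (mul_mem (mul_mem hvH hEH) (inv_mem hvH)) hV
  have hMfull : ∀ w, hermForm n F q w e = 0 → w ∈ radParts H e f := by
    intro w hw
    refine C.mem_of_surj hF (by omega) (J := n - 2) (fun y hy => ?_) (fun c₀ => ?_) (n - 1)
      (by omega) w (by rw [C.nil_top hF (by omega), ← he, hw, zero_div, zero_smul])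
    · rw [nilMap_apply]; exact nil_mem_radParts hF hf huH hue hy
    · set ψ := (l - 1) / a / hermForm n F q (ε 0) e
      have hψ : ψ ≠ 0 := div_ne_zero (div_ne_zero hl1' ha) (C.lead_ne_zero hF (by omega))
      refine ⟨(c₀ / ψ) • z, hzM _, ?_⟩
      have hNe : ∀ j, 1 ≤ j → (nilMap u ^ j) e = 0 := fun j hj => by
        rw [he, C.nil_iterate, C.vanish _ (by omega)]
      rw [map_smul, hz, map_smul, hw₀, map_sub, map_smul, hNe _ (by omega), smul_zero, sub_zero,
        hN₀, ← Module.End.mul_apply, ← pow_succ, show n - 2 + 1 = n - 1 by omega,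
        C.nil_top hF (by omega), ← he, hfe, smul_smul, smul_smul,
        show c₀ / ψ * ((l - 1) / a) * (1 / hermForm n F q (ε 0) e) = c₀ / ψ * ψ by ring,
        div_mul_cancel₀ _ hψ]
  refine ⟨u, h * k, g, C.isRegular (by omega), ?_⟩
  refine eq_top_of_radical hF (by omega) (fun hh' => by omega) hf hTe hTf ?_
  exact fun w γ hwe hwf hγ => isEich_mem_of_radParts hF hf hTe hMfull hwe hwf hγ

end H37
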