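import Cfsg.Agent.H37.SUThreeTwo

/-!
`SU_n(q)`, `n` odd, is generated by three conjugate regular unipotents.
-/

set_option autoImplicit false

namespace H37

open Matrix Cfsg H50

universe u

theorem exists_suThree {F : Type u} [Field F] [Fintype F] {q n : ℕ}
    (hF : Fintype.card F = q ^ 2) (hn : 3 ≤ n) (hodd : Odd n) (h32 : ¬(n = 3 ∧ q = 2)) :
    SUThree F n q := by
  have h2 := two_le hF
  obtain ⟨m, rfl⟩ := hodd
  rcases Nat.lt_or_ge m 2 with hm | hm
  · obtain rfl : m = 1 := by omega
    obtain ⟨u, g, hu, hgen⟩ := exists_su3Two hF (show 3 ≤ q by omega)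
    exact ⟨u, g, g, hu, by rw [Set.pair_eq_singleton]; exact hgen⟩
  · rcases eq_or_lt_of_le h2 with h | h
    · subst h; exact suThree_two hF rfl hm
    · exact suThree_of_three_le hF h rfl hm

end H37
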