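import Cfsg.Agent.H37.SUThreeMinMate
import Mathlib.GroupTheory.Perm.Cycle.Type

/-!
Subgroups of three-dimensional special unitary groups without transvections: the pairing of
points bounds the field.
-/

set_option autoImplicit false

namespace H37.U3Min

open Matrix Cfsg H50 H50.PointStab H50.RadFrame H37.SUMin

universe u

variable {F : Type u} [Field F] {q : ℕ}

local notation "V3" => (Fin 3 → F)
local notation "h3" => hermForm 3 F q
local notation "G3" => SU 3 F q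

/-- `v` lies on the line of `w`. -/
def OnLine (v w : Fin 3 → F) : Prop := ∃ a : F, a ≠ 0 ∧ v = a • w

theorem OnLine.symm {v w : Fin 3 → F} : OnLine v w → OnLine w v := by
  rintro ⟨a, ha, rfl⟩
  exact ⟨a⁻¹, inv_ne_zero ha, by rw [inv_smul_smul₀ ha]⟩

theorem OnLine.trans {u v w : Fin 3 → F} : OnLine u v → OnLine v w → OnLine u w := by
  rintro ⟨a, ha, rfl⟩ ⟨b, hb, rfl⟩
  exact ⟨a * b, mul_ne_zero ha hb, smul_smul a b w⟩

theorem OnLine.map {v w : Fin 3 → F} (g : SU 3 F q) : OnLine v w → OnLine (suMat g *ᵥ v) (suMat g *ᵥ w) := by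
  rintro ⟨a, ha, rfl⟩
  exact ⟨a, ha, mulVec_smul _ _ _⟩

theorem mem_pst_iff {v : Fin 3 → F} {g : SU 3 F q} :
    g ∈ pst (m := 1) v ↔ OnLine (suMat g *ᵥ v) v := Iff.rfl

variable [Fintype F] (hF : Fintype.card F = q ^ 2)
include hF

theorem OnLine.comb {x y : Fin (1 + 2) → F} (h : IsHyp q x y) {a b c d : F}
    (e : OnLine (a • x + b • y : Fin 3 → F) (c • x + d • y)) : a * d = c * b := by
  obtain ⟨l, -, e⟩ := e
  have hh1 := congrArg (fun v => hermForm (1 + 2) F q v y) e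
  have hh2 := congrArg (fun v => hermForm (1 + 2) F q v x) e
  simp [h_add_left, h_smul_left, h.1, h.2.1, h.2.2, (h.symm hF).2.2] at hh1 hh2
  subst hh1; subst hh2; ring

section Gamma

variable {x y : Fin (1 + 2) → F} (h : IsHyp q x y) {Γ : Subgroup (SU 3 F q)}
  (hΓx : ∀ g ∈ Γ, g ∈ pst (m := 1) x → g ∈ lev q x y)
include h hΓx

theorem mate_unique {g g' : G3} (hg : g ∈ Γ) (hg' : g' ∈ Γ)
    (e : OnLine (suMat g *ᵥ x) (suMat g' *ᵥ x)) : OnLine (suMat g *ᵥ y) (suMat g' *ᵥ y) := by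
  have hm : g'⁻¹ * g ∈ pst (m := 1) x := by
    rw [mem_pst_iff, suMat_mulVec_mul]
    have := e.map (g'⁻¹)
    rwa [suMat_inv_mulVec] at this
  have : OnLine (suMat (g'⁻¹ * g) *ᵥ y) y := (hΓx _ (Γ.mul_mem (Γ.inv_mem hg') hg) hm).2
  rw [suMat_mulVec_mul] at this
  have h2 := this.map g'
  rwa [suMat_mulVec_inv] at h2

theorem stab_y_le {g₀ : G3} (hg₀ : g₀ ∈ Γ) (he : OnLine (suMat g₀ *ᵥ x) y) :
    ∀ g ∈ Γ, g ∈ pst (m := 1) y → g ∈ lev q x y := by
  have hmap : ∀ a : G3, a ∈ pst (m := 1) x → g₀ * a * g₀⁻¹ ∈ pst (m := 1) y := by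
    intro a ha
    rw [mem_pst_iff, suMat_mulVec_mul, suMat_mulVec_mul]
    have h1 := (he.symm.map g₀⁻¹)
    rw [suMat_inv_mulVec] at h1
    exact (((h1.map a).trans (mem_pst_iff.1 ha)).map g₀).trans he
  have hsub : Γ ⊓ pst (m := 1) x ≤ Γ ⊓ pst (m := 1) y := fun a ha =>
    ⟨ha.1, (hΓx a ha.1 ha.2).2⟩
  have hcard : Nat.card (Γ ⊓ pst (m := 1) y : Subgroup G3) ≤ Nat.card (Γ ⊓ pst (m := 1) x : Subgroup G3) := by
    refine Nat.card_le_card_of_injective (fun a => ⟨g₀⁻¹ * a.1 * g₀,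
      Γ.mul_mem (Γ.mul_mem (Γ.inv_mem hg₀) a.2.1) hg₀, ?_⟩) fun a b e => ?_
    · show OnLine _ _
      rw [suMat_mulVec_mul, suMat_mulVec_mul]
      have h1 := ((he.map a.1).trans ((mem_pst_iff.1 a.2.2).trans he.symm)).map g₀⁻¹
      rwa [suMat_inv_mulVec] at h1
    · have := congrArg Subtype.val e
      exact Subtype.ext (by simpa using this)
  intro g hg hgy
  have : g ∈ Γ ⊓ pst (m := 1) x := (Subgroup.eq_of_le_of_card_ge hsub hcard).symm ▸ (⟨hg, hgy⟩ : g ∈ Γ ⊓ pst (m := 1) y)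
  exact hΓx g hg this.2

theorem mate_swap {s : G3} (hs : s ∈ Γ) (hsl : s ∈ lev (m := 1) q x y)
    (hN : eig q x y s ^ (q + 1) ≠ 1) {g : G3} (hg : g ∈ Γ) (he : OnLine (suMat g *ᵥ x) y) : OnLine (suMat g *ᵥ y) x := by
  have hgs : g * s * g⁻¹ ∈ pst (m := 1) y := by
    rw [mem_pst_iff, suMat_mulVec_mul, suMat_mulVec_mul]
    have h1 := (he.symm.map g⁻¹)
    rw [suMat_inv_mulVec] at h1
    exact (((h1.map s).trans (mem_pst_iff.1 hsl.1)).map g).trans he
  have hx' := (stab_y_le hF h hΓx hg he _ (Γ.mul_mem (Γ.mul_mem hg hs) (Γ.inv_mem hg)) hgs).1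
  obtain ⟨μ, hμ0, hμ⟩ := hx'
  have hfix : suMat s *ᵥ (suMat g⁻¹ *ᵥ x) = μ • (suMat g⁻¹ *ᵥ x) := by
    have := congrArg (fun v => suMat g⁻¹ *ᵥ v) hμ
    simp only [suMat_mulVec_mul, suMat_inv_mulVec, mulVec_smul] at this
    exact this
  have hx0 := h.fst_ne_zero hF
  have hv0 : suMat g⁻¹ *ᵥ x ≠ 0 := fun e0 => hx0 (suMat_injective g⁻¹ (by simpa using e0))
  rcases lev_fix hF h hsl hN hv0 (by erw [suMat_h]; exact h.1) hfix with ⟨c, hc⟩ | ⟨c, hc⟩ <;>
    have hc0 : c ≠ 0 := fun e0 => hv0 (by rw [hc, e0, zero_smul])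
  · exfalso
    have h1 : OnLine (suMat g *ᵥ (suMat g⁻¹ *ᵥ x)) (suMat g *ᵥ x) := (OnLine.map g ⟨c, hc0, hc⟩)
    rw [suMat_mulVec_inv] at h1
    obtain ⟨a, -, ha⟩ := h1.trans he
    have hh := h.2.2
    rw [ha, h_smul_left] at hh
    erw [h.2.1] at hh
    rw [mul_zero] at hh
    exact zero_ne_one hh
  · have h1 : OnLine (suMat g *ᵥ (suMat g⁻¹ *ᵥ x)) (suMat g *ᵥ y) := (OnLine.map g ⟨c, hc0, hc⟩)
    rw [suMat_mulVec_inv] at h1
    exact h1.symm

end Gamma

/-- Everything paired: the number of points is even. -/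
theorem even_points {x y : Fin (1 + 2) → F} (h : IsHyp q x y) {K : Subgroup (SU 3 F q)}
    (htr : PtTrans K) (hKx : ∀ g ∈ K, g ∈ pst (m := 1) x → g ∈ lev q x y) {s : G3} (hs : s ∈ K)
    (hsl : s ∈ lev (m := 1) q x y) (hN : eig q x y s ^ (q + 1) ≠ 1) : Even (q ^ 3 + 1) := by
  classical
  have hx0 := h.fst_ne_zero hF
  have hy0 := (h.symm hF).fst_ne_zero hF
  haveI : Finite (IsoPt (1 + 2) q F) := by unfold IsoPt; infer_instance
  haveI : Fintype (IsoPt (1 + 2) q F) := Fintype.ofFinite _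
  have hsel : ∀ p : IsoPt (1 + 2) q F, ∃ g : K,
      (g : G3) • (IsoPt.mk x hx0 h.1 : IsoPt (1 + 2) q F) = p := by
    intro p
    obtain ⟨w, hw0, hw, rfl⟩ := p.exists_mk
    obtain ⟨g, hg, a, -, e⟩ := htr x w hx0 hw0 h.1 hw
    exact ⟨⟨g, hg⟩, smul_isoPt_eq.2 ⟨a, e.symm⟩⟩
  choose sel hsel using hsel
  set Py : IsoPt (1 + 2) q F := IsoPt.mk y hy0 h.2.1
  have key : ∀ g : K, ((g : G3) • Py) = (sel ((g : G3) • IsoPt.mk x hx0 h.1) : G3) • Py := by
    intro g
    set g' := sel ((g : G3) • IsoPt.mk x hx0 h.1)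
    have e := hsel ((g : G3) • IsoPt.mk x hx0 h.1)
    obtain ⟨a, b, hgx⟩ := smul_isoPt_mk (g : G3) x hx0 h.1
    obtain ⟨a', b', hgx'⟩ := smul_isoPt_mk (g' : G3) x hx0 h.1
    rw [hgx] at e
    erw [hgx'] at e
    obtain ⟨c, hc⟩ := IsoPt.mk_eq_mk.1 e
    have hc0 : c ≠ 0 := fun e0 => a' (by rw [← hc, e0, zero_smul])
    obtain ⟨l, hl0, hl⟩ := mate_unique hF h hKx g'.2 g.2 ⟨c, hc0, hc.symm⟩
    obtain ⟨a1, b1, hgy⟩ := smul_isoPt_mk (g : G3) y hy0 h.2.1
    obtain ⟨a2, b2, hgy'⟩ := smul_isoPt_mk (g' : G3) y hy0 h.2.1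
    refine (hgy.trans ?_).trans hgy'.symm
    exact IsoPt.mk_eq_mk.2 ⟨l⁻¹, by erw [hl]; rw [inv_smul_smul₀ hl0]⟩
  let π : IsoPt (1 + 2) q F → IsoPt (1 + 2) q F := fun p => (sel p : G3) • Py
  have hπy : π Py = IsoPt.mk x hx0 h.1 := by
    obtain ⟨a, b, hg⟩ := smul_isoPt_mk (sel Py : G3) x hx0 h.1
    have e := hsel Py
    rw [hg] at e
    obtain ⟨c, hc⟩ := IsoPt.mk_eq_mk.1 e
    have hc0 : c ≠ 0 := fun e0 => a (by rw [← hc, e0, zero_smul])
    obtain ⟨l, hl0, hl⟩ := mate_swap hF h hKx hs hsl hN (sel Py).2 ⟨c, hc0, hc.symm⟩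
    exact smul_isoPt_eq.2 ⟨l, hl.symm⟩
  have hπ : ∀ g : K, ∀ p, π ((g : G3) • p) = (g : G3) • π p := by
    intro g p
    show (sel ((g : G3) • p) : G3) • Py = (g : G3) • ((sel p : G3) • Py)
    rw [← mul_smul, ← Subgroup.coe_mul, key (g * sel p), Subgroup.coe_mul, mul_smul, hsel]
  have hinv : Function.Involutive π := by
    intro p
    show π ((sel p : G3) • Py) = p
    rw [hπ, hπy, hsel]
  have hfree : ∀ p, π p ≠ p := by
    intro p e
    have e' : (sel p : G3) • Py = (sel p : G3) • IsoPt.mk x hx0 h.1 := e.trans (hsel p).symm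
    have := MulAction.injective (sel p : G3) e'
    obtain ⟨c, hc⟩ := IsoPt.mk_eq_mk.1 this
    have hh := h.2.2
    rw [← hc, h_smul_right hF, h.1, mul_zero] at hh
    exact zero_ne_one hh
  set σ := hinv.toPerm π
  let σe : Function.End (IsoPt (1 + 2) q F) := π
  have hσ : σe ^ 2 ^ 1 = 1 := by
    rw [pow_one, pow_two]; exact funext hinv
  have hmod : Fintype.card (IsoPt (1 + 2) q F) ≡ Fintype.card (Function.fixedPoints π) [MOD 2] :=
    Equiv.Perm.card_fixedPoints_modEq (p := 2) (n := 1) hσ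
  have hempty : Fintype.card (Function.fixedPoints π) = 0 :=
    Fintype.card_eq_zero_iff.2 ⟨fun p => hfree p.1 p.2⟩
  rw [hempty, ← Nat.card_eq_fintype_card,
    show Nat.card (IsoPt (1 + 2) q F) = q ^ 3 + 1 from card_isoPt_three hF] at hmod
  exact Nat.even_iff.2 hmod

/-- The pairing on a chord bounds the field. -/
theorem chord_bound {x y : Fin (1 + 2) → F} (h : IsHyp q x y) {Γ : Subgroup (SU 3 F q)}
    (hΓx : ∀ g ∈ Γ, g ∈ pst (m := 1) x → g ∈ lev q x y) {s : G3} (hs : s ∈ Γ)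
    (hsl : s ∈ lev (m := 1) q x y) (hN : eig q x y s ^ (q + 1) ≠ 1)
    (hpres : ∀ g ∈ Γ, ∃ α β γ δ : F, suMat g *ᵥ x = α • x + β • y ∧ suMat g *ᵥ y = γ • x + δ • y)
    (htrΓ : ∀ z : F, z + z ^ q = 0 → ∃ g ∈ Γ, OnLine (suMat g *ᵥ x) (z • x + y))
    (M : Set F) (hM : ∀ c ∈ M, ∃ g ∈ Γ, g ∈ lev (m := 1) q x y ∧ eig q x y g ^ (q + 1) = c) :
    ∃ n : ℕ, n * M.ncard ≤ q - 1 ∧ q - 3 ≤ 2 * n ^ 2 := by
  classical
  obtain ⟨Z, hZ⟩ : ∃ Z : Set F, Z = {z : F | z + z ^ q = 0 ∧ z ≠ 0} := ⟨_, rfl⟩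
  have hx0 := h.fst_ne_zero hF
  have hxy : ∀ a : F, x ≠ a • y := fun a e => by
    have hh := h.2.2
    rw [e, h_smul_left, h.2.1, mul_zero] at hh
    exact zero_ne_one hh
  have hyx : ∀ a : F, y ≠ a • x := fun a e => by
    have hh := h.2.2
    rw [e, h_smul_right hF, h.1, mul_zero] at hh
    exact zero_ne_one hh
  have himg : ∀ (g : G3) (a b : F), suMat g *ᵥ (a • x + b • y) = a • suMat g *ᵥ x + b • suMat g *ᵥ y :=
    fun g a b => by rw [mulVec_add, mulVec_smul, mulVec_smul]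
  -- ratios of isotropic vectors of the chord
  have hratio : ∀ a b : F, b ≠ 0 → hermForm (1 + 2) F q (a • x + b • y) (a • x + b • y) = 0 →
      a / b + (a / b) ^ q = 0 := by
    intro a b hb e
    simp [h_add_left, h_add_right hF, h_smul_left, h_smul_right hF, h.1, h.2.1, h.2.2,
      (h.symm hF).2.2] at e
    rw [div_pow, div_add_div _ _ hb (pow_ne_zero _ hb)]
    exact div_eq_zero_iff.2 (Or.inl (by linear_combination e))
  have hmate : ∀ z ∈ Z, ∃ w : F, w ∈ Z ∧ w ≠ z ∧ ∀ g ∈ Γ, OnLine (suMat g *ᵥ x) (z • x + y) →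
      OnLine (suMat g *ᵥ y) (w • x + y) := by
    intro z hz
    rw [hZ] at hz
    obtain ⟨hz1, hz0⟩ := hz
    obtain ⟨g, hg, hgx⟩ := htrΓ z hz1
    obtain ⟨α, β, γ, δ, eα, eγ⟩ := hpres g hg
    have hgy0 : suMat g *ᵥ y ≠ 0 := fun e0 => hyx 0 (by
      rw [zero_smul]; exact suMat_injective g (by simpa using e0))
    have hδ : δ ≠ 0 := by
      intro e0
      rw [e0, zero_smul, add_zero] at eγ
      have hγ : γ ≠ 0 := fun e' => hgy0 (by rw [eγ, e', zero_smul])
      have hg' : OnLine (suMat g⁻¹ *ᵥ x) y := by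
        have := (OnLine.map g⁻¹ (⟨γ, hγ, eγ⟩ : OnLine (suMat g *ᵥ y) x))
        rw [suMat_inv_mulVec] at this
        exact this.symm
      have h2 := (mate_swap hF h hΓx hs hsl hN (Γ.inv_mem hg) hg').map g
      rw [suMat_mulVec_inv] at h2
      have h3' : OnLine (y : V3) (z • x + y) := h2.trans hgx
      obtain ⟨l, -, hl⟩ := h3'
      have hh := congrArg (fun v => hermForm (1 + 2) F q v y) hl
      simp [h_add_left, h_smul_left, h.2.1, h.2.2] at hh
      rcases hh with rfl | rfl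
      · exact hyx 0 (by simpa using hl)
      · exact hz0 rfl
    have hγ : γ ≠ 0 := by
      intro e0
      rw [e0, zero_smul, zero_add] at eγ
      have hgy : g ∈ pst (m := 1) y := ⟨δ, hδ, eγ⟩
      -- the other stabiliser
      obtain ⟨g₀, hg₀, hg₀x⟩ := htrΓ 0 (by rw [zero_pow (q_ne_zero hF), add_zero])
      rw [zero_smul, zero_add] at hg₀x
      obtain ⟨a, ha0, ha⟩ := ((stab_y_le hF h hΓx hg₀ hg₀x g hg hgy).1)
      obtain ⟨l, hl0, hl⟩ := (show OnLine (suMat g *ᵥ x) x from ⟨a, ha0, ha⟩).symm.trans hgx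
      have hh := congrArg (fun v => hermForm (1 + 2) F q v x) hl
      simp [h_add_left, h_smul_left, h.1, (h.symm hF).2.2] at hh
      exact hl0 hh.symm
    have hiso := hratio γ δ hδ (by rw [← eγ]; erw [suMat_h]; exact h.2.1)
    have hw : OnLine (suMat g *ᵥ y) ((γ / δ) • x + y) :=
      ⟨δ, hδ, by rw [eγ, smul_add, smul_smul, mul_div_cancel₀ _ hδ]⟩
    refine ⟨γ / δ, by rw [hZ]; exact ⟨hiso, div_ne_zero hγ hδ⟩, fun e => ?_, fun g' hg' hg'x =>
      (mate_unique hF h hΓx hg' hg (hg'x.trans hgx.symm)).trans hw⟩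
    rw [e] at hw
    obtain ⟨l, -, hl⟩ := hgx.trans hw.symm
    rw [← mulVec_smul] at hl
    exact hxy l (suMat_injective g hl)
  choose! W hW1 hW2 hW3 using hmate
  -- the invariance
  have hinvar : ∀ c ∈ M, ∀ z ∈ Z, c * z ∈ Z ∧ W (c * z) = c * W z := by
    intro c hc z hz
    obtain ⟨g, hg, hgl, hgc⟩ := hM c hc
    obtain ⟨h0, hx', hy'⟩ := lev_spec hF h hgl
    have hcq : c ^ q = c := by rw [← hgc]; exact norm_fixed hF _
    have hc0 : c ≠ 0 := by rw [← hgc]; exact pow_ne_zero _ h0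
    have hz' := hz
    rw [hZ] at hz'
    have hcz : c * z ∈ Z := by
      rw [hZ]
      exact ⟨by rw [mul_pow, hcq, ← mul_add, hz'.1, mul_zero], mul_ne_zero hc0 hz'.2⟩
    have hmap : ∀ w : F, OnLine (suMat g *ᵥ (w • x + y)) ((c * w) • x + y) := by
      intro w
      refine ⟨(eig q x y g ^ q)⁻¹, inv_ne_zero (pow_ne_zero _ h0), ?_⟩
      rw [mulVec_add, mulVec_smul, hx', hy', smul_add, smul_smul, smul_smul, ← hgc, pow_succ]
      congr 2
      have := pow_ne_zero q h0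
      field_simp
    refine ⟨hcz, ?_⟩
    obtain ⟨g', hg', hg'x⟩ := htrΓ z hz'.1
    have e1 : OnLine (suMat (g * g') *ᵥ x) ((c * z) • x + y) := by
      rw [suMat_mulVec_mul]; exact (hg'x.map g).trans (hmap z)
    have e2 : OnLine (suMat (g * g') *ᵥ y) ((c * W z) • x + y) := by
      rw [suMat_mulVec_mul]; exact ((hW3 z hz g' hg' hg'x).map g).trans (hmap _)
    have := (hW3 _ hcz _ (Γ.mul_mem hg hg') e1).symm.trans e2
    have e3 := OnLine.comb hF (a := W (c * z)) (b := 1) (c := c * W z) (d := 1) h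
      (by simpa using this)
    simpa using e3
  have hZfin : Z.Finite := Set.toFinite _
  have hZcard : Z.ncard = q - 1 := by
    have h1 : Z = ((traceHom hF).ker : Set F) \ {0} := by
      rw [hZ]; ext z; exact Iff.rfl
    rw [h1, Set.ncard_diff_singleton_of_mem (zero_mem (traceHom hF).ker), ← Nat.card_coe_set_eq]
    exact congrArg (· - 1) (card_trace_ker hF)
  let f : F → F := fun z => W z / z
  set S : Set F := f '' Z with hS
  refine ⟨S.ncard, ?_, ?_⟩
  · rw [← hZcard, ← Set.ncard_prod]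
    have hrep : ∀ φ ∈ S, ∃ z ∈ Z, f z = φ := fun φ hφ => hφ
    choose! R hR1 hR2 using hrep
    refine Set.ncard_le_ncard_of_injOn (fun p : F × F => p.2 * R p.1) (fun p hp =>
      (hinvar p.2 hp.2 _ (hR1 _ hp.1)).1) ?_ hZfin
    rintro ⟨φ, c⟩ ⟨hφ, hc⟩ ⟨φ', c'⟩ ⟨hφ', hc'⟩ e
    dsimp only at e
    have hz := hR1 φ hφ
    have hz' := hR1 φ' hφ'
    have hval : ∀ d ∈ M, ∀ z ∈ Z, f (d * z) = f z := by
      intro d hd z hz
      have hd0 : d ≠ 0 := fun e0 => by
        have := (hinvar d hd z hz).1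
        rw [hZ, e0, zero_mul] at this
        exact this.2 rfl
      simp only [f, (hinvar d hd z hz).2, mul_div_mul_left _ _ hd0]
    have h1 := hval c hc _ hz
    rw [e, hval c' hc' _ hz', hR2 φ hφ, hR2 φ' hφ'] at h1
    subst h1
    rw [hZ] at hz
    exact Prod.ext rfl (mul_right_cancel₀ hz.2 e)
  · by_cases hZe : Z.ncard ≤ 2
    · omega
    obtain ⟨z₁, hz₁⟩ : Z.Nonempty := Set.nonempty_of_ncard_ne_zero (by omega)
    have hz₁' := hz₁
    rw [hZ] at hz₁'
    obtain ⟨g, hg, hgx⟩ := htrΓ z₁ hz₁'.1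
    have hgy := hW3 z₁ hz₁ g hg hgx
    have hw₁ := hW1 z₁ hz₁
    rw [hZ] at hw₁
    obtain ⟨α, β, γ, δ, eα, eγ⟩ := hpres g hg
    have coeff : ∀ (a b : F) (z : F), z ≠ 0 → OnLine (a • x + b • y : V3) (z • x + y) → a ≠ 0 ∧ b ≠ 0 := by
      intro a b z hz e
      obtain ⟨l, hl0, e⟩ := e
      have hh1 := congrArg (fun v => hermForm (1 + 2) F q v y) e
      have hh2 := congrArg (fun v => hermForm (1 + 2) F q v x) e
      simp [h_add_left, h_smul_left, h.1, h.2.1, h.2.2, (h.symm hF).2.2] at hh1 hh2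
      exact ⟨hh1 ▸ mul_ne_zero hl0 hz, hh2 ▸ hl0⟩
    obtain ⟨hα, hβ⟩ := coeff α β z₁ hz₁'.2 (eα ▸ hgx)
    obtain ⟨hγ, hδ⟩ := coeff γ δ _ hw₁.2 (eγ ▸ hgy)
    set B : Set F := {z | α * z + γ = 0 ∨ β * z + δ = 0}
    let Q : F × F → Set F := fun p => {z | p.2 * ((α * z + γ) * (β * (p.1 * z) + δ)) =
      (α * (p.1 * z) + γ) * (β * z + δ) ∧ p.2 ≠ 1}
    have hcover : Z ⊆ B ∪ ⋃ p ∈ (hZfin.image f).toFinset ×ˢ (hZfin.image f).toFinset, Q p := by
      intro z hz
      by_cases hzB : z ∈ B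
      · exact Or.inl hzB
      right
      simp only [B, Set.mem_setOf_eq, not_or] at hzB
      obtain ⟨hn, hd⟩ := hzB
      have hz' := hz
      rw [hZ] at hz'
      obtain ⟨gz, hgz, hgzx⟩ := htrΓ z hz'.1
      have hgzy := hW3 z hz gz hgz hgzx
      have himage : ∀ w : F, suMat g *ᵥ (w • x + y) = (α * w + γ) • x + (β * w + δ) • y := by
        intro w
        rw [mulVec_add, mulVec_smul, eα, eγ]
        module
      have hz'' : (α * z + γ) / (β * z + δ) ∈ Z := by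
        rw [hZ]
        refine ⟨hratio _ _ hd ?_, div_ne_zero hn hd⟩
        rw [← himage]
        erw [suMat_h]
        simp [h_add_left, h_add_right hF, h_smul_left, h_smul_right hF, h.1, h.2.1, h.2.2,
          (h.symm hF).2.2]
        linear_combination hz'.1
      set z' := (α * z + γ) / (β * z + δ) with hz'def
      have e1 : OnLine (suMat (g * gz) *ᵥ x) (z' • x + y) := by
        rw [suMat_mulVec_mul]
        refine (hgzx.map g).trans ⟨β * z + δ, hd, ?_⟩
        rw [himage, smul_add, smul_smul, hz'def, mul_div_cancel₀ _ hd]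
      have e2 := hW3 z' hz'' (g * gz) (Γ.mul_mem hg hgz) e1
      rw [suMat_mulVec_mul] at e2
      have e3 := (hgzy.map g).symm.trans e2
      rw [himage] at e3
      have hd' : β * W z + δ ≠ 0 := by
        obtain ⟨l, hl0, e4⟩ := e3
        have hh2 := congrArg (fun v => hermForm (1 + 2) F q v x) e4
        simp [h_add_left, h_smul_left, h.1, (h.symm hF).2.2] at hh2
        exact hh2 ▸ hl0
      have e5 := OnLine.comb hF (a := α * W z + γ) (b := β * W z + δ) (c := W z') (d := 1) h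
        (by simpa using e3)
      simp only [Set.mem_iUnion, Finset.mem_product, Set.Finite.mem_toFinset]
      refine ⟨(f z, f z'), ⟨⟨z, hz, rfl⟩, ⟨z', hz'', rfl⟩⟩, ?_, ?_⟩
      · simp only [f]
        rw [mul_one] at e5
        rw [div_mul_cancel₀ _ hz'.2, e5]
        have e6 : W z' / z' * (α * z + γ) = W z' * (β * z + δ) := by
          rw [hz'def]; field_simp
        linear_combination (β * W z + δ) * e6
      · simp only [f]
        intro e'
        rw [div_eq_one_iff_eq (div_ne_zero hn hd)] at e'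
        exact hW2 z' hz'' e'
    have hB : B.ncard ≤ 2 := by
      refine le_trans (Set.ncard_le_ncard (fun z hz => ?_) (Set.toFinite ({-γ / α, -δ / β} : Set F)))
        ((Set.ncard_insert_le _ _).trans (by rw [Set.ncard_singleton]))
      rcases hz with hz | hz
      · exact Or.inl (by rw [eq_div_iff hα]; linear_combination hz)
      · exact Or.inr (show z = -δ / β by rw [eq_div_iff hβ]; linear_combination hz)
    have hQ : ∀ p, (Q p).ncard ≤ 2 := by
      intro p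
      by_contra hgt
      obtain ⟨a, b, c, ha, hb, hc, hab, hac, hbc⟩ :=
        (Set.two_lt_ncard_iff (Set.toFinite _)).1 (not_le.1 hgt)
      obtain ⟨φ, ψ⟩ := p
      simp only [Q, Set.mem_setOf_eq] at ha hb hc
      obtain ⟨ea, hψ⟩ := ha
      obtain ⟨eb, -⟩ := hb
      obtain ⟨ec, -⟩ := hc
      set c2 := α * β * φ * (ψ - 1)
      set c1 := ψ * (α * δ + γ * β * φ) - (α * φ * δ + γ * β)
      have h12 : c2 * (a + b) + c1 = 0 := mul_left_cancel₀ (sub_ne_zero.2 hab) (by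
        simp only [c2, c1]; linear_combination ea - eb)
      have h13 : c2 * (a + c) + c1 = 0 := mul_left_cancel₀ (sub_ne_zero.2 hac) (by
        simp only [c2, c1]; linear_combination ea - ec)
      have h2 : c2 = 0 := mul_left_cancel₀ (sub_ne_zero.2 hbc) (by linear_combination h12 - h13)
      have h1 : c1 = 0 := by rw [h2] at h12; linear_combination h12
      have h0 : γ * δ * (ψ - 1) = 0 := by
        simp only [c2, c1] at h2 h1
        linear_combination ea - a ^ 2 * h2 - a * h1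
      exact mul_ne_zero (mul_ne_zero hγ hδ) (sub_ne_zero.2 hψ) h0
    have h1 := Set.ncard_le_ncard hcover (Set.toFinite _)
    have h2 := h1.trans (Set.ncard_union_le _ _)
    have h3' := h2.trans (Nat.add_le_add hB ((Finset.set_ncard_biUnion_le _ _).trans
      (Finset.sum_le_card_nsmul _ _ 2 fun p _ => hQ p)))
    rw [hZcard, Finset.card_product, smul_eq_mul, ← Set.ncard_eq_toFinset_card, ← hS] at h3'
    rw [pow_two, mul_comm 2]
    omega

end H37.U3Min
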