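import Cfsg.Agent.H37.SUThreeMinBase
import Cfsg.Agent.H37.SL2Gen

/-!
Subgroups of small index of three-dimensional special unitary groups that contain transvections:
their parameters form a scaled subfield, and the index bound follows.
-/

set_option autoImplicit false

namespace H37.U3Min

open Matrix Cfsg H50 H50.PointStab H50.RadFrame H37.SUMin MatrixGroups

universe u

section Alg

variable {F : Type u} [Field F]

theorem char_three_fourth (h3 : (3:F) = 0) (A D : F) (a : (A - D^2)^4 = 1) (b : (A - (D+1)^2)^4 = 1) (c : (A - (D-1)^2)^4 = 1) : A * (A^4 - 1) = 0 := by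
  obtain ⟨u, hu⟩ : ∃ u, u = A - D^2 := ⟨_, rfl⟩
  obtain ⟨v, hv⟩ : ∃ v, v = A - (D+1)^2 := ⟨_, rfl⟩
  obtain ⟨w, hw⟩ : ∃ w, w = A - (D-1)^2 := ⟨_, rfl⟩
  rw [← hu] at a; rw [← hv] at b; rw [← hw] at c
  have ew : w = 1 - u - v := by rw [hu, hv, hw]; linear_combination (A - D ^ 2 - 1) * h3
  have eD : D = w - v := by rw [hv, hw]; linear_combination (-D) * h3
  have eA : A = u + D ^ 2 := by rw [hu]; ring
  have m1 : (1:F) ≠ 0 := one_ne_zero
  subst eA; subst eD; subst ew
  have split : ∀ z : F, z^4 = 1 → z = 1 ∨ z = -1 ∨ z^2 = -1 := by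
    intro z hz
    have : (z - 1) * ((z + 1) * (z^2 + 1)) = 0 := by linear_combination hz
    rcases mul_eq_zero.1 this with h | h
    · exact Or.inl (sub_eq_zero.1 h)
    · rcases mul_eq_zero.1 h with h | h
      · exact Or.inr (Or.inl (eq_neg_of_add_eq_zero_left h))
      · exact Or.inr (Or.inr (eq_neg_of_add_eq_zero_left h))
  clear hu hv hw
  rcases split u a with rfl | rfl | hu <;> rcases split v b with rfl | rfl | hv
  · linear_combination 1040 * h3
  · linear_combination 1040 * h3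
  · grobner
  · linear_combination 0 * h3
  · linear_combination 253120 * h3
  · grobner
  · grobner
  · grobner
  · grobner

/-- The subfield fixed by the power map. -/
def fixq [Fintype F] {q : ℕ} (hF : Fintype.card F = q ^ 2) : Subfield F where
  carrier := {c | c ^ q = c}
  one_mem' := one_pow q
  zero_mem' := zero_pow (q_ne_zero hF)
  add_mem' := fun {a b} (ha : a ^ q = a) (hb : b ^ q = b) => show (a + b) ^ q = a + b by
    rw [add_pow_q hF, ha, hb]
  mul_mem' := fun {a b} (ha : a ^ q = a) (hb : b ^ q = b) => show (a * b) ^ q = a * b by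
    rw [mul_pow, ha, hb]
  neg_mem' := fun {a} (ha : a ^ q = a) => show (-a) ^ q = -a by rw [neg_pow_q hF, ha]
  inv_mem' := fun a (ha : a ^ q = a) => show a⁻¹ ^ q = a⁻¹ by rw [inv_pow, ha]

/-- A finite subfield is the fixed set of the power by its order. -/
theorem mem_subfield_iff_pow [Finite F] (k : Subfield F) {x : F} : x ∈ k ↔ x ^ Nat.card k = x := by
  haveI : Fintype k := Fintype.ofFinite _
  have hsub : (k : Set F) ⊆ {y : F | y ^ Nat.card k = y} := fun y hy => by
    have := congrArg Subtype.val (FiniteField.pow_card (⟨y, hy⟩ : k))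
    rw [Nat.card_eq_fintype_card]
    simpa using this
  have h2 : 2 ≤ Nat.card k := by rw [Nat.card_eq_fintype_card]; exact Fintype.one_lt_card
  have he := Set.eq_of_subset_of_ncard_le hsub
    ((ncard_pow_eq_le h2).trans (Nat.card_coe_set_eq (k : Set F)).le) (Set.toFinite _)
  constructor
  · exact fun hx => hsub hx
  · intro hx
    show x ∈ (k : Set F)
    rw [he]; exact hx

theorem add_pow_subfield [Finite F] (k : Subfield F) (a b : F) :
    (a + b) ^ Nat.card k = a ^ Nat.card k + b ^ Nat.card k := by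
  haveI : Fintype k := Fintype.ofFinite _
  obtain ⟨p, hp⟩ := CharP.exists F
  haveI := hp
  haveI : Fact p.Prime := ⟨CharP.char_is_prime F p⟩
  haveI : CharP k p := (algebraMap k F).charP (algebraMap k F).injective p
  obtain ⟨i, -, hi⟩ := FiniteField.card k p
  rw [Nat.card_eq_fintype_card, hi, add_pow_char_pow]

/-- Roots of a quadratic over a finite subfield. -/
theorem quad_roots [Fintype F] {q : ℕ} (hF : Fintype.card F = q ^ 2) (k : Subfield F) {v : F}
    (h1 : v + v ^ q ∈ k) (h2 : v ^ (q + 1) ∈ k) :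
    (v ^ Nat.card k = v ∨ v ^ Nat.card k = v ^ q) ∧ v ^ (Nat.card k ^ 2) = v := by
  set j := Nat.card k
  have e := (mem_subfield_iff_pow k).1 h1
  have e' := (mem_subfield_iff_pow k).1 h2
  rw [add_pow_subfield] at e
  have hp : (v ^ j - v) * (v ^ j - v ^ q) = 0 := by
    have hc : (v ^ (q + 1)) ^ j = v ^ j * (v ^ q) ^ j := by rw [pow_succ', mul_pow]
    rw [hc] at e'
    linear_combination v ^ j * e - e' - v ^ j * 0
  have h' : v ^ j = v ∨ v ^ j = v ^ q := by
    rcases mul_eq_zero.1 hp with h | h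
    exacts [Or.inl (sub_eq_zero.1 h), Or.inr (sub_eq_zero.1 h)]
  refine ⟨h', ?_⟩
  rw [pow_two, pow_mul]
  rcases h' with h | h
  · rw [h, h]
  · rw [h, ← pow_mul, mul_comm q, pow_mul, h, pow_q_pow_q hF]

end Alg

section

variable {F : Type u} [Field F] {q : ℕ}

local notation "V3" => (Fin 3 → F)
local notation "h3" => hermForm 3 F q
local notation "G3" => SU 3 F q

variable [Fintype F] (hF : Fintype.card F = q ^ 2)
include hF

/-- The action of a two by two matrix on a hyperbolic pair. -/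
theorem exists_eig_of_pair {K : Subgroup (SU 3 F q)} {x y : Fin (1 + 2) → F} (h : IsHyp q x y)
    {s s' : F} (hs : s ∈ wPart hF h K) (hs' : s' ∈ tw hF K h.2.1) (hs0 : s ≠ 0) (hs'0 : s' ≠ 0)
    (h2 : (2 : F) ≠ 0) (hgood : (3 : F) = 0 → (s * s') ^ 2 ≠ -1) :
    s * s' ∈ mult (wPart hF h K) := by
  classical
  have hW : s + s ^ q = 0 := wPart_le_trace hF h hs
  have hW' : s' + s' ^ q = 0 := hs'.1
  set l := s * s' with hl
  have hlq : l ^ q = l := by
    rw [hl, mul_pow, show s ^ q = -s by linear_combination hW, show s' ^ q = -s' by linear_combination hW']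
    ring
  set k0 := Subfield.closure ({l} : Set F) with hk0
  have hfix : k0 ≤ fixq hF := Subfield.closure_le.2 (by rintro _ rfl; exact hlq)
  let act : SL(2, k0) → (Fin (1 + 2) → F) → (Fin (1 + 2) → F) := fun A v =>
    v + hermForm (1 + 2) F q v y • (((A 0 0 : k0) - 1 : F) • x + (((A 1 0 : k0) : F) * s') • y)
      + hermForm (1 + 2) F q v x • ((((A 0 1 : k0) : F) / s') • x + ((A 1 1 : k0) - 1 : F) • y)
  have hact : ∀ A B v, act A (act B v) = act (A * B) v := by
    intro A B v
    simp only [act, h_add_left, h_smul_left, h.1, h.2.1, h.2.2, (h.symm hF).2.2,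
      Matrix.SpecialLinearGroup.coe_mul, Matrix.mul_apply, Fin.sum_univ_two, Subfield.coe_add,
      Subfield.coe_mul]
    have hss : s'⁻¹ * s' = 1 := inv_mul_cancel₀ hs'0
    match_scalars <;> field_simp <;> ring
  have hone : ∀ v, act 1 v = v := fun v => by simp [act]
  let T : Subgroup SL(2, k0) :=
    { carrier := {A | ∃ g ∈ K, ∀ v, suMat g *ᵥ v = act A v}
      one_mem' := ⟨1, one_mem _, fun v => by rw [suMat_one, one_mulVec, hone]⟩
      mul_mem' := by
        rintro A B ⟨g, hg, hgv⟩ ⟨g', hg', hgv'⟩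
        exact ⟨g * g', mul_mem hg hg', fun v => by rw [suMat_mulVec_mul, hgv', hgv, hact]⟩
      inv_mem' := by
        rintro A ⟨g, hg, hgv⟩
        refine ⟨g⁻¹, inv_mem hg, fun v => suMat_injective g ?_⟩
        show suMat g *ᵥ (suMat g⁻¹ *ᵥ v) = suMat g *ᵥ act A⁻¹ v
        rw [suMat_mulVec_inv, hgv, hact, mul_inv_cancel, hone] }
  obtain ⟨-, A, hA, hAz⟩ := (tw_eq_wPart hF h (K := K)).symm ▸ hs
  obtain ⟨-, B, hB, hBz⟩ := hs'
  set l0 : k0 := ⟨l, Subfield.subset_closure rfl⟩
  have hT : twoUnip l0 ≤ T := by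
    rw [twoUnip, Subgroup.closure_le]
    rintro _ (rfl | rfl)
    · refine ⟨B, hB, fun v => (hBz v).trans ?_⟩
      simp [act, lower2, smul_smul, mul_comm]
    · refine ⟨A, hA, fun v => (hAz v).trans ?_⟩
      simp only [act, upper2]
      simp [l0, hl, hs'0, smul_smul, mul_comm]
  have hl0 : l0 ≠ 0 := fun e => mul_ne_zero hs0 hs'0 (congrArg Subtype.val e)
  have hgen : Subfield.closure ({l0} : Set k0) = ⊤ := by
    rw [eq_top_iff]
    rintro ⟨z, hz⟩ -
    have : k0 ≤ (Subfield.closure ({l0} : Set k0)).map k0.subtype :=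
      Subfield.closure_le.2 (by rintro _ rfl; exact ⟨l0, Subfield.subset_closure rfl, rfl⟩)
    obtain ⟨z', hz', e⟩ := this hz
    obtain rfl : z' = ⟨z, hz⟩ := Subtype.ext e
    exact hz'
  have htop := two_unipotents_eq_top (lam := l0)
    (fun e => h2 (by simpa [map_ofNat] using congrArg k0.subtype e)) hl0 hgen (by
      rintro ⟨hc, hsq⟩
      refine hgood ?_ (by simpa using congrArg Subtype.val hsq)
      have h9 : ((9 : ℕ) : k0) = 0 := by rw [← hc]; exact FiniteField.cast_card_eq_zero _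
      have h9' : (3 : F) * 3 = 0 := by
        have := congrArg k0.subtype h9
        rw [map_natCast, map_zero] at this
        norm_num at this ⊢
        exact this
      simpa using h9')
  have hsqk : ∀ a : F, a ∈ k0 → a * a ∈ mult (wPart hF h K) := by
    intro a ha
    by_cases ha0 : a = 0
    · rw [ha0, zero_mul]; exact zero_mem _
    let D : SL(2, k0) := ⟨!![⟨a, ha⟩, 0; 0, ⟨a, ha⟩⁻¹], by
      rw [det_fin_two_of, mul_zero, sub_zero, mul_inv_cancel₀ (fun e => ha0 (congrArg Subtype.val e))]⟩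
    obtain ⟨g, hg, hgv⟩ : D ∈ T := hT (htop ▸ Subgroup.mem_top D)
    have hgx : suMat g *ᵥ x = a • x := by
      rw [hgv]
      simp [act, D, h.1, h.2.2]
      module
    have hmem : a ∈ eSet (m := 1) x y K :=
      ⟨g, ⟨hg, a, ha0, hgx⟩, by rw [eig]; erw [hgx]; rw [h_smul_left, h.2.2, mul_one]⟩
    intro w hw
    have := (eig_norm_mul_mem hF h le_rfl hmem hw).2
    rwa [pow_succ, show a ^ q = a from hfix ha] at this
  have hmk : l ∈ k0 := Subfield.subset_closure rfl
  have h4 : (4 : F) ≠ 0 := by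
    rw [show (4 : F) = 2 * 2 by norm_num]; exact mul_ne_zero h2 h2
  have e : l = (l + 1) / 2 * ((l + 1) / 2) - (l - 1) / 2 * ((l - 1) / 2) := by
    field_simp; ring
  rw [e]
  have h2k : (2 : F) ∈ k0 := by rw [← one_add_one_eq_two]; exact add_mem (one_mem _) (one_mem _)
  exact sub_mem (hsqk _ (div_mem (add_mem hmk (one_mem _)) h2k))
    (hsqk _ (div_mem (sub_mem hmk (one_mem _)) h2k))

variable {K : Subgroup (SU 3 F q)} (htr : PtTrans K) {x y : Fin (1 + 2) → F} (h : IsHyp q x y)
include htr h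

/-- The product rule for two centres. -/
theorem lambda_mem (h2 : (2 : F) ≠ 0) {v w : V3} (hv : h3 v v = 0) (hw : h3 w w = 0) {s s' : F}
    (hs : s ∈ tw hF K hv) (hs' : s' ∈ tw hF K hw)
    (hgood : (3 : F) = 0 → (s * s' * h3 v w ^ (q + 1)) ^ 2 ≠ -1) :
    s * s' * h3 v w ^ (q + 1) ∈ mult (wPart hF h K) := by
  by_cases h0 : s * s' * h3 v w ^ (q + 1) = 0
  · rw [h0]; exact zero_mem _
  simp only [mul_eq_zero, not_or, pow_eq_zero_iff (Nat.succ_ne_zero q)] at h0
  obtain ⟨⟨hs0, hs'0⟩, hη⟩ := h0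
  set c := (h3 v w)⁻¹ ^ q with hc
  have hc0 : c ≠ 0 := pow_ne_zero _ (inv_ne_zero hη)
  have hcw : h3 (c • w) (c • w) = 0 := by rw [h_smul_left, h_smul_right hF, hw, mul_zero, mul_zero]
  have hyp : IsHyp q (n := 1 + 2) v (c • w) := ⟨hv, hcw, by
    rw [h_smul_right hF, hc, pow_q_pow_q hF, inv_mul_cancel₀ hη]⟩
  have hNc : c ^ (q + 1) = (h3 v w ^ (q + 1))⁻¹ := by
    rw [hc, pow_succ, pow_q_pow_q hF, ← inv_pow, pow_succ, mul_comm]
  have ht : s' * h3 v w ^ (q + 1) ∈ tw hF K hcw := by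
    rw [tw_smul hF hw hc0, hNc, mul_assoc, mul_inv_cancel₀ (pow_ne_zero _ hη), mul_one]
    exact hs'
  have hm := exists_eig_of_pair hF hyp ((tw_eq_wPart hF hyp (K := K)) ▸ hs) ht hs0
    (mul_ne_zero hs'0 (pow_ne_zero _ hη)) h2 (by rw [← mul_assoc]; exact hgood)
  rw [← mul_assoc] at hm
  refine (tw_mult hF htr h (fun e => hη (by rw [e, h_zero_left])) hv).2 fun d hd => ?_
  rw [tw_eq_wPart hF hyp (K := K)] at hd ⊢
  exact hm d hd

/-- All products are in the multiplier field. -/
theorem prod_mem (h2 : (2 : F) ≠ 0) (hbig : (3 : F) = 0 → 4 ≤ Nat.card (wPart hF h K)) {v w : V3}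
    (hv : h3 v v = 0) (hw : h3 w w = 0) {s s' : F} (hs : s ∈ tw hF K hv) (hs' : s' ∈ tw hF K hw) :
    s * s' * h3 v w ^ (q + 1) ∈ mult (wPart hF h K) := by
  by_cases hgood : (3 : F) = 0 → (s * s' * h3 v w ^ (q + 1)) ^ 2 ≠ -1
  · exact lambda_mem hF htr h h2 hv hw hs hs' hgood
  simp only [Classical.not_imp, not_not] at hgood
  obtain ⟨h30, hbad⟩ := hgood
  set N := s' * h3 v w ^ (q + 1)
  have hbad' : (s * N) ^ 2 = -1 := by rw [← hbad]; ring
  have hs0 : s ≠ 0 := fun e => by
    rw [e, zero_mul, zero_pow two_ne_zero] at hbad'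
    exact one_ne_zero (neg_eq_zero.1 hbad'.symm)
  have hN0 : N ≠ 0 := fun e => by
    rw [e, mul_zero, zero_pow two_ne_zero] at hbad'
    exact one_ne_zero (neg_eq_zero.1 hbad'.symm)
  have hv0 : v ≠ 0 := fun e => hN0 (by simp [N, e, h_zero_left])
  have hcard : 4 ≤ Nat.card (tw hF K hv) := by
    obtain ⟨ν, hν, hiff⟩ := tw_scale hF htr h hv0 hv
    refine (hbig h30).trans (Nat.card_le_card_of_injective
      (fun c : wPart hF h K => (⟨c.1 * ν, (hiff _).1 c.2⟩ : tw hF K hv)) fun a b e => ?_)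
    exact Subtype.ext (mul_right_cancel₀ hν (congrArg Subtype.val e))
  obtain ⟨g, hg, hg0, hgs, hgs'⟩ : ∃ g ∈ tw hF K hv, g ≠ 0 ∧ g ≠ s ∧ g ≠ -s := by
    by_contra hcon
    simp only [not_exists, not_and, not_not] at hcon
    classical
    have : Nat.card (tw hF K hv) ≤ ({0, s, -s} : Finset F).card := by
      rw [← Nat.card_eq_finsetCard]
      refine Nat.card_le_card_of_injective (fun c => ⟨c.1, ?_⟩) fun a b e => Subtype.ext (congrArg Subtype.val e :)
      simp only [Finset.mem_insert, Finset.mem_singleton]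
      by_cases h1 : c.1 = 0
      · exact Or.inl h1
      by_cases h1' : c.1 = s
      · exact Or.inr (Or.inl h1')
      exact Or.inr (Or.inr (hcon _ c.2 h1 h1'))
    have := this.trans (Finset.card_le_three)
    omega
  have good : ∀ d : F, d ≠ s → d ≠ -s → (d * N) ^ 2 ≠ -1 := by
    intro d d1 d2 e
    have : N ^ 2 * ((d - s) * (d + s)) = 0 := by linear_combination e - hbad'
    simp [hN0, sub_eq_zero, d1, add_eq_zero_iff_eq_neg, d2] at this
  have hsg : s + g ∈ tw hF K hv := add_mem hs hg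
  have g1 : g * s' * h3 v w ^ (q + 1) ∈ mult (wPart hF h K) :=
    lambda_mem hF htr h h2 hv hw hg hs' fun _ => by rw [mul_assoc]; exact good g hgs hgs'
  have g2 : (s + g) * s' * h3 v w ^ (q + 1) ∈ mult (wPart hF h K) :=
    lambda_mem hF htr h h2 hv hw hsg hs' fun _ => by
      rw [mul_assoc]
      refine good _ (fun e => hg0 (by linear_combination e)) fun e => hgs ?_
      linear_combination e - s * h30
  have := sub_mem g2 g1
  convert this using 1
  ring

/-- A nonzero parameter at the other point. -/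
theorem exists_tw_ne_zero (hW : wPart hF h K ≠ ⊥) {v : V3} (hv0 : v ≠ 0) (hv : h3 v v = 0) :
    ∃ s ∈ tw hF K hv, s ≠ 0 := by
  obtain ⟨w, hw, hw0⟩ := (AddSubgroup.bot_or_exists_ne_zero (wPart hF h K)).resolve_left hW
  obtain ⟨ν, hν, hiff⟩ := tw_scale hF htr h hv0 hv
  exact ⟨w * ν, (hiff w).1 hw, mul_ne_zero hw0 hν⟩

end

end H37.U3Min
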