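import Cfsg.Agent.H37.SUThreeMinSylow

/-!
The least index of a proper subgroup of a three-dimensional special unitary group.
-/

set_option autoImplicit false

namespace H37.U3Min

open scoped commutatorElement
open Matrix Cfsg H50 H50.PointStab H50.RadFrame H37.SUMin

universe u

variable {F : Type u} [Field F] {q : ℕ}

local notation "G3" => SU 3 F q

omit [Field F] in
/-- The divisor left after the even and the characteristic part. -/
theorem dvd_odd_part {p m a b c : ℕ} (hp : p.Prime) (h : m ∣ 2 ^ a * p ^ b * c) (ho : Odd m)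
    (hpm : ¬ p ∣ m) : m ∣ c := by
  refine (Nat.Coprime.dvd_of_dvd_mul_left ?_ h)
  refine Nat.Coprime.mul_right ?_ ?_
  · exact (Nat.Coprime.pow_right a (Nat.coprime_two_right.2 ho))
  · exact Nat.Coprime.pow_right b ((Nat.Prime.coprime_iff_not_dvd hp).2 hpm).symm

theorem char_eq [Fintype F] (hF : Fintype.card F = q ^ 2) (p : ℕ) (hp : p.Prime) (hq : q = p) :
    CharP F p := by
  haveI : Fact p.Prime := ⟨hp⟩
  obtain ⟨p', hp'⟩ := CharP.exists F
  haveI := hp'
  haveI : Fact p'.Prime := ⟨CharP.char_is_prime F p'⟩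
  obtain ⟨n, -, hn⟩ := FiniteField.card F p'
  rw [hF, hq] at hn
  have : p' ∣ p := (Fact.out : p'.Prime).dvd_of_dvd_pow (n := 2)
    (by rw [hn]; exact dvd_pow_self _ n.pos.ne')
  rw [← (Nat.prime_dvd_prime_iff_eq Fact.out hp).1 this]
  infer_instance

variable [Fintype F] (hF : Fintype.card F = q ^ 2)
include hF

/-- The exceptional order for `q = 11`. -/
theorem transfer_false [CharP F 11] [Fact (Nat.Prime 11)] [Fact (Nat.Prime 37)] {K : Subgroup G3}
    (hZ : Subgroup.center G3 ≤ K) {x y : Fin (1 + 2) → F} (h : IsHyp q x y) (S : Sylow 37 K)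
    (hScard : Nat.card S = 37) (hN : Nat.card (Subgroup.normalizer (S : Set K)) = 37 * 3)
    (hcen : Nat.card (Subgroup.center G3) = 3) (hI1 : Nat.card (iPart hF h K) ≠ 1)
    (h330' : Nat.card (K ⊓ pst (m := 1) x : Subgroup G3) = 330) : False := by
  have hcentre : ∀ z : K, (z : G3) ∈ Subgroup.center G3 → z ∈ Subgroup.center K := fun z hz =>
    Subgroup.mem_center_iff.2 fun y => Subtype.ext (Subgroup.mem_center_iff.1 hz (y : G3))
  have hle : Subgroup.normalizer (S : Set K) ≤ Subgroup.centralizer (S : Set K) := by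
    set C := Subgroup.normalizer (S : Set K) ⊓ Subgroup.centralizer (S : Set K)
    haveI : IsCyclic (S : Subgroup K) := isCyclic_of_prime_card (p := 37) hScard
    have hSC : (S : Subgroup K) ≤ C := fun a ha => by
      refine ⟨Subgroup.le_normalizer ha, Subgroup.mem_centralizer_iff.2 fun b hb => ?_⟩
      letI := IsCyclic.commGroup (α := (S : Subgroup K))
      exact congrArg Subtype.val (mul_comm (⟨b, hb⟩ : (S : Subgroup K)) ⟨a, ha⟩)
    have hZC : (Subgroup.center G3).subgroupOf K ≤ C := fun z hz => by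
      have hz' := hcentre z hz
      refine ⟨Subgroup.mem_normalizer_iff.2 fun a => ?_, Subgroup.mem_centralizer_iff.2 fun b _ =>
        Subgroup.mem_center_iff.1 hz' b⟩
      rw [show z * a * z⁻¹ = a by rw [← Subgroup.mem_center_iff.1 hz' a, mul_inv_cancel_right]]
    have h1 : 37 ∣ Nat.card C := hScard ▸ Subgroup.card_dvd_of_le hSC
    have h2 : 3 ∣ Nat.card C := by
      have := Subgroup.card_dvd_of_le hZC
      rwa [Nat.card_congr (Subgroup.subgroupOfEquivOfLe hZ).toEquiv, hcen] at this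
    have h3' : 37 * 3 ∣ Nat.card C := Nat.Coprime.mul_dvd_of_dvd_of_dvd (by norm_num) h1 h2
    have := Subgroup.eq_of_le_of_card_ge (inf_le_left : C ≤ Subgroup.normalizer (S : Set K)) (by
      rw [hN]; exact Nat.le_of_dvd Nat.card_pos h3')
    exact inf_eq_left.1 this
  set f := MonoidHom.transferSylow S hle
  have hcompl := MonoidHom.ker_transferSylow_isComplement' S hle
  have hrange : Nat.card f.range = 37 := by
    rw [← Subgroup.index_ker, hcompl.symm.index_eq_card]; exact hScard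
  have hne : iPart hF h K ≠ ⊥ := fun e => hI1 (by rw [e, AddSubgroup.card_bot])
  obtain ⟨w, ⟨a, ⟨haK, ha⟩, rfl⟩, hw0⟩ :=
    (AddSubgroup.bot_or_exists_ne_zero (iPart hF h K)).resolve_left hne
  have ha1 : a ≠ 1 := by
    rintro rfl
    exact hw0 (rad_one hF h).1
  obtain ⟨P, hP⟩ := exists_sylow_at hF (p := 11) h haK ha ha1
  have hPM : (P : Subgroup K) ≤ f.ker := fun b hb => by
    have h1 : orderOf (f b) ∣ 37 := by
      have := orderOf_dvd_natCard (f b)
      rwa [show Nat.card (S : Subgroup K) = 37 from hScard] at this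
    obtain ⟨k, hk⟩ := P.2 ⟨b, hb⟩
    have h2 : orderOf (f b) ∣ 11 ^ k := orderOf_dvd_of_pow_eq_one (by
      rw [← map_pow, show b ^ 11 ^ k = 1 by simpa using congrArg Subtype.val hk, map_one])
    exact orderOf_eq_one_iff.1 (Nat.eq_one_of_dvd_coprimes
      (Nat.Coprime.pow_right k (by norm_num : Nat.Coprime 37 11)) h1 h2)
  have htop := Sylow.normalizer_sup_eq_top' P hPM
  set NP := Subgroup.normalizer (P : Set K)
  have hNP : NP.map f = f.range := by
    rw [MonoidHom.range_eq_map, ← htop, Subgroup.map_sup, (Subgroup.map_eq_bot_iff _).2 le_rfl, sup_bot_eq]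
  have h37 : 37 ∣ Nat.card NP := by
    rw [← hrange, ← hNP]; exact Subgroup.card_map_dvd NP f
  have hsub : NP.map K.subtype ≤ K ⊓ pst (m := 1) x := by
    rintro _ ⟨b, hb, rfl⟩
    refine ⟨b.2, ?_⟩
    have haP : (⟨a, haK⟩ : K) ∈ (P : Subgroup K) := (hP _).2 ha
    have hfix : suMat (((b * ⟨a, haK⟩ * b⁻¹ : K)) : G3) *ᵥ x = x :=
      ((hP _).1 ((Subgroup.mem_normalizer_iff.1 hb _).1 haP)).1
    push_cast at hfix
    rw [suMat_mulVec_mul, suMat_mulVec_mul] at hfix
    have hx0 := h.fst_ne_zero hF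
    have h0 : suMat (b : G3)⁻¹ *ᵥ x ≠ 0 := fun e0 => hx0 (suMat_injective _ (by simpa using e0))
    have hfix' : suMat a *ᵥ (suMat (b : G3)⁻¹ *ᵥ x) = suMat (b : G3)⁻¹ *ᵥ x := by
      have := congrArg (fun v => suMat (b : G3)⁻¹ *ᵥ v) hfix
      beta_reduce at this
      rwa [suMat_inv_mulVec] at this
    obtain ⟨k, hk⟩ := isPGroup_radU hF (p := 11) (by norm_num) h.1 ⟨a, ha⟩
    obtain ⟨c, hc⟩ := Borel3.fixed_point_unique hF 11
      (show a ^ 11 ^ k = 1 by simpa using congrArg Subtype.val hk) ha1 hx0 h0 h.1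
      (by erw [suMat_h]; exact h.1) ⟨1, by rw [one_smul]; exact ha.1⟩ ⟨1, by rw [one_smul]; exact hfix'⟩
    have : ((b : G3))⁻¹ ∈ pst (m := 1) x :=
      ⟨c, fun c0 => h0 (by rw [← hc, c0, zero_smul]), hc.symm⟩
    simpa using (pst (m := 1) x).inv_mem this
  have h330 := h37.trans (dvd_trans (by
    rw [Nat.card_congr (NP.equivMapOfInjective _ K.subtype_injective).toEquiv])
    (Subgroup.card_dvd_of_le hsub))
  rw [h330'] at h330
  norm_num at h330

/-- The exceptional orders do not occur. -/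
theorem exceptional_false {K : Subgroup G3} (hZ : Subgroup.center G3 ≤ K) {x y : Fin (1 + 2) → F}
    (h : IsHyp q x y) {L I W : ℕ} (hcard : Nat.card K = (q ^ 3 + 1) * (L * (I * W)))
    (hL : Nat.card (eGrp h K) = L) (hI : Nat.card (iPart hF h K) = I)
    (hW : Nat.card (wPart hF h K) = W)
    (hc : (q = 3 ∧ L = 8 ∧ I = 1 ∧ W = 1) ∨ (q = 8 ∧ L = 9 ∧ I = 4 ∧ W = 2) ∨
      (q = 11 ∧ L = 30 ∧ I = 11 ∧ W = 1) ∨ (q = 17 ∧ L = 24 ∧ I = 17 ∧ W = 1) ∨
      (q = 29 ∧ L = 42 ∧ I = 29 ∧ W = 1)) : False := by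
  classical
  have hcen := card_center_SU hF (n := 3) (by norm_num)
  rcases hc with ⟨rfl, rfl, rfl, rfl⟩ | ⟨rfl, rfl, rfl, rfl⟩ | ⟨rfl, rfl, rfl, rfl⟩ |
    ⟨rfl, rfl, rfl, rfl⟩ | ⟨rfl, rfl, rfl, rfl⟩
  · haveI := char_eq hF 3 (by norm_num) rfl
    haveI : Fact (Nat.Prime 3) := ⟨by norm_num⟩
    haveI : Fact (Nat.Prime 7) := ⟨by norm_num⟩
    obtain ⟨S, -, n, m, hnm, hmod, ho, hpm, hrm, -, -⟩ := sylow_numbers hF 3 (r := 7) hZ (by norm_num)
      (by norm_num) (by rw [hcard]; norm_num) (by rw [hcard]; norm_num)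
      (Or.inr (Or.inr (by rw [hcard]; norm_num)))
    norm_num [-Nat.card_eq_fintype_card] at hcard
    rw [hcard] at hnm
    have h7 : m ∣ 7 := dvd_odd_part (p := 3) (a := 5) (b := 0) (by norm_num)
      (Dvd.intro_left n (by rw [hnm]; norm_num)) ho hpm
    rcases (Nat.dvd_prime (by norm_num)).1 h7 with rfl | rfl
    · omega
    · omega
  · obtain ⟨p', hp'⟩ := CharP.exists F
    haveI := hp'
    haveI : Fact p'.Prime := ⟨CharP.char_is_prime F p'⟩
    have hp2 : p' = 2 := by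
      have h2 := (two_eq_zero_iff hF).2 ⟨4, rfl⟩
      have : p' ∣ 2 := (CharP.cast_eq_zero_iff F p' 2).1 (by exact_mod_cast h2)
      exact (Nat.prime_dvd_prime_iff_eq Fact.out Nat.prime_two).1 this
    haveI : Fact (Nat.Prime 19) := ⟨by norm_num⟩
    obtain ⟨S, -, n, m, hnm, hmod, ho, hpm, hrm, hzm, -⟩ := sylow_numbers hF p' (r := 19) hZ (by norm_num)
      (by norm_num) (by rw [hcard]; norm_num) (by rw [hcard]; norm_num) (Or.inl hp2)
    norm_num [-Nat.card_eq_fintype_card] at hcard hcen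
    rw [hcard] at hnm
    rw [hcen] at hzm
    obtain ⟨m', rfl⟩ := Nat.Coprime.mul_dvd_of_dvd_of_dvd (by norm_num : Nat.Coprime 19 3) hrm hzm
    have h81 : 19 * 3 * m' ∣ 19 * 3 * 81 := dvd_odd_part (p := p') (a := 3) (b := 0) Fact.out
      (Dvd.intro_left n (by rw [hnm]; norm_num)) ho hpm
    have hm' := Nat.mem_divisors.2 ⟨Nat.dvd_of_mul_dvd_mul_left (by norm_num) h81, by norm_num⟩
    have key : ∀ d ∈ Nat.divisors 81, 648 / d % 19 ≠ 1 := by decide +kernel
    refine key m' hm' ?_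
    rw [show 648 / m' = n from Nat.div_eq_of_eq_mul_left
      (Nat.pos_of_mem_divisors hm') (by linarith)]
    exact hmod
  · haveI := char_eq hF 11 (by norm_num) rfl
    haveI : Fact (Nat.Prime 11) := ⟨by norm_num⟩
    haveI : Fact (Nat.Prime 37) := ⟨by norm_num⟩
    obtain ⟨S, hScard, n, m, hnm, hmod, ho, hpm, hrm, hzm, hm⟩ := sylow_numbers hF 11 (r := 37) hZ
      (by norm_num) (by norm_num) (by rw [hcard]; norm_num) (by rw [hcard]; norm_num)
      (Or.inr (Or.inl (by norm_num)))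
    norm_num [-Nat.card_eq_fintype_card] at hcard hcen
    rw [hcard] at hnm
    rw [hcen] at hzm
    obtain ⟨m', rfl⟩ := Nat.Coprime.mul_dvd_of_dvd_of_dvd (by norm_num : Nat.Coprime 37 3) hrm hzm
    have h45 : 37 * 3 * m' ∣ 37 * 3 * 45 := dvd_odd_part (p := 11) (a := 3) (b := 1) (by norm_num)
      (Dvd.intro_left n (by rw [hnm]; norm_num)) ho hpm
    have hm' := Nat.mem_divisors.2 ⟨Nat.dvd_of_mul_dvd_mul_left (by norm_num) h45, by norm_num⟩
    have key : ∀ d ∈ Nat.divisors 45, 3960 / d % 37 = 1 → d = 1 := by decide +kernel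
    obtain rfl := key m' hm' (by
      rw [show 3960 / m' = n from Nat.div_eq_of_eq_mul_left
        (Nat.pos_of_mem_divisors hm') (by linarith)]
      exact hmod)
    exact transfer_false hF hZ h S hScard (by rw [← hm, mul_one]) hcen (by omega) (by rw [card_pstK hF h, hL, hI, hW])
  · haveI := char_eq hF 17 (by norm_num) rfl
    haveI : Fact (Nat.Prime 17) := ⟨by norm_num⟩
    haveI : Fact (Nat.Prime 13) := ⟨by norm_num⟩
    obtain ⟨S, -, n, m, hnm, hmod, ho, hpm, hrm, hzm, -⟩ := sylow_numbers hF 17 (r := 13) hZ (by norm_num)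
      (by norm_num) (by rw [hcard]; norm_num) (by rw [hcard]; norm_num) (Or.inr (Or.inl (by norm_num)))
    norm_num [-Nat.card_eq_fintype_card] at hcard hcen
    rw [hcard] at hnm
    rw [hcen] at hzm
    obtain ⟨m', rfl⟩ := Nat.Coprime.mul_dvd_of_dvd_of_dvd (by norm_num : Nat.Coprime 13 3) hrm hzm
    have h' : 13 * 3 * m' ∣ 13 * 3 * 189 := dvd_odd_part (p := 17) (a := 4) (b := 1) (by norm_num)
      (Dvd.intro_left n (by rw [hnm]; norm_num)) ho hpm
    have hm' := Nat.mem_divisors.2 ⟨Nat.dvd_of_mul_dvd_mul_left (by norm_num) h', by norm_num⟩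
    have key : ∀ d ∈ Nat.divisors 189, 51408 / d % 13 ≠ 1 := by decide +kernel
    refine key m' hm' ?_
    rw [show 51408 / m' = n from Nat.div_eq_of_eq_mul_left
      (Nat.pos_of_mem_divisors hm') (by linarith)]
    exact hmod
  · haveI := char_eq hF 29 (by norm_num) rfl
    haveI : Fact (Nat.Prime 29) := ⟨by norm_num⟩
    haveI : Fact (Nat.Prime 271) := ⟨by norm_num⟩
    obtain ⟨S, -, n, m, hnm, hmod, ho, hpm, hrm, hzm, -⟩ := sylow_numbers hF 29 (r := 271) hZ (by norm_num)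
      (by norm_num) (by rw [hcard]; norm_num) (by rw [hcard]; norm_num) (Or.inr (Or.inl (by norm_num)))
    norm_num [-Nat.card_eq_fintype_card] at hcard hcen
    rw [hcard] at hnm
    rw [hcen] at hzm
    obtain ⟨m', rfl⟩ := Nat.Coprime.mul_dvd_of_dvd_of_dvd (by norm_num : Nat.Coprime 271 3) hrm hzm
    have h' : 271 * 3 * m' ∣ 271 * 3 * 315 := dvd_odd_part (p := 29) (a := 2) (b := 1) (by norm_num)
      (Dvd.intro_left n (by rw [hnm]; norm_num)) ho hpm
    have hm' := Nat.mem_divisors.2 ⟨Nat.dvd_of_mul_dvd_mul_left (by norm_num) h', by norm_num⟩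
    have key : ∀ d ∈ Nat.divisors 315, 36540 / d % 271 ≠ 1 := by decide +kernel
    refine key m' hm' ?_
    rw [show 36540 / m' = n from Nat.div_eq_of_eq_mul_left
      (Nat.pos_of_mem_divisors hm') (by linarith)]
    exact hmod

/-- The bound in the special unitary group. -/
theorem index_lower (hq : 3 ≤ q) (h5 : q ≠ 5) (K₀ : Subgroup G3) (hK₀ : K₀ ≠ ⊤) :
    q ^ 3 + 1 ≤ K₀.index := by
  classical
  set K := K₀ ⊔ Subgroup.center G3 with hKdef
  have hK : K ≠ ⊤ := by
    intro htop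
    refine hK₀ ?_
    rw [eq_top_iff, ← SU_perfect hF le_rfl (by omega), commutator_def, Subgroup.commutator_le]
    intro a _ b _
    have ha : a ∈ K₀ ⊔ Subgroup.center G3 := by rw [← hKdef, htop]; trivial
    have hb : b ∈ K₀ ⊔ Subgroup.center G3 := by rw [← hKdef, htop]; trivial
    rw [← SetLike.mem_coe, Subgroup.mul_normal, Set.mem_mul] at ha hb
    obtain ⟨c, hc, z, hz, rfl⟩ := ha
    obtain ⟨d, hd, w, hw, rfl⟩ := hb
    have e : ⁅c * z, d * w⁆ = ⁅c, d⁆ := by
      have hz' : ∀ g, g * z = z * g := Subgroup.mem_center_iff.1 hz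
      have hw' : ∀ g, g * w = w * g := Subgroup.mem_center_iff.1 hw
      simp only [commutatorElement_def]
      calc c * z * (d * w) * (c * z)⁻¹ * (d * w)⁻¹
          = c * (z * d) * w * z⁻¹ * c⁻¹ * w⁻¹ * d⁻¹ := by group
        _ = c * (d * z) * w * z⁻¹ * c⁻¹ * w⁻¹ * d⁻¹ := by rw [hz']
        _ = c * d * ((z * w) * z⁻¹ * c⁻¹) * w⁻¹ * d⁻¹ := by group
        _ = c * d * ((w * z) * z⁻¹ * c⁻¹) * w⁻¹ * d⁻¹ := by rw [hw' z]
        _ = c * d * (w * c⁻¹) * w⁻¹ * d⁻¹ := by group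
        _ = c * d * (c⁻¹ * w) * w⁻¹ * d⁻¹ := by rw [hw' c⁻¹]
        _ = c * d * c⁻¹ * d⁻¹ := by group
    rw [e, commutatorElement_def]
    exact mul_mem (mul_mem (mul_mem hc hd) (inv_mem hc)) (inv_mem hd)
  refine le_trans ?_ (Nat.le_of_dvd (Nat.pos_of_ne_zero Subgroup.index_ne_zero_of_finite)
    (Subgroup.index_dvd_of_le (le_sup_left : K₀ ≤ K)))
  by_contra hlt
  have hsmall : K.index ≤ q ^ 3 := by rw [← hKdef] at hlt; omega
  have htr := ptTrans_of_small hF hsmall
  obtain ⟨x, y, h⟩ := exists_hyp (F := F) hF (n := 1 + 2) (by norm_num)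
  obtain ⟨hst, hcard⟩ := big_stab hF htr hsmall h
  have hZ : Subgroup.center G3 ≤ K := le_sup_right
  by_cases hW : wPart hF h K = ⊥
  · have hW1 : Nat.card (wPart hF h K) = 1 := by rw [hW, AddSubgroup.card_bot]
    have heven : Odd q → 2 ∣ Nat.card K := fun ho => by
      rw [hcard]
      exact dvd_mul_of_dvd_left (even_iff_two_dvd.1 (Odd.pow ho).add_one) _
    rcases w_bot_case hF htr h hW hq h5 hst heven with ⟨e1, e2, e3⟩ | ⟨e1, e2, e3⟩ | ⟨e1, e2, e3⟩ |
      ⟨e1, e2, e3⟩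
    all_goals
      refine exceptional_false hF hZ h hcard rfl rfl rfl ?_
      rw [e2, e3, hW1]
    · exact Or.inl ⟨e1, rfl, rfl, rfl⟩
    · exact Or.inr (Or.inr (Or.inl ⟨e1, rfl, rfl, rfl⟩))
    · exact Or.inr (Or.inr (Or.inr (Or.inl ⟨e1, rfl, rfl, rfl⟩)))
    · exact Or.inr (Or.inr (Or.inr (Or.inr ⟨e1, rfl, rfl, rfl⟩)))
  · obtain ⟨e1, e2, e3, e4⟩ := field_case hF htr h hW hq hK hst
    refine exceptional_false hF hZ h hcard rfl rfl rfl ?_
    rw [e2, e3, e4]
    exact Or.inr (Or.inl ⟨e1, rfl, rfl, rfl⟩)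

end H37.U3Min
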