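import Cfsg.Agent.H37.SUThreeMinTransvBound
import Cfsg.Agent.H50.SU3Inv

/-!
Subgroups of three-dimensional special unitary groups without transvections: a torus at each
point pairs it with a second point.
-/

set_option autoImplicit false

namespace H37.U3Min

open Matrix Cfsg H50 H50.PointStab H50.RadFrame H37.SUMin

universe u

variable {F : Type u} [Field F] {q : ℕ}

local notation "V3" => (Fin 3 → F)
local notation "h3" => hermForm 3 F q
local notation "G3" => SU 3 F q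

variable [Fintype F] (hF : Fintype.card F = q ^ 2)
include hF

/-- Equal eigenvalues force norm one. -/
theorem norm_one_of_eq {a : F} (ha : a ≠ 0) (e : a ^ q = a ^ 2 ∨ a ^ q * (a ^ q / a) = 1) :
    a ^ (q + 1) = 1 := by
  have hqq := pow_q_pow_q hF a
  have key : a ^ q = a ^ 2 := by
    rcases e with e | e
    · exact e
    · field_simp at e
      have e' : (a ^ q) ^ 2 = a := by linear_combination e
      have := congrArg (fun z : F => z ^ q) e'
      beta_reduce at this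
      rw [← pow_mul (a ^ q), mul_comm 2, pow_mul, hqq] at this
      exact this.symm
  rw [key, ← pow_mul, mul_comm, pow_mul, key, ← pow_mul] at hqq
  have h3' : a ^ 3 = 1 := mul_left_cancel₀ ha (by linear_combination hqq)
  rw [pow_succ, key, ← pow_succ, h3']

section Pair

variable {x y : Fin (1 + 2) → F} (h : IsHyp q x y) {K : Subgroup (SU 3 F q)}
include h

/-- The torus element fixes the two points only. -/
theorem lev_fix {s : SU (1 + 2) F q} (hs : s ∈ lev q x y) (hN : eig q x y s ^ (q + 1) ≠ 1)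
    {v : Fin (1 + 2) → F} (hv0 : v ≠ 0) (hv : hermForm (1 + 2) F q v v = 0) {μ : F}
    (hμ : suMat s *ᵥ v = μ • v) : (∃ c : F, v = c • x) ∨ ∃ c : F, v = c • y := by
  obtain ⟨e, he⟩ := exists_frame hF (m := 1) rfl h
  obtain ⟨hex, hey, hee⟩ := e_props hF h he
  obtain ⟨h0, hx, hy⟩ := lev_spec hF h hs
  have hez := lev_e hF h he hs
  obtain ⟨w, hwx, hwy, hdec⟩ := pair_decomp hF h v
  have hw := pperp_line hF h he (mem_pperp.2 ⟨hwx, hwy⟩)
  generalize hermForm (1 + 2) F q w (e 0) = c at hw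
  generalize hermForm (1 + 2) F q v y = α, hermForm (1 + 2) F q v x = β at hdec
  subst hw
  set a := eig q x y s with ha
  subst hdec
  simp only [mulVec_add, mulVec_smul, hx, hy, hez, smul_smul, smul_add] at hμ
  have e1 := congrArg (fun z => hermForm (1 + 2) F q z y) hμ
  have e2 := congrArg (fun z => hermForm (1 + 2) F q z x) hμ
  have e3 := congrArg (fun z => hermForm (1 + 2) F q z (e 0)) hμ
  simp [h_add_left, h_smul_left, h.1, h.2.1, h.2.2, (h.symm hF).2.2, hex, hey, hee,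
    (h_eq_zero_comm hF).1 hex, (h_eq_zero_comm hF).1 hey] at e1 e2 e3
  simp [h_add_left, h_add_right hF, h_smul_left, h_smul_right hF, h.1, h.2.1, h.2.2, (h.symm hF).2.2,
    hex, hey, hee, (h_eq_zero_comm hF).1 hex, (h_eq_zero_comm hF).1 hey] at hv
  by_cases hc : c = 0
  · subst hc
    rw [zero_smul, add_zero] at hv0 ⊢
    by_cases hβ : β = 0
    · exact Or.inl ⟨α, by rw [hβ, zero_smul, add_zero]⟩
    · refine Or.inr ⟨β, ?_⟩
      have hμ' : μ = (a ^ q)⁻¹ := mul_right_cancel₀ hβ (by linear_combination -e2)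
      by_cases hα : α = 0
      · rw [hα, zero_smul, zero_add]
      · exfalso
        have hμa : μ = a := mul_right_cancel₀ hα (by linear_combination -e1)
        refine hN ?_
        have hh : a = (a ^ q)⁻¹ := hμa.symm.trans hμ'
        rw [pow_succ]
        exact (congrArg (a ^ q * ·) hh).trans (mul_inv_cancel₀ (pow_ne_zero _ h0))
  · exfalso
    have hμc : μ = a ^ q / a := mul_right_cancel₀ hc (by linear_combination -e3)
    refine hN (norm_one_of_eq hF h0 ?_)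
    by_cases hα : α = 0
    · by_cases hβ : β = 0
      · rw [hα, hβ] at hv
        simp [hc, q_ne_zero hF] at hv
      · refine Or.inr ?_
        have hμ' : μ = (a ^ q)⁻¹ := mul_right_cancel₀ hβ (by linear_combination -e2)
        rw [← hμc, hμ', mul_inv_cancel₀ (pow_ne_zero _ h0)]
    · refine Or.inl ?_
      have hμa : μ = a := mul_right_cancel₀ hα (by linear_combination -e1)
      have := hμa.symm.trans hμc
      field_simp at this
      linear_combination -this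

/-- A second point for which the whole torus part lies in the subgroup. -/
theorem exists_good_pair (hN : ∃ a ∈ eGrp h K, ((a : Fˣ) : F) ^ (q + 1) ≠ 1) :
    ∃ (y' : Fin (1 + 2) → F) (h' : IsHyp q x y'), eGrp h' K = eGrp h K ∧
      ∀ a ∈ eGrp h' K, ∃ s ∈ K, s ∈ lev q x y' ∧ eig q x y' s = ((a : Fˣ) : F) := by
  obtain ⟨⟨a, ha⟩, hgen⟩ := IsCyclic.exists_generator (α := eGrp h K)
  have hpow : ∀ b ∈ eGrp h K, ∃ j : ℕ, b = a ^ j := by
    intro b hb
    obtain ⟨j, hj⟩ := mem_powers_iff_mem_zpowers.2 (hgen ⟨b, hb⟩)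
    exact ⟨j, (congrArg Subtype.val hj).symm⟩
  have hNa : (a : F) ^ (q + 1) ≠ 1 := fun e => by
    obtain ⟨b, hb, hne⟩ := hN
    obtain ⟨j, rfl⟩ := hpow b hb
    exact hne (by rw [Units.val_pow_eq_pow_val, ← pow_mul, mul_comm, pow_mul, e, one_pow])
  obtain ⟨g, ⟨hgK, hgP⟩, hga⟩ := ha
  obtain ⟨u, hu, τ, hτ, rfl⟩ := exists_decomp hF h le_rfl hgP
  have hτa : eig q x y τ = (a : F) := by
    rw [← hga, eig_mul h (stab_le_pst x (radU_le_stab x hu)) hτ.1,
      eig_eq_one h (radU_le_stab x hu), one_mul]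
  obtain ⟨e, he⟩ := exists_frame hF (m := 1) rfl h
  have ha0 : (a : F) ≠ 0 := a.ne_zero
  set ρ := (a : F) ^ q * ((a : F) ^ q / a) with hρdef
  have hρ : (1 : F) - ρ ≠ 0 := fun e' => hNa (norm_one_of_eq hF ha0 (Or.inr (sub_eq_zero.1 e').symm))
  have hactρ : ∀ w ∈ pperp q x y, eig q x y τ ^ q • suMat τ *ᵥ w = ρ • w := by
    intro w hw
    have e1 := pperp_line hF h he hw
    rw [e1, mulVec_smul, lev_e hF h he hτ, hτa, smul_smul, smul_smul, smul_smul, hρdef]
    congr 1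
    ring
  have hprmem := pr_mem hF h (radU_le_stab x hu)
  obtain ⟨v₁, hv₁, hv₁w⟩ := exists_pr hF h ((pperp q x y).smul_mem (1 - ρ)⁻¹ hprmem)
  have hv₁i := (H55.Psu.radU (q := q) x).inv_mem hv₁
  have hc₁ := radU_conj_mem hF h hτ.1 hv₁i
  set u₁ := v₁ * (τ * v₁⁻¹ * τ⁻¹) with hu₁def
  have hu₁ : u₁ ∈ H55.Psu.radU (q := q) x := (H55.Psu.radU (q := q) x).mul_mem hv₁ hc₁
  have hpr₁ : pr x y u₁ = pr x y u := by
    rw [(rad_mul hF h hv₁ hc₁).1, (rad_conj hF h hτ hv₁i).1, (rad_inv hF h hv₁).1,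
      mulVec_neg, smul_neg, hactρ _ (pr_mem hF h (radU_le_stab x hv₁)), hv₁w, ← sub_eq_add_neg,
      smul_smul, ← sub_smul]
    rw [show (1 - ρ)⁻¹ - ρ * (1 - ρ)⁻¹ = (1 : F) by rw [← one_sub_mul, mul_inv_cancel₀ hρ], one_smul]
  set z₀ := u₁⁻¹ * u
  have hz₀ : z₀ ∈ zRad hF h := ⟨(H55.Psu.radU (q := q) x).mul_mem
      ((H55.Psu.radU (q := q) x).inv_mem hu₁) hu, by
    rw [(rad_mul hF h ((H55.Psu.radU (q := q) x).inv_mem hu₁) hu).1, (rad_inv hF h hu₁).1, hpr₁,
      neg_add_cancel]⟩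
  set N := eig q x y τ ^ (q + 1) with hNdef
  have hN1 : (1 : F) - N ≠ 0 := fun e' => hNa (by rw [← hτa, ← hNdef]; exact (sub_eq_zero.1 e').symm)
  have hNq : N ^ q = N := norm_fixed hF _
  have hδ := rad_trace hF h hz₀.2
  obtain ⟨ζ, hζ, hζ1, hζ2⟩ := exists_rad hF h (Submodule.zero_mem _)
    (show gam q y z₀ / (1 - N) + (gam q y z₀ / (1 - N)) ^ q +
        hermForm (1 + 2) F q (0 : Fin (1 + 2) → F) 0 = 0 by
      rw [div_pow, sub_pow_q hF, one_pow, hNq, ← add_div, hδ, zero_div, h_zero_left, add_zero])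
  have hζz : ζ ∈ zRad hF h := ⟨hζ, hζ1⟩
  have hζi := (H55.Psu.radU (q := q) x).inv_mem hζ
  have hcζ := radU_conj_mem hF h hτ.1 hζi
  have hcomm : z₀ = ζ * (τ * ζ⁻¹ * τ⁻¹) := by
    refine rad_eq hF h hz₀.1 ((H55.Psu.radU (q := q) x).mul_mem hζ hcζ) ?_ ?_
    · rw [hz₀.2, (rad_mul hF h hζ hcζ).1, (rad_conj hF h hτ hζi).1, (rad_inv hF h hζ).1, hζ1,
        neg_zero, mulVec_zero, smul_zero, add_zero]
    · rw [(rad_mul hF h hζ hcζ).2, (rad_conj hF h hτ hζi).2, (rad_conj hF h hτ hζi).1,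
        (rad_inv hF h hζ).2, (rad_inv hF h hζ).1, hζ1, ← hNdef, hζ2, h_zero_left, neg_zero,
        mulVec_zero, smul_zero, h_zero_left, sub_zero, sub_zero]
      field_simp
      ring
  set v := v₁ * ζ
  have hv : v ∈ H55.Psu.radU (q := q) x := (H55.Psu.radU (q := q) x).mul_mem hv₁ hζ
  have hg : u * τ = v * τ * v⁻¹ := by
    have hz : ζ * (τ * v₁⁻¹ * τ⁻¹) = (τ * v₁⁻¹ * τ⁻¹) * ζ := (zRad_comm hF h hc₁ hζz).symm
    have e1 : u = u₁ * z₀ := (mul_inv_cancel_left u₁ u).symm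
    rw [e1, hcomm, hu₁def]
    calc v₁ * (τ * v₁⁻¹ * τ⁻¹) * (ζ * (τ * ζ⁻¹ * τ⁻¹)) * τ
        = v₁ * ((τ * v₁⁻¹ * τ⁻¹) * ζ) * (τ * ζ⁻¹) := by group
      _ = v₁ * (ζ * (τ * v₁⁻¹ * τ⁻¹)) * (τ * ζ⁻¹) := by rw [hz]
      _ = v₁ * ζ * τ * (v₁⁻¹ * ζ⁻¹) := by group
      _ = v₁ * ζ * τ * (ζ⁻¹ * v₁⁻¹) := by rw [zRad_comm hF h hv₁i ((zRad hF h).inv_mem hζz)]
      _ = _ := by simp only [v]; group
  have hy' : IsHyp q x (suMat v *ᵥ y) := by
    refine ⟨h.1, by rw [suMat_h]; exact h.2.1, ?_⟩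
    have := suMat_h v x y
    rw [hv.1, h.2.2] at this
    exact this
  have heig : ∀ g' : SU (1 + 2) F q, g' ∈ pst (m := 1) x →
      eig q x (suMat v *ᵥ y) g' = eig q x y g' := by
    intro g' hg'
    rw [eig]
    erw [(eig_spec h hg').2]
    rw [h_smul_left, hy'.2.2, mul_one]
  have heq : eGrp hy' K = eGrp h K := by
    ext b
    constructor
    · rintro ⟨g', hg', e'⟩
      exact ⟨g', hg', (heig g' hg'.2).symm.trans e'⟩
    · rintro ⟨g', hg', e'⟩
      exact ⟨g', hg', (heig g' hg'.2).trans e'⟩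
  have hsl : u * τ ∈ lev q x (suMat v *ᵥ y) := by
    refine ⟨hgP, _, inv_ne_zero (pow_ne_zero q (lev_spec hF h hτ).1), ?_⟩
    rw [hg, suMat_mulVec_mul, suMat_inv_mulVec, suMat_mulVec_mul, (lev_spec hF h hτ).2.2, mulVec_smul]
  refine ⟨_, hy', heq, fun b hb => ?_⟩
  rw [heq] at hb
  obtain ⟨j, rfl⟩ := hpow b hb
  refine ⟨(u * τ) ^ j, pow_mem hgK j, pow_mem hsl j, ?_⟩
  clear hb
  induction j with
  | zero => rw [pow_zero, pow_zero, eig_eq_one hy' (one_mem _), Units.val_one]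
  | succ j ih =>
    rw [pow_succ, eig_mul hy' (pow_mem hgP j) hgP, ih, heig _ hgP, hga, pow_succ, Units.val_mul]

end Pair

end H37.U3Min
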