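import Cfsg.Agent.H37.SUThreeMinChord

/-!
Subgroups of small index of three-dimensional special unitary groups without transvections:
only four orders are possible.
-/

set_option autoImplicit false

namespace H37.U3Min

open Matrix Cfsg H50 H50.PointStab H50.RadFrame H37.SUMin

universe u

variable {F : Type u} [Field F] {q : ℕ}

local notation "V3" => (Fin 3 → F)
local notation "h3" => hermForm 3 F q
local notation "G3" => SU 3 F q

variable [Fintype F] (hF : Fintype.card F = q ^ 2)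
include hF

theorem two_eq_zero_iff : (2 : F) = 0 ↔ Even q := by
  constructor
  · intro h2
    rcases Nat.even_or_odd q with he | ho
    · exact he
    · exact absurd h2 (two_ne_zero_of_odd hF ho)
  · rintro ⟨r, hr⟩
    obtain ⟨p, hp⟩ := CharP.exists F
    haveI := hp
    haveI : Fact p.Prime := ⟨CharP.char_is_prime F p⟩
    obtain ⟨n, -, hn⟩ := FiniteField.card F p
    rw [hF, hr] at hn
    have h2p : 2 ∣ p := Nat.prime_two.dvd_of_dvd_pow (show 2 ∣ p ^ (n : ℕ) by
      rw [← hn]; exact Dvd.intro (2 * r * r) (by ring))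
    have := (Nat.prime_dvd_prime_iff_eq Nat.prime_two Fact.out).1 h2p
    subst this
    exact_mod_cast CharP.cast_eq_zero F 2

section

variable {K : Subgroup (SU 3 F q)} (htr : PtTrans K) {x y : Fin (1 + 2) → F} (h : IsHyp q x y)
include htr h

/-- An involution of the subgroup negates a point. -/
theorem neg_one_mem (hodd : Odd q) (heven : 2 ∣ Nat.card K) : (-1 : Fˣ) ∈ eGrp h K := by
  obtain ⟨t', ht'⟩ := exists_prime_orderOf_dvd_card' 2 heven
  have hne : (t' : G3) ≠ 1 := fun e => by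
    rw [Subtype.ext e (a1 := t') (a2 := 1), orderOf_one] at ht'
    omega
  have hsq : (t' : G3) * (t' : G3) = 1 := by
    have := pow_orderOf_eq_one t'
    rw [ht', pow_two] at this
    exact congrArg Subtype.val this
  obtain ⟨z, hz, e⟩ := exists_su3inv hF hodd _ hne hsq
  obtain ⟨d, hd, hdz⟩ := exists_completion hF (IsON.gramND hF
    (b := fun _ : Fin 1 => z) (fun i j => by simp [Subsingleton.elim i j, hz]))
  obtain ⟨ε, hε⟩ := H50.exists_norm_eq hF (c := (-1 : F)) (by rw [neg_pow_q hF, one_pow])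
  let i₀ : Fin (3 - Fintype.card (Fin 1)) := ⟨0, by simp⟩
  let i₁ : Fin (3 - Fintype.card (Fin 1)) := ⟨1, by simp⟩
  have hii : i₀ ≠ i₁ := by simp [i₀, i₁, Fin.ext_iff]
  set v := d i₀ + ε • d i₁ with hv
  have d00 : h3 (d i₀) (d i₀) = 1 := by simpa using hd i₀ i₀
  have d11 : h3 (d i₁) (d i₁) = 1 := by simpa using hd i₁ i₁
  have d01 : h3 (d i₀) (d i₁) = 0 := by simpa [hii] using hd i₀ i₁
  have d10 : h3 (d i₁) (d i₀) = 0 := by simpa [hii.symm] using hd i₁ i₀
  have hvv : h3 v v = 0 := by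
    simp only [hv, h_add_left, h_add_right hF, h_smul_left, h_smul_right hF, d00, d11, d01, d10]
    rw [pow_succ] at hε
    linear_combination hε
  have hv0 : v ≠ 0 := fun e0 => by
    have := congrArg (fun w => h3 w (d i₀)) e0
    simp [hv, h_add_left, h_smul_left, h_zero_left, d00, d10] at this
  have hvz : h3 v z = 0 := by
    simp [hv, h_add_left, h_smul_left, show h3 (d i₀) z = 0 from hdz i₀ 0,
      show h3 (d i₁) z = 0 from hdz i₁ 0]
  have htv : suMat (t' : G3) *ᵥ v = -v := by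
    rw [e, su3inv_mulVec, hvz, mul_zero, zero_smul, add_zero]
  obtain ⟨g, hg, a, ha, egv⟩ := htr x v (h.fst_ne_zero hF) hv0 h.1 hvv
  have hfix : suMat (g⁻¹ * (t' : G3) * g) *ᵥ x = (-1 : F) • x := by
    rw [suMat_mulVec_mul, suMat_mulVec_mul, egv, mulVec_smul, htv, smul_neg, ← neg_smul,
      mulVec_smul, show v = a⁻¹ • suMat g *ᵥ x by rw [egv, inv_smul_smul₀ ha], mulVec_smul,
      suMat_inv_mulVec, smul_smul, neg_mul, mul_inv_cancel₀ ha]
  refine ⟨g⁻¹ * t' * g, ⟨K.mul_mem (K.mul_mem (K.inv_mem hg) t'.2) hg, -1, by norm_num, hfix⟩, ?_⟩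
  rw [eig, Units.val_neg, Units.val_one]
  erw [hfix]
  rw [h_smul_left, h.2.2, mul_one]

/-- The four orders without transvections. -/
theorem w_bot_case (hW : wPart hF h K = ⊥) (hq : 3 ≤ q) (h5 : q ≠ 5)
    (hst : q ^ 2 - 1 ≤ Nat.card (eGrp h K) * (Nat.card (iPart hF h K) * Nat.card (wPart hF h K)))
    (heven : Odd q → 2 ∣ Nat.card K) :
    (q = 3 ∧ Nat.card (eGrp h K) = 8 ∧ Nat.card (iPart hF h K) = 1) ∨
    (q = 11 ∧ Nat.card (eGrp h K) = 30 ∧ Nat.card (iPart hF h K) = 11) ∨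
    (q = 17 ∧ Nat.card (eGrp h K) = 24 ∧ Nat.card (iPart hF h K) = 17) ∨
    (q = 29 ∧ Nat.card (eGrp h K) = 42 ∧ Nat.card (iPart hF h K) = 29) := by
  classical
  rw [hW, AddSubgroup.card_bot, mul_one] at hst
  obtain ⟨e₀, he₀⟩ := exists_frame hF (m := 1) rfl h
  set L := Nat.card (eGrp h K) with hLdef
  set I := Nat.card (iPart hF h K) with hIdef
  have hdvd : L ∣ q ^ 2 - 1 := eGrp_dvd hF h
  have hsq : q ^ 2 - 1 = (q - 1) * (q + 1) := by rw [mul_comm, ← Nat.sq_sub_sq, one_pow]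
  have hbig : 3 * 3 ≤ q ^ 2 := by rw [pow_two]; exact Nat.mul_le_mul hq hq
  have hLle : L ≤ q ^ 2 - 1 := Nat.le_of_dvd (by omega) hdvd
  have two_case : (2 : F) = 0 → I = 1 := by
    intro h2
    suffices hb : iCoord hF h e₀ K = ⊥ by rw [hIdef, ← card_iCoord hF h he₀, hb, AddSubgroup.card_bot]
    refine (AddSubgroup.eq_bot_iff_forall _).2 fun c hc => ?_
    have := two_norm_mem hF h he₀ h2 hc
    rw [hW, AddSubgroup.mem_bot] at this
    exact (pow_eq_zero_iff (Nat.succ_ne_zero q)).1 this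
  -- the scalars when the radical part is nontrivial
  have hI : I ≠ 1 → I ∣ q ^ 2 ∧ I ≤ q ∧ ∀ a ∈ eGrp h K, ((a : Fˣ) : F) ^ (3 * (q - 1)) = 1 := by
    intro hne
    rw [hIdef, ← card_iCoord hF h he₀] at hne ⊢
    refine ⟨?_, ?_⟩
    · rw [← hF, ← Nat.card_eq_fintype_card]
      exact AddSubgroup.card_addSubgroup_dvd_card _
    have hne' : iCoord hF h e₀ K ≠ ⊥ := fun e => hne (by rw [e, AddSubgroup.card_bot])
    obtain ⟨c₀, hc₀, hc₀0⟩ := (AddSubgroup.bot_or_exists_ne_zero _).resolve_left hne'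
    have hfix : ∀ c ∈ iCoord hF h e₀ K, (c / c₀) ^ q = c / c₀ := by
      intro c hc
      have := iPart_skew hF h (mem_iCoord hF h |>.1 hc) (mem_iCoord hF h |>.1 hc₀)
      rw [hW, AddSubgroup.mem_bot, skew, h_smul_left, h_smul_right hF, h_smul_left, h_smul_right hF,
        (e_props hF h he₀).2.2] at this
      have hcq := pow_ne_zero q hc₀0
      rw [div_pow, div_eq_div_iff hcq hc₀0]
      linear_combination -this
    refine ⟨le_trans ?_ (ncard_pow_eq_le (F := F) (show 2 ≤ q by omega)), fun a ha => ?_⟩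
    · rw [← Nat.card_coe_set_eq]
      exact Nat.card_le_card_of_injective (fun c => ⟨c.1 / c₀, hfix _ c.2⟩) fun a b e' =>
        Subtype.ext ((div_left_inj' hc₀0).1 (congrArg Subtype.val e'))
    · have hρ := hfix _ (iCoord_rho hF h he₀ ha hc₀)
      rw [mul_div_assoc, div_self hc₀0, mul_one] at hρ
      have hone : ((a : F) ^ q * ((a : F) ^ q / a)) ^ (q - 1) = 1 := by
        refine mul_right_cancel₀ (mul_ne_zero (pow_ne_zero q a.ne_zero)
          (div_ne_zero (pow_ne_zero q a.ne_zero) a.ne_zero)) ?_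
        rw [one_mul, ← pow_succ, Nat.sub_add_cancel (by omega), hρ]
      rw [pow_mul]
      have e3 : (a : F) ^ 3 = ((a : F) ^ (q + 1)) ^ 2 / ((a : F) ^ q * ((a : F) ^ q / a)) := by
        have := a.ne_zero
        rw [pow_succ _ q]
        field_simp
        try ring
      have e2 : ((a : F) ^ (q + 1)) ^ (q - 1) = 1 := by
        rw [← pow_mul, mul_comm, ← hsq, ← hF]
        exact FiniteField.pow_card_sub_one_eq_one _ a.ne_zero
      rw [e3, div_pow, hone, div_one, ← pow_mul, mul_comm, pow_mul, e2, one_pow]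
  -- the scalars have norms other than one
  have hL6 : q + 1 < L ∨ (6 < L ∧ ∀ a ∈ eGrp h K, ((a : Fˣ) : F) ^ (3 * (q - 1)) = 1) := by
    by_cases hI1 : I = 1
    · left
      rw [hI1, mul_one] at hst
      rw [hsq] at hst
      have : 2 * (q + 1) ≤ (q - 1) * (q + 1) := Nat.mul_le_mul_right _ (by omega)
      omega
    · right
      obtain ⟨-, hIq, hpow⟩ := hI hI1
      refine ⟨?_, hpow⟩
      have h1 : q ^ 2 - 1 ≤ L * q := hst.trans (Nat.mul_le_mul_left _ hIq)
      rw [pow_two] at h1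
      by_contra hle
      have h2 : L * q ≤ 6 * q := Nat.mul_le_mul_right _ (by omega)
      have hq6 : q ≤ 6 := by
        by_contra h7
        have : 7 * q ≤ q * q := Nat.mul_le_mul_right _ (by omega)
        omega
      rcases (show q = 3 ∨ q = 4 ∨ q = 5 ∨ q = 6 by omega) with e | e | e | e
      · have := Nat.dvd_gcd hdvd (card_dvd_of_pow _ hpow)
        rw [e] at this h1
        norm_num at this h1
        have := Nat.le_of_dvd (by norm_num) this
        omega
      · exact hI1 (two_case ((two_eq_zero_iff hF).2 ⟨2, e⟩))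
      · exact h5 e
      · exact hI1 (two_case ((two_eq_zero_iff hF).2 ⟨3, e⟩))
  have hN : ∃ a ∈ eGrp h K, ((a : Fˣ) : F) ^ (q + 1) ≠ 1 := by
    by_contra hcon
    simp only [not_exists, not_and, not_not] at hcon
    rcases hL6 with hlt | ⟨hlt, hpow⟩
    · exact absurd (Nat.le_of_dvd (by omega) (card_dvd_of_pow _ hcon)) (not_le.2 hlt)
    · refine absurd (Nat.le_of_dvd (by norm_num) (card_dvd_of_pow (j := 6) (eGrp h K) fun a ha => ?_))
        (not_le.2 hlt)
      have h1 := hcon a ha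
      have h2 := hpow a ha
      calc (a : F) ^ 6 = (a : F) ^ 6 * (a : F) ^ (3 * (q - 1)) := by rw [h2, mul_one]
        _ = ((a : F) ^ (q + 1)) ^ 3 := by
          rw [← pow_add, ← pow_mul]; congr 1; omega
        _ = 1 := by rw [h1, one_pow]
  obtain ⟨y', h', heq, hC⟩ := exists_good_pair hF h hN
  have hW' : wPart hF h' K = ⊥ := by rw [← tw_eq_wPart hF h', ← hW, ← tw_eq_wPart hF h]
  have hI' : Nat.card (iPart hF h' K) = I := by
    have e1 := (card_pstK hF h (K := K)).symm.trans (card_pstK hF h' (K := K))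
    rw [hW, hW', AddSubgroup.card_bot, mul_one, mul_one, heq] at e1
    exact (Nat.eq_of_mul_eq_mul_left (by omega) e1).symm
  have hsx : ∀ g ∈ K, g ∈ pst (m := 1) x → ∃ s ∈ K, s ∈ lev (m := 1) q x y' ∧
      s⁻¹ * g ∈ H55.Psu.radU (n := 1 + 2) x := by
    intro g hg hgx
    have h0 := (eig_spec h' hgx).1
    obtain ⟨s, hsK, hsl, hse⟩ := hC (Units.mk0 _ h0) ⟨g, ⟨hg, hgx⟩, rfl⟩
    refine ⟨s, hsK, hsl, stab_le_radU hF h' ((stab_iff_eig h').2
      ⟨(pst (m := 1) x).mul_mem ((pst (m := 1) x).inv_mem hsl.1) hgx, ?_⟩)⟩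
    have e' := eig_mul h' hsl.1 ((pst (m := 1) x).mul_mem ((pst (m := 1) x).inv_mem hsl.1) hgx)
    rw [mul_inv_cancel_left, hse, Units.val_mk0] at e'
    exact (mul_eq_left₀ h0).1 e'.symm
  have hrad : ∀ g ∈ K, g ∈ H55.Psu.radU (n := 1 + 2) x → pr x y' g = 0 → g = 1 := by
    intro g hg hgr hpr
    have : gam q y' g ∈ wPart hF h' K := ⟨g, ⟨hg, hgr, hpr⟩, rfl⟩
    rw [hW', AddSubgroup.mem_bot] at this
    exact rad_eq hF h' hgr (H55.Psu.radU (q := q) x).one_mem (hpr.trans (rad_one hF h').1.symm)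
      (this.trans (rad_one hF h').2.symm)
  have hKx : I = 1 → ∀ g ∈ K, g ∈ pst (m := 1) x → g ∈ lev q x y' := by
    intro hI1 g hg hgx
    obtain ⟨s, hsK, hsl, hsr⟩ := hsx g hg hgx
    have hmem : pr x y' (s⁻¹ * g) ∈ iPart hF h' K := ⟨_, ⟨K.mul_mem (K.inv_mem hsK) hg, hsr⟩, rfl⟩
    rw [AddSubgroup.eq_bot_of_card_eq _ (hI'.trans hI1), AddSubgroup.mem_bot] at hmem
    rw [← inv_mul_eq_one.1 (hrad _ (K.mul_mem (K.inv_mem hsK) hg) hsr hmem)]
    exact hsl
  obtain ⟨a₀, ha₀, hN₀⟩ := hN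
  obtain ⟨s₀, hs₀K, hs₀l, hs₀e⟩ := hC a₀ (by rw [heq]; exact ha₀)
  have hN' : eig q x y' s₀ ^ (q + 1) ≠ 1 := by rw [hs₀e]; exact hN₀
  rcases Nat.even_or_odd q with hqe | hodd
  · exfalso
    have hI1 := two_case ((two_eq_zero_iff hF).2 hqe)
    have := even_points hF h' htr (hKx hI1) hs₀K hs₀l hN'
    rw [Nat.even_add_one] at this
    exact this (hqe.pow_of_ne_zero (by norm_num))
  have h2 : (2 : F) ≠ 0 := two_ne_zero_of_odd hF hodd
  -- the involution
  have hneg := neg_one_mem hF htr h hodd (heven hodd)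
  obtain ⟨t, htK, htl, hte⟩ := hC (-1) (by rw [heq]; exact hneg)
  rw [Units.val_neg, Units.val_one] at hte
  obtain ⟨-, htx, hty⟩ := lev_spec hF h' htl
  rw [hte] at htx hty
  rw [neg_pow_q hF, one_pow, inv_neg, inv_one] at hty
  have htt : t * t = 1 := lev_eq_of_eig hF h' (mul_mem htl htl) (one_mem _) (by
    rw [eig_mul h' htl.1 htl.1, hte, eig_eq_one h' (one_mem _)]; norm_num)
  have hti : t⁻¹ = t := inv_eq_of_mul_eq_one_right htt
  have hcomm : ∀ s : G3, s ∈ lev (m := 1) q x y' → s * t = t * s := fun s hs =>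
    lev_eq_of_eig hF h' (mul_mem hs htl) (mul_mem htl hs) (by
      rw [eig_mul h' hs.1 htl.1, eig_mul h' htl.1 hs.1, mul_comm])
  obtain ⟨e, he⟩ := exists_frame hF (m := 1) rfl h'
  set Γ : Subgroup G3 :=
    { carrier := {g | g ∈ K ∧ g * t = t * g}
      one_mem' := ⟨one_mem _, by rw [one_mul, mul_one]⟩
      mul_mem' := fun {a b} ha hb => ⟨mul_mem ha.1 hb.1, by
        rw [mul_assoc, hb.2, ← mul_assoc, ha.2, mul_assoc]⟩
      inv_mem' := fun {a} ha => ⟨inv_mem ha.1, (show Commute a t from ha.2).inv_left.eq⟩ }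
  have hΓx : ∀ g ∈ Γ, g ∈ pst (m := 1) x → g ∈ lev q x y' := by
    rintro g ⟨hg, hgt⟩ hgx
    obtain ⟨s, hsK, hsl, hsr⟩ := hsx g hg hgx
    have hut : s⁻¹ * g * t = t * (s⁻¹ * g) := by
      have h1 : s⁻¹ * t = t * s⁻¹ :=
        hcomm _ ((lev (m := 1) q x y').inv_mem hsl)
      rw [mul_assoc, hgt, ← mul_assoc, h1, mul_assoc]
    have hconj : t * (s⁻¹ * g) * t⁻¹ = s⁻¹ * g := by rw [← hut, mul_inv_cancel_right]
    have hpr := (rad_conj hF h' htl hsr).1
    rw [hconj, hte, neg_pow_q hF, one_pow, pperp_line hF h' he (pr_mem hF h' (radU_le_stab x hsr)),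
      mulVec_smul, lev_e hF h' he htl, hte, neg_pow_q hF, one_pow, div_self (neg_ne_zero.2 one_ne_zero),
      one_smul, neg_one_smul, eq_neg_iff_add_eq_zero, ← two_smul F] at hpr
    have hz := (smul_eq_zero.1 hpr).resolve_left h2
    rw [← pperp_line hF h' he (pr_mem hF h' (radU_le_stab x hsr))] at hz
    rw [← inv_mul_eq_one.1 (hrad _ (K.mul_mem (K.inv_mem hsK) hg) hsr hz)]
    exact hsl
  have hs₀Γ : s₀ ∈ Γ := ⟨hs₀K, hcomm _ hs₀l⟩
  have hchord : ∀ v : Fin (1 + 2) → F, suMat t *ᵥ v = -v → ∃ α β : F, v = α • x + β • y' := by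
    intro v hv
    obtain ⟨w, hwx, hwy, hdec⟩ := pair_decomp hF h' v
    refine ⟨hermForm (1 + 2) F q v y', hermForm (1 + 2) F q v x, ?_⟩
    generalize hermForm (1 + 2) F q v y' = α, hermForm (1 + 2) F q v x = β at hdec
    have hw := pperp_line hF h' he (mem_pperp.2 ⟨hwx, hwy⟩)
    generalize hermForm (1 + 2) F q w (e 0) = c at hw
    subst hw
    rw [hdec] at hv ⊢
    rw [mulVec_add, mulVec_add, mulVec_smul, mulVec_smul, mulVec_smul, htx, hty,
      lev_e hF h' he htl, hte, neg_pow_q hF, one_pow, div_self (neg_ne_zero.2 one_ne_zero),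
      one_smul] at hv
    have := congrArg (fun u => hermForm (1 + 2) F q u (e 0)) hv
    obtain ⟨hex, hey, hee⟩ := e_props hF h' he
    simp [h_add_left, h_smul_left, h_neg_left, (h_eq_zero_comm hF).1 hex, (h_eq_zero_comm hF).1 hey,
      hee] at this
    have hc : c = 0 := (mul_eq_zero.1 (show (2 : F) * c = 0 by linear_combination this)).resolve_left h2
    rw [hc, zero_smul, add_zero]
  have hpres : ∀ g ∈ Γ, ∃ α β γ δ : F, suMat g *ᵥ x = α • x + β • y' ∧
      suMat g *ᵥ y' = γ • x + δ • y' := by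
    rintro g ⟨-, hgt⟩
    have hneg' : ∀ v : Fin (1 + 2) → F, suMat t *ᵥ v = -v → suMat t *ᵥ (suMat g *ᵥ v) = -(suMat g *ᵥ v) := by
      intro v hv
      rw [← suMat_mulVec_mul, ← hgt, suMat_mulVec_mul, hv, mulVec_neg]
    obtain ⟨α, β, e1⟩ := hchord _ (hneg' x (by rw [htx, neg_one_smul]))
    obtain ⟨γ, δ, e2⟩ := hchord _ (hneg' y' (by rw [hty, neg_one_smul]))
    exact ⟨α, β, γ, δ, e1, e2⟩
  have htrΓ : ∀ z : F, z + z ^ q = 0 → ∃ g ∈ Γ, OnLine (suMat g *ᵥ x) (z • x + y') := by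
    intro z hz
    have hw : hermForm (1 + 2) F q (z • x + y') (z • x + y') = 0 := by
      simp [h_add_left, h_add_right hF, h_smul_left, h_smul_right hF, h'.1, h'.2.1, h'.2.2,
        (h'.symm hF).2.2]
      linear_combination hz
    have hw0 : z • x + y' ≠ (0 : Fin (1 + 2) → F) := fun e0 => by
      have := congrArg (fun v => hermForm (1 + 2) F q v x) e0
      simp [h_add_left, h_smul_left, h_zero_left, h'.1, (h'.symm hF).2.2] at this
    obtain ⟨g₀, hg₀, a, ha, eg⟩ := htr x (z • x + y') (h'.fst_ne_zero hF) hw0 h'.1 hw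
    obtain ⟨f, hf⟩ := exists_hyp_partner hF hw0 hw
    set t' := g₀ * t * g₀⁻¹
    have htw : suMat t *ᵥ (z • x + y') = -(z • x + y') := by
      rw [mulVec_add, mulVec_smul, htx, hty]; module
    have ht'w : suMat t' *ᵥ (z • x + y') = -(z • x + y') := by
      rw [show z • x + y' = a⁻¹ • suMat g₀ *ᵥ x by rw [eg, inv_smul_smul₀ ha]]
      simp only [t', suMat_mulVec_mul, mulVec_smul, suMat_inv_mulVec]
      rw [htx, neg_one_smul, mulVec_neg, smul_neg]
    set v := t * t'
    have hvw : suMat v *ᵥ (z • x + y') = z • x + y' := by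
      rw [suMat_mulVec_mul, ht'w, mulVec_neg, htw, neg_neg]
    obtain ⟨p, hp⟩ := CharP.exists F
    haveI := hp
    haveI : Fact p.Prime := ⟨CharP.char_is_prime F p⟩
    obtain ⟨k, hk⟩ := isPGroup_radU hF (p := p) (by norm_num) hw
      ⟨v, stab_le_radU hF hf (mem_stab.2 hvw)⟩
    have hpodd : Odd p := by
      rcases (Fact.out : p.Prime).eq_two_or_odd' with rfl | ho
      · exact absurd (by exact_mod_cast CharP.cast_eq_zero F 2) h2
      · exact ho
    obtain ⟨r, hr⟩ := hpodd.pow (n := k)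
    have hv1 : v ^ (2 * r + 1) = 1 := by
      rw [← hr]; simpa using congrArg Subtype.val hk
    have hvK : v ∈ K := mul_mem htK (mul_mem (mul_mem hg₀ htK) (inv_mem hg₀))
    have ht't' : t' * t' = 1 := by
      calc g₀ * t * g₀⁻¹ * (g₀ * t * g₀⁻¹) = g₀ * (t * t) * g₀⁻¹ := by group
        _ = 1 := by rw [htt, mul_one, mul_inv_cancel]
    set d := v ^ (r + 1) with hd
    have hinvd : t * d * t⁻¹ = d⁻¹ := by
      rw [hd, ← conj_pow, ← inv_pow]
      congr 1
      rw [show v = t * t' from rfl, _root_.mul_inv_rev, inv_eq_of_mul_eq_one_right ht't', hti,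
        ← mul_assoc, htt, one_mul]
    have hdd : d * d = v := by
      rw [hd, ← pow_add, show r + 1 + (r + 1) = 2 * r + 1 + 1 by omega, pow_succ, hv1, one_mul]
    have hkey : d * t' * d⁻¹ = t := by
      have e1 : t' = t * v := by rw [show v = t * t' from rfl, ← mul_assoc, htt, one_mul]
      calc d * t' * d⁻¹ = d * (t * d * t⁻¹) * t := by rw [e1, ← hdd]; group
        _ = t := by rw [hinvd, mul_inv_cancel, one_mul]
    refine ⟨d * g₀, ⟨mul_mem (pow_mem hvK _) hg₀, ?_⟩, a, ha, ?_⟩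
    · calc d * g₀ * t = d * t' * d⁻¹ * (d * g₀) := by simp only [t']; group
        _ = _ := by rw [hkey]
    · rw [suMat_mulVec_mul, eg, mulVec_smul]
      congr 1
      have : ∀ j : ℕ, suMat (v ^ j) *ᵥ (z • x + y') = z • x + y' := by
        intro j
        induction j with
        | zero => rw [pow_zero, suMat_one, one_mulVec]
        | succ j ih => rw [pow_succ, suMat_mulVec_mul, hvw, ih]
      exact this _
  -- the norms
  let f : eGrp h K →* Fˣ := (powMonoidHom (q + 1)).comp (eGrp h K).subtype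
  set M : Set F := (fun a : Fˣ => (a : F)) '' (f.range : Set Fˣ) with hMdef
  have hMcard : M.ncard = Nat.card f.range := by
    rw [hMdef, Set.ncard_image_of_injective _ Units.val_injective, ← Nat.card_coe_set_eq]
    rfl
  obtain ⟨n, hn1, hn2⟩ := chord_bound hF h' hΓx hs₀Γ hs₀l hN' hpres htrΓ M (by
    rintro _ ⟨_, ⟨a, rfl⟩, rfl⟩
    obtain ⟨s, hsK, hsl, hse⟩ := hC a.1 (by rw [heq]; exact a.2)
    exact ⟨s, ⟨hsK, hcomm _ hsl⟩, hsl, by rw [hse]; rfl⟩)
  have hLM : ∀ j : ℕ, 0 < j → (∀ a ∈ eGrp h K, ((a : Fˣ) : F) ^ (q + 1) = 1 → ((a : Fˣ) : F) ^ j = 1) →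
      L ≤ j * M.ncard := by
    intro j hj hker
    rw [hMcard, hLdef, ← f.ker.card_mul_index, Subgroup.index_ker]
    refine Nat.mul_le_mul_right _ ?_
    rw [Nat.card_congr (f.ker.equivMapOfInjective _ (eGrp h K).subtype_injective).toEquiv]
    refine Nat.le_of_dvd hj (card_dvd_of_pow _ ?_)
    rintro _ ⟨a, ha, rfl⟩
    refine hker _ a.2 ?_
    simpa [f] using congrArg Units.val (MonoidHom.mem_ker.1 ha)
  by_cases hI1 : I = 1
  · left
    rw [hI1, mul_one] at hst
    have hL : L = q ^ 2 - 1 := le_antisymm hLle hst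
    have := hLM (q + 1) (by omega) (fun a _ e' => e')
    rw [hL, hsq, mul_comm (q + 1)] at this
    have hM1 := Nat.le_of_mul_le_mul_right this (by omega)
    have hn3 : n ≤ 1 := by
      by_contra hlt
      have := (Nat.mul_le_mul (show 2 ≤ n by omega) hM1).trans hn1
      omega
    have : n ^ 2 ≤ 1 := by interval_cases n <;> norm_num
    have hq3 : q = 3 := by
      obtain ⟨r, hr⟩ := hodd; omega
    subst hq3
    exact ⟨rfl, by rw [hL]; norm_num, hI1⟩
  · right
    obtain ⟨hIdvd, hIq, hpow⟩ := hI hI1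
    have h3d : L ∣ 3 * (q - 1) := card_dvd_of_pow _ hpow
    have h6 := hLM 6 (by norm_num) (fun a ha hN1 => by
      calc ((a : Fˣ) : F) ^ 6 = (a : F) ^ 6 * (a : F) ^ (3 * (q - 1)) := by rw [hpow a ha, mul_one]
        _ = ((a : F) ^ (q + 1)) ^ 3 := by rw [← pow_add, ← pow_mul]; congr 1; omega
        _ = 1 := by rw [hN1, one_pow])
    have h2L : 2 ∣ L := by
      have h1 : orderOf (⟨-1, hneg⟩ : eGrp h K) = 2 := by
        refine orderOf_eq_prime (Subtype.ext (by simp)) fun e' => h2 ?_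
        have := congrArg (fun a : eGrp h K => ((a : Fˣ) : F)) e'
        simp at this
        linear_combination -this
      rw [← h1]; exact orderOf_dvd_natCard _
    have hLgt : q - 1 < L := by
      by_contra hle
      have h1 : L * I ≤ (q - 1) * q := Nat.mul_le_mul (by omega) hIq
      have h3' : (q - 1) * q < (q - 1) * (q + 1) := Nat.mul_lt_mul_of_pos_left (by omega) (by omega)
      omega
    obtain ⟨j, hj⟩ := h3d
    have hj2 : j ≤ 2 := by
      by_contra hlt
      have := Nat.mul_le_mul_left L (show 3 ≤ j by omega)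
      omega
    have hj1 : 1 ≤ j := by
      by_contra hlt
      rw [show j = 0 by omega, mul_zero] at hj
      omega
    have hn3 : n ≤ 2 * j := by
      by_contra hlt
      have h1 := Nat.mul_le_mul_left n h6
      have h2' : n * (6 * M.ncard) ≤ 6 * (q - 1) := by
        rw [mul_left_comm]; exact Nat.mul_le_mul_left 6 hn1
      have h4 := Nat.mul_le_mul_right L (show 2 * j + 1 ≤ n by omega)
      rw [add_mul, one_mul, mul_assoc, mul_comm j, ← hj] at h4
      omega
    have hq35 : q ≤ 35 := by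
      have : n * n ≤ 4 * 4 := Nat.mul_le_mul (by omega) (by omega)
      rw [pow_two] at hn2
      omega
    obtain ⟨r, hr⟩ := hodd
    have hIcase : ∀ p : ℕ, p.Prime → q = p → I = p := by
      intro p hp e
      rw [e] at hIdvd hIq
      obtain ⟨i, hi, hiI⟩ := (Nat.dvd_prime_pow hp).1 hIdvd
      interval_cases i
      · exact absurd (hiI.trans (pow_zero p)) hI1
      · exact hiI.trans (pow_one p)
      · have : p * 2 ≤ p ^ 2 := by rw [pow_two]; exact Nat.mul_le_mul_left p hp.two_le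
        have := hp.two_le
        omega
    have h3dvd : ∀ c : ℕ, 3 * (q - 1) ∣ (q - 1) * c → 3 ∣ c := fun c hc =>
      Nat.dvd_of_mul_dvd_mul_left (show 0 < q - 1 by omega) (by rwa [mul_comm 3] at hc)
    rcases (show j = 1 ∨ j = 2 by omega) with rfl | rfl
    · rw [mul_one] at hj
      have h31 : 3 ∣ q + 1 := h3dvd _ (by rw [hj, ← hsq]; exact hdvd)
      have hq11 : q ≤ 11 := by
        have : n * n ≤ 2 * 2 := Nat.mul_le_mul hn3 hn3
        rw [pow_two] at hn2
        omega
      have e : q = 11 := by omega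
      have eI := hIcase 11 (by norm_num) e
      exact Or.inl ⟨e, by omega, eI⟩
    · obtain ⟨l, hl⟩ := h2L
      have h31' : 3 ∣ 2 * (q + 1) := h3dvd _ (by
        rw [hj, mul_left_comm, ← hsq, mul_comm L]
        exact Nat.mul_dvd_mul_left 2 hdvd)
      have h31 : 3 ∣ q + 1 := (Nat.Coprime.dvd_mul_left (by norm_num)).1 h31'
      rcases (show q = 17 ∨ q = 29 by omega) with e | e
      · have eI := hIcase 17 (by norm_num) e
        exact Or.inr (Or.inl ⟨e, by omega, eI⟩)
      · have eI := hIcase 29 (by norm_num) e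
        exact Or.inr (Or.inr ⟨e, by omega, eI⟩)

end

end H37.U3Min
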