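import Cfsg.Agent.H37.SUThreeMinNoW

/-!
Small exceptional orders of subgroups of three-dimensional special unitary groups are impossible,
by the congruence for a Sylow subgroup of a primitive prime.
-/

set_option autoImplicit false

namespace H37.U3Min

open Matrix Cfsg H50 H50.PointStab H50.RadFrame H37.SUMin

universe u

variable {F : Type u} [Field F] {q : ℕ}

local notation "V3" => (Fin 3 → F)
local notation "h3" => hermForm 3 F q
local notation "G3" => SU 3 F q

omit [Field F] in
theorem det_sub_one_three {R : Type*} [CommRing R] (M : Matrix (Fin 3) (Fin 3) R) :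
    (M - 1).det = M.det - (Matrix.adjugate M).trace + M.trace - 1 := by
  rw [adjugate_fin_three, trace_fin_three, trace_fin_three, det_fin_three, det_fin_three]
  simp [Matrix.sub_apply]
  ring

variable [Fintype F] (hF : Fintype.card F = q ^ 2)
include hF

/-- An element of a prime order not dividing the orders at points has no eigenvector. -/
theorem no_eigvec {g : G3} {r : ℕ} [Fact r.Prime] (hg : orderOf g = r) (hr1 : ¬ r ∣ q ^ 2 - 1)
    (hr2 : ¬ r ∣ q) {v : V3} (hv0 : v ≠ 0) {a : F} (hv : suMat g *ᵥ v = a • v) : False := by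
  classical
  have hrp : r.Prime := Fact.out
  have hpow : ∀ j : ℕ, suMat (g ^ j) *ᵥ v = a ^ j • v := by
    intro j
    induction j with
    | zero => simp [suMat_one]
    | succ j ih => rw [pow_succ, suMat_mulVec_mul, hv, mulVec_smul, ih, smul_smul, pow_succ']
  have har : a ^ r = 1 := by
    have := hpow r
    rw [← hg, pow_orderOf_eq_one, suMat_one, one_mulVec, hg] at this
    exact smul_left_injective F hv0 (show a ^ r • v = (1 : F) • v by rw [one_smul, ← this])
  have ha1 : a = 1 := by
    have ha0 : a ≠ 0 := fun e => by rw [e, zero_pow hrp.ne_zero] at har; exact zero_ne_one har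
    have h1 : a ^ (q ^ 2 - 1) = 1 := by rw [← hF]; exact FiniteField.pow_card_sub_one_eq_one a ha0
    have hco : Nat.Coprime r (q ^ 2 - 1) := hrp.coprime_iff_not_dvd.2 hr1
    have := pow_gcd_eq_one.2 ⟨har, h1⟩
    rwa [hco.gcd_eq_one, pow_one] at this
  subst ha1
  rw [one_smul] at hv
  have iso_false : ∀ w : V3, w ≠ 0 → h3 w w = 0 → suMat g *ᵥ w = w → False := by
    intro w hw0 hw hgw
    obtain ⟨f, hf⟩ := exists_hyp_partner hF hw0 hw
    have hmem : g ∈ pst (m := 1) w := ⟨1, one_ne_zero, by rw [one_smul]; exact hgw⟩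
    have hdvd := Subgroup.orderOf_dvd_natCard _ hmem
    rw [hg] at hdvd
    have hc : Nat.card (pst (m := 1) w : Subgroup G3) = (q ^ 2 - 1) * q ^ 3 := by
      have e1 := card_pst hF hf le_rfl
      have e2 : Nat.card (SU 1 F q) = 1 := by
        rw [← card_stab2 hF hf le_rfl, Nat.card_eq_one_iff_unique]
        exact ⟨⟨fun a b => Subtype.ext ((stab2_eq_bot hF hf a.2).trans (stab2_eq_bot hF hf b.2).symm)⟩,
          ⟨1⟩⟩
      refine e1.trans ?_
      rw [e2, one_mul, mul_one, ← pow_succ]
    rw [hc] at hdvd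
    rcases hrp.dvd_mul.1 hdvd with h' | h'
    exacts [hr1 h', hr2 (hrp.dvd_of_dvd_pow h')]
  by_cases hvv : h3 v v = 0
  · exact iso_false v hv0 hvv hv
  have hN : h3 v v ^ q = h3 v v := h_self_fixed hF v
  obtain ⟨c, hc⟩ := H50.exists_norm_eq hF (c := (h3 v v)⁻¹) (by rw [inv_pow, hN])
  have hzz : h3 (c • v) (c • v) = 1 := by
    rw [h_smul_left, h_smul_right hF, ← mul_assoc, ← pow_succ', hc, inv_mul_cancel₀ hvv]
  set z := c • v with hz
  have hgz : suMat g *ᵥ z = z := by rw [hz, mulVec_smul, hv]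
  have hb : GramND q (fun _ : Fin 1 => z) :=
    IsON.gramND hF (b := fun _ : Fin 1 => z) (fun i j => by simp [Subsingleton.elim i j, hzz])
  obtain ⟨d, hd, hdz⟩ := exists_completion hF hb
  have hli : LinearIndependent F (Sum.elim (fun _ : Fin 1 => z) d) :=
    GramND.linearIndependent hF (sumElim_gramND hF hb hd hdz)
  have hspan : Submodule.span F (Set.range (Sum.elim (fun _ : Fin 1 => z) d)) = ⊤ :=
    hli.span_eq_top_of_card_eq_finrank (by simp)
  have expand : ∀ w : V3, h3 w z = 0 → w = ∑ k, h3 w (d k) • d k := by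
    intro w hw
    refine sub_eq_zero.1 (eq_zero_of_h_left hF fun u => ?_)
    have hu : u ∈ Submodule.span F (Set.range (Sum.elim (fun _ : Fin 1 => z) d)) := hspan ▸ trivial
    induction hu using Submodule.span_induction with
    | mem u hu =>
      obtain ⟨i | i, rfl⟩ := hu
      · rw [h_sub_left, Sum.elim_inl, hw, h_sum_left, Finset.sum_eq_zero, sub_zero]
        intro k _
        rw [h_smul_left, hdz k i, mul_zero]
      · rw [h_sub_left, Sum.elim_inr, h_sum_left, Finset.sum_eq_single i, h_smul_left,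
          show h3 (d i) (d i) = 1 by simpa using hd i i, mul_one, sub_self]
        · intro k _ hk
          rw [h_smul_left, show h3 (d k) (d i) = 0 by simpa [hk] using hd k i, mul_zero]
        · simp
    | zero => rw [h_zero_right hF]
    | add a b _ _ ha hb => rw [h_add_right hF, ha, hb, add_zero]
    | smul a b _ hb => rw [h_smul_right hF, hb, mul_zero]
  let S : Set V3 := {w | w ≠ 0 ∧ h3 w z = 0 ∧ h3 w w = 0}
  let T : Set (Fin (3 - Fintype.card (Fin 1)) → F) :=
    {x | hermForm (3 - Fintype.card (Fin 1)) F q x x = 0}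
  have hgram : ∀ x : Fin (3 - Fintype.card (Fin 1)) → F, ∀ y : Fin (3 - Fintype.card (Fin 1)) → F,
      h3 (∑ k, x k • d k) (∑ k, y k • d k) = hermForm (3 - Fintype.card (Fin 1)) F q x y := by
    intro x y
    rw [h_sum_left]
    refine Finset.sum_congr rfl fun k _ => ?_
    rw [h_smul_left, h_sum_right hF, Finset.sum_eq_single k, h_smul_right hF,
      show h3 (d k) (d k) = 1 by simpa using hd k k, mul_one]
    · intro j _ hj
      rw [h_smul_right hF, show h3 (d k) (d j) = 0 by simpa [hj.symm] using hd k j, mul_zero]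
    · simp
  have hScard : Nat.card S = (q ^ 2 - 1) * (q + 1) := by
    have hT : Nat.card T = (q ^ 2 - 1) * (q + 1) + 1 := normCount_two_zero hF
    have h0T : (0 : Fin (3 - Fintype.card (Fin 1)) → F) ∈ T := h_zero_left _
    have : Nat.card S = (T \ {0}).ncard := by
      rw [← Nat.card_coe_set_eq]
      refine Nat.card_eq_of_bijective (fun w : S => (⟨fun k => h3 w.1 (d k), ?_, ?_⟩ : ↥(T \ {0})))
        ⟨?_, ?_⟩
      · show hermForm _ F q _ _ = 0
        rw [← hgram, ← expand _ w.2.2.1]; exact w.2.2.2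
      · intro e
        exact w.2.1 ((expand _ w.2.2.1).trans (Finset.sum_eq_zero fun k _ => by
          rw [show h3 w.1 (d k) = 0 from congrFun e k, zero_smul]))
      · intro w w' e
        have e' := congrArg Subtype.val e
        refine Subtype.ext ?_
        rw [expand _ w.2.2.1, expand _ w'.2.2.1]
        exact Finset.sum_congr rfl fun k _ => congrArg (· • d k) (congrFun e' k)
      · rintro ⟨x, hx, hx0⟩
        have hdk : ∀ k, h3 (∑ j, x j • d j) (d k) = x k := fun k => by
          rw [h_sum_left, Finset.sum_eq_single k, h_smul_left,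
            show h3 (d k) (d k) = 1 by simpa using hd k k, mul_one]
          · intro j _ hj
            rw [h_smul_left, show h3 (d j) (d k) = 0 by simpa [hj] using hd j k, mul_zero]
          · simp
        refine ⟨⟨∑ j, x j • d j, fun e => hx0 (funext fun k => ?_), ?_, ?_⟩, Subtype.ext (funext hdk)⟩
        · rw [← hdk k, e, h_zero_left]; rfl
        · rw [h_sum_left]; exact Finset.sum_eq_zero fun j _ => by rw [h_smul_left, hdz j 0, mul_zero]
        · rw [hgram]; exact hx
    rw [this, Set.ncard_diff_singleton_of_mem h0T, ← Nat.card_coe_set_eq, hT, Nat.add_sub_cancel]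
  let σ : Function.End S := fun w => ⟨suMat g *ᵥ w.1,
    fun e => w.2.1 (suMat_injective g (by simpa using e)),
    by rw [← hgz, suMat_h]; exact w.2.2.1, by rw [suMat_h]; exact w.2.2.2⟩
  have hσj : ∀ j : ℕ, ∀ w : S, ((σ ^ j) w).1 = suMat (g ^ j) *ᵥ w.1 := by
    intro j
    induction j with
    | zero => intro w; rw [pow_zero, pow_zero, suMat_one, one_mulVec]; rfl
    | succ j ih =>
      intro w
      rw [pow_succ', pow_succ', suMat_mulVec_mul, ← ih w]
      rfl
  have hσ : σ ^ r ^ 1 = 1 := funext fun w => Subtype.ext (by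
    rw [hσj, pow_one, ← hg, pow_orderOf_eq_one, suMat_one, one_mulVec]; rfl)
  haveI : Fintype S := Fintype.ofFinite _
  have hmod := Equiv.Perm.card_fixedPoints_modEq hσ
  have hempty : Fintype.card (Function.fixedPoints σ) = 0 := Fintype.card_eq_zero_iff.2
    ⟨fun w => iso_false w.1.1 w.1.2.1 w.1.2.2.2 (congrArg Subtype.val w.2)⟩
  rw [hempty, ← Nat.card_eq_fintype_card, hScard] at hmod
  rcases hrp.dvd_mul.1 (Nat.modEq_zero_iff_dvd.1 hmod) with h' | h'
  · exact hr1 h'
  · refine hr1 (h'.trans ?_)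
    exact ⟨q - 1, by rw [← Nat.sq_sub_sq, one_pow]⟩

/-- Commuting with such an element and fixing a line means scalar. -/
theorem commute_scalar {g h : G3} (hno : ∀ (v : V3) (a : F), v ≠ 0 → suMat g *ᵥ v ≠ a • v)
    (hc : h * g = g * h) {v : V3} (hv0 : v ≠ 0) {l : F} (hv : suMat h *ᵥ v = l • v) :
    ∀ w, suMat h *ᵥ w = l • w := by
  let E : Submodule F V3 := LinearMap.ker ((suMat h).mulVecLin - l • LinearMap.id)
  have hE : ∀ w, w ∈ E ↔ suMat h *ᵥ w = l • w := fun w => by simp [E, sub_eq_zero]
  have hinv : ∀ w ∈ E, suMat g *ᵥ w ∈ E := by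
    intro w hw
    rw [hE] at hw ⊢
    rw [← suMat_mulVec_mul, hc, suMat_mulVec_mul, hw, mulVec_smul]
  by_cases htop : E = ⊤
  · exact fun w => (hE w).1 (htop ▸ trivial)
  exfalso
  have hlt := Submodule.finrank_lt htop
  rw [Module.finrank_fin_fun] at hlt
  set u := suMat g *ᵥ v
  have huE : u ∈ E := hinv v ((hE v).2 hv)
  have hli : LinearIndependent F ![v, u] := by
    rw [linearIndependent_fin2]
    refine ⟨fun e => hv0 (suMat_injective g (by simpa [u] using e)), fun a e => ?_⟩
    simp only [Matrix.cons_val_one, Matrix.cons_val_zero] at e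
    refine hno v a⁻¹ hv0 ?_
    have ha : a ≠ 0 := fun a0 => hv0 (by rw [← e, a0, zero_smul])
    calc suMat g *ᵥ v = a⁻¹ • (a • u) := by rw [inv_smul_smul₀ ha]
      _ = _ := by rw [e]
  have hsub : Submodule.span F (Set.range ![v, u]) ≤ E := Submodule.span_le.2 (by
    rintro _ ⟨i, rfl⟩
    fin_cases i
    exacts [(hE v).2 hv, huE])
  have hEeq : Submodule.span F (Set.range ![v, u]) = E := Submodule.eq_of_le_of_finrank_le hsub (by
    rw [finrank_span_eq_card hli, Fintype.card_fin]; omega)
  have hr := finrank_perp_range hF hli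
  rw [Fintype.card_fin] at hr
  obtain ⟨w, hw⟩ := (finrank_eq_one_iff' (K := F) (V := perp q (Set.range ![v, u]))).1 (by omega)
  have hperp : ∀ e ∈ E, h3 w.1 e = 0 := by
    intro e he
    rw [← hEeq] at he
    induction he using Submodule.span_induction with
    | mem e he => obtain ⟨i, rfl⟩ := he; exact mem_perp_range.1 w.2 i
    | zero => exact h_zero_right hF _
    | add a b _ _ ha hb => rw [h_add_right hF, ha, hb, add_zero]
    | smul a b _ hb => rw [h_smul_right hF, hb, mul_zero]
  -- the image of the line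
  let gE : E →ₗ[F] E := (suMat g).mulVecLin.restrict hinv
  have hsur : Function.Surjective gE := LinearMap.injective_iff_surjective.1 fun a b e =>
    Subtype.ext (suMat_injective g (congrArg Subtype.val e))
  have hgw : suMat g *ᵥ w.1 ∈ perp q (Set.range ![v, u]) := by
    refine mem_perp_range.2 fun i => ?_
    obtain ⟨⟨e, he⟩, hge⟩ := hsur ⟨![v, u] i, hsub (Submodule.subset_span ⟨i, rfl⟩)⟩
    rw [← show suMat g *ᵥ e = ![v, u] i from congrArg Subtype.val hge, suMat_h]
    exact hperp e he
  obtain ⟨a, ha⟩ := hw.2 ⟨_, hgw⟩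
  exact hno w.1 a (fun e => hw.1 (Subtype.ext e)) (congrArg Subtype.val ha).symm

omit hF in
/-- A scalar of the special group is a cube root of one. -/
theorem scalar_cube {h : G3} {l : F} (hl : ∀ w, suMat h *ᵥ w = l • w) : l ^ 3 = 1 := by
  have e : suMat h = l • (1 : Matrix (Fin 3) (Fin 3) F) := Matrix.ext_of_mulVec_single fun i => by
    rw [hl, smul_mulVec, one_mulVec]
  have hd : (suMat h).det = 1 := h.1.2
  rwa [e, det_smul, det_one, mul_one, Fintype.card_fin] at hd

omit hF in
/-- Elements of characteristic power order, and involutions, have eigenvectors with trivial powers. -/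
theorem exists_eigvec_elem (p : ℕ) [Fact p.Prime] [CharP F p] {h : G3} {k : ℕ}
    (hh : h ^ p ^ k = 1 ∨ h ^ 2 = 1) :
    ∃ (v : V3) (l : F), v ≠ 0 ∧ suMat h *ᵥ v = l • v ∧ (l = 1 ∨ l = -1) := by
  rcases hh with hh | hh
  · have hk : suMat h ^ p ^ k = 1 := by
      have : ∀ j : ℕ, suMat (h ^ j) = suMat h ^ j := by
        intro j
        induction j with
        | zero => rw [pow_zero, pow_zero, suMat_one]
        | succ j ih => rw [pow_succ, pow_succ, suMat_mul, ih]
      rw [← this, hh, suMat_one]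
    have hnil : (suMat h - 1) ^ p ^ k = 0 := by
      rw [sub_pow_char_pow_of_commute p k (Commute.one_right _), hk, one_pow, sub_self]
    have hdet : (suMat h - 1).det = 0 := by
      have := congrArg Matrix.det hnil
      rw [det_pow, det_zero] at this
      exact eq_zero_of_pow_eq_zero this
    obtain ⟨v, hv0, hv⟩ := Matrix.exists_mulVec_eq_zero_iff.2 hdet
    rw [sub_mulVec, one_mulVec, sub_eq_zero] at hv
    exact ⟨v, 1, hv0, by rw [one_smul]; exact hv, Or.inl rfl⟩
  · have hh' : ∀ w, suMat h *ᵥ (suMat h *ᵥ w) = w := fun w => by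
      rw [← suMat_mulVec_mul, ← pow_two, hh, suMat_one, one_mulVec]
    set v₀ : V3 := Pi.single 0 1
    have hv₀ : v₀ ≠ 0 := by simp [v₀]
    by_cases hu : suMat h *ᵥ v₀ + v₀ = 0
    · exact ⟨v₀, -1, hv₀, by rw [neg_one_smul]; exact eq_neg_of_add_eq_zero_left hu, Or.inr rfl⟩
    · exact ⟨_, 1, hu, by rw [mulVec_add, hh', one_smul, add_comm], Or.inl rfl⟩

/-- The centraliser has no such elements. -/
theorem commute_trivial (p : ℕ) [Fact p.Prime] [CharP F p] {g h : G3}
    (hno : ∀ (v : V3) (a : F), v ≠ 0 → suMat g *ᵥ v ≠ a • v) (hc : h * g = g * h) {k : ℕ}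
    (hh : h ^ p ^ k = 1 ∨ h ^ 2 = 1) : h = 1 := by
  obtain ⟨v, l, hv0, hv, hl⟩ := exists_eigvec_elem p hh
  have hall := commute_scalar hF hno hc hv0 hv
  have h3c := scalar_cube hall
  have hl1 : l = 1 := by
    rcases hl with rfl | rfl
    · rfl
    · linear_combination h3c
  subst hl1
  exact suMat_ext fun w => by rw [hall, one_smul, suMat_one, one_mulVec]

omit hF in
/-- No such element is conjugate to its inverse. -/
theorem no_inversion {g h : G3} (hno : ∀ (v : V3) (a : F), v ≠ 0 → suMat g *ᵥ v ≠ a • v) :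
    h * g * h⁻¹ ≠ g⁻¹ := by
  intro e
  have hinv : suMat g * suMat g⁻¹ = 1 := by rw [← suMat_mul, mul_inv_cancel, suMat_one]
  have hd : (suMat g).det = 1 := g.1.2
  have hadj : Matrix.adjugate (suMat g) = suMat g⁻¹ := by
    have h1 : Matrix.adjugate (suMat g) * suMat g = 1 := by rw [adjugate_mul, hd, one_smul]
    calc Matrix.adjugate (suMat g) = Matrix.adjugate (suMat g) * (suMat g * suMat g⁻¹) := by
          rw [hinv, mul_one]
      _ = suMat g⁻¹ := by rw [← mul_assoc, h1, one_mul]
  have htrace : (suMat g⁻¹).trace = (suMat g).trace := by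
    rw [← e, suMat_mul, suMat_mul, trace_mul_comm, ← mul_assoc, ← suMat_mul h⁻¹ h, inv_mul_cancel,
      suMat_one, one_mul]
  have h0 : (suMat g - 1).det = 0 := by
    rw [det_sub_one_three, hadj, htrace, hd]; ring
  obtain ⟨v, hv0, hv⟩ := Matrix.exists_mulVec_eq_zero_iff.2 h0
  rw [sub_mulVec, one_mulVec, sub_eq_zero] at hv
  exact hno v 1 hv0 (by rw [one_smul]; exact hv)

/-- The numbers attached to a Sylow subgroup for such a prime. -/
theorem sylow_numbers (p : ℕ) [Fact p.Prime] [CharP F p] {K : Subgroup G3}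
    (hZ : Subgroup.center G3 ≤ K) {r : ℕ} [Fact r.Prime] (hr1 : ¬ r ∣ q ^ 2 - 1) (hr2 : ¬ r ∣ q)
    (hrK : r ∣ Nat.card K) (hrr : ¬ r ^ 2 ∣ Nat.card K)
    (hpr : p = 2 ∨ ¬ p ∣ r - 1 ∨ ¬ p ∣ Nat.card K) :
    ∃ S : Sylow r K, Nat.card S = r ∧ ∃ n m : ℕ, n * m = Nat.card K ∧ n % r = 1 ∧ Odd m ∧
      ¬ p ∣ m ∧ r ∣ m ∧ Nat.card (Subgroup.center G3) ∣ m ∧
      m = Nat.card (Subgroup.normalizer (S : Set K)) := by
  classical
  have hrp : r.Prime := Fact.out
  obtain ⟨S⟩ : Nonempty (Sylow r K) := Sylow.nonempty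
  have hScard : Nat.card S = r := by
    rw [S.card_eq_multiplicity]
    have h1 : 1 ≤ (Nat.card K).factorization r :=
      (hrp.pow_dvd_iff_le_factorization Nat.card_pos.ne').1 (by rw [pow_one]; exact hrK)
    have h2 : ¬ 2 ≤ (Nat.card K).factorization r := fun h2 =>
      hrr ((hrp.pow_dvd_iff_le_factorization Nat.card_pos.ne').2 h2)
    rw [show (Nat.card K).factorization r = 1 by omega, pow_one]
  have hodd : Odd (Nat.card (Subgroup.normalizer (S : Set K))) → p = 2 →
      ¬ p ∣ Nat.card (Subgroup.normalizer (S : Set K)) := by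
    rintro ho rfl h'
    exact Nat.not_even_iff_odd.2 ho (even_iff_two_dvd.2 h')
  suffices h6 : Odd (Nat.card (Subgroup.normalizer (S : Set K))) ∧
      (¬ p ∣ r - 1 → ¬ p ∣ Nat.card (Subgroup.normalizer (S : Set K))) ∧
      r ∣ Nat.card (Subgroup.normalizer (S : Set K)) ∧
      Nat.card (Subgroup.center G3) ∣ Nat.card (Subgroup.normalizer (S : Set K)) by
    obtain ⟨h1, h2, h3', h4⟩ := h6
    refine ⟨S, hScard, Nat.card (Sylow r K), Nat.card (Subgroup.normalizer (S : Set K)), ?_, ?_, h1, ?_,
      h3', h4, rfl⟩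
    · rw [S.card_eq_index_normalizer, Subgroup.index_mul_card]
    · have := card_sylow_modEq_one r K
      rw [Nat.ModEq, Nat.mod_eq_of_lt hrp.one_lt] at this
      exact this
    · rcases hpr with e | e | e
      exacts [hodd h1 e, h2 e, fun h' => e (h'.trans (Subgroup.card_subgroup_dvd_card _))]
  clear hodd hpr
  refine ⟨?_, fun hpr => ?_, ?_, ?_⟩
  all_goals
    obtain ⟨g, hgS, hg⟩ : ∃ g : K, g ∈ (S : Subgroup K) ∧ orderOf g = r := by
      obtain ⟨g, hg⟩ := exists_prime_orderOf_dvd_card' (G := (S : Subgroup K)) r (by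
        show r ∣ Nat.card S
        rw [hScard])
      exact ⟨g, g.2, by rw [Subgroup.orderOf_coe]; exact hg⟩
    have hgen : ∀ x ∈ (S : Subgroup K), ∃ i : ℕ, g ^ i = x := by
      intro x hx
      have hle : Subgroup.zpowers g ≤ (S : Subgroup K) := (Subgroup.zpowers_le).2 hgS
      have he := Subgroup.eq_of_le_of_card_ge hle (by
        rw [Nat.card_zpowers, hg]; exact hScard.le)
      rw [← he] at hx
      exact mem_powers_iff_mem_zpowers.2 hx
    have hgG : orderOf (g : G3) = r := by rw [Subgroup.orderOf_coe]; exact hg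
    have hno : ∀ (v : V3) (a : F), v ≠ 0 → suMat (g : G3) *ᵥ v ≠ a • v := fun v a hv0 e =>
      no_eigvec hF hgG hr1 hr2 hv0 e
    have triv : ∀ x : K, ∀ k : ℕ, x * g = g * x → x ^ p ^ k = 1 ∨ x ^ 2 = 1 → x = 1 := by
      intro x k hc hx
      exact Subtype.ext (commute_trivial hF p hno (congrArg Subtype.val hc) (k := k)
        (hx.imp (fun e => by simpa using congrArg Subtype.val e) fun e => by
          simpa using congrArg Subtype.val e))
  · -- no involution
    rw [← Nat.not_even_iff_odd, even_iff_two_dvd]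
    intro h2
    obtain ⟨x, hx⟩ := exists_prime_orderOf_dvd_card' 2 h2
    have hx2 : (x : K) ^ 2 = 1 := by
      rw [← Subgroup.orderOf_coe] at hx; rw [← hx]; exact pow_orderOf_eq_one _
    obtain ⟨i, hi⟩ := hgen _ ((Subgroup.mem_normalizer_iff.1 x.2 g).1 hgS)
    have hinv : (x : K)⁻¹ = x := inv_eq_of_mul_eq_one_right (by rw [← pow_two]; exact hx2)
    have hii : g ^ (i * i) = g ^ 1 := by
      rw [pow_mul, hi, conj_pow, hi, hinv, pow_one]
      calc (x : K) * (x * g * x) * x = (x * x) * g * (x * x) := by group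
        _ = g := by rw [← pow_two, hx2, one_mul, mul_one]
    rw [pow_eq_pow_iff_modEq, hg] at hii
    have hz := (ZMod.natCast_eq_natCast_iff _ _ r).2 hii
    push_cast at hz
    rcases mul_self_eq_one_iff.1 hz with h' | h'
    · have : g ^ i = g := by
        conv_rhs => rw [← pow_one g]
        rw [pow_eq_pow_iff_modEq, hg, ← ZMod.natCast_eq_natCast_iff, Nat.cast_one, h']
      rw [this] at hi
      have hc : (x : K) * g = g * x := (mul_inv_eq_iff_eq_mul.1 hi.symm)
      have hx1 := triv _ 0 hc (Or.inr hx2)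
      rw [← Subgroup.orderOf_coe, hx1, orderOf_one] at hx
      omega
    · have h1 : g ^ (i + 1) = 1 := by
        rw [← orderOf_dvd_iff_pow_eq_one, hg, ← CharP.cast_eq_zero_iff (ZMod r) r]
        push_cast
        rw [h', neg_add_cancel]
      rw [pow_succ, hi, mul_eq_one_iff_eq_inv] at h1
      exact no_inversion (h := ((x : K) : G3)) hno (by simpa using congrArg Subtype.val h1)
  · -- no element of the characteristic
    intro hp
    obtain ⟨x, hx⟩ := exists_prime_orderOf_dvd_card' p hp
    haveI : IsCyclic (S : Subgroup K) := isCyclic_of_prime_card (p := r) hScard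
    set φ := Subgroup.normalizerMonoidHom (S : Subgroup K)
    have h1 : orderOf (φ x) ∣ p := hx ▸ orderOf_map_dvd φ x
    have h2 : orderOf (φ x) ∣ r - 1 := by
      have := orderOf_dvd_natCard (φ x)
      rwa [IsCyclic.card_mulAut, show Nat.card (S : Subgroup K) = r from hScard,
        Nat.totient_prime hrp] at this
    have h3' : φ x = 1 := by
      rw [← orderOf_eq_one_iff]
      exact Nat.eq_one_of_dvd_coprimes ((Nat.Prime.coprime_iff_not_dvd Fact.out).2 hpr) h1 h2
    have hker : x ∈ φ.ker := h3'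
    rw [Subgroup.normalizerMonoidHom_ker, Subgroup.mem_subgroupOf, Subgroup.mem_centralizer_iff] at hker
    have hx1 := triv _ 1 (hker g hgS).symm (Or.inl (by
      rw [pow_one, ← hx, ← Subgroup.orderOf_coe]; exact pow_orderOf_eq_one _))
    rw [← Subgroup.orderOf_coe, hx1, orderOf_one] at hx
    exact (Fact.out : p.Prime).one_lt.ne hx
  · calc r = Nat.card (S : Subgroup K) := hScard.symm
      _ ∣ _ := Subgroup.card_dvd_of_le Subgroup.le_normalizer
  · rw [← Nat.card_congr (Subgroup.subgroupOfEquivOfLe hZ).toEquiv]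
    refine Subgroup.card_dvd_of_le fun z hz => ?_
    have hzc : ∀ y : K, y * z = z * y := fun y => Subtype.ext (Subgroup.mem_center_iff.1 hz (y : G3))
    refine Subgroup.mem_normalizer_iff.2 fun y => ?_
    rw [show z * y * z⁻¹ = y by rw [← hzc, mul_inv_cancel_right]]

end H37.U3Min
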