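import Cfsg.Agent.H37.SUThreeMinField

/-!
The index bound for subgroups of three-dimensional special unitary groups that contain
transvections.
-/

set_option autoImplicit false

namespace H37.U3Min

open Matrix Cfsg H50 H50.PointStab H50.RadFrame H37.SUMin

universe u

variable {F : Type u} [Field F] {q : ℕ}

local notation "V3" => (Fin 3 → F)
local notation "h3" => hermForm 3 F q
local notation "G3" => SU 3 F q

variable [Fintype F] (hF : Fintype.card F = q ^ 2)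
include hF

section

variable {K : Subgroup (SU 3 F q)} (htr : PtTrans K) {x y : Fin (1 + 2) → F} (h : IsHyp q x y)
  (hW : wPart hF h K ≠ ⊥)
include htr h hW

/-- All transvection parameters mean everything. -/
theorem exists_trace_notMem_w (hq : 3 ≤ q) (hK : K ≠ ⊤) :
    ∃ t : F, t + t ^ q = 0 ∧ t ∉ wPart hF h K := by
  by_contra hcon
  simp only [not_exists, not_and, not_not] at hcon
  refine hK (rootGroup_iSup hF le_rfl (by omega) fun v hv hvv => ?_)
  obtain ⟨ν, hν, hiff⟩ := tw_scale hF htr h hv hvv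
  intro g hg
  obtain ⟨c, hc, hgc⟩ := (mem_rootGroup hF).1 hg
  have hνq : ν ^ q = ν := by
    obtain ⟨w, hw, hw0⟩ := (AddSubgroup.bot_or_exists_ne_zero (wPart hF h K)).resolve_left hW
    have e1 := wPart_le_trace hF h hw
    have e2 := ((hiff w).1 hw).1
    rw [mul_pow] at e2
    have : w * (ν - ν ^ q) = 0 := by linear_combination e2 - ν ^ q * e1
    exact (sub_eq_zero.1 ((mul_eq_zero.1 this).resolve_left hw0)).symm
  have h1 : c / ν ∈ wPart hF h K := hcon _ (by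
    rw [div_pow, hνq, ← add_div, hc, zero_div])
  have h2 := (hiff _).1 h1
  rw [div_mul_cancel₀ _ hν] at h2
  obtain ⟨-, A, hA, hAz⟩ := h2
  rwa [show g = A from suMat_ext fun z => (hgc z).trans (hAz z).symm]

theorem mult_le_fixq : mult (wPart hF h K) ≤ fixq hF := by
  obtain ⟨w, hw, hw0⟩ := (AddSubgroup.bot_or_exists_ne_zero (wPart hF h K)).resolve_left hW
  intro c hc
  have e1 := wPart_le_trace hF h hw
  have e2 := wPart_le_trace hF h (hc w hw)
  rw [mul_pow] at e2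
  have : w * (c - c ^ q) = 0 := by linear_combination e2 - c ^ q * e1
  exact (sub_eq_zero.1 ((mul_eq_zero.1 this).resolve_left hw0)).symm

omit hW in
/-- In characteristic two the scalars move any parameter to any other. -/
theorem two_conj (h2 : (2 : F) = 0) {w₁ w₂ : F} (h1 : w₁ ∈ wPart hF h K) (h2' : w₂ ∈ wPart hF h K)
    (h10 : w₁ ≠ 0) (h20 : w₂ ≠ 0) : ∃ a ∈ eGrp h K, w₁ * ((a : Fˣ) : F) ^ (q + 1) = w₂ := by
  obtain ⟨p, hp⟩ := CharP.exists F
  haveI := hp
  haveI : Fact p.Prime := ⟨CharP.char_is_prime F p⟩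
  have hp2 : p = 2 := by
    have : p ∣ 2 := (CharP.cast_eq_zero_iff F p 2).1 (by exact_mod_cast h2)
    exact (Nat.prime_dvd_prime_iff_eq Fact.out Nat.prime_two).1 this
  subst hp2
  have hx0 : x ≠ 0 := h.fst_ne_zero hF
  have hy0 : y ≠ 0 := (h.symm hF).fst_ne_zero hF
  have hW : wPart hF h K ≠ ⊥ := fun e => h10 (by rw [e] at h1; exact h1)
  obtain ⟨s, hs, hs0⟩ := exists_tw_ne_zero hF htr h hW hy0 h.2.1
  obtain ⟨-, B, hBK, hB⟩ := hs
  have sq_one : ∀ (v : Fin 3 → F) (c : F) (A : G3), h3 v v = 0 →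
      (∀ z, suMat A *ᵥ z = z + (c * h3 z v) • v) → A * A = 1 := by
    intro v c A hv hA
    refine suMat_ext fun z => ?_
    rw [suMat_mulVec_mul, hA, hA, h_add_left, h_smul_left, hv, suMat_one, one_mulVec]
    match_scalars
    · ring
    · linear_combination c * h3 z v * h2
  have hB1 : B ≠ 1 := fun e => by
    have := hB x
    rw [e, suMat_one, one_mulVec, h.2.2, mul_one, eq_comm, add_eq_left] at this
    exact smul_ne_zero hs0 hy0 this
  have key : ∀ (c : F) (A : G3), A ∈ K → c ≠ 0 → (∀ z, suMat A *ᵥ z = z + (c * h3 z x) • x) →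
      ∃ d ∈ K, d * A * d⁻¹ = B := by
    intro c A hAK hc hA
    have hAA := sq_one x c A h.1 hA
    have hBB := sq_one y s B h.2.1 hB
    have hA1 : A ≠ 1 := fun e => by
      have := hA y
      rw [e, suMat_one, one_mulVec, (h.symm hF).2.2, mul_one, eq_comm, add_eq_left] at this
      exact smul_ne_zero hc hx0 this
    have hAi : A⁻¹ = A := inv_eq_of_mul_eq_one_right hAA
    have hBi : B⁻¹ = B := inv_eq_of_mul_eq_one_right hBB
    set m := orderOf (A * B)
    have hm : (A * B) ^ m = 1 := pow_orderOf_eq_one _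
    have conjA : ∀ i : ℕ, A * (A * B) ^ i * A⁻¹ = ((A * B) ^ i)⁻¹ := by
      intro i
      rw [← conj_pow, ← inv_pow]
      congr 1
      rw [_root_.mul_inv_rev, hBi, hAi, ← mul_assoc, hAA, one_mul]
    have conjB : ∀ i : ℕ, B * (A * B) ^ i * B⁻¹ = ((A * B) ^ i)⁻¹ := by
      intro i
      rw [← conj_pow, ← inv_pow]
      congr 1
      rw [_root_.mul_inv_rev, hBi, hAi, mul_assoc, mul_assoc, hBB, mul_one]
    rcases Nat.even_or_odd m with ⟨r, hr⟩ | ⟨r, hr⟩
    · exfalso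
      set j := (A * B) ^ r with hj
      have hjj : j * j = 1 := by rw [hj, ← pow_add, ← hr, hm]
      have hji : j⁻¹ = j := inv_eq_of_mul_eq_one_right hjj
      have hjne : j ≠ 1 := by
        intro e
        have hpos : 0 < m := orderOf_pos _
        have := orderOf_le_of_pow_eq_one (show 0 < r by omega) e
        omega
      have fix : ∀ (v : Fin 3 → F) (C : G3), v ≠ 0 → h3 v v = 0 → C ≠ 1 → C * C = 1 →
          suMat C *ᵥ v = v → C * j * C⁻¹ = j → ∃ a : F, suMat j *ᵥ v = a • v := by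
        intro v C hv0 hv hC1 hC2 hCv e
        have e' : C * j = j * C := mul_inv_eq_iff_eq_mul.1 e
        have hjv0 : suMat j *ᵥ v ≠ 0 := fun e0 => hv0 (suMat_injective j (by simpa using e0))
        obtain ⟨a, ha⟩ := Borel3.fixed_point_unique hF 2 (k := 1) (by rw [pow_one, pow_two]; exact hC2)
          hC1 hv0 hjv0 hv (by rw [suMat_h, hv]) ⟨1, by rw [one_smul, hCv]⟩
          ⟨1, by rw [one_smul, ← suMat_mulVec_mul, e', suMat_mulVec_mul, hCv]⟩
        exact ⟨a, ha.symm⟩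
      have hjx := fix x A hx0 h.1 hA1 hAA (by rw [hA, h.1, mul_zero, zero_smul, add_zero])
        (by rw [conjA, hji])
      have hjy := fix y B hy0 h.2.1 hB1 hBB (by rw [hB, h.2.1, mul_zero, zero_smul, add_zero])
        (by rw [conjB, hji])
      obtain ⟨c', hc'⟩ := Borel3.fixed_point_unique hF 2 (k := 1) (by rw [pow_one, pow_two]; exact hjj)
        hjne hx0 hy0 h.1 h.2.1 hjx hjy
      have := h.2.2
      rw [← hc', h_smul_right hF, h.1, mul_zero] at this
      exact zero_ne_one this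
    · refine ⟨A * (A * B) ^ (r + 1), mul_mem hAK (pow_mem (mul_mem hAK hBK) _), ?_⟩
      set P := (A * B) ^ (r + 1) with hP
      have e1 : A * P * A⁻¹ = P⁻¹ := conjA _
      have e2 : P * P = A * B := by
        rw [hP, ← pow_add, show r + 1 + (r + 1) = m + 1 by omega, pow_succ, hm, one_mul]
      calc A * P * A * (A * P)⁻¹ = A * P * A * P⁻¹ * A⁻¹ := by group
        _ = A * P * A * (A * P * A⁻¹) * A⁻¹ := by rw [e1]
        _ = A * P * (A * A) * P * (A⁻¹ * A⁻¹) := by group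
        _ = A * (P * P) := by
          rw [hAA, mul_one, ← _root_.mul_inv_rev, hAA, inv_one, mul_one, mul_assoc]
        _ = B := by rw [e2, ← mul_assoc, hAA, one_mul]
  obtain ⟨-, A₁, hA₁K, hA₁⟩ := (tw_eq_wPart hF h (K := K)).symm ▸ h1
  obtain ⟨-, A₂, hA₂K, hA₂⟩ := (tw_eq_wPart hF h (K := K)).symm ▸ h2'
  obtain ⟨d₁, hd₁, hd₁'⟩ := key w₁ A₁ hA₁K h10 hA₁
  obtain ⟨d₂, hd₂, hd₂'⟩ := key w₂ A₂ hA₂K h20 hA₂
  set e := d₂⁻¹ * d₁
  have hconj : e * A₁ * e⁻¹ = A₂ := by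
    calc e * A₁ * e⁻¹ = d₂⁻¹ * (d₁ * A₁ * d₁⁻¹) * d₂ := by simp only [e]; group
      _ = A₂ := by rw [hd₁', ← hd₂']; group
  have hA₂1 : A₂ ≠ 1 := fun e0 => by
    have := hA₂ y
    rw [e0, suMat_one, one_mulVec, (h.symm hF).2.2, mul_one, eq_comm, add_eq_left] at this
    exact smul_ne_zero h20 hx0 this
  have hfix : suMat A₂ *ᵥ (suMat e *ᵥ x) = suMat e *ᵥ x := by
    rw [← hconj, ← suMat_mulVec_mul, inv_mul_cancel_right, suMat_mulVec_mul, hA₁, h.1, mul_zero,
      zero_smul, add_zero]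
  have hex0 : suMat e *ᵥ x ≠ 0 := fun e0 => hx0 (suMat_injective e (by simpa using e0))
  obtain ⟨b, hb⟩ := Borel3.fixed_point_unique hF 2 (k := 1) (by
      rw [pow_one, pow_two]; exact sq_one x w₂ A₂ h.1 hA₂) hA₂1 hx0 hex0 h.1 (by rw [suMat_h, h.1])
    ⟨1, by rw [one_smul, hA₂, h.1, mul_zero, zero_smul, add_zero]⟩ ⟨1, by rw [one_smul, hfix]⟩
  have hb0 : b ≠ 0 := fun b0 => hex0 (by rw [← hb, b0, zero_smul])
  refine ⟨Units.mk0 b hb0, ⟨e, ⟨K.mul_mem (K.inv_mem hd₂) hd₁, b, hb0, hb.symm⟩, ?_⟩, ?_⟩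
  · show eig q x y e = b
    rw [eig]
    erw [← hb]
    rw [h_smul_left, h.2.2, mul_one]
  · have e1 := hA₂ y
    rw [← hconj, suMat_mulVec_mul, suMat_mulVec_mul, hA₁, mulVec_add, mulVec_smul, suMat_mulVec_inv,
      ← suMat_h e (suMat e⁻¹ *ᵥ y) x, suMat_mulVec_inv, ← hb, h_smul_right hF,
      (h.symm hF).2.2, smul_smul, add_right_inj] at e1
    have := smul_left_injective F hx0 e1
    rw [mul_one, mul_one] at this
    rw [Units.val_mk0, pow_succ, ← this]
    ring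

/-- The parameters form a scaled subfield. -/
theorem w_scaled (hprod : (2 : F) ≠ 0 → ∀ {v w : V3} (hv : h3 v v = 0) (hw : h3 w w = 0) {s s' : F},
      s ∈ tw hF K hv → s' ∈ tw hF K hw → s * s' * h3 v w ^ (q + 1) ∈ mult (wPart hF h K)) :
    ∃ θ ∈ wPart hF h K, θ ≠ 0 ∧ (∀ w ∈ wPart hF h K, w / θ ∈ mult (wPart hF h K)) ∧
      Nat.card (wPart hF h K) = Nat.card (mult (wPart hF h K)) := by
  obtain ⟨θ, hθ, hθ0⟩ := (AddSubgroup.bot_or_exists_ne_zero (wPart hF h K)).resolve_left hW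
  have hdiv : ∀ w ∈ wPart hF h K, w / θ ∈ mult (wPart hF h K) := by
    intro w hw
    by_cases hw0 : w = 0
    · rw [hw0, zero_div]; exact zero_mem _
    by_cases h2 : (2 : F) = 0
    · obtain ⟨a, ha, e⟩ := two_conj hF htr h h2 hθ hw hθ0 hw0
      rw [← e, mul_div_cancel_left₀ _ hθ0]
      exact eGrp_norm hF h ha
    · obtain ⟨σ, hσ, hσ0⟩ := exists_tw_ne_zero hF htr h hW ((h.symm hF).fst_ne_zero hF) h.2.1
      have e : ∀ z ∈ wPart hF h K, z * σ ∈ mult (wPart hF h K) := by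
        intro z hz
        have := hprod h2 (v := x) (w := y) h.1 h.2.1
          (by rw [tw_eq_wPart hF h]; exact hz) hσ
        simpa [h.2.2] using this
      rw [← mul_div_mul_right w θ hσ0]
      exact div_mem (e w hw) (e θ hθ)
  refine ⟨θ, hθ, hθ0, hdiv, (Nat.card_eq_of_bijective
    (fun c : mult (wPart hF h K) => (⟨c.1 * θ, c.2 θ hθ⟩ : wPart hF h K)) ⟨?_, ?_⟩).symm⟩
  · exact fun a b e => Subtype.ext (mul_right_cancel₀ hθ0 (congrArg Subtype.val e))
  · rintro ⟨w, hw⟩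
    exact ⟨⟨w / θ, hdiv w hw⟩, Subtype.ext (div_mul_cancel₀ _ hθ0)⟩

omit hW in
/-- The conjugate centre of an element of the radical. -/
theorem rad_lambda {e : Fin 1 → Fin (1 + 2) → F} (he : IsFrame q x y e) {c : F}
    (hc : c ∈ iCoord hF h e K) {w : F} (hw : w ∈ wPart hF h K) {σ : F} (hσ : σ ∈ tw hF K h.2.1) :
    ∃ γ : F, γ + γ ^ q + c ^ (q + 1) = 0 ∧ ∀ z ∈ wPart hF h K, ∃ (v : V3) (hv : h3 v v = 0),
      σ ∈ tw hF K hv ∧ h3 v y = γ + w + z := by
  obtain ⟨g, hgK, hg, hgc, htr'⟩ := iCoord_rad hF h he hc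
  obtain ⟨A, ⟨hAK, hA⟩, rfl⟩ := hw
  refine ⟨gam q y g, htr', fun z hz => ?_⟩
  obtain ⟨B, ⟨hBK, hB⟩, rfl⟩ := hz
  have hG : g * (A * B) ∈ K := mul_mem hgK (mul_mem hAK hBK)
  have hv : h3 (suMat (g * (A * B)) *ᵥ y) (suMat (g * (A * B)) *ᵥ y) = 0 := by
    rw [suMat_h]; exact h.2.1
  refine ⟨_, hv, tw_map hF h.2.1 hG hv hσ, ?_⟩
  have hAB : A * B ∈ H55.Psu.radU x := (H55.Psu.radU (q := q) x).mul_mem hA.1 hB.1
  have e1 := (rad_mul hF h hg hAB).2
  rw [(rad_mul hF h hA.1 hB.1).2, (rad_mul hF h hA.1 hB.1).1, hA.2, hB.2, add_zero, h_zero_left,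
    h_zero_left, sub_zero, sub_zero] at e1
  have e2 : gam q y (g * (A * B)) = hermForm (1 + 2) F q (suMat (g * (A * B)) *ᵥ y) y := by
    rw [gam, h_sub_left, h.2.1, sub_zero]
  refine e2.symm.trans ?_
  exact e1.trans (add_assoc _ _ _).symm

end

end H37.U3Min
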