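import Cfsg.Agent.H37.SUThreeMinTransv

/-!
The index bound for subgroups of three-dimensional special unitary groups that contain
transvections: the radical part and the count.
-/

set_option autoImplicit false

namespace H37.U3Min

open Matrix Cfsg H50 H50.PointStab H50.RadFrame H37.SUMin

universe u

variable {F : Type u} [Field F] {q : ℕ}

local notation "V3" => (Fin 3 → F)
local notation "h3" => hermForm 3 F q

variable [Fintype F] (hF : Fintype.card F = q ^ 2)
include hF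

variable {K : Subgroup (SU 3 F q)} (htr : PtTrans K) {x y : Fin (1 + 2) → F} (h : IsHyp q x y)
  (hW : wPart hF h K ≠ ⊥) {e : Fin 1 → Fin (1 + 2) → F} (he : IsFrame q x y e)
include htr h hW he

/-- The product property. -/
def ProdProp (K : Subgroup (SU 3 F q)) {x y : Fin (1 + 2) → F} (h : IsHyp q x y) : Prop :=
  ∀ {v w : Fin 3 → F} (hv : hermForm 3 F q v v = 0) (hw : hermForm 3 F q w w = 0) {s s' : F},
    s ∈ tw hF K hv → s' ∈ tw hF K hw → s * s' * hermForm 3 F q v w ^ (q + 1) ∈ mult (wPart hF h K)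

omit htr hW in
theorem norm_eq_zero_iff {c : F} : c ^ (q + 1) = 0 ↔ c = 0 := pow_eq_zero_iff (Nat.succ_ne_zero q)

omit htr h hW he in
theorem norm_fixed (c : F) : (c ^ (q + 1)) ^ q = c ^ (q + 1) := by
  rw [pow_succ, mul_pow, pow_q_pow_q hF, mul_comm]

omit htr hW in
theorem two_norm_mem (h2 : (2 : F) = 0) {c : F} (hc : c ∈ iCoord hF h e K) :
    c ^ (q + 1) ∈ wPart hF h K := by
  obtain ⟨g, hgK, hg, hgc, -⟩ := iCoord_rad hF h he hc
  obtain ⟨m1, m2⟩ := rad_mul hF h hg hg
  obtain ⟨-, -, hee⟩ := e_props hF h he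
  refine ⟨g * g, ⟨mul_mem hgK hgK, (H55.Psu.radU (q := q) x).mul_mem hg hg, ?_⟩, ?_⟩
  · rw [m1, hgc, ← add_smul, show c + c = 0 by linear_combination c * h2, zero_smul]
  · rw [m2, hgc, h_smul_left, h_smul_right hF, hee, pow_succ]
    linear_combination (gam q y g - c ^ q * c) * h2

/-- The norm over the parameter. -/
theorem norm_sq_mem (hprod : ProdProp hF K h) (h2 : (2 : F) ≠ 0) {θ : F} (hθ : θ ∈ wPart hF h K)
    (hθ0 : θ ≠ 0) {c : F} (hc : c ∈ iCoord hF h e K) :
    (c ^ (q + 1) / θ) ^ 2 ∈ mult (wPart hF h K) := by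
  have hy0 : y ≠ 0 := (h.symm hF).fst_ne_zero hF
  obtain ⟨σ, hσ, hσ0⟩ := exists_tw_ne_zero hF htr h hW hy0 h.2.1
  set k := mult (wPart hF h K)
  have hθσ : θ * σ ∈ k := by
    have := hprod (v := x) (w := y) h.1 h.2.1 (by rw [tw_eq_wPart hF h]; exact hθ) hσ
    simpa [h.2.2] using this
  have hθσ0 : (θ * σ) ^ 2 ≠ 0 := pow_ne_zero _ (mul_ne_zero hθ0 hσ0)
  obtain ⟨γ, hγ, hG⟩ := rad_lambda hF htr h he hc (zero_mem (wPart hF h K)) hσ
  have key : ∀ z ∈ wPart hF h K, (γ + z) ^ (q + 1) / θ ^ 2 ∈ k := by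
    intro z hz
    obtain ⟨v, hv, hσv, hh⟩ := hG z hz
    have := hprod (v := v) (w := y) hv h.2.1 hσv hσ
    rw [hh, add_zero] at this
    have e' : (γ + z) ^ (q + 1) / θ ^ 2 = σ * σ * (γ + z) ^ (q + 1) / (θ * σ) ^ 2 := by
      field_simp
    rw [e']
    exact div_mem this (pow_mem hθσ 2)
  have hθq : θ ^ q = -θ := by linear_combination wPart_le_trace hF h hθ
  have k2 : (2 : F) ∈ k := by rw [← one_add_one_eq_two]; exact add_mem (one_mem _) (one_mem _)
  have k1 := key θ hθ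
  have k1' := key (-θ) (neg_mem hθ)
  have k0 := key 0 (zero_mem _)
  rw [add_zero] at k0
  rw [pow_succ, add_pow_q hF, hθq] at k1
  rw [pow_succ, add_pow_q hF, neg_pow_q hF, hθq] at k1'
  have hD : (γ ^ q - γ) / θ ∈ k := by
    have e' : (γ ^ q - γ) / θ =
        ((γ ^ q + -θ) * (γ + θ) / θ ^ 2 - (γ ^ q + - -θ) * (γ + -θ) / θ ^ 2) / 2 := by
      field_simp; ring
    rw [e']
    exact div_mem (sub_mem k1 k1') k2
  have e' : (c ^ (q + 1) / θ) ^ 2 =
      ((γ ^ q - γ) / θ) ^ 2 + 2 * 2 * (γ ^ (q + 1) / θ ^ 2) := by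
    rw [show c ^ (q + 1) = -(γ + γ ^ q) by linear_combination hγ, pow_succ γ q]
    field_simp; ring
  rw [e']
  exact add_mem (pow_mem hD 2) (mul_mem (mul_mem k2 k2) k0)

/-- The norm over the parameter is not fixed. -/
theorem norm_div_anti {θ : F} (hθ : θ ∈ wPart hF h K) (c : F) :
    (c ^ (q + 1) / θ) ^ q = -(c ^ (q + 1) / θ) := by
  rw [div_pow, norm_fixed hF, show θ ^ q = -θ by linear_combination wPart_le_trace hF h hθ, div_neg]

/-- All norms are multiples of one over the multiplier field. -/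
theorem norm_ratio (hprod : (2 : F) ≠ 0 → ProdProp hF K h) {θ : F} (hθ : θ ∈ wPart hF h K)
    (hθ0 : θ ≠ 0) (hdiv : ∀ w ∈ wPart hF h K, w / θ ∈ mult (wPart hF h K)) {c₀ c : F}
    (hc₀ : c₀ ∈ iCoord hF h e K) (hc₀0 : c₀ ≠ 0) (hc : c ∈ iCoord hF h e K) :
    c ^ (q + 1) / c₀ ^ (q + 1) ∈ mult (wPart hF h K) := by
  set k := mult (wPart hF h K)
  by_cases h2 : (2 : F) = 0
  · rw [← div_div_div_cancel_right₀ hθ0 (c ^ (q + 1))]
    exact div_mem (hdiv _ (two_norm_mem hF h he h2 hc)) (hdiv _ (two_norm_mem hF h he h2 hc₀))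
  by_cases hc0 : c = 0
  · rw [hc0, zero_pow (Nat.succ_ne_zero q), zero_div]; exact zero_mem _
  set r := c ^ (q + 1) / θ with hr
  set r₀ := c₀ ^ (q + 1) / θ with hr₀
  have hr2 := norm_sq_mem hF htr h hW he (hprod h2) h2 hθ hθ0 hc
  have hr₀2 := norm_sq_mem hF htr h hW he (hprod h2) h2 hθ hθ0 hc₀
  have hr₀0 : r₀ ≠ 0 := div_ne_zero (pow_ne_zero _ hc₀0) hθ0
  have hr0 : r ≠ 0 := div_ne_zero (pow_ne_zero _ hc0) hθ0
  have hnot : ∀ z : F, z ≠ 0 → z ^ q = -z → z ∉ k := by
    intro z hz hzq hzk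
    have : z ^ q = z := mult_le_fixq hF htr h hW hzk
    rw [hzq] at this
    exact mul_ne_zero h2 hz (by linear_combination -this)
  rw [← div_div_div_cancel_right₀ hθ0 (c ^ (q + 1)), ← hr, ← hr₀]
  set t := r / r₀ with ht
  have ht2 : t ^ 2 ∈ k := by rw [ht, div_pow]; exact div_mem hr2 hr₀2
  have hsq : ∀ z : F, z ^ 2 ∈ k → z ^ Nat.card k = z ∨ z ^ Nat.card k = -z := by
    intro z hz
    refine sq_eq_sq_iff_eq_or_eq_neg.1 ?_
    rw [← pow_mul, mul_comm, pow_mul, (mem_subfield_iff_pow k).1 hz]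
  rcases hsq t ht2 with h' | h'
  · exact (mem_subfield_iff_pow k).2 h'
  · exfalso
    rcases hsq r₀ hr₀2 with h'' | h''
    · exact hnot r₀ hr₀0 (norm_div_anti hF htr h hW he hθ c₀) ((mem_subfield_iff_pow k).2 h'')
    · refine hnot r hr0 (norm_div_anti hF htr h hW he hθ c) ((mem_subfield_iff_pow k).2 ?_)
      rw [show r = t * r₀ from (div_mul_cancel₀ _ hr₀0).symm, mul_pow, h', h'', neg_mul_neg]

/-- The bad case in characteristic three. -/
theorem iCoord_bot_three (h30 : (3 : F) = 0) (hsmallW : Nat.card (wPart hF h K) ≤ 3) {i : F}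
    (hiq : i ^ q = i) (hi : i ^ 2 = -1) : iCoord hF h e K = ⊥ ∧ Nat.card (mult (wPart hF h K)) = 3 := by
  have h2 : (2 : F) ≠ 0 := fun h2 => one_ne_zero (show (1 : F) = 0 by linear_combination h30 - h2)
  obtain ⟨θ, hθ, hθ0⟩ := (AddSubgroup.bot_or_exists_ne_zero (wPart hF h K)).resolve_left hW
  set k := mult (wPart hF h K)
  have hk3 : Nat.card k = 3 := by
    have hle : Nat.card k ≤ Nat.card (wPart hF h K) := Nat.card_le_card_of_injective
      (fun c : k => (⟨c.1 * θ, c.2 θ hθ⟩ : wPart hF h K))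
      fun a b e' => Subtype.ext (mul_right_cancel₀ hθ0 (congrArg Subtype.val e'))
    haveI : Fintype k := Fintype.ofFinite _
    obtain ⟨p, hp⟩ := CharP.exists F
    haveI := hp
    haveI : Fact p.Prime := ⟨CharP.char_is_prime F p⟩
    have hp3 : p = 3 := by
      have : p ∣ 3 := (CharP.cast_eq_zero_iff F p 3).1 (by exact_mod_cast h30)
      exact (Nat.prime_dvd_prime_iff_eq Fact.out Nat.prime_three).1 this
    subst hp3
    haveI : CharP k 3 := (algebraMap k F).charP (algebraMap k F).injective 3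
    obtain ⟨n, -, hn⟩ := FiniteField.card k 3
    rw [Nat.card_eq_fintype_card, hn] at hle ⊢
    have : (3 : ℕ) ^ 1 ≤ 3 ^ (n : ℕ) := Nat.pow_le_pow_right (by norm_num) n.pos
    omega
  refine ⟨?_, hk3⟩
  have fourth : ∀ {v w : V3} (hv : h3 v v = 0) (hw : h3 w w = 0) {s s' : F}, s ∈ tw hF K hv →
      s' ∈ tw hF K hw → s * s' * h3 v w ^ (q + 1) ≠ 0 → (s * s' * h3 v w ^ (q + 1)) ^ 4 = 1 := by
    intro v w hv hw s s' hs hs' hne
    set l := s * s' * h3 v w ^ (q + 1)
    by_cases hb : l ^ 2 = -1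
    · rw [show (4 : ℕ) = 2 * 2 from rfl, pow_mul, hb, neg_one_sq]
    · have := lambda_mem hF htr h h2 hv hw hs hs' fun _ => hb
      have e' := (mem_subfield_iff_pow k).1 this
      rw [hk3] at e'
      have : l ^ 2 = 1 := mul_left_cancel₀ hne (by linear_combination e')
      rw [show (4 : ℕ) = 2 * 2 from rfl, pow_mul, this, one_pow]
  rw [AddSubgroup.eq_bot_iff_forall]
  intro c hc
  by_contra hc0
  obtain ⟨σ, hσ, hσ0⟩ := exists_tw_ne_zero hF htr h hW ((h.symm hF).fst_ne_zero hF) h.2.1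
  have hts : (θ * σ) ^ 4 = 1 := by
    have := fourth (v := x) (w := y) h.1 h.2.1 (by rw [tw_eq_wPart hF h]; exact hθ) hσ
      (by simp [h.2.2, hθ0, hσ0])
    simpa [h.2.2] using this
  obtain ⟨γ, hγ, hG⟩ := rad_lambda hF htr h he hc (zero_mem (wPart hF h K)) hσ
  have hθq : θ ^ q = -θ := by linear_combination wPart_le_trace hF h hθ
  have key : ∀ z ∈ wPart hF h K, (((γ + z) ^ (q + 1)) / θ ^ 2) ^ 4 = 1 := by
    intro z hz
    obtain ⟨v, hv, hσv, hh⟩ := hG z hz
    rw [add_zero] at hh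
    have hz' := wPart_le_trace hF h hz
    have hne : γ + z ≠ 0 := fun e' => hc0 ((norm_eq_zero_iff hF h he).1 (by
      rw [eq_neg_of_add_eq_zero_left e', neg_pow_q hF] at hγ
      linear_combination hγ + hz'))
    have e4 := fourth hv h.2.1 hσv hσ (by
      rw [hh]; exact mul_ne_zero (mul_ne_zero hσ0 hσ0) (pow_ne_zero _ hne))
    rw [hh] at e4
    have e' : (γ + z) ^ (q + 1) / θ ^ 2 = σ * σ * (γ + z) ^ (q + 1) / (θ * σ) ^ 2 := by field_simp
    rw [e', div_pow, e4, ← pow_mul, show 2 * 4 = 4 * 2 from rfl, pow_mul, hts, one_pow, div_one]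
  set r := c ^ (q + 1) / θ with hr
  set D := (γ ^ q - γ) / θ with hD
  have hrD : ∀ z ∈ wPart hF h K, (γ + z) ^ (q + 1) / θ ^ 2 = r ^ 2 - (D + z / θ) ^ 2 := by
    intro z hz
    have hz' : z ^ q = -z := by linear_combination wPart_le_trace hF h hz
    rw [hr, show c ^ (q + 1) = -(γ + γ ^ q) by linear_combination hγ, pow_succ, add_pow_q hF, hz', hD]
    field_simp
    linear_combination (γ ^ q * z - γ * z - γ * γ ^ q) * h30
  have a0 := key 0 (zero_mem _)
  have a1 := key θ hθ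
  have a2 := key (-θ) (neg_mem hθ)
  rw [hrD _ (zero_mem _), zero_div, add_zero] at a0
  rw [hrD _ hθ, div_self hθ0] at a1
  rw [hrD _ (neg_mem hθ), neg_div, div_self hθ0, ← sub_eq_add_neg] at a2
  have hr0 : r ≠ 0 := div_ne_zero (pow_ne_zero _ hc0) hθ0
  have hA := char_three_fourth h30 (r ^ 2) D a0 a1 a2
  have hr8 : r ^ 8 = 1 := by
    have := (mul_eq_zero.1 hA).resolve_left (pow_ne_zero _ hr0)
    rw [sub_eq_zero] at this
    rw [show (8 : ℕ) = 2 * 4 from rfl, pow_mul, this]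
  -- an element of order eight in the fixed field
  have hj : ((1 + i) ^ q) = 1 + i := by rw [add_pow_q hF, one_pow, hiq]
  have hj0 : (1 + i : F) ≠ 0 := fun e' => by
    rw [eq_neg_of_add_eq_zero_right e'] at hi
    exact h2 (by linear_combination hi)
  have hj4 : (1 + i) ^ 4 = -1 := by linear_combination (i ^ 2 + 4 * i + 5) * hi - h30
  have hord : orderOf (1 + i : F) = 2 ^ (2 + 1) := orderOf_eq_prime_pow
    (by
      rw [show 2 ^ 2 = 4 from rfl, hj4]
      exact fun e' => h2 (by linear_combination -e'))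
    (by rw [show 2 ^ (2 + 1) = 4 * 2 from rfl, pow_mul, hj4, neg_one_sq])
  have hq := two_le hF
  have h8 : 8 ∣ q - 1 := by
    rw [show (8 : ℕ) = 2 ^ (2 + 1) from rfl, ← hord]
    refine orderOf_dvd_of_pow_eq_one (mul_left_cancel₀ hj0 ?_)
    rw [← pow_succ', show q - 1 + 1 = q by omega, hj, mul_one]
  obtain ⟨m, hm⟩ := h8
  have h' := norm_div_anti hF htr h hW he hθ c
  rw [← hr, show q = 8 * m + 1 by omega, pow_succ, pow_mul, hr8, one_pow, one_mul] at h'
  exact mul_ne_zero h2 hr0 (by linear_combination h')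

omit htr hW he in
/-- The count of the scalars. -/
theorem eGrp_le {j₀ j : ℕ} (hj₀ : 0 < j₀) (hj : 0 < j)
    (hM : ∀ a ∈ eGrp h K, (((a : Fˣ) : F) ^ (q + 1)) ^ j₀ = 1)
    (hker : ∀ a ∈ eGrp h K, ((a : Fˣ) : F) ^ (q + 1) = 1 → ((a : Fˣ) : F) ^ j = 1) :
    Nat.card (eGrp h K) ≤ j₀ * j := by
  let f : eGrp h K →* Fˣ := (powMonoidHom (q + 1)).comp (eGrp h K).subtype
  rw [← f.ker.card_mul_index, Subgroup.index_ker, mul_comm j₀]
  refine Nat.mul_le_mul ?_ ?_
  · rw [Nat.card_congr (f.ker.equivMapOfInjective _ (eGrp h K).subtype_injective).toEquiv]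
    refine Nat.le_of_dvd hj (card_dvd_of_pow _ ?_)
    rintro _ ⟨a, ha, rfl⟩
    refine hker _ a.2 ?_
    have := congrArg Units.val (MonoidHom.mem_ker.1 ha)
    simpa [f] using this
  · refine Nat.le_of_dvd hj₀ (card_dvd_of_pow _ ?_)
    rintro _ ⟨a, rfl⟩
    simpa [f] using hM _ a.2

omit he in
/-- Transvections leave one exceptional case. -/
theorem field_case (hq : 3 ≤ q) (hK : K ≠ ⊤)
    (hst : q ^ 2 - 1 ≤ Nat.card (eGrp h K) * (Nat.card (iPart hF h K) * Nat.card (wPart hF h K))) :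
    q = 8 ∧ Nat.card (eGrp h K) = 9 ∧ Nat.card (iPart hF h K) = 4 ∧
      Nat.card (wPart hF h K) = 2 := by
  obtain ⟨e, he⟩ := exists_frame hF (m := 1) rfl h
  rw [← card_iCoord hF h he] at hst ⊢
  set k := mult (wPart hF h K) with hk
  haveI : Fintype k := Fintype.ofFinite _
  have hk1 : 2 ≤ Nat.card k := by rw [Nat.card_eq_fintype_card]; exact Fintype.one_lt_card
  have hM : ∀ a ∈ eGrp h K, (((a : Fˣ) : F) ^ (q + 1)) ^ (Nat.card k - 1) = 1 := by
    intro a ha
    have e1 := (mem_subfield_iff_pow k).1 (eGrp_norm hF h ha)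
    refine mul_right_cancel₀ (pow_ne_zero (q + 1) a.ne_zero) ?_
    rw [one_mul, ← pow_succ, Nat.sub_add_cancel (by omega), e1]
  by_cases hbad : (3 : F) = 0 ∧ Nat.card (wPart hF h K) ≤ 3 ∧ ∃ i : F, i ^ q = i ∧ i ^ 2 = -1
  · obtain ⟨h30, hW3, i, hiq, hi⟩ := hbad
    obtain ⟨hI, hk3⟩ := iCoord_bot_three hF htr h hW he h30 hW3 hiq hi
    exfalso
    rw [hI, AddSubgroup.card_bot, one_mul] at hst
    have hL := eGrp_le hF h (j₀ := 2) (j := q + 1) (by norm_num) (by omega)
      (fun a ha => by have := hM a ha; rwa [hk3] at this) (fun a _ e' => e')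
    have hst' := hst.trans (Nat.mul_le_mul hL hW3)
    obtain ⟨p, a, hp, hpa⟩ := q_prime_pow hF
    have hp3 : p = 3 := by
      have hc : ((q : ℕ) : F) = 0 := by
        have := FiniteField.cast_card_eq_zero F
        rw [hF, Nat.cast_pow] at this
        exact pow_eq_zero_iff two_ne_zero |>.1 this
      obtain ⟨p', hp'⟩ := CharP.exists F
      have h3' : p' = 3 := by
        haveI : Fact p'.Prime := ⟨CharP.char_is_prime F p'⟩
        have : p' ∣ 3 := (CharP.cast_eq_zero_iff F p' 3).1 (by exact_mod_cast h30)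
        exact (Nat.prime_dvd_prime_iff_eq Fact.out Nat.prime_three).1 this
      have h3q : 3 ∣ q := h3' ▸ (CharP.cast_eq_zero_iff F p' q).1 hc
      rw [hpa] at h3q
      exact ((Nat.prime_dvd_prime_iff_eq Nat.prime_three hp).1 (Nat.prime_three.dvd_of_dvd_pow h3q)).symm
    subst hp3
    match a, hpa with
    | 0, hpa => simp at hpa; omega
    | 1, hpa =>
      rw [pow_one] at hpa
      subst hpa
      refine one_ne_zero (α := F) ?_
      rw [show (3 : ℕ) = 2 + 1 from rfl, pow_succ, hi] at hiq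
      have h0 : i ≠ 0 := fun e' => by simp [e'] at hi
      have h2i : (2 : F) = 0 := (mul_eq_zero.1 (show (2 : F) * i = 0 by linear_combination -hiq)).resolve_right h0
      linear_combination h30 - h2i
    | a + 2, hpa =>
      have h9 : 9 ≤ q := by
        rw [hpa]; exact le_trans (by norm_num) (Nat.pow_le_pow_right (by norm_num) (show 2 ≤ a + 2 by omega))
      rw [show q ^ 2 - 1 = (q + 1) * (q - 1) from by rw [← Nat.sq_sub_sq, one_pow]] at hst'
      rw [show 2 * (q + 1) * 3 = (q + 1) * 6 by ring] at hst'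
      have := Nat.le_of_mul_le_mul_left hst' (by omega)
      omega
  have hprod : (2 : F) ≠ 0 → ProdProp hF K h := by
    intro h2 v w hv hw s s' hs hs'
    by_cases hgood : (3 : F) = 0 → 4 ≤ Nat.card (wPart hF h K)
    · exact prod_mem hF htr h h2 hgood hv hw hs hs'
    simp only [Classical.not_imp, not_le] at hgood
    refine lambda_mem hF htr h h2 hv hw hs hs' fun _ e' => hbad ⟨hgood.1, by omega, _, ?_, e'⟩
    rw [mul_pow, mul_pow, show s ^ q = -s by linear_combination hs.1,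
      show s' ^ q = -s' by linear_combination hs'.1, norm_fixed hF]
    ring
  obtain ⟨θ, hθ, hθ0, hdiv, hWk⟩ := w_scaled hF htr h hW fun h2 {v w} hv hw {s s'} hs hs' =>
    hprod h2 hv hw hs hs'
  rw [hWk] at hst ⊢
  set q0 := Nat.card k with hq0
  -- q is a power of the order of the multiplier field
  obtain ⟨ee, hee⟩ : ∃ ee, q = q0 ^ ee := by
    letI : Algebra k (fixq hF) := (Subfield.inclusion (mult_le_fixq hF htr h hW)).toAlgebra
    refine ⟨Module.finrank k (fixq hF), ?_⟩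
    rw [← Module.natCard_eq_pow_finrank]
    exact (card_fixed hF).symm
  have hlt : q0 < q := by
    obtain ⟨t, ht, htW⟩ := exists_trace_notMem_w hF htr h hW hq hK
    rw [← hWk]
    refine lt_of_lt_of_eq ?_ (card_trace_ker hF)
    have hle : wPart hF h K ≤ (traceHom hF).ker := fun c hc => wPart_le_trace hF h hc
    by_contra hge
    have := AddSubgroup.eq_of_le_of_card_ge hle (not_lt.1 hge)
    exact htW (this ▸ (show t ∈ (traceHom hF).ker from ht))
  have hee2 : 2 ≤ ee := by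
    by_contra h'
    rcases (show ee = 0 ∨ ee = 1 by omega) with rfl | rfl
    · rw [pow_zero] at hee; omega
    · rw [pow_one] at hee; omega
  have hq0q : q0 ^ 2 ≤ q := hee ▸ Nat.pow_le_pow_right (by omega) hee2
  have hsq : q ^ 2 - 1 = (q - 1) * (q + 1) := by rw [mul_comm, ← Nat.sq_sub_sq, one_pow]
  -- the radical part
  by_cases hI0 : iCoord hF h e K = ⊥
  · exfalso
    rw [hI0, AddSubgroup.card_bot, one_mul] at hst
    have hL := eGrp_le hF h (j₀ := q0 - 1) (j := q + 1) (by omega) (by omega) hM (fun a _ e' => e')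
    have h1 := hst.trans (Nat.mul_le_mul_right q0 hL)
    rw [hsq, mul_right_comm] at h1
    have h2 := Nat.le_of_mul_le_mul_right h1 (by omega)
    rw [Nat.sub_mul, one_mul, ← pow_two] at h2
    omega
  obtain ⟨c₀, hc₀, hc₀0⟩ := (AddSubgroup.bot_or_exists_ne_zero _).resolve_left hI0
  have hratio := fun {c : F} (hc : c ∈ iCoord hF h e K) =>
    norm_ratio hF htr h hW he hprod hθ hθ0 hdiv hc₀ hc₀0 hc
  have hquad : ∀ c ∈ iCoord hF h e K, c / c₀ + (c / c₀) ^ q ∈ k ∧ (c / c₀) ^ (q + 1) ∈ k := by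
    intro c hc
    have h1 := hratio hc
    have h2 := hratio (add_mem hc hc₀)
    refine ⟨?_, by rw [div_pow]; exact h1⟩
    have e' : c / c₀ + (c / c₀) ^ q =
        (c + c₀) ^ (q + 1) / c₀ ^ (q + 1) - c ^ (q + 1) / c₀ ^ (q + 1) - 1 := by
      rw [div_pow, pow_succ (c + c₀), add_pow_q hF, pow_succ c, pow_succ c₀]
      have := pow_ne_zero q hc₀0
      field_simp
      ring
    rw [e']
    exact sub_mem (sub_mem h2 h1) (one_mem _)
  have hIle : ∀ j : ℕ, 2 ≤ j → (∀ c ∈ iCoord hF h e K, (c / c₀) ^ j = c / c₀) →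
      Nat.card (iCoord hF h e K) ≤ j := by
    intro j hj hcj
    refine le_trans ?_ (ncard_pow_eq_le (F := F) hj)
    rw [← Nat.card_coe_set_eq]
    exact Nat.card_le_card_of_injective (fun c => ⟨c.1 / c₀, hcj _ c.2⟩) fun a b e' =>
      Subtype.ext ((div_left_inj' hc₀0).1 (congrArg Subtype.val e'))
  have hI2 : Nat.card (iCoord hF h e K) ≤ q0 ^ 2 := hIle _ (by nlinarith) fun c hc =>
    (quad_roots hF k (hquad c hc).1 (hquad c hc).2).2
  have hρ : ∀ a ∈ eGrp h K, ((a : Fˣ) : F) ^ (q + 1) = 1 →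
      ∃ ρ : F, ρ * (a : F) ^ 3 = 1 ∧ ρ ^ (q + 1) = 1 ∧
        (ρ ^ q0 = ρ ∨ ρ ^ q0 = ρ ^ q) ∧ ρ ^ (q0 ^ 2) = ρ := by
    intro a ha hN
    refine ⟨(a : F) ^ q * ((a : F) ^ q / a), ?_, ?_, ?_⟩
    · have := a.ne_zero
      rw [pow_succ] at hN
      field_simp
      linear_combination ((a : F) ^ q * a + 1) * hN
    · rw [mul_pow, div_pow, ← pow_mul, mul_comm q, pow_mul, hN, one_pow, div_one, one_mul]
    · have hm := hquad _ (iCoord_rho hF h he ha hc₀)
      rw [mul_div_assoc, div_self hc₀0, mul_one] at hm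
      exact quad_roots hF k hm.1 hm.2
  rcases eq_or_lt_of_le hee2 with he2 | he3
  · exfalso
    rw [← he2] at hee
    by_cases h2 : (2 : F) = 0
    · have hI1 : Nat.card (iCoord hF h e K) ≤ q0 := hIle _ hk1 fun c hc => by
        obtain ⟨h', h''⟩ := quad_roots hF k (hquad c hc).1 (hquad c hc).2
        rw [← hee] at h''
        rcases h' with h' | h' <;> rw [h']
        rw [h'']
      have hL := eGrp_le hF h (j₀ := q0 - 1) (j := 3) (by omega) (by omega) hM (fun a ha hN => by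
        obtain ⟨ρ, hρa, hρN, h', h''⟩ := hρ a ha hN
        rw [← hee] at h''
        have hρ2 : ρ ^ 2 = 1 := by rw [← hρN, pow_succ ρ q, h'']; ring
        have hρ1 : ρ = 1 := by
          have : (ρ - 1) ^ 2 = 0 := by linear_combination hρ2 - (ρ - 1) * h2
          exact sub_eq_zero.1 (pow_eq_zero_iff two_ne_zero |>.1 this)
        rwa [hρ1, one_mul] at hρa)
      have h1 := hst.trans (Nat.mul_le_mul hL (Nat.mul_le_mul hI1 le_rfl))
      rw [hee] at h1
      obtain ⟨d, hd⟩ : ∃ d, q0 = d + 2 := ⟨q0 - 2, by omega⟩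
      rw [hd, show d + 2 - 1 = d + 1 by omega, Nat.sub_le_iff_le_add] at h1
      nlinarith [Nat.zero_le (d * d * d * d), Nat.zero_le (d * d * d)]
    · have := norm_sq_mem hF htr h hW he (hprod h2) h2 hθ hθ0 hc₀
      have e1 := (mem_subfield_iff_pow k).1 this
      rw [← hq0] at e1
      set r := c₀ ^ (q + 1) / θ
      have hr0 : r ≠ 0 := div_ne_zero (pow_ne_zero _ hc₀0) hθ0
      have hr2 : (r ^ 2) ^ (q0 - 1) = 1 := mul_right_cancel₀ (pow_ne_zero 2 hr0)
        (by rw [one_mul, ← pow_succ, Nat.sub_add_cancel (by omega), e1])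
      have hodd : Odd q0 := by
        rcases Nat.even_or_odd q0 with ⟨m, hm⟩ | ho
        · exfalso
          have hc : (q0 : k) = 0 := by rw [hq0, Nat.card_eq_fintype_card]; exact FiniteField.cast_card_eq_zero _
          have hc' : (q0 : F) = 0 := by simpa using congrArg k.subtype hc
          have hm0 : (m : F) = 0 := by
            rw [hm, Nat.cast_add, ← two_mul] at hc'
            exact (mul_eq_zero.1 hc').resolve_left h2
          obtain ⟨p, hp⟩ := CharP.exists F
          haveI := hp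
          haveI : Fact p.Prime := ⟨CharP.char_is_prime F p⟩
          haveI : CharP k p := (algebraMap k F).charP (algebraMap k F).injective p
          obtain ⟨i, -, hi⟩ := FiniteField.card k p
          rw [← Nat.card_eq_fintype_card, ← hq0] at hi
          have h2p : 2 ∣ p := Nat.prime_two.dvd_of_dvd_pow (show 2 ∣ p ^ (i : ℕ) from hi ▸ ⟨m, by omega⟩)
          have := (Nat.prime_dvd_prime_iff_eq Nat.prime_two Fact.out).1 h2p
          subst this
          exact h2 (by exact_mod_cast CharP.cast_eq_zero F 2)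
        · exact ho
      obtain ⟨m, hm⟩ := hodd
      have hrq : r ^ (q - 1) = 1 := by
        have e2 : (2 * m + 1) ^ 2 = 2 * (2 * m * (m + 1)) + 1 := by ring
        rw [show q - 1 = 2 * ((q0 - 1) * (m + 1)) by
          rw [hee, hm, Nat.add_sub_cancel, e2, Nat.add_sub_cancel], pow_mul, pow_mul, hr2, one_pow]
      have h' := norm_div_anti hF htr h hW he hθ c₀
      rw [show q = q - 1 + 1 by omega, pow_succ, show q - 1 + 1 = q by omega, hrq, one_mul] at h'
      exact mul_ne_zero h2 hr0 (by linear_combination h')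
  · have hL := eGrp_le hF h (j₀ := q0 - 1) (j := 3 * (q0 + 1)) (by omega) (by omega) hM (fun a ha hN => by
      obtain ⟨ρ, hρa, hρN, h', h''⟩ := hρ a ha hN
      have hj : ρ ^ (q0 + 1) = 1 := by
        rcases h' with h' | h'
        · have hk' : ρ ∈ k := (mem_subfield_iff_pow k).2 h'
          have e' : ρ ^ q = ρ := mult_le_fixq hF htr h hW hk'
          rw [pow_succ, h', ← hρN, pow_succ, e']
        · rw [pow_succ, h', ← pow_succ, hρN]
      rw [pow_mul]
      have e' : ((a : F) ^ 3) = ρ⁻¹ := eq_inv_of_mul_eq_one_right hρa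
      rw [e', inv_pow, hj, inv_one])
    have h1 := hst.trans (Nat.mul_le_mul hL (Nat.mul_le_mul hI2 le_rfl))
    have h6 : q0 ^ 6 ≤ q ^ 2 := by
      rw [hee, ← pow_mul]; exact Nat.pow_le_pow_right (by omega) (by omega)
    rw [Nat.sub_le_iff_le_add] at h1
    have hq02 : q0 = 2 := by
      by_contra hne
      obtain ⟨d, hd⟩ : ∃ d, q0 = d + 3 := ⟨q0 - 3, by omega⟩
      rw [hd, show d + 3 - 1 = d + 2 by omega] at h1
      rw [hd] at h6
      have h63 := h6.trans h1
      nlinarith [Nat.zero_le (d ^ 6), Nat.zero_le (d ^ 5), Nat.zero_le (d ^ 4), Nat.zero_le (d ^ 3),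
        Nat.zero_le (d ^ 2)]
    rw [hq02] at h1 hee hI2 hst hL ⊢
    have hee3 : ee = 3 := by
      by_contra hne
      have : (2 : ℕ) ^ 4 ≤ q := hee ▸ Nat.pow_le_pow_right (by omega) (by omega)
      nlinarith
    subst hee3
    have hdv := eGrp_dvd hF h (K := K)
    subst hee
    set L := Nat.card (eGrp h K)
    set I := Nat.card (iCoord hF h e K)
    norm_num at hst hI2 hL hdv ⊢
    have hL9 : L = 9 := by
      have h8 : 8 ≤ L := by nlinarith
      interval_cases L
      · exact absurd hdv (by decide)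
      · rfl
    rw [hL9] at hst ⊢
    exact ⟨rfl, by omega⟩

end H37.U3Min
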