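import Cfsg.Agent.H37.SUThreeGen

/-!
`SU_n(2)`, `n ≥ 5` odd: three conjugate regular unipotents generate.
-/

set_option autoImplicit false

namespace H37

open Matrix Cfsg H50

universe u

variable {F : Type u} [Field F] [Fintype F] {n : ℕ} (hF : Fintype.card F = 2 ^ 2)

include hF

theorem four_two_eq_zero : (2 : F) = 0 := by
  have h := FiniteField.cast_card_eq_zero F
  rw [hF] at h
  push_cast at h
  exact eq_zero_of_pow_eq_zero (n := 2) (by linear_combination h)

theorem four_cases {θ : F} (hθ : θ + θ ^ 2 = 1) (c : F) :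
    c = 0 ∨ c = 1 ∨ c = θ ∨ c = θ ^ 2 := by
  have h2 := four_two_eq_zero hF
  have hc : c ^ 4 = c := by
    have := FiniteField.pow_card c
    rwa [hF] at this
  have h : c * (c - 1) * ((c - θ) * (c - θ ^ 2)) = 0 := by
    linear_combination hc + (-(c * (c - 1) * c) + c * (c - 1) * (θ - 1)) * hθ +
      (-c * c * (c - 1) - c * (c - 1) * (θ - 1) + c * (c - 1) * θ - c * (c - 1) +
        (c - c * θ - c ^ 2 + c ^ 2 * θ)) * h2
  rcases mul_eq_zero.1 h with h | h
  · rcases mul_eq_zero.1 h with h | h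
    · exact Or.inl h
    · exact Or.inr (Or.inl (sub_eq_zero.1 h))
  · rcases mul_eq_zero.1 h with h | h
    · exact Or.inr (Or.inr (Or.inl (sub_eq_zero.1 h)))
    · exact Or.inr (Or.inr (Or.inr (sub_eq_zero.1 h)))

theorem four_fixed {c : F} (hc : c ^ 2 = c) (h0 : c ≠ 0) : c = 1 :=
  mul_right_cancel₀ h0 (by rw [one_mul, ← pow_two, hc])

theorem suThree_two {m : ℕ} (hn : n = 2 * m + 1) (hm : 2 ≤ m) : SUThree F n 2 := by
  classical
  have h2 := four_two_eq_zero hF
  obtain ⟨θ, hθ⟩ := exists_trace_eq hF (c := (1 : F)) (one_pow 2)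
  have hθ3 : θ ^ 3 = 1 := by linear_combination (θ - 1) * hθ + (1 + θ - 1 - 1) * h2 + 2 * h2 - θ * h2 + (θ - 2) * h2
  obtain ⟨u, ε, C⟩ := exists_rchain hF (n := n) (by omega)
  -- the antidiagonal is `1`
  have hlead : hermForm n F 2 (ε 0) (ε (n - 1)) = 1 := by
    set c₀ := hermForm n F 2 (ε 0) (ε (n - 1))
    have h1 : hermForm n F 2 (ε m) (ε m) = c₀ := by
      rw [C.gram_anti hF (by omega), show (-1 : F) = 1 by linear_combination -h2, one_pow, one_mul]
    exact four_fixed hF (h1 ▸ h_self_fixed hF (ε m)) (C.lead_ne_zero hF (by omega))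
  have hanti : ∀ a b, a + b + 1 = n → hermForm n F 2 (ε a) (ε b) = 1 := fun a b h => by
    rw [C.gram_anti hF h, hlead, show (-1 : F) = 1 by linear_combination -h2, one_pow, one_mul]
  -- the vectors `X` and `Z`
  obtain ⟨X, hX, hXX, hXD, hDD, hD2⟩ := C.exists_window hF hn hm (N₀ := 0) (d := 1) (d₂ := θ)
    (zero_pow two_ne_zero) (by rw [hanti m m (by omega)]; linear_combination hθ + h2)
  set D := nilMap u X with hD
  have hDt : D ∈ chainTail ε (m - 1) := by
    have h1 := C.nil_tail hX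
    rw [map_sub, C.nil, ← hD] at h1
    have := add_mem (chainTail_anti (show m - 1 ≤ m - 1 + 1 by omega) h1)
      (mem_chainTail (ε := ε) (show m - 1 ≤ m - 2 + 1 by omega))
    rwa [sub_add_cancel] at this
  have hDt1 : nilMap u D ∈ chainTail ε m := by
    have := C.nil_tail hDt
    rwa [show m - 1 + 1 = m by omega] at this
  obtain ⟨R, hR, hR1⟩ : ∃ R, R ∈ chainTail ε (m + 2) ∧ hermForm n F 2 R X = 1 := by
    refine ⟨ε (m + 2), mem_chainTail le_rfl, ?_⟩
    have := C.tail_orth hF (mem_chainTail (ε := ε) (le_refl (m + 2))) hX (by omega)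
    rw [h_sub_right hF, hanti _ _ (by omega)] at this
    linear_combination this
  have hR2 : nilMap u R ∈ chainTail ε (m + 3) := C.nil_tail hR
  set Z := D + R with hZ
  have hDD' : hermForm n F 2 D D = 0 := by rw [hDD, one_pow]; linear_combination -h2
  have hDX : hermForm n F 2 D X = 1 := by rw [h_symm hF X D, hXD, one_pow]
  have hDR : hermForm n F 2 D R = 0 := C.tail_orth hF hDt hR (by omega)
  have hRD : hermForm n F 2 R D = 0 := (h_eq_zero_comm hF).1 hDR
  have hRR : hermForm n F 2 R R = 0 := C.tail_orth hF hR hR (by omega)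
  have hu : ∀ x, suMat u *ᵥ x = x + nilMap u x := fun x => by rw [nilMap_apply]; abel
  set Y := suMat u *ᵥ X with hY
  have hXY : hermForm n F 2 X Y = 1 := by rw [hY, hu, h_add_right hF, hXX, ← hD, hXD, zero_add]
  have hYY : hermForm n F 2 Y Y = 0 := by rw [hY, suMat_h, hXX]
  have hZX : hermForm n F 2 Z X = 0 := by
    rw [hZ, h_add_left, hDX, hR1]; linear_combination h2
  have hZY : hermForm n F 2 Z Y = 0 := by
    rw [hY, hu, h_add_right hF, hZX, ← hD, hZ, h_add_left, hDD', hRD, add_zero, zero_add]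
  have hZZ : hermForm n F 2 Z Z = 0 := by
    rw [hZ, h_add_left, h_add_right hF, h_add_right hF, hDD', hDR, hRD, hRR]; ring
  set UZ := suMat u *ᵥ Z with hUZ
  have hZUZ : hermForm n F 2 Z UZ = θ := by
    rw [hUZ, hu, h_add_right hF, hZZ, hZ, map_add, h_add_left, h_add_right hF, h_add_right hF, hD2,
      C.tail_orth hF hDt hR2 (by omega), C.tail_orth hF hR hDt1 (by omega),
      C.tail_orth hF hR hR2 (by omega)]
    ring
  obtain ⟨c', hc'⟩ : ∃ c, c = hermForm n F 2 UZ X := ⟨_, rfl⟩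
  obtain ⟨P, hP⟩ : ∃ x, x = UZ - c' • Y := ⟨_, rfl⟩
  have hYX : hermForm n F 2 Y X = 1 := by rw [h_symm hF X Y, hXY, one_pow]
  have hUY : hermForm n F 2 UZ Y = 0 := by rw [hUZ, hY, suMat_h, hZX]
  have hPX : hermForm n F 2 P X = 0 := by
    rw [hP, h_sub_left, h_smul_left, hYX, mul_one, hc', sub_self]
  have hPY : hermForm n F 2 P Y = 0 := by rw [hP, h_sub_left, h_smul_left, hYY, hUY]; ring
  have hPZ : hermForm n F 2 P Z = θ ^ 2 := by
    rw [hP, h_sub_left, h_smul_left, (h_eq_zero_comm hF).1 hZY, h_symm hF Z UZ, hZUZ]; ring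
  have hPP : hermForm n F 2 P P = 0 := by
    rw [hP, h_sub_left, h_sub_right hF, h_sub_right hF, h_smul_left, h_smul_left, h_smul_right hF,
      h_smul_right hF, hUY, (h_eq_zero_comm hF).1 hUY, hYY, hUZ, suMat_h, hZZ]
    ring
  -- the frame
  obtain ⟨e, he⟩ : ∃ e, e = ε (n - 1) := ⟨_, rfl⟩
  have hee : hermForm n F 2 e e = 0 := he ▸ C.gram_vanish hF (by omega)
  have he0 : e ≠ 0 := fun h => C.li.ne_zero (⟨n - 1, by omega⟩ : Fin n) (he ▸ h)
  obtain ⟨f, hf⟩ := exists_hyp_partner hF he0 hee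
  have hfe : hermForm n F 2 f e = 1 := (hf.symm hF).2.2
  have hue : suMat u *ᵥ e = e := he ▸ C.fix (by omega)
  have hNe : nilMap u e = 0 := by rw [he, C.nil, C.vanish _ (by omega)]
  have hNie : ∀ j, 1 ≤ j → (nilMap u ^ j) e = 0 := fun j hj => by
    rw [he, C.nil_iterate, C.vanish _ (by omega)]
  obtain ⟨e₂, he₂⟩ : ∃ x, x = ε (n - 2) - hermForm n F 2 (ε (n - 2)) f • e := ⟨_, rfl⟩
  have hε2e : hermForm n F 2 (ε (n - 2)) e = 0 := he ▸ C.gram_vanish hF (by omega)
  have he₂e : hermForm n F 2 e₂ e = 0 := by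
    rw [he₂, h_sub_left, h_smul_left, hε2e, hee, mul_zero, sub_zero]
  have he₂f : hermForm n F 2 e₂ f = 0 := by
    rw [he₂, h_sub_left, h_smul_left, hf.2.2, mul_one, sub_self]
  have he₂₂ : hermForm n F 2 e₂ e₂ = 0 := by
    rw [he₂, h_sub_left, h_sub_right hF, h_sub_right hF, h_smul_left, h_smul_left, h_smul_right hF,
      h_smul_right hF, hε2e, (h_eq_zero_comm hF).1 hε2e, hee,
      C.gram_vanish hF (a := n - 2) (b := n - 2) (by omega)]
    ring
  have hNe₂ : nilMap u e₂ = e := by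
    rw [he₂, map_sub, map_smul, hNe, C.nil, smul_zero, sub_zero, he]; congr 1; omega
  have hNje₂ : ∀ j, 2 ≤ j → (nilMap u ^ j) e₂ = 0 := fun j hj => by
    obtain ⟨i, rfl⟩ : ∃ i, j = i + 1 := ⟨j - 1, by omega⟩
    rw [pow_succ, Module.End.mul_apply, hNe₂, hNie i (by omega)]
  obtain ⟨p₁, hp₁⟩ : ∃ x, x = ε 1 - hermForm n F 2 (ε 1) f • e := ⟨_, rfl⟩
  have hε1e : hermForm n F 2 (ε 1) e = 0 := he ▸ C.gram_vanish hF (by omega)
  obtain ⟨t, ht⟩ := exists_trace_eq hF (c := -hermForm n F 2 p₁ p₁)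
    (by rw [neg_pow_q hF, h_self_fixed hF])
  have hp₁e₂ : hermForm n F 2 p₁ e₂ = 1 := by
    rw [hp₁, he₂, h_sub_left, h_sub_right hF, h_sub_right hF, h_smul_left, h_smul_left,
      h_smul_right hF, h_smul_right hF, hε1e, (h_eq_zero_comm hF).1 hε2e, hee,
      hanti 1 (n - 2) (by omega)]
    ring
  obtain ⟨p, hp⟩ : ∃ x, x = θ ^ 2 • (p₁ + t • e₂) := ⟨_, rfl⟩
  have hp₁e : hermForm n F 2 p₁ e = 0 := by
    rw [hp₁, h_sub_left, h_smul_left, hε1e, hee, mul_zero, sub_zero]
  have hp₁f : hermForm n F 2 p₁ f = 0 := by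
    rw [hp₁, h_sub_left, h_smul_left, hf.2.2, mul_one, sub_self]
  have hpe : hermForm n F 2 p e = 0 := by
    rw [hp, h_smul_left, h_add_left, h_smul_left, hp₁e, he₂e]; ring
  have hpf : hermForm n F 2 p f = 0 := by
    rw [hp, h_smul_left, h_add_left, h_smul_left, hp₁f, he₂f]; ring
  have hpe₂ : hermForm n F 2 p e₂ = θ ^ 2 := by
    rw [hp, h_smul_left, h_add_left, h_smul_left, hp₁e₂, he₂₂]; ring
  have hpp : hermForm n F 2 p p = 0 := by
    rw [hp, h_smul_left, h_smul_right hF, h_add_left, h_add_right hF, h_add_right hF, h_smul_left,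
      h_smul_left, h_smul_right hF, h_smul_right hF, h_symm hF p₁ e₂, hp₁e₂, he₂₂, one_pow]
    linear_combination (θ ^ 2 * (θ ^ 2) ^ 2) * ht
  have hNp : (nilMap u ^ (n - 2)) p = θ ^ 2 • e := by
    rw [hp, map_smul, map_add, map_smul, hNje₂ _ (by omega), smul_zero, add_zero, hp₁, map_sub,
      map_smul, hNie _ (by omega), smul_zero, sub_zero, C.nil_iterate, he,
      show 1 + (n - 2) = n - 1 by omega]
  -- the mover
  have hnd : GramND 2 ![X, Y, Z, P] := by
    intro c hc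
    have hθ0 : θ ≠ 0 := fun h => by rw [h] at hθ; simp at hθ
    have h0 := hc 0
    have h1 := hc 1
    have h2' := hc 2
    have h3 := hc 3
    simp [Fin.sum_univ_four, h_add_left, h_smul_left, hXX, hXY, hYX, hYY, hZX, hZY, hZZ, hPX, hPY,
      hPZ, hPP, (h_eq_zero_comm hF).1 hZX, (h_eq_zero_comm hF).1 hZY, (h_eq_zero_comm hF).1 hPX,
      (h_eq_zero_comm hF).1 hPY, h_symm hF P Z, hθ0] at h0 h1 h2' h3
    funext i
    fin_cases i
    · exact h1
    · exact h0
    · exact h3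
    · exact h2'
  have hsame : SameGram 2 ![X, Y, Z, P] ![e, f, e₂, p] := by
    intro i j
    fin_cases i <;> fin_cases j <;>
      simp [hXX, hXY, hYX, hYY, hZX, hZY, hZZ, hPX, hPY, hPZ, hPP, (h_eq_zero_comm hF).1 hZX,
        (h_eq_zero_comm hF).1 hZY, (h_eq_zero_comm hF).1 hPX, (h_eq_zero_comm hF).1 hPY,
        h_symm hF P Z, h_symm hF p e₂, hee, hf.2.1, hf.2.2, hfe, he₂e, he₂f, he₂₂, hpe, hpf, hpe₂,
        hpp, (h_eq_zero_comm hF).1 he₂e, (h_eq_zero_comm hF).1 he₂f, (h_eq_zero_comm hF).1 hpe,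
        (h_eq_zero_comm hF).1 hpf]
  obtain ⟨g, hg⟩ := exists_SU_of_sameGram hF hnd hsame (by simp; omega)
  have ge : suMat g *ᵥ X = e := hg 0
  have gf : suMat g *ᵥ Y = f := hg 1
  have g2 : suMat g *ᵥ Z = e₂ := hg 2
  have gp : suMat g *ᵥ P = p := hg 3
  set v := g * u * g⁻¹ with hv
  have hve : suMat v *ᵥ e = f := by
    rw [hv, suMat_mulVec_mul, suMat_mulVec_mul, ← ge, suMat_inv_mulVec, ← hY, gf]
  have hve₂ : suMat v *ᵥ e₂ = p + c' • f := by
    rw [hv, suMat_mulVec_mul, suMat_mulVec_mul, ← g2, suMat_inv_mulVec, ← hUZ,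
      show UZ = P + c' • Y by rw [hP, sub_add_cancel], mulVec_add, mulVec_smul, gp, gf]
  -- the first radical element
  obtain ⟨p₀, hp₀e, hp₀N, hp₀top⟩ : ∃ p₀, hermForm n F 2 p₀ e = 0 ∧
      hermForm n F 2 (nilMap u p₀) (nilMap u p₀) = 1 ∧ (nilMap u ^ (n - 2)) p₀ = e := by
    by_cases h5 : n = 5
    · refine ⟨ε 1, hε1e, ?_, ?_⟩
      · rw [C.nil]; exact hanti 2 2 (by omega)
      · rw [C.nil_iterate, he, show 1 + (n - 2) = n - 1 by omega]
    · obtain ⟨b, hb⟩ := exists_trace_eq hF (c := 1 - hermForm n F 2 (ε 2) (ε 2))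
        (by rw [sub_pow_q hF, one_pow, h_self_fixed hF])
      refine ⟨ε 1 + b • ε (n - 4), ?_, ?_, ?_⟩
      · rw [h_add_left, h_smul_left, hε1e, he,
          C.gram_vanish hF (a := n - 4) (b := n - 1) (by omega)]
        ring
      · rw [map_add, map_smul, C.nil, C.nil, show n - 4 + 1 = n - 3 by omega, h_add_left,
          h_add_right hF, h_add_right hF, h_smul_left, h_smul_left, h_smul_right hF, h_smul_right hF,
          hanti 2 (n - 3) (by omega), hanti (n - 3) 2 (by omega),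
          C.gram_vanish hF (a := n - 3) (b := n - 3) (by omega)]
        linear_combination hb
      · rw [map_add, map_smul, C.nil_iterate, C.nil_iterate,
          C.vanish (n - 4 + (n - 2)) (by omega), smul_zero, add_zero, he,
          show 1 + (n - 2) = n - 1 by omega]
  obtain ⟨γ, hγ⟩ := exists_trace_eq hF (c := -hermForm n F 2 p₀ p₀)
    (by rw [neg_pow_q hF, h_self_fixed hF])
  obtain ⟨h₀, hh₀⟩ := exists_isEich hF hee hp₀e (γ := γ) (by linear_combination hγ)
  set u'' := h₀ * u * h₀⁻¹ with hu''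
  obtain ⟨w, hw⟩ : ∃ x, x = -nilMap u p₀ := ⟨_, rfl⟩
  have hwe : hermForm n F 2 w e = 0 := by rw [hw, h_neg_left, he, C.h_fix_nil hF (by omega), neg_zero]
  have hww : hermForm n F 2 w w = 1 := by rw [hw, h_neg_left, h_neg_right hF, neg_neg, hp₀N]
  obtain ⟨γ₁, hE⟩ : ∃ γ₁, IsEich e w γ₁ (u'' * u⁻¹) := by
    have h3 := (hh₀.inv hF hee hp₀e (by linear_combination hγ)).conj u
    rw [hue, mulVec_neg] at h3
    have hupe : hermForm n F 2 (-(suMat u *ᵥ p₀)) e = 0 := by
      rw [hu, h_neg_left, h_add_left, hp₀e, he, C.h_fix_nil hF (by omega)]; ring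
    have h4 := hh₀.mul hF h3 hee hp₀e hupe
    refine ⟨γ + γ ^ 2 - hermForm n F 2 (-(suMat u *ᵥ p₀)) p₀, ?_⟩
    rw [show u'' * u⁻¹ = h₀ * (u * h₀⁻¹ * u⁻¹) by rw [hu'']; group,
      show w = p₀ + -(suMat u *ᵥ p₀) by rw [hw, hu]; abel]
    exact h4
  set H := Subgroup.closure ({u, u'', v} : Set (SU n F 2)) with hH
  have huH : u ∈ H := Subgroup.subset_closure (Or.inl rfl)
  have hu''H : u'' ∈ H := Subgroup.subset_closure (Or.inr (Or.inl rfl))
  have hvH : v ∈ H := Subgroup.subset_closure (Or.inr (Or.inr rfl))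
  have hEH : u'' * u⁻¹ ∈ H := mul_mem hu''H (inv_mem huH)
  have hT1 : IsEich e 0 1 (u'' * u⁻¹ * (u'' * u⁻¹)) := by
    have h3 := hE.mul hF hE hee hwe hwe
    rwa [show w + w = (2 : F) • w by rw [two_smul], h2, zero_smul, hww,
      show γ₁ + γ₁ - (1 : F) = 1 by linear_combination (γ₁ - 1) * h2] at h3
  have hTe : ∀ d : F, d + d ^ 2 = 0 → ∃ g ∈ H, IsEich e 0 d g := by
    intro d hd
    rcases eq_or_ne d 0 with rfl | hd0
    · exact ⟨1, one_mem H, fun x => by rw [suMat_one, one_mulVec, h_zero_right hF]; module⟩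
    · obtain rfl : d = 1 := four_fixed hF (by linear_combination hd - d * h2) hd0
      exact ⟨_, mul_mem hEH hEH, hT1⟩
  have hTf : ∀ d : F, d + d ^ 2 = 0 → ∃ g ∈ H, IsEich f 0 d g := by
    intro d hd
    obtain ⟨t', ht', htE⟩ := hTe d hd
    refine ⟨v * t' * v⁻¹, mul_mem (mul_mem hvH ht') (inv_mem hvH), ?_⟩
    have := htE.conj v
    rwa [hve, mulVec_zero] at this
  obtain ⟨te, hte, hteE⟩ := hTe 1 (by linear_combination h2)
  obtain ⟨tf, htf, htfE⟩ := hTf 1 (by linear_combination h2)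
  set s := te * tf * te with hs
  have hsfix : ∀ y, hermForm n F 2 y e = 0 → hermForm n F 2 y f = 0 → suMat s *ᵥ y = y := by
    intro y hye hyf
    have e1 : suMat te *ᵥ y = y := by rw [hteE, hye, h_zero_right hF]; module
    have e2 : suMat tf *ᵥ y = y := by rw [htfE, hyf, h_zero_right hF]; module
    rw [hs, suMat_mulVec_mul, suMat_mulVec_mul, e1, e2, e1]
  have hsf : suMat s *ᵥ f = e := by
    have e1 : suMat te *ᵥ f = f + e := by rw [hteE, hfe, h_zero_right hF]; module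
    have e2 : suMat tf *ᵥ (f + e) = e := by
      rw [htfE, h_add_left, hf.2.1, hf.2.2, h_zero_right hF, zero_add, one_mul, sub_zero, smul_zero,
        add_zero, one_smul, show f + e + f = (2 : F) • f + e by rw [two_smul]; abel, h2, zero_smul,
        zero_add]
    have e3 : suMat te *ᵥ e = e := by rw [hteE, hee, h_zero_right hF]; module
    rw [hs, suMat_mulVec_mul, suMat_mulVec_mul, e1, e2, e3]
  set x := s * v with hx
  have hxH : x ∈ H := mul_mem (mul_mem (mul_mem hte htf) hte) hvH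
  have hxe : suMat x *ᵥ e = (1 : F) • e := by rw [hx, suMat_mulVec_mul, hve, hsf, one_smul]
  have hxe₂ : suMat x *ᵥ e₂ = p + c' • e := by
    rw [hx, suMat_mulVec_mul, hve₂, mulVec_add, mulVec_smul, hsfix p hpe hpf, hsf]
  set S := radParts H e f with hS
  have hN : ∀ y ∈ S, nilMap u y ∈ S := fun y hy => by
    rw [nilMap_apply]; exact nil_mem_radParts hF hf huH hue hy
  have hpow : ∀ j, ∀ y ∈ S, (nilMap u ^ j) y ∈ S := by
    intro j
    induction j with
    | zero => intro y hy; simpa using hy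
    | succ j ih => intro y hy; rw [pow_succ, Module.End.mul_apply]; exact ih _ (hN y hy)
  have hX' : ∀ y ∈ S, suMat x *ᵥ y ∈ S := fun y hy => by
    have := conj_mem_radParts hF hf hxH hxe hy
    rwa [one_pow, one_smul] at this
  have hwS : w ∈ S := mem_radParts_of_isEich hF hf hE hEH hwe
  have heS : ∀ c : F, c • e ∈ S := fun c => smul_fst_mem_radParts hF hee c
  have hwtop : (nilMap u ^ (n - 3)) w = e := by
    rw [hw, map_neg, ← Module.End.mul_apply, ← pow_succ, show n - 3 + 1 = n - 2 by omega, hp₀top,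
      ← neg_one_smul F e, show (-1 : F) = 1 by linear_combination -h2, one_smul]
  -- `e₂` is a part
  have he₂S : e₂ ∈ S := by
    have h1 := hpow (n - 4) w hwS
    obtain ⟨c, hc⟩ := C.ker_nil hF (by omega) (x := (nilMap u ^ (n - 4)) w - e₂) (by
      rw [map_sub, hNe₂, ← Module.End.mul_apply, ← pow_succ', show n - 4 + 1 = n - 3 by omega, hwtop,
        sub_self])
    rw [show e₂ = (nilMap u ^ (n - 4)) w - c • ε (n - 1) by rw [← hc]; abel]
    exact sub_mem h1 (he ▸ heS c)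
  have hpS : p ∈ S := by
    have h1 := sub_mem (hX' _ he₂S) (heS c')
    rwa [hxe₂, add_sub_cancel_right] at h1
  have span4 : ∀ J, (∃ y ∈ S, (nilMap u ^ J) y = e) → (∃ y ∈ S, (nilMap u ^ J) y = θ ^ 2 • e) →
      ∀ c : F, ∃ y ∈ S, (nilMap u ^ J) y = c • ε (n - 1) := by
    rintro J ⟨y, hy, hy1⟩ ⟨y', hy', hy2⟩ c
    rw [← he]
    rcases four_cases hF hθ c with hc | hc | hc | hc <;> rw [hc]
    · exact ⟨0, zero_mem S, by rw [map_zero, zero_smul]⟩
    · exact ⟨y, hy, by rw [hy1, one_smul]⟩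
    · refine ⟨y + y', add_mem hy hy', ?_⟩
      rw [map_add, hy1, hy2]
      conv_lhs => arg 1; rw [← one_smul F e]
      rw [← add_smul]
      congr 1
      linear_combination θ ^ 2 * h2 - hθ
    · exact ⟨y', hy', hy2⟩
  have hker := C.mem_of_surj hF (by omega) hN (J := n - 3)
    (span4 _ ⟨w, hwS, hwtop⟩ ⟨nilMap u p, hN p hpS, by
      rw [← Module.End.mul_apply, ← pow_succ, show n - 3 + 1 = n - 2 by omega, hNp]⟩)
    (n - 2) (by omega)
  have hθe₂ : θ • e₂ ∈ S := hker _ (by rw [map_smul, hNje₂ _ (by omega), smul_zero])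
  have hθp : θ • p ∈ S := by
    have h1 := sub_mem (hX' _ hθe₂) (heS (θ * c'))
    rwa [mulVec_smul, hxe₂, smul_add, smul_smul, add_sub_cancel_right] at h1
  have hfull : ∀ y, hermForm n F 2 y e = 0 → y ∈ S := fun y hy =>
    C.mem_of_surj hF (by omega) hN (J := n - 2)
      (span4 _ ⟨θ • p, hθp, by
        rw [map_smul, hNp, smul_smul, show θ * θ ^ 2 = 1 by linear_combination hθ3, one_smul]⟩
        ⟨p, hpS, hNp⟩) (n - 1) (by omega) y
      (by rw [C.nil_top hF (by omega), ← he, hy, zero_div, zero_smul])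
  refine ⟨u, h₀, g, C.isRegular (by omega), ?_⟩
  refine eq_top_of_radical hF (by omega) (fun hh => by omega) hf hTe hTf ?_
  exact fun w' γ' hwe' hwf' hγ' => isEich_mem_of_radParts hF hf hTe hfull hwe' hwf' hγ'

end H37
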