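import Mathlib

/-!
Square-zero endomorphisms: normal form, conjugacy by rank, also by maps of determinant one
when every scalar is a square.
-/

set_option autoImplicit false

namespace H37

open Module

universe u v

variable {F : Type u} [Field F] {V : Type v} [AddCommGroup V] [Module F V] [FiniteDimensional F V]

/-- Normal form of a square-zero endomorphism. -/
theorem exists_basis_sq_zero (f : V →ₗ[F] V) (hf : ∀ x, f (f x) = 0) :
    ∃ (m : ℕ) (b : Basis (Fin (finrank F (LinearMap.range f)) ⊕
        Fin (finrank F (LinearMap.range f)) ⊕ Fin m) F V),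
      (∀ i, f (b (Sum.inl i)) = b (Sum.inr (Sum.inl i))) ∧ (∀ x, f (b (Sum.inr x)) = 0) := by
  classical
  set R := LinearMap.range f with hR
  set K := LinearMap.ker f with hK
  set l := finrank F R with hl
  have hRK : R ≤ K := by
    rintro _ ⟨x, rfl⟩
    exact hf x
  let r : Basis (Fin l) F R := finBasis F R
  have hw : ∀ i, ∃ w, f w = (r i : V) := fun i => (r i).2
  choose w hw using hw
  obtain ⟨C, hC⟩ := R.exists_isCompl
  set U := C ⊓ K with hU
  have hdisj : R ⊓ U = ⊥ := by
    rw [eq_bot_iff, ← hC.inf_eq_bot]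
    exact inf_le_inf le_rfl inf_le_left
  have hsup : R ⊔ U = K := by
    rw [hU, ← sup_inf_assoc_of_le C hRK, hC.sup_eq_top, top_inf_eq]
  let u : Basis (Fin (finrank F U)) F U := finBasis F U
  let v : Fin l ⊕ Fin l ⊕ Fin (finrank F U) → V :=
    Sum.elim w (Sum.elim (fun i => (r i : V)) (fun i => (u i : V)))
  have hdim : finrank F V = l + (l + finrank F U) := by
    have h1 := LinearMap.finrank_range_add_finrank_ker f
    have h2 := Submodule.finrank_sup_add_finrank_inf_eq R U
    rw [hsup, hdisj, finrank_bot] at h2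
    change l + finrank F K = _ at h1
    omega
  have hli : LinearIndependent F v := by
    rw [Fintype.linearIndependent_iff]
    intro c hc
    rw [Fintype.sum_sum_type, Fintype.sum_sum_type] at hc
    simp only [v, Sum.elim_inl, Sum.elim_inr] at hc
    have hfu : ∀ i, f (u i : V) = 0 := fun i => (u i).2.2
    have hfr : ∀ i, f (r i : V) = 0 := fun i => hRK (r i).2
    have h1 : ∀ i, c (Sum.inl i) = 0 := by
      have := congrArg f hc
      simp only [map_add, map_sum, map_smul, hw, hfu, hfr, smul_zero, Finset.sum_const_zero,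
        add_zero, map_zero] at this
      have h0 : ∑ i, c (Sum.inl i) • r i = 0 := Subtype.ext (by simpa using this)
      exact Fintype.linearIndependent_iff.1 r.linearIndependent _ h0
    simp only [h1, zero_smul, Finset.sum_const_zero, zero_add] at hc
    set a : R := ∑ i, c (Sum.inr (Sum.inl i)) • r i with ha
    set b : U := ∑ i, c (Sum.inr (Sum.inr i)) • u i with hb
    have hab : (a : V) + (b : V) = 0 := by
      rw [ha, hb]
      simpa using hc
    have hmem : (a : V) ∈ R ⊓ U := ⟨a.2, by rw [eq_neg_of_add_eq_zero_left hab]; exact neg_mem b.2⟩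
    rw [hdisj, Submodule.mem_bot] at hmem
    have ha0 : a = 0 := Subtype.ext hmem
    have hb0 : b = 0 := Subtype.ext (by simpa [hmem] using hab)
    rintro (i | i | i)
    · exact h1 i
    · exact Fintype.linearIndependent_iff.1 r.linearIndependent _ ha0 i
    · exact Fintype.linearIndependent_iff.1 u.linearIndependent _ hb0 i
  have hspan : ⊤ ≤ Submodule.span F (Set.range v) :=
    (hli.span_eq_top_of_card_eq_finrank' (by simp [hdim])).ge
  refine ⟨finrank F U, Basis.mk hli hspan, fun i => ?_, fun x => ?_⟩
  · simpa [Basis.mk_apply, v] using hw i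
  · rcases x with i | i
    · simp only [Basis.mk_apply, v, Sum.elim_inl, Sum.elim_inr]
      exact hRK (r i).2
    · simp only [Basis.mk_apply, v, Sum.elim_inl, Sum.elim_inr]
      exact (u i).2.2

/-- Square-zero maps of equal rank are conjugate. -/
theorem exists_intertwining_sq_zero (f g : V →ₗ[F] V) (hf : ∀ x, f (f x) = 0)
    (hg : ∀ x, g (g x) = 0)
    (hr : finrank F (LinearMap.range f) = finrank F (LinearMap.range g)) :
    ∃ e : V ≃ₗ[F] V, ∀ x, e (f x) = g (e x) := by
  obtain ⟨m, b, hb1, hb2⟩ := exists_basis_sq_zero f hf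
  obtain ⟨m', b', hb1', hb2'⟩ := exists_basis_sq_zero g hg
  have hm : m = m' := by
    have h1 := Module.finrank_eq_card_basis b
    have h2 := Module.finrank_eq_card_basis b'
    simp only [Fintype.card_sum, Fintype.card_fin] at h1 h2
    omega
  let σ := Equiv.sumCongr (finCongr hr) (Equiv.sumCongr (finCongr hr) (finCongr hm))
  refine ⟨b.equiv b' σ, ?_⟩
  have : (b.equiv b' σ : V →ₗ[F] V).comp f = g.comp (b.equiv b' σ : V →ₗ[F] V) := by
    refine b.ext fun k => ?_
    simp only [LinearMap.comp_apply, LinearEquiv.coe_coe, Basis.equiv_apply]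
    rcases k with i | x
    · rw [hb1, Basis.equiv_apply]
      simp [σ, hb1']
    · rw [hb2, map_zero]
      rcases x with i | i <;> simp [σ, hb2']
  exact fun x => LinearMap.congr_fun this x

/-- If every scalar is a square, square-zero non-zero maps of equal rank are conjugate by a map
of determinant one. -/
theorem exists_det_one_intertwining_sq_zero (hsq : ∀ a : F, IsSquare a) (f g : V →ₗ[F] V)
    (hf : ∀ x, f (f x) = 0) (hg : ∀ x, g (g x) = 0) (hf0 : f ≠ 0)
    (hr : finrank F (LinearMap.range f) = finrank F (LinearMap.range g)) :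
    ∃ e : V →ₗ[F] V, LinearMap.det e = 1 ∧ ∀ x, e (f x) = g (e x) := by
  classical
  obtain ⟨e, he⟩ := exists_intertwining_sq_zero f g hf hg hr
  obtain ⟨m, b, hb1, hb2⟩ := exists_basis_sq_zero f hf
  have hpos : 0 < finrank F (LinearMap.range f) := by
    rw [Nat.pos_iff_ne_zero, Ne, Submodule.finrank_eq_zero, LinearMap.range_eq_bot]
    exact hf0
  set d := LinearMap.det (e : V →ₗ[F] V) with hd
  have hd0 : d ≠ 0 := (LinearEquiv.isUnit_det' e).ne_zero
  obtain ⟨s, hs⟩ := hsq d⁻¹
  let i0 : Fin (finrank F (LinearMap.range f)) := ⟨0, hpos⟩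
  let c : Fin (finrank F (LinearMap.range f)) ⊕ Fin (finrank F (LinearMap.range f)) ⊕ Fin m → F :=
    Sum.elim (fun i => if i = i0 then s else 1)
      (Sum.elim (fun i => if i = i0 then s else 1) (fun _ => 1))
  let T : V →ₗ[F] V := Matrix.toLin b b (Matrix.diagonal c)
  have hT : ∀ k, T (b k) = c k • b k := fun k => by
    simp [T, Matrix.toLin_self, Matrix.diagonal, ite_smul]
  have hTdet : LinearMap.det T = s * s := by
    simp [T, LinearMap.det_toLin, Matrix.det_diagonal, c, Fintype.prod_sum_type,
      Finset.prod_ite_eq']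
  have hTf : T.comp f = f.comp T := by
    refine b.ext fun k => ?_
    simp only [LinearMap.comp_apply, hT, map_smul]
    rcases k with i | x
    · rw [hb1, hT]
      simp [c]
    · rw [hb2, map_zero, smul_zero]
  refine ⟨(e : V →ₗ[F] V).comp T, ?_, fun x => ?_⟩
  · rw [LinearMap.det_comp, hTdet, ← hd, ← hs, mul_inv_cancel₀ hd0]
  · simp only [LinearMap.comp_apply, LinearEquiv.coe_coe]
    rw [show T (f x) = f (T x) from LinearMap.congr_fun hTf x, he]

end H37
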