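import Cfsg.Agent.H37.SL3Root

/-!
A criterion for a subgroup of `SL_n(F)` to be everything: three root groups spanning a block and
two elements moving the block around.
-/

set_option autoImplicit false

namespace H37

open Matrix
open scoped MatrixGroups

universe u

section emb

variable {F : Type u} [Field F] {n k : ℕ}

/-- The centre `∑ r_i a_i` built from a tuple. -/
def colsMat (A : Fin k → (Fin n → F)) : Matrix (Fin n) (Fin k) F := (Matrix.of A)ᵀ

/-- `X ↦ 1 + A (X - 1) Φ`, an embedding of `SL_k` when `Φ A = 1`. -/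
def embMat (A Φ : Fin k → (Fin n → F)) (X : Matrix (Fin k) (Fin k) F) : Matrix (Fin n) (Fin n) F :=
  1 + colsMat A * (X - 1) * Matrix.of Φ

theorem of_mul_colsMat {A Φ : Fin k → (Fin n → F)}
    (h : ∀ i j, Φ i ⬝ᵥ A j = if i = j then 1 else 0) : Matrix.of Φ * colsMat A = 1 := by
  ext i j
  rw [Matrix.mul_apply, Matrix.one_apply]
  exact h i j

theorem embMat_det {A Φ : Fin k → (Fin n → F)}
    (h : ∀ i j, Φ i ⬝ᵥ A j = if i = j then 1 else 0) (X : Matrix (Fin k) (Fin k) F) :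
    (embMat A Φ X).det = X.det := by
  rw [embMat, Matrix.mul_assoc, Matrix.det_one_add_mul_comm, Matrix.mul_assoc,
    of_mul_colsMat h, Matrix.mul_one, add_sub_cancel]

/-- The embedding as a homomorphism. -/
def embHom (A Φ : Fin k → (Fin n → F)) (h : ∀ i j, Φ i ⬝ᵥ A j = if i = j then 1 else 0) :
    Matrix.SpecialLinearGroup (Fin k) F →* Matrix.SpecialLinearGroup (Fin n) F :=
  MonoidHom.mk' (fun X => ⟨embMat A Φ X, by rw [embMat_det h]; exact X.2⟩) fun X Y => by
    apply Subtype.ext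
    show embMat A Φ ((X * Y : Matrix.SpecialLinearGroup (Fin k) F) : Matrix (Fin k) (Fin k) F) =
      embMat A Φ X * embMat A Φ Y
    set a := colsMat A
    set b := Matrix.of Φ
    set x := (X : Matrix (Fin k) (Fin k) F)
    set y := (Y : Matrix (Fin k) (Fin k) F)
    have hba : b * a = 1 := of_mul_colsMat h
    have e : a * (x - 1) * b * (a * (y - 1) * b) = a * ((x - 1) * (y - 1)) * b := by
      calc a * (x - 1) * b * (a * (y - 1) * b) = a * (x - 1) * (b * a) * (y - 1) * b := by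
            simp only [Matrix.mul_assoc]
        _ = _ := by rw [hba, Matrix.mul_one]; simp only [Matrix.mul_assoc]
    rw [Matrix.SpecialLinearGroup.coe_mul, embMat, embMat, embMat, Matrix.add_mul, Matrix.one_mul,
      Matrix.mul_add (a * (x - 1) * b) 1, Matrix.mul_one, e, add_assoc, ← Matrix.add_mul, ← Matrix.add_mul,
      ← Matrix.mul_add, ← Matrix.mul_add,
      show (x - 1) * (y - 1) = x * y - x - y + 1 by
        rw [Matrix.sub_mul, Matrix.mul_sub, Matrix.one_mul, Matrix.mul_one]; abel]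
    congr 3
    abel

theorem coe_embHom (A Φ : Fin k → (Fin n → F)) (h : ∀ i j, Φ i ⬝ᵥ A j = if i = j then 1 else 0)
    (X : Matrix.SpecialLinearGroup (Fin k) F) :
    ((embHom A Φ h X : Matrix.SpecialLinearGroup (Fin n) F) : Matrix (Fin n) (Fin n) F) =
      embMat A Φ X := rfl

/-- Combination of a tuple of vectors. -/
def comb (A : Fin k → (Fin n → F)) (r : Fin k → F) : Fin n → F := ∑ i, r i • A i

theorem colsMat_mulVec (A : Fin k → (Fin n → F)) (r : Fin k → F) :
    colsMat A *ᵥ r = comb A r := by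
  funext l
  simp [colsMat, comb, Matrix.mulVec, dotProduct, mul_comm]

theorem vecMul_of (Φ : Fin k → (Fin n → F)) (t : Fin k → F) : t ᵥ* Matrix.of Φ = comb Φ t := by
  funext l
  simp [comb, Matrix.vecMul, dotProduct]

theorem dotProduct_comb {A Φ : Fin k → (Fin n → F)}
    (h : ∀ i j, Φ i ⬝ᵥ A j = if i = j then 1 else 0) (t r : Fin k → F) :
    comb Φ t ⬝ᵥ comb A r = t ⬝ᵥ r := by
  rw [← vecMul_of, ← colsMat_mulVec, ← dotProduct_mulVec, Matrix.mulVec_mulVec, of_mul_colsMat h,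
    Matrix.one_mulVec]

theorem embMat_one_add (A Φ : Fin k → (Fin n → F)) (r t : Fin k → F) :
    embMat A Φ (1 + vecMulVec r t) = 1 + vecMulVec (comb A r) (comb Φ t) := by
  rw [embMat, add_sub_cancel_left, mul_vecMulVec, vecMulVec_mul, colsMat_mulVec, vecMul_of]

theorem exists_sl_tv {r t : Fin k → F} (hrt : t ⬝ᵥ r = 0) :
    ∃ X : Matrix.SpecialLinearGroup (Fin k) F,
      (X : Matrix (Fin k) (Fin k) F) = 1 + vecMulVec r t :=
  ⟨⟨1 + vecMulVec r t, by
    rw [vecMulVec_eq Unit, Matrix.det_one_add_replicateCol_mul_replicateRow, hrt, add_zero]⟩, rfl⟩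

theorem hasTv_comap_emb {A Φ : Fin k → (Fin n → F)}
    (h : ∀ i j, Φ i ⬝ᵥ A j = if i = j then 1 else 0)
    {H : Subgroup (Matrix.SpecialLinearGroup (Fin n) F)} {r t : Fin k → F} (hrt : t ⬝ᵥ r = 0)
    (hT : HasTv H (comb A r) (comb Φ t)) : HasTv (H.comap (embHom A Φ h)) r t := by
  obtain ⟨x, hx, hxm⟩ := hT
  obtain ⟨X, hX⟩ := exists_sl_tv hrt
  refine ⟨X, ?_, hX⟩
  show embHom A Φ h X ∈ H
  convert hx using 1
  apply Subtype.ext
  rw [coe_embHom, hX, hxm, embMat_one_add]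

theorem hasTv_of_emb_top {A Φ : Fin k → (Fin n → F)}
    {h : ∀ i j, Φ i ⬝ᵥ A j = if i = j then 1 else 0}
    {H : Subgroup (Matrix.SpecialLinearGroup (Fin n) F)}
    (htop : H.comap (embHom A Φ h) = ⊤) {r t : Fin k → F} (hrt : t ⬝ᵥ r = 0) :
    HasTv H (comb A r) (comb Φ t) := by
  obtain ⟨X, hX⟩ := exists_sl_tv hrt
  have hm : X ∈ H.comap (embHom A Φ h) := htop.symm ▸ Subgroup.mem_top X
  exact ⟨_, hm, by rw [coe_embHom, hX, embMat_one_add]⟩

end emb

section criterion

variable {F : Type u} [Field F] {n : ℕ}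

/-- All multiples of the root `(a, φ)` lie in `H`. -/
def FullRoot (H : Subgroup (Matrix.SpecialLinearGroup (Fin n) F)) (a φ : Fin n → F) : Prop :=
  φ ⬝ᵥ a = 0 ∧ ∀ s : F, HasTv H (s • a) φ

/-- Inverse transpose. -/
def dualHom : Matrix.SpecialLinearGroup (Fin n) F →* Matrix.SpecialLinearGroup (Fin n) F :=
  MonoidHom.mk' (fun g => Matrix.SpecialLinearGroup.transpose g⁻¹) fun g h => by
    apply Subtype.ext
    show ((((g * h)⁻¹ : Matrix.SpecialLinearGroup (Fin n) F) : Matrix (Fin n) (Fin n) F))ᵀ =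
      ((g⁻¹ : Matrix.SpecialLinearGroup (Fin n) F) : Matrix (Fin n) (Fin n) F)ᵀ *
        ((h⁻¹ : Matrix.SpecialLinearGroup (Fin n) F) : Matrix (Fin n) (Fin n) F)ᵀ
    rw [_root_.mul_inv_rev, Matrix.SpecialLinearGroup.coe_mul, Matrix.transpose_mul]

theorem coe_dualHom (g : Matrix.SpecialLinearGroup (Fin n) F) :
    ((dualHom g : Matrix.SpecialLinearGroup (Fin n) F) : Matrix (Fin n) (Fin n) F) =
      ((g⁻¹ : Matrix.SpecialLinearGroup (Fin n) F) : Matrix (Fin n) (Fin n) F)ᵀ :=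
  Matrix.SpecialLinearGroup.coe_transpose _

theorem hasTv_dual {H : Subgroup (Matrix.SpecialLinearGroup (Fin n) F)} {a φ : Fin n → F}
    (hφa : φ ⬝ᵥ a = 0) (h : HasTv H a φ) : HasTv (H.map dualHom) (-φ) a := by
  obtain ⟨x, hx, hxm⟩ := h
  refine ⟨dualHom x, ⟨x, hx, rfl⟩, ?_⟩
  rw [coe_dualHom, coe_inv_of_tv hxm hφa, Matrix.transpose_add, Matrix.transpose_one,
    transpose_vecMulVec, vecMulVec_neg, neg_vecMulVec]

theorem dualHom_dualHom (g : Matrix.SpecialLinearGroup (Fin n) F) : dualHom (dualHom g) = g := by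
  apply Subtype.ext
  rw [coe_dualHom]
  have : (dualHom g)⁻¹ = dualHom g⁻¹ := (map_inv _ _).symm
  rw [this, coe_dualHom, inv_inv, Matrix.transpose_transpose]

theorem map_dual_dual (H : Subgroup (Matrix.SpecialLinearGroup (Fin n) F)) :
    (H.map dualHom).map dualHom = H := by
  ext g
  simp [Subgroup.mem_map, dualHom_dualHom]

theorem fullRoot_dual {H : Subgroup (Matrix.SpecialLinearGroup (Fin n) F)} {a φ : Fin n → F}
    (h : FullRoot H a φ) : FullRoot (H.map dualHom) φ a := by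
  refine ⟨by rw [dotProduct_comm]; exact h.1, fun s => ?_⟩
  have h1 := hasTv_dual (by rw [dotProduct_smul, h.1, smul_zero]) (h.2 (-s))
  rw [hasTv_smul_swap]
  have h2 : HasTv (H.map dualHom) (-φ) ((-s) • a) := h1
  rwa [← neg_one_smul F φ, hasTv_smul_swap, smul_smul, neg_mul_neg, one_mul] at h2

variable {H : Subgroup (Matrix.SpecialLinearGroup (Fin n) F)} {A Φ : Fin 3 → (Fin n → F)}

theorem comb_single (A : Fin 3 → (Fin n → F)) (i : Fin 3) : comb A (Pi.single i 1) = A i := by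
  simp [comb, Pi.single_apply, ite_smul]

theorem comb_smul (A : Fin 3 → (Fin n → F)) (s : F) (r : Fin 3 → F) :
    comb A (s • r) = s • comb A r := by
  simp [comb, Finset.smul_sum, smul_smul]

theorem comb_add (A : Fin 3 → (Fin n → F)) (r r' : Fin 3 → F) :
    comb A (r + r') = comb A r + comb A r' := by
  simp [comb, add_smul, Finset.sum_add_distrib]

/-- One full root with axis in the block and centre off it yields all three. -/
theorem fullRoot_spread (hd : ∀ i j, Φ i ⬝ᵥ A j = if i = j then 1 else 0)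
    (hblock : H.comap (embHom A Φ hd) = ⊤) {c : Fin n → F} (hc : ∀ i, Φ i ⬝ᵥ c = 0)
    {t : Fin 3 → F} (ht : t ≠ 0) (hroot : ∀ s : F, HasTv H (s • c) (comb Φ t)) :
    ∀ (i : Fin 3) (s : F), HasTv H (s • c) (Φ i) := by
  have hct : ∀ w : Fin 3 → F, comb Φ w ⬝ᵥ c = 0 := fun w => by
    simp [comb, sum_dotProduct, hc]
  have one : ∀ (w : Fin 3 → F) (i j : Fin 3), i ≠ j → w i ≠ 0 →
      (∀ s : F, HasTv H (s • c) (comb Φ w)) → ∀ s : F, HasTv H (s • c) (Φ j) := by
    intro w i j hij hwi hw s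
    have hb : HasTv H (A i) (Φ j) := by
      have := hasTv_of_emb_top hblock (r := Pi.single i 1) (t := Pi.single j 1)
        (by simp [hij])
      rwa [comb_single, comb_single] at this
    obtain ⟨g, hg, hgm⟩ := hb
    have hgi := coe_inv_of_tv hgm (by rw [hd, if_neg hij.symm])
    have h := hasTv_conj hg (hw (-s / w i))
    rw [hgm, hgi, Matrix.add_mulVec, Matrix.one_mulVec, vecMulVec_mulVec, dotProduct_smul, hc,
      smul_zero, MulOpposite.op_zero, zero_smul, add_zero, Matrix.vecMul_add, Matrix.vecMul_one,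
      vecMul_vecMulVec, dotProduct_neg] at h
    have e : comb Φ w ⬝ᵥ A i = w i := by
      rw [← comb_single A i, dotProduct_comb hd, dotProduct_single, mul_one]
    rw [e] at h
    have h' := hasTv_neg (hw (-s / w i)) (by rw [dotProduct_smul, hct, smul_zero])
    rw [← neg_one_smul F ((-s / w i) • c), hasTv_smul_swap] at h'
    have h2 := hasTv_axis_add h' h (by rw [dotProduct_smul, smul_dotProduct, hct, smul_zero, smul_zero])
    rw [neg_one_smul, neg_add_cancel_left, ← hasTv_smul_swap, smul_smul] at h2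
    convert h2 using 2
    rw [neg_div, neg_mul_neg, mul_div_cancel₀ _ hwi]
  obtain ⟨i, hi⟩ : ∃ i, t i ≠ 0 := by
    by_contra h
    push Not at h
    exact ht (funext h)
  intro j
  by_cases hij : i = j
  · subst hij
    obtain ⟨k, hk⟩ : ∃ k : Fin 3, k ≠ i := ⟨i + 1, by fin_cases i <;> decide⟩
    have hk' := one t i k hk.symm hi hroot
    refine one (Pi.single k 1) k i hk (by simp) fun s => ?_
    rw [comb_single]
    exact hk' s
  · exact one t i j hij hi hroot

/-- The component of `y` off the block. -/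
def offBlock (A Φ : Fin 3 → (Fin n → F)) (y : Fin n → F) : Fin n → F :=
  y - comb A (fun i => Φ i ⬝ᵥ y)

theorem dot_offBlock (hd : ∀ i j, Φ i ⬝ᵥ A j = if i = j then 1 else 0) (y : Fin n → F) (i : Fin 3) :
    Φ i ⬝ᵥ offBlock A Φ y = 0 := by
  rw [offBlock, dotProduct_sub, ← comb_single Φ i, dotProduct_comb hd, comb_single,
    single_dotProduct, one_mul, sub_self]

/-- The vectors whose off-block part carries the three root groups. -/
def wSub (H : Subgroup (Matrix.SpecialLinearGroup (Fin n) F)) (A Φ : Fin 3 → (Fin n → F))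
    (hd : ∀ i j, Φ i ⬝ᵥ A j = if i = j then 1 else 0) : Submodule F (Fin n → F) where
  carrier := {y | ∀ (i : Fin 3) (s : F), HasTv H (s • offBlock A Φ y) (Φ i)}
  zero_mem' := fun i s => by
    have h0 : offBlock A Φ (0 : Fin n → F) = 0 := by
      simp [offBlock, comb]
    rw [h0, smul_zero]
    exact hasTv_zero _
  add_mem' := fun {y z} hy hz i s => by
    have h0 : offBlock A Φ (y + z) = offBlock A Φ y + offBlock A Φ z := by
      simp only [offBlock, dotProduct_add]
      rw [show (fun i => Φ i ⬝ᵥ y + Φ i ⬝ᵥ z) = (fun i => Φ i ⬝ᵥ y) + fun i => Φ i ⬝ᵥ z from rfl,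
        comb_add]
      abel
    rw [h0, smul_add]
    exact hasTv_add (hy i s) (hz i s) (by rw [dotProduct_smul, dot_offBlock hd, smul_zero])
  smul_mem' := fun a y hy i s => by
    have h0 : offBlock A Φ (a • y) = a • offBlock A Φ y := by
      simp only [offBlock, dotProduct_smul, smul_sub]
      rw [show (fun i => a • (Φ i ⬝ᵥ y)) = a • fun i => Φ i ⬝ᵥ y from rfl, comb_smul]
    rw [h0, smul_smul]
    exact hy i _

theorem mem_wSub_of_axis (hd : ∀ i j, Φ i ⬝ᵥ A j = if i = j then 1 else 0)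
    (hblock : H.comap (embHom A Φ hd) = ⊤) {y : Fin n → F} {t : Fin 3 → F} (ht : t ≠ 0)
    (hty : comb Φ t ⬝ᵥ y = 0) (hroot : ∀ s : F, HasTv H (s • y) (comb Φ t)) :
    y ∈ wSub H A Φ hd := by
  refine fullRoot_spread hd hblock (dot_offBlock hd y) ht fun s => ?_
  set p : Fin 3 → F := fun i => Φ i ⬝ᵥ y with hp
  have htp : t ⬝ᵥ p = 0 := by
    rw [← hty, comb, sum_dotProduct, dotProduct]
    exact Finset.sum_congr rfl fun i _ => by rw [smul_dotProduct, smul_eq_mul]
  have hP : HasTv H ((-s) • comb A p) (comb Φ t) := by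
    rw [← comb_smul]
    exact hasTv_of_emb_top hblock (by rw [dotProduct_smul, htp, smul_zero])
  have := hasTv_add (hroot s) hP (by rw [dotProduct_smul, dotProduct_comb hd, htp, smul_zero])
  rwa [neg_smul, ← sub_eq_add_neg, ← smul_sub] at this

theorem block_subset_wSub (hd : ∀ i j, Φ i ⬝ᵥ A j = if i = j then 1 else 0) (r : Fin 3 → F) :
    comb A r ∈ wSub H A Φ hd := fun i s => by
  have : offBlock A Φ (comb A r) = 0 := by
    rw [offBlock, sub_eq_zero]
    congr 1
    funext j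
    rw [← comb_single Φ j, dotProduct_comb hd, single_dotProduct, one_mul]
  rw [this, smul_zero]
  exact hasTv_zero _

theorem exists_perp_ne_zero (p q : Fin 3 → F) (hq : q ≠ 0) :
    ∃ t r : Fin 3 → F, t ⬝ᵥ p = 0 ∧ t ⬝ᵥ r = 0 ∧ q ⬝ᵥ r = 1 ∧ t ≠ 0 := by
  classical
  suffices h : ∃ t : Fin 3 → F, t ⬝ᵥ p = 0 ∧ ∃ i j, t j * q i - t i * q j ≠ 0 by
    obtain ⟨t, htp, i, j, hne⟩ := h
    refine ⟨t, (t j * q i - t i * q j)⁻¹ • (Pi.single i (t j) - Pi.single j (t i)), htp, ?_, ?_,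
      fun h => hne (by simp [h])⟩
    · simp [mul_comm]
    · rw [dotProduct_smul, dotProduct_sub, dotProduct_single, dotProduct_single, smul_eq_mul,
        mul_comm (q i), mul_comm (q j)]
      exact inv_mul_cancel₀ hne
  by_contra hcon
  push Not at hcon
  obtain ⟨a, ha⟩ : ∃ a, q a ≠ 0 := by
    by_contra h; push Not at h; exact hq (funext h)
  have h0 := hcon ![0, p 2, -p 1] (by rw [dot3]; simp; ring)
  have h1 := hcon ![-p 2, 0, p 0] (by rw [dot3]; simp; ring)
  have h2 := hcon ![p 1, -p 0, 0] (by rw [dot3]; simp; ring)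
  have hp0 : p = 0 := by
    funext l
    fin_cases l <;> fin_cases a <;>
      · have := h0 0 1; have := h0 0 2; have := h0 1 2
        have := h1 0 1; have := h1 0 2; have := h1 1 2
        have := h2 0 1; have := h2 0 2; have := h2 1 2
        simp_all
  obtain ⟨b, hb⟩ : ∃ b : Fin 3, b ≠ a := ⟨a + 1, by fin_cases a <;> decide⟩
  have := hcon (Pi.single b 1) (by simp [hp0]) a b
  simp [hb.symm, ha] at this

/-- A root moving a vector of `wSub` has its centre in `wSub`. -/
theorem mem_wSub_of_root (hd : ∀ i j, Φ i ⬝ᵥ A j = if i = j then 1 else 0)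
    (hblock : H.comap (embHom A Φ hd) = ⊤) {y η : Fin n → F} (hηy : η ⬝ᵥ y = 0)
    (hroot : HasTv H y η) {w : Fin n → F} (hw : w ∈ wSub H A Φ hd) (hηw : η ⬝ᵥ w ≠ 0) :
    y ∈ wSub H A Φ hd := by
  set p : Fin 3 → F := fun i => Φ i ⬝ᵥ y with hp
  have hcy : ∀ t : Fin 3 → F, comb Φ t ⬝ᵥ y = t ⬝ᵥ p := fun t => by
    rw [comb, sum_dotProduct, dotProduct]
    exact Finset.sum_congr rfl fun i _ => by rw [smul_dotProduct, smul_eq_mul]
  by_cases hq : (fun i => η ⬝ᵥ A i) = 0
  · -- `η` kills the block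
    have hc : η ⬝ᵥ offBlock A Φ w ≠ 0 := by
      rw [offBlock, dotProduct_sub, comb, dotProduct_sum]
      simpa [dotProduct_smul, fun i => congrFun hq i] using hηw
    obtain ⟨t, r, htp, -, -, ht⟩ := exists_perp_ne_zero p (Pi.single 0 1) (by simp)
    refine mem_wSub_of_axis hd hblock ht (by rw [hcy, htp]) fun s => ?_
    have hca : ∀ s : F, HasTv H (s • offBlock A Φ w) (comb Φ t) := by
      intro s
      have key : ∀ (S : Finset (Fin 3)) (s : F),
          HasTv H (s • offBlock A Φ w) (∑ i ∈ S, t i • Φ i) := by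
        intro S
        induction S using Finset.induction_on with
        | empty => intro s; exact ⟨1, one_mem _, by simp⟩
        | insert a S ha ih =>
          intro s
          rw [Finset.sum_insert ha]
          refine hasTv_axis_add ?_ (ih s) (by rw [smul_dotProduct, dotProduct_smul,
            dot_offBlock hd, smul_zero, smul_zero])
          rw [← hasTv_smul_swap, smul_smul]
          exact hw a _
      exact key Finset.univ s
    have hφc : comb Φ t ⬝ᵥ offBlock A Φ w = 0 := by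
      rw [comb, sum_dotProduct]
      exact Finset.sum_eq_zero fun i _ => by rw [smul_dotProduct, dot_offBlock hd, smul_zero]
    have := hasTv_comm (hca (s / (η ⬝ᵥ offBlock A Φ w))) hroot
      (by rw [dotProduct_smul, hφc, smul_zero]) (by rw [hcy, htp]) hηy
    rwa [dotProduct_smul, smul_eq_mul, div_mul_cancel₀ _ hc] at this
  · obtain ⟨t, r, htp, htr, hr, ht0⟩ := exists_perp_ne_zero p _ hq
    refine mem_wSub_of_axis hd hblock ht0 (by rw [hcy, htp]) fun s => ?_
    have ha : HasTv H (s • comb A r) (comb Φ t) := by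
      rw [← comb_smul]
      exact hasTv_of_emb_top hblock (by rw [dotProduct_smul, htr, smul_zero])
    have := hasTv_comm ha hroot (by rw [dotProduct_smul, dotProduct_comb hd, htr, smul_zero])
      (by rw [hcy, htp]) hηy
    have e : η ⬝ᵥ comb A r = 1 := by
      rw [← hr, comb, dotProduct_sum, dotProduct]
      exact Finset.sum_congr rfl fun i _ => by rw [dotProduct_smul, smul_eq_mul, mul_comm]
    rwa [dotProduct_smul, e, smul_eq_mul, mul_one] at this

theorem block_top_of_elem {k : ℕ} {A Φ : Fin k → (Fin n → F)}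
    (hd : ∀ i j, Φ i ⬝ᵥ A j = if i = j then 1 else 0)
    {H : Subgroup (Matrix.SpecialLinearGroup (Fin n) F)}
    (h : ∀ i j, i ≠ j → ∀ s : F, HasTv H (s • A i) (Φ j)) : H.comap (embHom A Φ hd) = ⊤ := by
  refine eq_top_of_transvection_mem _ fun i j hij c => (hasTv_single_iff hij).1 ?_
  refine hasTv_comap_emb hd (by simp [hij]) ?_
  have e1 : comb A (c • Pi.single i 1) = c • A i := by simp [comb, Pi.single_apply, ite_smul]
  have e2 : comb Φ (Pi.single j 1) = Φ j := by simp [comb, Pi.single_apply, ite_smul]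
  rw [e1, e2]
  exact h i j hij c

theorem span_r_mem {A : Fin 3 → (Fin n → F)} {W : Submodule F (Fin n → F)} {g : Matrix (Fin n) (Fin n) F}
    {M : Fin 3 → F} (hM : M ≠ 0)
    (h : ∀ r t : Fin 3 → F, t ⬝ᵥ r = 0 → t ⬝ᵥ M ≠ 0 → g *ᵥ comb A r ∈ W) (l : Fin 3) :
    g *ᵥ A l ∈ W := by
  obtain ⟨j, hj⟩ : ∃ j, M j ≠ 0 := by
    by_contra hh; push Not at hh; exact hM (funext hh)
  by_cases hjl : j = l
  · subst hjl
    obtain ⟨k, hk⟩ : ∃ k : Fin 3, k ≠ j := ⟨j + 1, by fin_cases j <;> decide⟩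
    have hk' : g *ᵥ comb A (Pi.single k 1) ∈ W :=
      h _ (Pi.single j 1) (by simp [hk]) (by simpa using hj)
    by_cases hMk : M k = 0
    · have := h (Pi.single j 1 + Pi.single k 1) (Pi.single j 1 - Pi.single k 1)
        (by simp [hk]) (by simp [hMk, hj])
      rw [comb_add, Matrix.mulVec_add, comb_single, comb_single] at this
      rw [comb_single] at hk'
      simpa using W.sub_mem this hk'
    · have := h (Pi.single j 1) (Pi.single k 1) (by simp [hk.symm]) (by simpa using hMk)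
      rwa [comb_single] at this
  · have := h (Pi.single l 1) (Pi.single j 1) (by simp [Ne.symm hjl]) (by simpa using hj)
    rwa [comb_single] at this

/-- The conjugates of the block under `g` stay in `wSub`. -/
theorem wSub_eq_top (hd : ∀ i j, Φ i ⬝ᵥ A j = if i = j then 1 else 0)
    (hblock : H.comap (embHom A Φ hd) = ⊤) {g : Matrix.SpecialLinearGroup (Fin n) F} (hg : g ∈ H)
    (hcon : ∃ i j, Φ j ⬝ᵥ (((g⁻¹ : Matrix.SpecialLinearGroup (Fin n) F) : Matrix (Fin n) (Fin n) F) *ᵥ A i) ≠ 0)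
    (hspan : ∀ U : Submodule F (Fin n → F),
      (∀ (k : ℕ) (i : Fin 3), ((g ^ k : Matrix.SpecialLinearGroup (Fin n) F) : Matrix (Fin n) (Fin n) F) *ᵥ A i ∈ U) →
      U = ⊤) :
    wSub H A Φ hd = ⊤ := by
  refine hspan _ fun k => ?_
  induction k with
  | zero =>
    intro i
    rw [pow_zero, Matrix.SpecialLinearGroup.coe_one, Matrix.one_mulVec, ← comb_single A i]
    exact block_subset_wSub hd _
  | succ k ih =>
    intro l
    obtain ⟨i, j, hij⟩ := hcon
    refine span_r_mem (M := fun j => Φ j ⬝ᵥ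
      (((g⁻¹ : Matrix.SpecialLinearGroup (Fin n) F) : Matrix (Fin n) (Fin n) F) *ᵥ A i))
      (fun h => hij (congrFun h j)) (fun r t htr htM => ?_) l
    have hroot := hasTv_conj (pow_mem hg (k + 1)) (hasTv_of_emb_top hblock htr)
    refine mem_wSub_of_root hd hblock ?_ hroot (ih i) ?_
    · rw [← dotProduct_mulVec, Matrix.mulVec_mulVec, ← Matrix.SpecialLinearGroup.coe_mul,
        inv_mul_cancel, Matrix.SpecialLinearGroup.coe_one, Matrix.one_mulVec, dotProduct_comb hd, htr]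
    · rw [← dotProduct_mulVec, Matrix.mulVec_mulVec, ← Matrix.SpecialLinearGroup.coe_mul,
        show (g ^ (k + 1))⁻¹ * g ^ k = g⁻¹ by rw [pow_succ, _root_.mul_inv_rev, inv_mul_cancel_right]]
      rw [comb, sum_dotProduct]
      convert htM using 1
      exact Finset.sum_congr rfl fun x _ => by rw [smul_dotProduct, smul_eq_mul]

theorem exists_perp_pair (p q : Fin 3 → F) :
    ∃ t r : Fin 3 → F, t ⬝ᵥ p = 0 ∧ q ⬝ᵥ r = 0 ∧ t ⬝ᵥ r ≠ 0 := by
  by_cases hp : p = 0
  · obtain ⟨t, -, htq, -, -, ht⟩ := exists_perp_ne_zero q (Pi.single 0 1) (by simp)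
    obtain ⟨i, hi⟩ : ∃ i, t i ≠ 0 := by
      by_contra hh; push Not at hh; exact ht (funext hh)
    exact ⟨Pi.single i 1, t, by simp [hp], by rw [dotProduct_comm]; exact htq, by simpa using hi⟩
  · obtain ⟨t, r, htq, htr, hr, ht⟩ := exists_perp_ne_zero q p hp
    obtain ⟨i, hi⟩ : ∃ i, t i ≠ 0 := by
      by_contra hh; push Not at hh; exact ht (funext hh)
    refine ⟨Pi.single i 1 - p i • r, t, ?_, by rw [dotProduct_comm]; exact htq, ?_⟩
    · rw [sub_dotProduct, smul_dotProduct, dotProduct_comm r p, hr]; simp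
    · rw [sub_dotProduct, smul_dotProduct, dotProduct_comm r t, htr]; simpa using hi

/-- A block whose conjugates span, in both the space and the dual, gives everything. -/
theorem top_of_block (hd : ∀ i j, Φ i ⬝ᵥ A j = if i = j then 1 else 0)
    (hblock : H.comap (embHom A Φ hd) = ⊤)
    {g g' : Matrix.SpecialLinearGroup (Fin n) F} (hg : g ∈ H) (hg' : g' ∈ H)
    (hcon : ∃ i j, Φ j ⬝ᵥ (((g⁻¹ : Matrix.SpecialLinearGroup (Fin n) F) : Matrix (Fin n) (Fin n) F) *ᵥ A i) ≠ 0)
    (hcon' : ∃ i j, Φ j ⬝ᵥ ((g' : Matrix (Fin n) (Fin n) F) *ᵥ A i) ≠ 0)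
    (hspan : ∀ U : Submodule F (Fin n → F),
      (∀ (k : ℕ) (i : Fin 3), ((g ^ k : Matrix.SpecialLinearGroup (Fin n) F) : Matrix (Fin n) (Fin n) F) *ᵥ A i ∈ U) →
      U = ⊤)
    (hspan' : ∀ U : Submodule F (Fin n → F),
      (∀ (k : ℕ) (i : Fin 3), Φ i ᵥ* (((g' ^ k)⁻¹ : Matrix.SpecialLinearGroup (Fin n) F) : Matrix (Fin n) (Fin n) F) ∈ U) →
      U = ⊤) :
    H = ⊤ := by
  have helem : ∀ i j, i ≠ j → FullRoot H (A i) (Φ j) := fun i j hij => by
    refine ⟨by rw [hd, if_neg hij.symm], fun s => ?_⟩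
    have := hasTv_of_emb_top hblock (r := s • Pi.single i 1) (t := Pi.single j 1) (by simp [hij])
    rwa [comb_smul, comb_single, comb_single] at this
  have hd' : ∀ i j, A i ⬝ᵥ Φ j = if i = j then 1 else 0 := fun i j => by
    rw [dotProduct_comm, hd]; exact if_congr eq_comm rfl rfl
  have hblock' : (H.map dualHom).comap (embHom Φ A hd') = ⊤ :=
    block_top_of_elem hd' fun i j hij s => (fullRoot_dual (helem j i hij.symm)).2 s
  have W := wSub_eq_top hd hblock hg hcon hspan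
  have W' := wSub_eq_top hd' hblock' (g := dualHom g') ⟨g', hg', rfl⟩ (by
    obtain ⟨i, j, hij⟩ := hcon'
    refine ⟨j, i, ?_⟩
    rwa [← map_inv, coe_dualHom, inv_inv, Matrix.mulVec_transpose, dotProduct_comm,
      ← dotProduct_mulVec]) (fun U hU => hspan' U fun k i => by
    have := hU k i
    rwa [← map_pow, coe_dualHom, Matrix.mulVec_transpose] at this)
  refine eq_top_of_transvection_mem _ fun i j hij c => (hasTv_single_iff hij).1 ?_
  set y : Fin n → F := c • Pi.single i 1 with hy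
  set η : Fin n → F := Pi.single j 1 with hη
  have hηy : η ⬝ᵥ y = 0 := by simp [hy, hη, hij]
  set p : Fin 3 → F := fun i => Φ i ⬝ᵥ y with hp
  set q : Fin 3 → F := fun i => A i ⬝ᵥ η with hq
  obtain ⟨t, r, htp, hqr, htr⟩ := exists_perp_pair p q
  have hty : comb Φ t ⬝ᵥ y = 0 := by
    rw [← htp, comb, sum_dotProduct, dotProduct]
    exact Finset.sum_congr rfl fun i _ => by rw [smul_dotProduct, smul_eq_mul]
  have hηr : η ⬝ᵥ comb A r = 0 := by
    rw [← hqr, comb, dotProduct_sum, dotProduct]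
    exact Finset.sum_congr rfl fun i _ => by
      rw [dotProduct_smul, smul_eq_mul, mul_comm, hq, dotProduct_comm η]
  -- combine the three axes
  have comb3 : ∀ {K : Subgroup (Matrix.SpecialLinearGroup (Fin n) F)} {B : Fin 3 → (Fin n → F)}
      (z : Fin n → F), (∀ i, B i ⬝ᵥ z = 0) → (∀ (i : Fin 3) (s : F), HasTv K (s • z) (B i)) →
      ∀ (w : Fin 3 → F) (s : F), HasTv K (s • z) (comb B w) := by
    intro K B z h0 hz w s
    have e : comb B w = w 0 • B 0 + w 1 • B 1 + w 2 • B 2 := by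
      rw [comb, Fin.sum_univ_three]
    have one : ∀ i, HasTv K (s • z) (w i • B i) := fun i => by
      rw [← hasTv_smul_swap, smul_smul]; exact hz i _
    rw [e]
    exact hasTv_axis_add (hasTv_axis_add (one 0) (one 1) (by simp [h0])) (one 2)
      (by simp [add_dotProduct, h0])
  have R1 : HasTv H y (comb Φ t) := by
    have h1 := comb3 (offBlock A Φ y) (dot_offBlock hd y)
      (fun i s => (W.symm ▸ Submodule.mem_top : y ∈ wSub H A Φ hd) i s) t 1
    rw [one_smul] at h1
    have h2 : HasTv H (comb A p) (comb Φ t) := hasTv_of_emb_top hblock htp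
    have := hasTv_add h1 h2 (by rw [dotProduct_comb hd, htp])
    rwa [offBlock, sub_add_cancel] at this
  -- scale
  have hscale : ∀ z : F, HasTv H (z • comb A r) η := fun z => by
    rw [← comb_smul]
    have h1 := comb3 (K := H.map dualHom) (B := A) (offBlock Φ A η) (dot_offBlock hd' η)
      (fun i s => (W'.symm ▸ Submodule.mem_top : η ∈ wSub (H.map dualHom) Φ A hd') i s) (z • r) (-1)
    have hqz : q ⬝ᵥ (z • r) = 0 := by rw [dotProduct_smul, hqr, smul_zero]
    have h2 : HasTv (H.map dualHom) (-(comb Φ q)) (comb A (z • r)) := by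
      have := hasTv_of_emb_top hblock' (r := -q) (t := z • r) (by rw [dotProduct_neg, dotProduct_comm, hqz, neg_zero])
      rwa [← neg_one_smul F q, comb_smul, neg_one_smul] at this
    rw [neg_one_smul] at h1
    have h3 := hasTv_add h1 h2 (by rw [dotProduct_neg, dotProduct_comb hd', dotProduct_comm, hqz, neg_zero])
    rw [← neg_add, offBlock, sub_add_cancel] at h3
    have h4 := hasTv_dual (by rw [dotProduct_neg, dotProduct_comm, comb_smul, dotProduct_smul, hηr, smul_zero, neg_zero]) h3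
    rw [map_dual_dual] at h4
    rw [← neg_one_smul F (comb A (z • r)), hasTv_smul_swap, neg_one_smul, neg_neg] at h4
    exact h4
  have hfin := hasTv_comm (hscale (t ⬝ᵥ r)⁻¹) R1 (by rw [dotProduct_smul, hηr, smul_zero]) hηy hty
  rwa [dotProduct_smul, dotProduct_comb hd, smul_eq_mul, inv_mul_cancel₀ htr, one_smul] at hfin

theorem comb_three (A : Fin 3 → (Fin n → F)) (a b c : F) :
    comb A ![a, b, c] = a • A 0 + b • A 1 + c • A 2 := by
  rw [comb, Fin.sum_univ_three]
  rfl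

/-- Three full root groups in general position, and two elements moving them. -/
theorem top_of_triple {a ψ : Fin 3 → (Fin n → F)} (hfull : ∀ i, FullRoot H (a i) (ψ i))
    (h01 : ψ 0 ⬝ᵥ a 1 ≠ 0) (h10 : ψ 1 ⬝ᵥ a 0 ≠ 0)
    (hdet : (ψ 0 ⬝ᵥ a 1) * (ψ 1 ⬝ᵥ a 2) * (ψ 2 ⬝ᵥ a 0) +
      (ψ 0 ⬝ᵥ a 2) * (ψ 1 ⬝ᵥ a 0) * (ψ 2 ⬝ᵥ a 1) ≠ 0)
    {g g' : Matrix.SpecialLinearGroup (Fin n) F} (hg : g ∈ H) (hg' : g' ∈ H)
    (hcon : ∃ i j, ψ j ⬝ᵥ (((g⁻¹ : Matrix.SpecialLinearGroup (Fin n) F) : Matrix (Fin n) (Fin n) F) *ᵥ a i) ≠ 0)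
    (hcon' : ∃ i j, ψ j ⬝ᵥ ((g' : Matrix (Fin n) (Fin n) F) *ᵥ a i) ≠ 0)
    (hspan : ∀ U : Submodule F (Fin n → F),
      (∀ (k : ℕ) (i : Fin 3), ((g ^ k : Matrix.SpecialLinearGroup (Fin n) F) : Matrix (Fin n) (Fin n) F) *ᵥ a i ∈ U) →
      U = ⊤)
    (hspan' : ∀ U : Submodule F (Fin n → F),
      (∀ (k : ℕ) (i : Fin 3), ψ i ᵥ* (((g' ^ k)⁻¹ : Matrix.SpecialLinearGroup (Fin n) F) : Matrix (Fin n) (Fin n) F) ∈ U) →
      U = ⊤) :
    H = ⊤ := by
  set g01 := ψ 0 ⬝ᵥ a 1 with hg01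
  set g10 := ψ 1 ⬝ᵥ a 0 with hg10
  set g02 := ψ 0 ⬝ᵥ a 2 with hg02
  set g12 := ψ 1 ⬝ᵥ a 2 with hg12
  set g20 := ψ 2 ⬝ᵥ a 0 with hg20
  set g21 := ψ 2 ⬝ᵥ a 1 with hg21
  set p0 := g12 / g10 with hp0
  set p1 := g02 / g01 with hp1
  set c := a 2 - p0 • a 0 - p1 • a 1 with hc
  set e := ψ 2 - (g20 / g10) • ψ 1 - (g21 / g01) • ψ 0 with he
  have h00 := (hfull 0).1
  have h11 := (hfull 1).1
  have h22 := (hfull 2).1
  have c0 : ψ 0 ⬝ᵥ c = 0 := by
    simp [hc, dotProduct_sub, dotProduct_smul, h00, ← hg01, ← hg02, hp1, div_mul_cancel₀ _ h01]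
  have c1 : ψ 1 ⬝ᵥ c = 0 := by
    simp [hc, dotProduct_sub, dotProduct_smul, h11, ← hg10, ← hg12, hp0, div_mul_cancel₀ _ h10]
  have e0 : e ⬝ᵥ a 0 = 0 := by
    simp [he, sub_dotProduct, smul_dotProduct, h00, ← hg10, ← hg20, div_mul_cancel₀ _ h10]
  have e1 : e ⬝ᵥ a 1 = 0 := by
    simp [he, sub_dotProduct, smul_dotProduct, h11, ← hg01, ← hg21, div_mul_cancel₀ _ h01]
  have hδ : e ⬝ᵥ c ≠ 0 := by
    have : e ⬝ᵥ c = -((g01 * g12 * g20 + g02 * g10 * g21) / (g01 * g10)) := by
      rw [hc, dotProduct_sub, dotProduct_sub, dotProduct_smul, dotProduct_smul, e0, e1]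
      simp only [he, sub_dotProduct, smul_dotProduct, h22, ← hg02, ← hg12, smul_eq_mul]
      field_simp
      ring
    rw [this]
    exact neg_ne_zero.2 (div_ne_zero hdet (mul_ne_zero h01 h10))
  set A : Fin 3 → (Fin n → F) := ![a 0, a 1, c] with hA
  set P : Fin 3 → (Fin n → F) := ![g10⁻¹ • ψ 1, g01⁻¹ • ψ 0, (e ⬝ᵥ c)⁻¹ • e] with hP
  have hd : ∀ i j, P i ⬝ᵥ A j = if i = j then 1 else 0 := by
    intro i j
    fin_cases i <;> fin_cases j <;>
      simp [hA, hP, smul_dotProduct, h00, h11, c0, c1, e0, e1, ← hg01, ← hg10, inv_mul_cancel₀ h01,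
        inv_mul_cancel₀ h10, inv_mul_cancel₀ hδ]
  have ha0 : a 0 = comb A (Pi.single 0 1) := by rw [comb_single]; rfl
  have ha1 : a 1 = comb A (Pi.single 1 1) := by rw [comb_single]; rfl
  have ha2 : a 2 = comb A ![p0, p1, 1] := by
    rw [comb_three]; simp [hA, hc]
  have hψ0 : ψ 0 = comb P (Pi.single 1 g01) := by
    have : (Pi.single 1 g01 : Fin 3 → F) = g01 • Pi.single 1 1 := by
      rw [← Pi.single_smul, smul_eq_mul, mul_one]
    rw [this, comb_smul, comb_single]
    simp [hP, smul_smul, mul_inv_cancel₀ h01]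
  have hψ1 : ψ 1 = comb P (Pi.single 0 g10) := by
    have : (Pi.single 0 g10 : Fin 3 → F) = g10 • Pi.single 0 1 := by
      rw [← Pi.single_smul, smul_eq_mul, mul_one]
    rw [this, comb_smul, comb_single]
    simp [hP, smul_smul, mul_inv_cancel₀ h10]
  have hψ2 : ψ 2 = comb P ![g20, g21, e ⬝ᵥ c] := by
    rw [comb_three]
    simp [hP, smul_smul, mul_inv_cancel₀ hδ]
    rw [he]
    simp [div_eq_mul_inv]
  have hblock : H.comap (embHom A P hd) = ⊤ := by
    refine sl3_top_of_block_tv _ (fun s => ?_) (fun s => ?_) (b := ![p0, p1, 1])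
      (f := ![g20, g21, e ⬝ᵥ c]) ?_ ?_ (by simp) (by simpa using hδ)
    · refine (hasTv_single_iff _).1 (hasTv_comap_emb hd (by simp) ?_)
      rw [comb_smul, ← ha0, show (Pi.single 1 1 : Fin 3 → F) = g01⁻¹ • Pi.single 1 g01 by
        rw [← Pi.single_smul, smul_eq_mul, inv_mul_cancel₀ h01], comb_smul, ← hψ0, ← hasTv_smul_swap,
        smul_smul]
      exact (hfull 0).2 _
    · refine (hasTv_single_iff _).1 (hasTv_comap_emb hd (by simp) ?_)
      rw [comb_smul, ← ha1, show (Pi.single 0 1 : Fin 3 → F) = g10⁻¹ • Pi.single 0 g10 by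
        rw [← Pi.single_smul, smul_eq_mul, inv_mul_cancel₀ h10], comb_smul, ← hψ1, ← hasTv_smul_swap,
        smul_smul]
      exact (hfull 1).2 _
    · refine hasTv_comap_emb hd ?_ ?_
      · rw [← dotProduct_comb hd, ← ha2, ← hψ2]; exact h22
      · rw [← ha2, ← hψ2, ← one_smul F (a 2)]; exact (hfull 2).2 1
    · rw [← dotProduct_comb hd, ← ha2, ← hψ2]; exact h22
  have haS : ∀ i, ∃ r, a i = comb A r := fun i => by
    fin_cases i
    exacts [⟨_, ha0⟩, ⟨_, ha1⟩, ⟨_, ha2⟩]
  have hψS : ∀ i, ∃ r, ψ i = comb P r := fun i => by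
    fin_cases i
    exacts [⟨_, hψ0⟩, ⟨_, hψ1⟩, ⟨_, hψ2⟩]
  have bil : ∀ G : Matrix (Fin n) (Fin n) F, (∀ i j, P j ⬝ᵥ (G *ᵥ A i) = 0) →
      ∀ i j, ψ j ⬝ᵥ (G *ᵥ a i) = 0 := by
    intro G h0 i j
    obtain ⟨r, hr⟩ := haS i
    obtain ⟨t, ht⟩ := hψS j
    rw [hr, ht, comb, comb, Matrix.mulVec_sum, dotProduct_sum]
    refine Finset.sum_eq_zero fun x _ => ?_
    rw [sum_dotProduct]
    exact Finset.sum_eq_zero fun y _ => by
      rw [Matrix.mulVec_smul, smul_dotProduct, dotProduct_smul, h0, smul_zero, smul_zero]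
  refine top_of_block hd hblock hg hg' ?_ ?_ (fun U hU => hspan U fun k i => ?_)
    (fun U hU => hspan' U fun k i => ?_)
  · by_contra hn; push Not at hn
    obtain ⟨i, j, hij⟩ := hcon
    exact hij (bil _ hn i j)
  · by_contra hn; push Not at hn
    obtain ⟨i, j, hij⟩ := hcon'
    exact hij (bil _ hn i j)
  · obtain ⟨r, hr⟩ := haS i
    rw [hr, comb, Matrix.mulVec_sum]
    exact sum_mem fun x _ => by rw [Matrix.mulVec_smul]; exact U.smul_mem _ (hU k x)
  · obtain ⟨r, hr⟩ := hψS i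
    rw [hr, comb, Matrix.sum_vecMul]
    exact sum_mem fun x _ => by rw [Matrix.smul_vecMul]; exact U.smul_mem _ (hU k x)

/-- Dickson: two transvections in general position give the full root group. -/
theorem fullRoot_of_pair [Fintype F] (h2 : (2 : F) ≠ 0) {x y ξ η : Fin n → F} (hx : ξ ⬝ᵥ x = 0)
    (hy : η ⬝ᵥ y = 0) {μ : F} (hμ : (ξ ⬝ᵥ y) * (η ⬝ᵥ x) = μ) (hμ0 : μ ≠ 0)
    (hgen : Subfield.closure ({μ} : Set F) = ⊤) (h9 : ¬ (Fintype.card F = 9 ∧ μ ^ 2 = -1))
    {H : Subgroup (Matrix.SpecialLinearGroup (Fin n) F)} (hX : HasTv H x ξ) (hY : HasTv H y η) :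
    FullRoot H x ξ := by
  obtain ⟨ha, hb⟩ := mul_ne_zero_iff.1 (hμ ▸ hμ0)
  set A : Fin 2 → (Fin n → F) := ![x, (η ⬝ᵥ x) • y] with hA
  set P : Fin 2 → (Fin n → F) := ![(η ⬝ᵥ x)⁻¹ • η, μ⁻¹ • ξ] with hP
  have hd : ∀ i j, P i ⬝ᵥ A j = if i = j then 1 else 0 := by
    intro i j
    fin_cases i <;> fin_cases j <;>
      simp [hA, hP, smul_dotProduct, dotProduct_smul, hx, hy, hb]
    linear_combination μ⁻¹ * hμ + inv_mul_cancel₀ hμ0
  have htop : H.comap (embHom A P hd) = ⊤ := by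
    rw [eq_top_iff, ← two_unipotents_eq_top h2 hμ0 hgen h9, twoUnip, Subgroup.closure_le]
    rintro g (rfl | rfl)
    · obtain ⟨z, hz, hzm⟩ := hY
      show embHom A P hd (lower2 1) ∈ H
      convert hz using 1
      apply Subtype.ext
      rw [coe_embHom, hzm]
      have e : ((lower2 (1 : F) : SL(2, F)) : Matrix (Fin 2) (Fin 2) F) =
          1 + vecMulVec (Pi.single 1 1) (Pi.single 0 1) := by
        ext i j
        fin_cases i <;> fin_cases j <;> simp [vecMulVec_apply]
      rw [e, embMat_one_add]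
      simp [comb, hA, hP, smul_vecMulVec, vecMulVec_smul, smul_smul, hb]
    · obtain ⟨z, hz, hzm⟩ := hX
      show embHom A P hd (upper2 μ) ∈ H
      convert hz using 1
      apply Subtype.ext
      rw [coe_embHom, hzm]
      have e : ((upper2 μ : SL(2, F)) : Matrix (Fin 2) (Fin 2) F) =
          1 + vecMulVec (Pi.single 0 1) (Pi.single 1 μ) := by
        ext i j
        fin_cases i <;> fin_cases j <;> simp [vecMulVec_apply]
      rw [e, embMat_one_add]
      simp [comb, hA, hP, smul_smul, hμ0]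
  refine ⟨hx, fun s => ?_⟩
  have := hasTv_of_emb_top htop (r := Pi.single 0 s) (t := Pi.single 1 μ) (by simp)
  simpa [comb, hA, hP, smul_smul, hμ0] using this

end criterion

end H37
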