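import Cfsg.Agent.H37.TRPair

/-!
Characteristic two, blocks of odd size at least five.
-/

set_option autoImplicit false

namespace H37

open Matrix

universe u

variable {F : Type u} [Field F] (r : ℕ)

local notation "m₀" => 2 * r + 2
local notation "N" => 2 * r + 2 + 3
local notation "SLN" => Matrix.SpecialLinearGroup (Fin (2 * r + 2 + 3)) F
local notation "Uu" => ((jordanUp (2 * r + 2) : Matrix.SpecialLinearGroup (Fin (2 * r + 2 + 3)) F) :
  Matrix (Fin (2 * r + 2 + 3)) (Fin (2 * r + 2 + 3)) F)
local notation "eB" => (ev (2 * r + 2 + 3) (2 * r + 4) : Fin (2 * r + 2 + 3) → F)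
local notation "e1" => (ev (2 * r + 2 + 3) 1 : Fin (2 * r + 2 + 3) → F)

/-- Indicator vectors. -/
def indVec (p : ℕ → Prop) [DecidablePred p] : Fin N → F := fun i => if p i.val then 1 else 0

theorem pad_indVec (p : ℕ → Prop) [DecidablePred p] {i : ℕ} (hi : i < N) :
    pad (indVec (F := F) r p) i = if p i then 1 else 0 := by rw [pad_lt _ hi]; rfl

/-- The parameters. -/
def phiOdd (c : F) : Fin N → F := c • ev N 0

/-- The centre of the first root. -/
def xOdd : Fin N → F := indVec r (fun i => i % 2 = 0 ∧ i ≤ 2 * r + 2)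

/-- Its translate under `J`. -/
def xUOdd : Fin N → F := indVec r (fun i => i ≤ 2 * r + 2)

theorem indVec_dot (ψ : Fin N → F) (p : ℕ → Prop) [DecidablePred p] :
    ψ ⬝ᵥ indVec r p = ∑ i ∈ Finset.range N, if p i then pad ψ i else 0 := by
  rw [← Fin.sum_univ_eq_sum_range (fun i => if p i then pad ψ i else 0) N, dotProduct]
  refine Finset.sum_congr rfl fun i _ => ?_
  rw [indVec, pad_val]
  split_ifs <;> simp

theorem sum_even_range (f : ℕ → F) : ∀ k, ∀ n, 2 * k ≤ n →
    (∑ i ∈ Finset.range n, if i % 2 = 0 ∧ i < 2 * k then f i else 0) =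
      ∑ l ∈ Finset.range k, f (2 * l) := by
  intro k n hn
  induction k with
  | zero => simp
  | succ k ih =>
    rw [Finset.sum_range_succ, ← ih (by omega)]
    have : ∀ i ∈ Finset.range n, (if i % 2 = 0 ∧ i < 2 * (k + 1) then f i else 0) =
        (if i % 2 = 0 ∧ i < 2 * k then f i else 0) + if i = 2 * k then f i else 0 := by
      intro i _
      split_ifs <;> first | omega | simp
    rw [Finset.sum_congr rfl this, Finset.sum_add_distrib, Finset.sum_ite_eq',
      if_pos (Finset.mem_range.2 (by omega))]

theorem dot_xOdd (ψ : Fin N → F) :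
    ψ ⬝ᵥ xOdd r = ∑ l ∈ Finset.range (r + 2), pad ψ (2 * l) := by
  rw [xOdd, indVec_dot, ← sum_even_range (fun i => pad ψ i) (r + 2) N (by omega)]
  refine Finset.sum_congr rfl fun i _ => ?_
  refine if_congr ?_ rfl rfl
  omega

theorem dot_xUOdd (ψ : Fin N → F) :
    ψ ⬝ᵥ xUOdd r = ∑ i ∈ Finset.range (2 * r + 3), pad ψ i := by
  rw [xUOdd, indVec_dot, ← Finset.sum_filter]
  refine Finset.sum_congr ?_ fun _ _ => rfl
  ext i
  simp only [Finset.mem_filter, Finset.mem_range]
  omega

theorem phiOdd_dot (c : F) (a : Fin N → F) : phiOdd r c ⬝ᵥ a = c * pad a 0 := by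
  rw [phiOdd, smul_dotProduct, ev_dot, smul_eq_mul]

theorem phiOdd_apply (c : F) (i : Fin N) : phiOdd r c i = if i.val = 0 then c else 0 := by
  simp [phiOdd, ev_apply]

variable [CharP F 2]

theorem cast_even {n : ℕ} (h : n % 2 = 0) : ((n : ℕ) : F) = 0 :=
  (CharP.cast_eq_zero_iff F 2 n).2 (Nat.dvd_of_mod_eq_zero h)

theorem cast_odd {n : ℕ} (h : n % 2 = 1) : ((n : ℕ) : F) = 1 := by
  rw [show n = (n - 1) + 1 by omega, Nat.cast_add, cast_even (by omega), zero_add, Nat.cast_one]

/-- The axes `Φ₁`, `Φ₀`. -/
def axU : Fin N → F := indVec r (fun i => 1 ≤ i)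

/-- The axis after `V`. -/
def axV : Fin N → F := indVec r (fun i => 1 ≤ i ∧ i ≤ 2 * r + 3)

theorem u_xOdd : Uu *ᵥ (xOdd r : Fin N → F) = xUOdd r := by
  funext i
  have := i.isLt
  rw [u_apply, xOdd, xUOdd]
  by_cases h : i.val + 1 < N
  · rw [pad_indVec r _ h]; simp only [indVec]; split_ifs <;> first | omega | simp
  · rw [pad_ge _ (by omega)]; simp only [indVec]; split_ifs <;> first | omega | simp

theorem v_xOdd (c : F) : vM m₀ (phiOdd r c) *ᵥ (xOdd r : Fin N → F) = xUOdd r + c • eB := by
  funext i
  have := i.isLt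
  rw [vM_apply, phiOdd_dot, Pi.add_apply, Pi.smul_apply, ev_apply, xOdd, xUOdd,
    pad_indVec r _ (show 0 < N by omega), if_pos (show 0 % 2 = 0 ∧ 0 ≤ 2 * r + 2 by omega)]
  by_cases h : i.val + 1 < N
  · rw [if_pos h, pad_indVec r _ h]
    simp only [indVec]
    split_ifs <;> first | omega | simp
  · rw [if_neg h]
    simp only [indVec]
    split_ifs <;> first | omega | simp

theorem axU_u : (axU r : Fin N → F) ᵥ* Uu = e1 := by
  funext i
  have := i.isLt
  rw [u_vecMul, axU, pad_indVec r _ (show i.val - 1 < N by omega), ev_apply]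
  simp only [indVec]
  split_ifs <;> first | omega | simp [CharTwo.add_self_eq_zero]

theorem axV_v (c : F) : (axV r : Fin N → F) ᵥ* vM m₀ (phiOdd r c) = e1 := by
  funext i
  have := i.isLt
  rw [v_vecMul, axV, pad_indVec r _ (show i.val - 1 < N by omega),
    pad_indVec r _ (show 2 * r + 2 + 2 < N by omega), if_neg (show ¬ (1 ≤ 2 * r + 2 + 2 ∧ 2 * r + 2 + 2 ≤ 2 * r + 3) by omega),
    ev_apply]
  simp only [indVec]
  split_ifs <;> first | omega | simp [CharTwo.add_self_eq_zero]

theorem u_B : Uu *ᵥ eB = eB + ev N (2 * r + 3) := by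
  funext i
  have := i.isLt
  rw [u_apply, Pi.add_apply]
  congr 1
  by_cases h : i.val + 1 < N
  · rw [pad_ev h, ev_apply]; split_ifs <;> first | omega | rfl
  · rw [pad_ge _ (by omega), ev_apply, if_neg (by omega)]

theorem eB_u : eB ᵥ* Uu = eB := by
  funext i
  have := i.isLt
  rw [u_vecMul, pad_ev (show i.val - 1 < N by omega), ev_apply]
  split_ifs <;> first | omega | simp

variable [Fintype F]

/-- The scalars are everything, and three roots in general position are full. -/
theorem block_odd {c : F} (hc : c ≠ 0) (hgen : Subfield.closure ({c} : Set F) = ⊤)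
    {K : Subgroup SLN} (S : PairSys m₀ (phiOdd r c) K) (hT : HasTv K (c • xOdd r) e1) :
    FullRoot K eB e1 ∧ FullRoot K (xUOdd r) eB ∧ FullRoot K (eB + ev N (2 * r + 3)) (axU r) := by
  have two : ∀ x : F, x + x = 0 := CharTwo.add_self_eq_zero
  have h0N : (0 : ℕ) < N := by omega
  have hx1 : e1 ⬝ᵥ xOdd r = 0 := by
    rw [ev_dot, xOdd, pad_indVec r _ (show 1 < N by omega)]; simp
  have hxB : pad (xOdd r : Fin N → F) (2 * r + 4) = 0 := by
    rw [xOdd, pad_indVec r _ (show 2 * r + 4 < N by omega), if_neg (by omega)]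
  have hx0 : pad (xOdd r : Fin N → F) 0 = 1 := by
    rw [xOdd, pad_indVec r _ h0N, if_pos (by omega)]
  have hX0 : pad (xUOdd r : Fin N → F) 0 = 1 := by
    rw [xUOdd, pad_indVec r _ h0N, if_pos (by omega)]
  have hX1 : pad (xUOdd r : Fin N → F) 1 = 1 := by
    rw [xUOdd, pad_indVec r _ (show 1 < N by omega), if_pos (by omega)]
  have hXB : pad (xUOdd r : Fin N → F) (2 * r + 4) = 0 := by
    rw [xUOdd, pad_indVec r _ (show 2 * r + 4 < N by omega), if_neg (by omega)]
  have h1B : pad e1 (2 * r + 4) = 0 := by rw [pad_ev (by omega), if_neg (by omega)]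
  have hBB : pad eB (2 * r + 4) = 1 := by rw [pad_ev (by omega), if_pos rfl]
  have hB1 : pad eB 1 = 0 := by rw [pad_ev (by omega), if_neg (by omega)]
  have hB0 : pad eB 0 = 0 := by rw [pad_ev (by omega), if_neg (by omega)]
  have hVB : pad (axV r : Fin N → F) (2 * r + 4) = 0 := by
    rw [axV, pad_indVec r _ (show 2 * r + 4 < N by omega), if_neg (by omega)]
  have hUB : pad (axU r : Fin N → F) (2 * r + 4) = 1 := by
    rw [axU, pad_indVec r _ (show 2 * r + 4 < N by omega), if_pos (by omega)]
  have hVX : (axV r : Fin N → F) ⬝ᵥ xUOdd r = 0 := by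
    rw [dot_xUOdd, Finset.sum_range_succ', axV, pad_indVec r _ h0N, if_neg (by omega), add_zero,
      Finset.sum_congr rfl (fun i hi => by
        rw [pad_indVec r _ (show i + 1 < N by have := Finset.mem_range.1 hi; omega),
          if_pos (by have := Finset.mem_range.1 hi; omega)]),
      Finset.sum_const, Finset.card_range, nsmul_one, cast_even (by omega)]
  have hUX : (axU r : Fin N → F) ⬝ᵥ xUOdd r = 0 := by
    rw [dot_xUOdd, Finset.sum_range_succ', axU, pad_indVec r _ h0N, if_neg (by omega), add_zero,
      Finset.sum_congr rfl (fun i hi => by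
        rw [pad_indVec r _ (show i + 1 < N by have := Finset.mem_range.1 hi; omega),
          if_pos (by omega)]),
      Finset.sum_const, Finset.card_range, nsmul_one, cast_even (by omega)]
  -- the basic roots
  let C := scal m₀ K (xOdd r) e1 hx1
  have hcC : c ∈ C := hT
  have hu : ∀ s ∈ C, HasTv K (s • xUOdd r) (axU r) := fun s hs =>
    S.cU (by rw [dotProduct_smul, hx1, smul_zero]) hs (by rw [Matrix.mulVec_smul, u_xOdd]) (axU_u r)
  have hv : ∀ s ∈ C, HasTv K (s • (xUOdd r + c • eB)) (axV r) := fun s hs =>
    S.cV (by rw [dotProduct_smul, hx1, smul_zero]) hs (by rw [Matrix.mulVec_smul, v_xOdd]) (axV_v r c)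
  have h5 : ∀ s ∈ C, ∀ t ∈ C, HasTv K ((c * s * t) • xUOdd r) (axV r) := by
    intro s hs t ht
    have h := hasTv_comm (hv s hs) (hu t ht)
      (by simp [dotProduct_add, hVX, dot_ev, hVB])
      (by simp [hVX]) (by simp [hUX])
    convert h using 1
    rw [dotProduct_smul, dotProduct_add, hUX, dotProduct_smul, dot_ev, hUB, smul_smul]
    congr 1
    simp only [smul_eq_mul]
    ring
  have h6 : ∀ s ∈ C, ∀ t ∈ C, HasTv K ((c * s * t) • xOdd r) (e1 + eB) := by
    intro s hs t ht
    refine S.cU' (by simp [hVX]) (h5 s hs t ht) (by rw [Matrix.mulVec_smul, u_xOdd]) ?_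
    funext i
    have := i.isLt
    rw [u_vecMul, axV, pad_indVec r _ (show i.val - 1 < N by omega), Pi.add_apply, ev_apply, ev_apply]
    simp only [indVec]
    split_ifs <;> first | omega | simp [two]
  have h7 : ∀ s ∈ C, ∀ t ∈ C, HasTv K ((c * s * t) • (xOdd r + c • eB)) e1 := by
    intro s hs t ht
    refine S.cV' (by simp [hVX]) (h5 s hs t ht) ?_ (axV_v r c)
    rw [Matrix.mulVec_smul, Matrix.mulVec_add, v_xOdd, Matrix.mulVec_smul]
    congr 1
    have e : vM m₀ (phiOdd r c) *ᵥ eB = eB := by
      funext i
      have := i.isLt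
      rw [vM_apply, phiOdd_dot, hB0, mul_zero]
      by_cases h : i.val + 1 < N
      · rw [if_pos h, pad_ev h]; split_ifs <;> first | omega | simp
      · rw [if_neg h, add_zero]
    rw [e, add_assoc (xUOdd r)]
    funext i; simp [two]
  have hcl : ∀ s ∈ C, (c * c * c) * (c * c * c) * s ∈ C := by
    intro s hs
    have h := hasTv_comm (h7 s hs c hcC) (h6 c hcC c hcC)
      (by simp [dotProduct_add, hx1, ev_dot, hB1]) (by simp [hx1])
      (by simp [add_dotProduct, hx1, ev_dot, hxB])
    show HasTv K _ _
    convert h using 1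
    simp [dotProduct_add, add_dotProduct, hx1, ev_dot, hB1, hBB, hxB, smul_smul]
    congr 1
    ring
  have hC : ∀ s, s ∈ C := by
    rcases Nat.even_or_odd r with hr | hr
    · -- `t = r + 2` even
      have hr2 : (r + 2) % 2 = 0 := by rw [Nat.even_iff] at hr; omega
      set Ψ : Fin N → F := fun i => if i.val = 2 * r + 4 then 1 else (if i.val % 2 = 1 then 1 else 0) + c
        with hΨ
      have padΨ : ∀ i, i < N → pad Ψ i =
          if i = 2 * r + 4 then 1 else (if i % 2 = 1 then 1 else 0) + c := fun i hi => by
        rw [pad_lt _ hi]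
      set W : Fin N → F := ev N (2 * r + 2) + c • eB with hW
      have eW : vM m₀ (phiOdd r c) *ᵥ xUOdd r = W := by
        funext i
        have := i.isLt
        rw [vM_apply, phiOdd_dot, hX0, hW, Pi.add_apply, Pi.smul_apply, ev_apply, ev_apply, xUOdd]
        by_cases h : i.val + 1 < N
        · rw [if_pos h, pad_indVec r _ h]
          simp only [indVec]
          split_ifs <;> first | omega | simp [two]
        · rw [if_neg h]
          simp only [indVec]
          split_ifs <;> first | omega | simp
      have eΨ : Ψ ᵥ* vM m₀ (phiOdd r c) = axU r := by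
        funext i
        have := i.isLt
        rw [v_vecMul, padΨ _ (show i.val - 1 < N by omega), padΨ _ (show 2 * r + 2 + 2 < N by omega),
          if_pos rfl, one_mul, phiOdd_apply, hΨ, axU]
        simp only [indVec]
        split_ifs <;> first | omega | (simp [two]; done) | linear_combination two c
      have hΨx : Ψ ⬝ᵥ xOdd r = 0 := by
        rw [dot_xOdd, Finset.sum_congr rfl (fun l hl => by
          have := Finset.mem_range.1 hl
          rw [padΨ _ (by omega), if_neg (by omega), if_neg (by omega), zero_add]),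
          Finset.sum_const, Finset.card_range, nsmul_eq_mul, cast_even hr2, zero_mul]
      have hΨB : pad Ψ (2 * r + 4) = 1 := by rw [padΨ _ (by omega), if_pos rfl]
      have hW1 : pad W 1 = 0 := by
        rw [hW, pad_add, pad_smul, hB1, pad_ev (show 1 < N by omega), if_neg (by omega), mul_zero, add_zero]
      have hWB : pad W (2 * r + 4) = c := by
        rw [hW, pad_add, pad_smul, hBB, pad_ev (show 2 * r + 4 < N by omega), if_neg (by omega), mul_one, zero_add]
      have hΨW : Ψ ⬝ᵥ W = 0 := by
        rw [hW, dotProduct_add, dotProduct_smul, dot_ev, dot_ev, hΨB, padΨ _ (by omega),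
          if_neg (by omega), if_neg (by omega), zero_add, smul_eq_mul, mul_one, two]
      have h8 : ∀ s ∈ C, HasTv K (s • W) Ψ := fun s hs =>
        S.cV (by rw [dotProduct_smul, hUX, smul_zero]) (hu s hs) (by rw [Matrix.mulVec_smul, eW]) eΨ
      have h9 : ∀ s ∈ C, HasTv K ((c * s * (c * c * c)) • xOdd r) Ψ := by
        intro s hs
        have h := hasTv_comm (h8 s hs) (h6 c hcC c hcC) (by simp [hΨW]) (by simp [hΨx])
          (by simp [add_dotProduct, hx1, ev_dot, hxB])
        convert h using 1
        simp [add_dotProduct, ev_dot, hW1, hWB, smul_smul]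
        congr 1
        ring
      have h8' : ∀ s ∈ C, (c * c * c * c) * (c * c * c * c) * s ∈ C := by
        intro s hs
        have h := hasTv_comm (h7 c hcC c hcC) (h9 s hs)
          (by simp [dotProduct_add, hx1, ev_dot, hB1]) (by simp [hx1]) (by simp [hΨx])
        show HasTv K _ _
        convert h using 1
        simp [dotProduct_add, hΨx, dot_ev, hΨB, smul_smul]
        congr 1
        ring
      refine addSubgroup_eq_univ hgen C hc hcC fun L hL => mem_of_sq_mem ?_
      have a6 := hL _ hcl
      have a8 := hL _ h8'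
      have := L.mul_mem a8 (L.inv_mem a6)
      convert this using 1
      field_simp
    · -- `t = r + 2` odd
      have hr2 : (r + 2) % 2 = 1 := by rw [Nat.odd_iff] at hr; omega
      set Z : Fin N → F := fun i => if i.val = 2 * r + 4 then c else
        if i.val ≤ 2 * r + 2 then (((2 * r + 4 - i.val) / 2 : ℕ) : F) else 0 with hZ
      have padZ : ∀ i, i < N → pad Z i = if i = 2 * r + 4 then c else
          if i ≤ 2 * r + 2 then (((2 * r + 4 - i) / 2 : ℕ) : F) else 0 := fun i hi => by
        rw [pad_lt _ hi]
      have hZ0 : pad Z 0 = 1 := by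
        rw [padZ 0 h0N, if_neg (show ¬ 0 = 2 * r + 4 by omega), if_pos (show 0 ≤ 2 * r + 2 by omega),
          Nat.sub_zero, show (2 * r + 4) / 2 = r + 2 by omega, cast_odd hr2]
      have eZ : vM m₀ (phiOdd r c) *ᵥ Z = xOdd r := by
        funext i
        have := i.isLt
        rw [vM_apply, phiOdd_dot, hZ0, mul_one, hZ, xOdd]
        simp only [indVec]
        by_cases h : i.val + 1 < N
        · rw [if_pos h, padZ _ h, if_neg (show i.val ≠ 2 * r + 4 by omega)]
          by_cases h3 : i.val + 2 < N
          · rw [if_pos h3, if_pos (show i.val ≤ 2 * r + 2 by omega), if_neg (show i.val + 1 ≠ 2 * r + 4 by omega)]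
            by_cases h4 : i.val + 1 ≤ 2 * r + 2
            · rw [if_pos h4, ← Nat.cast_add]
              split_ifs
              · exact cast_odd (by omega)
              · exact cast_even (by omega)
            · rw [if_neg h4, add_zero, if_pos (by omega)]
              exact cast_odd (by omega)
          · rw [if_neg h3, if_neg (by omega), if_neg (by omega), add_zero]
        · rw [if_neg h, if_pos (by omega), if_neg (by omega), two]
      set E : Fin N → F := e1 + ev N 2 with hE
      have eE : e1 ᵥ* vM m₀ (phiOdd r c) = E := by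
        funext i
        have := i.isLt
        rw [v_vecMul, h1B, zero_mul, add_zero, pad_ev (show i.val - 1 < N by omega), hE, Pi.add_apply,
          ev_apply, ev_apply]
        split_ifs <;> first | omega | simp
      have hZ1 : e1 ⬝ᵥ Z = 0 := by
        rw [ev_dot, padZ 1 (by omega), if_neg (by omega), if_pos (by omega)]
        exact cast_even (by omega)
      have hEx : E ⬝ᵥ xOdd r = 1 := by
        rw [hE, add_dotProduct, hx1, zero_add, ev_dot, xOdd, pad_indVec r _ (show 2 < N by omega),
          if_pos (by omega)]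
      have hEZ : E ⬝ᵥ Z = 0 := by
        rw [hE, add_dotProduct, hZ1, zero_add, ev_dot, padZ 2 (by omega), if_neg (by omega),
          if_pos (by omega)]
        exact cast_even (by omega)
      have hUx : (axU r : Fin N → F) ⬝ᵥ xOdd r = 0 := by
        rw [dot_xOdd, Finset.sum_range_succ', axU, pad_indVec r _ (show 2 * 0 < N by omega),
          if_neg (by omega), add_zero, Finset.sum_congr rfl (fun i hi => by
            rw [pad_indVec r _ (show 2 * (i + 1) < N by have := Finset.mem_range.1 hi; omega),
              if_pos (by omega)]),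
          Finset.sum_const, Finset.card_range, nsmul_one, cast_even (by omega)]
      have hUZ : (axU r : Fin N → F) ⬝ᵥ Z = c := by
        have pair : ∀ k, ∑ d ∈ Finset.range (2 * k), ((d / 2 : ℕ) : F) = 0 := by
          intro k
          induction k with
          | zero => simp
          | succ k ih =>
            rw [show 2 * (k + 1) = 2 * k + 1 + 1 by ring, Finset.sum_range_succ, Finset.sum_range_succ,
              ih, zero_add, show (2 * k + 1) / 2 = 2 * k / 2 by omega, two]
        rw [dotProduct_comm, axU, indVec_dot, ← Finset.sum_range_reflect]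
        have e : ∀ d ∈ Finset.range N, (if 1 ≤ N - 1 - d then pad Z (N - 1 - d) else 0) =
            (if d < 2 * (r + 2) then ((d / 2 : ℕ) : F) else 0) + if d = 0 then c else 0 := by
          intro d hd
          have := Finset.mem_range.1 hd
          rw [padZ _ (show N - 1 - d < N by omega)]
          rcases Nat.lt_or_ge d 2 with h2 | h2
          · interval_cases d
            · rw [if_pos (by omega), if_pos (by omega), if_pos (by omega), if_pos rfl]; simp
            · rw [if_pos (by omega), if_neg (by omega), if_neg (by omega), if_pos (by omega),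
                if_neg (by omega)]
              simp
          · rw [if_neg (show d ≠ 0 by omega), add_zero]
            by_cases hd0 : d < 2 * (r + 2)
            · rw [if_pos (by omega), if_neg (by omega), if_pos (by omega), if_pos hd0,
                show (2 * r + 4 - (N - 1 - d)) / 2 = d / 2 by omega]
            · rw [if_neg (by omega), if_neg hd0]
        rw [Finset.sum_congr rfl e, Finset.sum_add_distrib, Finset.sum_ite_eq', if_pos (by simp),
          ← Finset.sum_filter, show (Finset.range N).filter (fun d => d < 2 * (r + 2)) =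
            Finset.range (2 * (r + 2)) by ext d; simp; omega, pair, zero_add]
      have h10 : ∀ s ∈ C, HasTv K ((c * s) • Z) e1 := by
        intro s hs
        have hq : HasTv K (c • Z) E :=
          S.cV' (by rw [dotProduct_smul, hx1, smul_zero]) hcC (by rw [Matrix.mulVec_smul, eZ]) eE
        have h := hasTv_comm hs hq (by simp [hx1]) (by simp [hZ1]) (by simp [hEZ])
        convert h using 1
        simp [hEx, smul_smul, mul_comm]
      have h11 : HasTv K ((c * c) • xOdd r) (axU r) := by
        have h := hasTv_comm (hu c hcC) hcC (by simp [hUX]) (by simp [hUx]) (by simp [hx1])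
        convert h using 1
        simp [ev_dot, hX1, smul_smul]
      have h12 : ∀ s ∈ C, (c * c * c * c) * s ∈ C := by
        intro s hs
        have h := hasTv_comm (h10 s hs) h11 (by simp [hZ1]) (by simp [hx1]) (by simp [hUx])
        show HasTv K _ _
        convert h using 1
        simp [hUZ, smul_smul]
        congr 1
        ring
      refine addSubgroup_eq_univ hgen C hc hcC fun L hL => mem_of_sq_mem (mem_of_sq_mem ?_)
      convert hL _ h12 using 1
      ring
  have hscale : ∀ s : F, c * (s / c ^ 2) * c = s := fun s => by field_simp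
  have fB : FullRoot K eB e1 := by
    refine ⟨by rw [ev_dot, hB1], fun s => ?_⟩
    have h := h7 (s / c ^ 2 / c) (hC _) c hcC
    rw [show c * (s / c ^ 2 / c) * c = s / c by field_simp, smul_add, smul_smul,
      div_mul_cancel₀ _ hc] at h
    exact scal_two m₀ (hC (s / c)) h (by rw [dotProduct_smul, hx1, smul_zero])
  refine ⟨fB, ⟨by rw [ev_dot, hXB], fun s => ?_⟩, ⟨?_, fun s => ?_⟩⟩
  · have h := h6 (s / c ^ 2) (hC _) c hcC
    rw [hscale] at h
    have h' : HasTv K (s • xOdd r) eB :=
      axis_two m₀ (hC s) h (by rw [dotProduct_smul, hx1, smul_zero])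
        (by rw [dotProduct_smul, ev_dot, hxB, smul_zero])
    exact S.cU (by rw [dotProduct_smul, ev_dot, hxB, smul_zero]) h'
      (by rw [Matrix.mulVec_smul, u_xOdd]) (eB_u r)
  · rw [dotProduct_add, dot_ev, dot_ev, hUB, axU, pad_indVec r _ (show 2 * r + 3 < N by omega),
      if_pos (by omega), two]
  · exact S.cU (by rw [dotProduct_smul, ev_dot, hB1, smul_zero]) (fB.2 s)
      (by rw [Matrix.mulVec_smul, u_B]) (axU_u r)

end H37
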