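import Cfsg.Agent.H37.TRSmall
import Cfsg.Agent.H37.TROddBlock

/-!
Two regular unipotents generating `SL_n(q)`, `q` even, `n ≥ 4`.
-/

set_option autoImplicit false

namespace H37

open Matrix

universe u

variable {F : Type u} [Field F]

/-- `G` intertwines the class embedding `A` with `g`. -/
structure Inter {n k : ℕ} (A : Fin k → (Fin n → F)) (G : Matrix (Fin n) (Fin n) F)
    (g : Matrix (Fin k) (Fin k) F) : Prop where
  emb : ∀ a, G *ᵥ comb A a = comb A (g *ᵥ a)
  proj : ∀ a i, A i ⬝ᵥ (G *ᵥ a) = (g *ᵥ fun j => A j ⬝ᵥ a) i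

theorem Inter.cov {n k : ℕ} {A : Fin k → (Fin n → F)} {G : Matrix (Fin n) (Fin n) F}
    {g : Matrix (Fin k) (Fin k) F} (I : Inter A G g) (t : Fin k → F) :
    comb A t ᵥ* G = comb A (t ᵥ* g) := by
  have hc : ∀ (t : Fin k → F) a, comb A t ⬝ᵥ a = t ⬝ᵥ fun j => A j ⬝ᵥ a := fun t a => by
    rw [comb, sum_dotProduct, dotProduct]
    exact Finset.sum_congr rfl fun i _ => by rw [smul_dotProduct, smul_eq_mul]
  refine funext fun i => ?_
  have h : ∀ z : Fin n → F, z i = z ⬝ᵥ Pi.single i 1 := fun z => by simp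
  rw [h (comb A t ᵥ* G), h (comb A (t ᵥ* g)), ← dotProduct_mulVec, hc, hc, ← dotProduct_mulVec]
  exact congrArg (t ⬝ᵥ ·) (funext fun l => I.proj _ l)

theorem Inter.mul {n k : ℕ} {A : Fin k → (Fin n → F)} {G G' : Matrix (Fin n) (Fin n) F}
    {g g' : Matrix (Fin k) (Fin k) F} (I : Inter A G g) (I' : Inter A G' g') :
    Inter A (G * G') (g * g') := by
  refine ⟨fun a => ?_, fun a i => ?_⟩
  · rw [← Matrix.mulVec_mulVec, I'.emb, I.emb, Matrix.mulVec_mulVec]
  · rw [← Matrix.mulVec_mulVec, I.proj, ← Matrix.mulVec_mulVec]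
    exact congrArg (fun z => (g *ᵥ z) i) (funext fun l => I'.proj a l)

section conj

variable {n k : ℕ} {A : Fin k → (Fin n → F)} (hd : ∀ i j, A i ⬝ᵥ A j = if i = j then 1 else 0)
  {H : Subgroup (Matrix.SpecialLinearGroup (Fin n) F)}

include hd in
theorem hasTv_emb_of {r t : Fin k → F} (h : HasTv (H.comap (embHom A A hd)) r t) :
    HasTv H (comb A r) (comb A t) := by
  obtain ⟨X, hX, hXm⟩ := h
  exact ⟨_, hX, by rw [coe_embHom, hXm, embMat_one_add]⟩

theorem comap_conj {G : Matrix.SpecialLinearGroup (Fin n) F} (hG : G ∈ H)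
    {g : Matrix (Fin k) (Fin k) F} (I : Inter A (G : Matrix (Fin n) (Fin n) F) g)
    {a b ψ χ : Fin k → F} (h0 : ψ ⬝ᵥ a = 0) (h : HasTv (H.comap (embHom A A hd)) a ψ)
    (hab : g *ᵥ a = b) (hχ : χ ᵥ* g = ψ) : HasTv (H.comap (embHom A A hd)) b χ := by
  have h' := hasTv_conj hG (hasTv_emb_of hd h)
  rw [I.emb, hab, ← hχ, ← I.cov, Matrix.vecMul_vecMul, ← Matrix.SpecialLinearGroup.coe_mul,
    mul_inv_cancel, Matrix.SpecialLinearGroup.coe_one, Matrix.vecMul_one] at h'
  refine hasTv_comap_emb hd ?_ h'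
  rw [← h0, ← hab, ← hχ, ← dotProduct_mulVec]

theorem comap_conj' {G : Matrix.SpecialLinearGroup (Fin n) F} (hG : G ∈ H)
    {g : Matrix (Fin k) (Fin k) F} (I : Inter A (G : Matrix (Fin n) (Fin n) F) g)
    {a b ψ χ : Fin k → F} (h0 : χ ⬝ᵥ b = 0) (h : HasTv (H.comap (embHom A A hd)) b χ)
    (hab : g *ᵥ a = b) (hχ : χ ᵥ* g = ψ) : HasTv (H.comap (embHom A A hd)) a ψ := by
  have h' := hasTv_conj (inv_mem hG) (hasTv_emb_of hd h)
  rw [← hab, ← I.emb, Matrix.mulVec_mulVec, ← Matrix.SpecialLinearGroup.coe_mul, inv_mul_cancel,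
    Matrix.SpecialLinearGroup.coe_one, Matrix.one_mulVec, inv_inv, I.cov, hχ] at h'
  refine hasTv_comap_emb hd ?_ h'
  rw [← h0, ← hab, ← hχ, dotProduct_mulVec]

theorem fullRoot_emb {a ψ : Fin k → F} (h : FullRoot (H.comap (embHom A A hd)) a ψ) :
    FullRoot H (comb A a) (comb A ψ) := by
  refine ⟨by rw [dotProduct_comb hd]; exact h.1, fun s => ?_⟩
  have := hasTv_emb_of hd (h.2 s)
  rwa [show comb A (s • a) = s • comb A a by simp [comb, Finset.smul_sum, smul_smul]] at this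

end conj

section setting

variable (m m' h : ℕ)

local notation "N" => m + 3
local notation "M" => m' + 3
local notation "SLN" => Matrix.SpecialLinearGroup (Fin (m + 3)) F
local notation "Uu" => ((jordanUp m : Matrix.SpecialLinearGroup (Fin (m + 3)) F) :
  Matrix (Fin (m + 3)) (Fin (m + 3)) F)

/-- The last position of the `i`-th piece of length `h`. -/
def pos (i : Fin M) : ℕ := h * (i.val + 1) - 1

/-- The class of positions congruent to `-1` modulo `h`. -/
def cls : Fin M → (Fin N → F) := fun i => ev N (pos m' h i)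

/-- Parameters on the multiples of `h`. -/
def phiCls (φ' : Fin M → F) : Fin N → F := ∑ i : Fin M, φ' i • ev N (h * i.val)

variable {m m' h}

theorem pos_lt (hN : m + 3 = h * (m' + 3)) (i : Fin M) : pos m' h i < N := by
  have : h * (i.val + 1) ≤ h * (m' + 3) := Nat.mul_le_mul_left h (by have := i.isLt; omega)
  have : 0 < h := Nat.pos_of_ne_zero (by rintro rfl; omega)
  have : 0 < h * (i.val + 1) := Nat.mul_pos this (by omega)
  unfold pos
  omega

theorem cls_dual (hN : m + 3 = h * (m' + 3)) (i j : Fin M) :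
    (cls m m' h i : Fin N → F) ⬝ᵥ cls m m' h j = if i = j then 1 else 0 := by
  rw [cls, cls, ev_dot, pad_ev (pos_lt hN i)]
  refine if_congr ⟨fun he => ?_, fun he => by rw [he]⟩ rfl rfl
  have hh : 0 < h := Nat.pos_of_ne_zero (by rintro rfl; omega)
  have a1 : 0 < h * (i.val + 1) := Nat.mul_pos hh (by omega)
  have a2 : 0 < h * (j.val + 1) := Nat.mul_pos hh (by omega)
  have := Nat.eq_of_mul_eq_mul_left hh (show h * (i.val + 1) = h * (j.val + 1) by unfold pos at he; omega)
  exact Fin.ext (by omega)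

theorem pos_last (hN : m + 3 = h * (m' + 3)) : pos m' h (Fin.last (m' + 2)) = m + 2 := by
  simp only [pos, Fin.val_last, show m' + 2 + 1 = m' + 3 by omega, ← hN]
  omega

theorem pad_comb_last (hN : m + 3 = h * (m' + 3)) (a : Fin M → F) :
    pad (comb (cls (F := F) m m' h) a) (m + 2) = pad a (m' + 2) := by
  rw [← pos_last hN, ← ev_dot]
  show cls m m' h (Fin.last (m' + 2)) ⬝ᵥ _ = _
  rw [comb, dotProduct_sum, Finset.sum_eq_single (Fin.last (m' + 2))]
  · rw [dotProduct_smul, cls_dual hN, if_pos rfl, smul_eq_mul, mul_one, pad_lt _ (by omega)]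
    rfl
  · intro b _ hb
    rw [dotProduct_smul, cls_dual hN, if_neg hb.symm, smul_zero]
  · simp

theorem phiCls_dot (φ' : Fin M → F) (a : Fin N → F) :
    phiCls m m' h φ' ⬝ᵥ a = ∑ i : Fin M, φ' i * pad a (h * i.val) := by
  rw [phiCls, sum_dotProduct]
  exact Finset.sum_congr rfl fun i _ => by rw [smul_dotProduct, ev_dot, smul_eq_mul]

theorem phiCls_zero (hN : m + 3 = h * (m' + 3)) (φ' : Fin M → F) :
    pad (phiCls m m' h φ') 0 = pad φ' 0 := by
  rw [← dot_ev, phiCls_dot, Finset.sum_eq_single (⟨0, by omega⟩ : Fin M)]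
  · rw [pad_ev (show h * 0 < N by omega), if_pos (by simp), mul_one, pad_lt _ (by omega)]
  · intro b _ hb
    have hh : 0 < h := Nat.pos_of_ne_zero (by rintro rfl; omega)
    have hb0 : b.val ≠ 0 := fun h0 => hb (Fin.ext h0)
    have hlt : h * b.val < N := by rw [hN]; exact Nat.mul_lt_mul_of_pos_left b.isLt hh
    rw [pad_ev hlt, if_neg (Nat.mul_ne_zero (by omega) hb0), mul_zero]
  · simp

theorem phiCls_last (hN : m + 3 = h * (m' + 3)) (φ' : Fin M → F) (hB : pad φ' (m' + 2) = 0) :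
    pad (phiCls m m' h φ') (m + 2) = 0 := by
  rw [← dot_ev, phiCls_dot]
  refine Finset.sum_eq_zero fun b _ => ?_
  have hh : 0 < h := Nat.pos_of_ne_zero (by rintro rfl; omega)
  rw [pad_ev (show h * b.val < N by rw [hN]; exact Nat.mul_lt_mul_of_pos_left b.isLt hh)]
  split_ifs with he
  · by_cases hb : b.val + 1 < M
    · exfalso
      have : h * (b.val + 2) ≤ h * (m' + 3) := Nat.mul_le_mul_left h (by omega)
      rw [Nat.mul_add] at this
      omega
    · rw [← pad_val φ' b, show b.val = m' + 2 by have := b.isLt; omega, hB, zero_mul]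
  · rw [mul_zero]

variable [CharP F 2]

theorem u_pow_apply (s : ℕ) : ∀ (a : Fin N → F) (i : Fin N),
    (((jordanUp m ^ 2 ^ s : SLN) : Matrix (Fin N) (Fin N) F) *ᵥ a) i =
      a i + pad a (i.val + 2 ^ s) := by
  induction s with
  | zero => intro a i; rw [pow_zero, pow_one, u_apply]
  | succ s ih =>
    intro a i
    rw [pow_succ 2, pow_mul, pow_two, Matrix.SpecialLinearGroup.coe_mul, ← Matrix.mulVec_mulVec, ih, ih,
      show i.val + 2 ^ s * 2 = i.val + 2 ^ s + 2 ^ s by omega]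
    by_cases hi : i.val + 2 ^ s < N
    · rw [pad_lt a hi, pad_lt (_ *ᵥ a) hi, ih]
      linear_combination (CharTwo.add_self_eq_zero (a ⟨i.val + 2 ^ s, hi⟩))
    · rw [pad_ge a (show N ≤ i.val + 2 ^ s by omega),
        pad_ge a (show N ≤ i.val + 2 ^ s + 2 ^ s by omega),
        pad_ge (_ *ᵥ a) (show N ≤ i.val + 2 ^ s by omega)]
      simp

/-- The functional appearing in `vM φ ^ h`. -/
def sfun (φ a : Fin N → F) (k : ℕ) : F :=
  φ ⬝ᵥ fun l => if l.val + k < N then pad a (l.val + k - 1) else 0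

theorem v_pow_apply {φ : Fin N → F} (h0 : pad φ 0 ≠ 0) (hB : pad φ (m + 2) = 0) (s : ℕ)
    (a : Fin N → F) (i : Fin N) :
    (((vEl m φ h0 hB ^ 2 ^ s : SLN) : Matrix (Fin N) (Fin N) F) *ᵥ a) i = a i +
      if i.val + 1 < N then (if i.val + 2 ^ s + 1 < N then pad a (i.val + 2 ^ s) else 0)
      else sfun φ a (2 ^ s) := by
  have hP : IsUnit (pM m φ) := (Matrix.isUnit_iff_isUnit_det _).2
    (isUnit_iff_ne_zero.2 (by rw [pM_det]; exact mul_ne_zero (by simp) h0))
  obtain ⟨b, rfl⟩ := Matrix.mulVec_surjective_iff_isUnit.2 hP a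
  have hs := (SemiconjBy.pow_right (show SemiconjBy (pM m φ) Uu (vM m φ) from (vM_mul_pM m φ hB).symm)
    (2 ^ s)).eq
  rw [Matrix.mulVec_mulVec, Matrix.SpecialLinearGroup.coe_pow, coe_vEl, ← hs, ← Matrix.mulVec_mulVec,
    ← Matrix.SpecialLinearGroup.coe_pow, pM_apply, pM_apply]
  have h2 : 0 < 2 ^ s := Nat.pos_of_ne_zero (by simp)
  by_cases h1 : i.val + 1 < N
  · rw [if_pos h1, if_pos h1, if_pos h1, pad_lt _ h1, u_pow_apply, pad_lt b h1]
    congr 1
    by_cases h3 : i.val + 2 ^ s + 1 < N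
    · rw [if_pos h3, pad_lt _ (show i.val + 2 ^ s < N by omega), pM_apply, if_pos h3,
        show i.val + 1 + 2 ^ s = i.val + 2 ^ s + 1 by omega]
    · rw [if_neg h3, pad_ge b (show N ≤ i.val + 1 + 2 ^ s by omega)]
  · rw [if_neg h1, if_neg h1, if_neg h1,
      show ((jordanUp m ^ 2 ^ s : SLN) : Matrix (Fin N) (Fin N) F) *ᵥ b =
        b + fun l => pad b (l.val + 2 ^ s) from funext (u_pow_apply s b), dotProduct_add]
    congr 1
    refine congrArg (φ ⬝ᵥ ·) (funext fun l => ?_)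
    by_cases h3 : l.val + 2 ^ s < N
    · rw [if_pos h3, pad_lt _ (show l.val + 2 ^ s - 1 < N by omega), pM_apply,
        if_pos (show l.val + 2 ^ s - 1 + 1 < N by omega),
        show l.val + 2 ^ s - 1 + 1 = l.val + 2 ^ s by omega]
    · rw [if_neg h3, pad_ge _ (by omega)]

theorem sfun_cls (hN : m + 3 = h * (m' + 3)) (φ' : Fin M → F) (hB : pad φ' (m' + 2) = 0)
    (a : Fin N → F) :
    sfun (phiCls m m' h φ') a h = φ' ⬝ᵥ fun j => cls m m' h j ⬝ᵥ a := by
  have hh : 0 < h := Nat.pos_of_ne_zero (by rintro rfl; omega)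
  rw [sfun, phiCls_dot, dotProduct]
  refine Finset.sum_congr rfl fun i _ => ?_
  rw [pad_lt _ (show h * i.val < N by rw [hN]; exact Nat.mul_lt_mul_of_pos_left i.isLt hh), cls,
    ev_dot, pos, show h * (i.val + 1) = h * i.val + h by ring]
  by_cases hi : i.val + 1 < M
  · rw [if_pos (show h * i.val + h < N by
      rw [hN, ← Nat.mul_succ]; exact Nat.mul_lt_mul_of_pos_left hi hh)]
  · rw [show φ' i = 0 by rw [← pad_val φ' i, show i.val = m' + 2 by have := i.isLt; omega, hB],
      zero_mul, zero_mul]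

theorem pad_comb_cls (hN : m + 3 = h * (m' + 3)) (a : Fin M → F) (l : ℕ) :
    pad (comb (cls (F := F) m m' h) a) l =
      if h ∣ l + 1 then pad a ((l + 1) / h - 1) else 0 := by
  have hh : 0 < h := Nat.pos_of_ne_zero (by rintro rfl; omega)
  rw [← ev_dot, comb, dotProduct_sum]
  by_cases hl : l < N
  · have key : ∀ i : Fin M, (l = pos m' h i) ↔ (h ∣ l + 1 ∧ (l + 1) / h - 1 = i.val) := by
      intro i
      have : 0 < h * (i.val + 1) := Nat.mul_pos hh (by omega)
      constructor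
      · intro he
        have e : l + 1 = h * (i.val + 1) := by unfold pos at he; omega
        exact ⟨⟨_, e⟩, by rw [e, Nat.mul_div_cancel_left _ hh]; omega⟩
      · rintro ⟨⟨c, hc⟩, he⟩
        rw [hc, Nat.mul_div_cancel_left _ hh] at he
        have hc0 : c ≠ 0 := by rintro rfl; omega
        unfold pos
        rw [show i.val + 1 = c by omega]
        omega
    simp only [cls, dotProduct_smul, ev_dot, smul_eq_mul, pad_ev hl, key]
    split_ifs with hd
    · obtain ⟨c, hc⟩ := hd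
      have hc' : (l + 1) / h - 1 < M := by
        rw [hc, Nat.mul_div_cancel_left _ hh]
        have : c ≤ m' + 3 := Nat.le_of_mul_le_mul_left (show h * c ≤ h * (m' + 3) by omega) hh
        omega
      rw [Finset.sum_eq_single (⟨_, hc'⟩ : Fin M)]
      · simp [pad_lt a hc', show h ∣ l + 1 from ⟨c, hc⟩]
      · intro b _ hb
        rw [if_neg (fun hx => hb (Fin.ext hx.2.symm)), mul_zero]
      · simp
    · exact Finset.sum_eq_zero fun b _ => by simp [hd]
  · rw [Finset.sum_eq_zero fun b _ => by rw [ev_dot, pad_ge _ (by omega)]]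
    split_ifs with hd
    · obtain ⟨c, hc⟩ := hd
      rw [hc, Nat.mul_div_cancel_left _ hh, pad_ge a]
      have : m' + 3 < c := Nat.lt_of_mul_lt_mul_left (show h * (m' + 3) < h * c by omega)
      omega
    · rfl

theorem inter_u {s : ℕ} (hN : m + 3 = 2 ^ s * (m' + 3)) :
    Inter (cls (F := F) m m' (2 ^ s)) ((jordanUp m ^ 2 ^ s : SLN) : Matrix (Fin N) (Fin N) F)
      ((jordanUp m' : Matrix.SpecialLinearGroup (Fin M) F) : Matrix (Fin M) (Fin M) F) := by
  set H' := 2 ^ s with hH'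
  have hh : 0 < H' := Nat.pos_of_ne_zero (by simp [hH'])
  refine ⟨fun a => ?_, fun a i => ?_⟩
  · funext l
    rw [u_pow_apply, ← pad_val (comb (cls m m' H') a) l,
      ← pad_val (comb (cls m m' H') (_ *ᵥ a)) l, pad_comb_cls hN, pad_comb_cls hN, pad_comb_cls hN,
      show l.val + H' + 1 = l.val + 1 + H' by omega]
    simp only [Nat.dvd_add_self_right, Nat.add_div_right _ hh]
    split_ifs with hd
    · have hlt : (l.val + 1) / H' - 1 < M := by
        obtain ⟨c, hc⟩ := hd
        rw [hc, Nat.mul_div_cancel_left _ hh]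
        have : c ≤ m' + 3 := Nat.le_of_mul_le_mul_left
          (show H' * c ≤ H' * (m' + 3) by have := l.isLt; omega) hh
        omega
      rw [pad_lt a hlt, pad_lt _ hlt, u_apply]
      congr 2
      have : 0 < (l.val + 1) / H' := Nat.div_pos (Nat.le_of_dvd (by omega) hd) hh
      dsimp only
      omega
    · rw [add_zero]
  · rw [cls, ev_dot, pad_lt _ (pos_lt hN i), u_pow_apply, u_apply]
    rw [cls, ev_dot, pad_lt a (pos_lt hN i)]
    congr 1
    by_cases hi : i.val + 1 < M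
    · rw [pad_lt (fun j => cls m m' H' j ⬝ᵥ a) hi, cls, ev_dot]
      congr 1
      have : 0 < H' * (i.val + 1) := Nat.mul_pos hh (by omega)
      simp only [pos, Nat.mul_succ]
      omega
    · rw [pad_ge (fun j => cls m m' H' j ⬝ᵥ a) (by omega), pad_ge a]
      have e : H' * (i.val + 1) = H' * (m' + 3) := by
        rw [show i.val + 1 = m' + 3 by have := i.isLt; omega]
      simp only [pos]
      omega

theorem v_pow_eq_u_pow {s : ℕ} (hN : m + 3 = 2 ^ s * (m' + 3)) {t : ℕ} (ht : 2 ^ t < N)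
    {φ : Fin N → F} (h0 : pad φ 0 ≠ 0) (hB : pad φ (m + 2) = 0) (a : Fin N → F) :
    ((vEl m φ h0 hB ^ 2 ^ t : SLN) : Matrix (Fin N) (Fin N) F) *ᵥ a =
      ((jordanUp m ^ 2 ^ t : SLN) : Matrix (Fin N) (Fin N) F) *ᵥ a + sfun φ a (2 ^ t) • ev N (m + 2) +
        pad a (m + 2) • (((jordanUp m ^ 2 ^ t : SLN) : Matrix (Fin N) (Fin N) F) *ᵥ ev N (m + 2) -
          ev N (m + 2)) := by
  funext i
  have := i.isLt
  have h2 : 0 < 2 ^ t := Nat.pos_of_ne_zero (by simp)
  rw [v_pow_apply h0 hB, Pi.add_apply, Pi.add_apply, Pi.smul_apply, Pi.smul_apply, Pi.sub_apply,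
    u_pow_apply, u_pow_apply, add_sub_cancel_left, ev_apply]
  by_cases h1 : i.val + 1 < N
  · rw [if_pos h1, if_neg (show i.val ≠ m + 2 by omega), smul_zero, add_zero]
    by_cases h3 : i.val + 2 ^ t + 1 < N
    · rw [if_pos h3, pad_ev (show i.val + 2 ^ t < N by omega), if_neg (by omega), smul_zero, add_zero]
    · rw [if_neg h3]
      by_cases h4 : i.val + 2 ^ t < N
      · rw [pad_ev h4, if_pos (by omega), smul_eq_mul, mul_one, add_zero,
          show i.val + 2 ^ t = m + 2 by omega]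
        linear_combination -(CharTwo.add_self_eq_zero (pad a (m + 2)))
      · rw [pad_ge (ev N (m + 2)) (by omega), pad_ge a (by omega), smul_zero, add_zero, add_zero]
  · rw [if_neg h1, if_pos (show i.val = m + 2 by omega), pad_ge a (by omega),
      pad_ge (ev N (m + 2)) (by omega)]
    simp

theorem inter_v {s : ℕ} (hN : m + 3 = 2 ^ s * (m' + 3)) {φ' : Fin M → F} (hB' : pad φ' (m' + 2) = 0)
    (h0 : pad (phiCls m m' (2 ^ s) φ') 0 ≠ 0) :
    Inter (cls (F := F) m m' (2 ^ s))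
      ((vEl m (phiCls m m' (2 ^ s) φ') h0 (phiCls_last hN φ' hB') ^ 2 ^ s : SLN) :
        Matrix (Fin N) (Fin N) F) (vM m' φ') := by
  have IU := inter_u (F := F) hN
  have hd := cls_dual (F := F) hN
  have hlast : (ev N (m + 2) : Fin N → F) = cls m m' (2 ^ s) (Fin.last (m' + 2)) := by
    rw [cls, pos_last hN]
  have hcl : (ev N (m + 2) : Fin N → F) = comb (cls m m' (2 ^ s)) (ev M (m' + 2)) := by
    rw [hlast, comb, Finset.sum_eq_single (Fin.last (m' + 2))]
    · simp [ev]
    · intro b _ hb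
      rw [ev_apply, if_neg (fun hx => hb (Fin.ext (by rw [hx, Fin.val_last]))), zero_smul]
    · simp
  have hcomb : ∀ (a : Fin M → F) (j : Fin M),
      cls m m' (2 ^ s) j ⬝ᵥ comb (cls m m' (2 ^ s)) a = a j := fun a j => by
    rw [comb, dotProduct_sum, Finset.sum_eq_single j]
    · rw [dotProduct_smul, hd, if_pos rfl, smul_eq_mul, mul_one]
    · intro b _ hb
      rw [dotProduct_smul, hd, if_neg hb.symm, smul_zero]
    · simp
  have key : ∀ a' : Fin M → F, vM m' φ' *ᵥ a' =
      ((jordanUp m' : Matrix.SpecialLinearGroup (Fin M) F) : Matrix (Fin M) (Fin M) F) *ᵥ a' +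
        (φ' ⬝ᵥ a') • ev M (m' + 2) + pad a' (m' + 2) •
        (((jordanUp m' : Matrix.SpecialLinearGroup (Fin M) F) : Matrix (Fin M) (Fin M) F) *ᵥ ev M (m' + 2) -
          ev M (m' + 2)) := by
    intro a'
    funext i
    have := i.isLt
    rw [vM_apply, Pi.add_apply, Pi.add_apply, Pi.smul_apply, Pi.smul_apply, Pi.sub_apply, u_apply,
      u_apply, add_sub_cancel_left, ev_apply]
    by_cases h1 : i.val + 1 < M
    · rw [if_pos h1, if_neg (show i.val ≠ m' + 2 by omega), smul_zero, add_zero, pad_ev h1]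
      by_cases h3 : i.val + 2 < M
      · rw [if_pos h3, if_neg (by omega), smul_zero, add_zero]
      · rw [if_neg h3, if_pos (by omega), smul_eq_mul, mul_one, add_zero,
          show i.val + 1 = m' + 2 by omega]
        linear_combination -(CharTwo.add_self_eq_zero (pad a' (m' + 2)))
    · rw [if_neg h1, if_pos (show i.val = m' + 2 by omega), pad_ge a' (by omega),
        pad_ge (ev M (m' + 2)) (by omega)]
      simp
  have hlt : 2 ^ s < N := by
    rw [hN]; exact lt_mul_of_one_lt_right (Nat.pos_of_ne_zero (by simp)) (by omega)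
  refine ⟨fun a => ?_, fun a i => ?_⟩
  · rw [v_pow_eq_u_pow hN hlt, sfun_cls hN φ' hB', pad_comb_last hN, IU.emb, hcl, IU.emb, key]
    rw [show (fun j => cls m m' (2 ^ s) j ⬝ᵥ comb (cls m m' (2 ^ s)) a) = a from funext (hcomb a)]
    simp only [comb, Pi.add_apply, Pi.smul_apply, Pi.sub_apply, add_smul, sub_smul, smul_eq_mul,
      mul_smul, smul_sub, Finset.sum_add_distrib, Finset.sum_sub_distrib, Finset.smul_sum]
  · rw [v_pow_eq_u_pow hN hlt, sfun_cls hN φ' hB', dotProduct_add, dotProduct_add, dotProduct_smul,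
      dotProduct_smul, dotProduct_sub, IU.proj, IU.proj, key, Pi.add_apply, Pi.add_apply,
      Pi.smul_apply, Pi.smul_apply, Pi.sub_apply]
    have e1 : (fun j => cls m m' (2 ^ s) j ⬝ᵥ (ev N (m + 2) : Fin N → F)) = ev M (m' + 2) := by
      funext j; rw [hcl, hcomb]
    have e2 : pad (fun j => cls m m' (2 ^ s) j ⬝ᵥ a) (m' + 2) = pad a (m + 2) := by
      rw [pad_lt _ (by omega)]
      show cls m m' (2 ^ s) (Fin.last (m' + 2)) ⬝ᵥ a = _
      rw [← hlast, ev_dot]
    rw [e1, e2, ← congrFun e1 i]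

theorem pairSys_cls {s : ℕ} (hN : m + 3 = 2 ^ s * (m' + 3)) {φ' : Fin M → F}
    (hB' : pad φ' (m' + 2) = 0) (h0 : pad (phiCls m m' (2 ^ s) φ') 0 ≠ 0) {H : Subgroup SLN}
    (hu : jordanUp m ∈ H) (hv : vEl m (phiCls m m' (2 ^ s) φ') h0 (phiCls_last hN φ' hB') ∈ H) :
    PairSys m' φ' (H.comap (embHom (cls m m' (2 ^ s)) (cls m m' (2 ^ s)) (cls_dual hN))) where
  cU := fun h1 h2 h3 h4 => comap_conj _ (pow_mem hu _) (inter_u hN) h1 h2 h3 h4
  cU' := fun h1 h2 h3 h4 => comap_conj' _ (pow_mem hu _) (inter_u hN) h1 h2 h3 h4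
  cV := fun h1 h2 h3 h4 => comap_conj _ (pow_mem hv _) (inter_v hN hB' h0) h1 h2 h3 h4
  cV' := fun h1 h2 h3 h4 => comap_conj' _ (pow_mem hv _) (inter_v hN hB' h0) h1 h2 h3 h4

end setting

end H37
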