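import Cfsg.Agent.H37.TREven

/-!
Generation in characteristic two for the three block shapes.
-/

set_option autoImplicit false

namespace H37

open Matrix

universe u

variable {F : Type u} [Field F] {m m' : ℕ}

local notation "N" => m + 3
local notation "SLN" => Matrix.SpecialLinearGroup (Fin (m + 3)) F
local notation "Uu" => ((jordanUp m : Matrix.SpecialLinearGroup (Fin (m + 3)) F) :
  Matrix (Fin (m + 3)) (Fin (m + 3)) F)

theorem proj_comb {h : ℕ} (hN : m + 3 = h * (m' + 3)) (a : Fin (m' + 3) → F) (j : Fin (m' + 3)) :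
    cls m m' h j ⬝ᵥ comb (cls (F := F) m m' h) a = a j := by
  rw [comb, dotProduct_sum, Finset.sum_eq_single j]
  · rw [dotProduct_smul, cls_dual hN, if_pos rfl, smul_eq_mul, mul_one]
  · intro b _ hb
    rw [dotProduct_smul, cls_dual hN, if_neg hb.symm, smul_zero]
  · simp

theorem comb_cls_last {h : ℕ} (hN : m + 3 = h * (m' + 3)) :
    comb (cls (F := F) m m' h) (ev (m' + 3) (m' + 2)) = ev N (m + 2) := by
  rw [comb, Finset.sum_eq_single (Fin.last (m' + 2))]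
  · rw [cls, pos_last hN]; simp [ev]
  · intro b _ hb
    rw [ev_apply, if_neg (fun hx => hb (Fin.ext (by rw [hx, Fin.val_last]))), zero_smul]
  · simp

theorem comb_cls_dot {h : ℕ} (t : Fin (m' + 3) → F) (a : Fin N → F) :
    comb (cls m m' h) t ⬝ᵥ a = t ⬝ᵥ fun j => cls m m' h j ⬝ᵥ a := by
  rw [comb, sum_dotProduct, dotProduct]
  exact Finset.sum_congr rfl fun i _ => by rw [smul_dotProduct, smul_eq_mul]

variable [CharP F 2]

theorem u_ones : Uu *ᵥ (fun _ => (1 : F)) = ev N (m + 2) := by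
  funext i
  have := i.isLt
  rw [u_apply, ev_apply]
  by_cases h : i.val + 1 < N
  · rw [pad_lt _ h, if_neg (by omega), CharTwo.add_self_eq_zero]
  · rw [pad_ge _ (by omega), if_pos (by omega), add_zero]

theorem uinv_eB : (((jordanUp m : SLN)⁻¹ : SLN) : Matrix (Fin N) (Fin N) F) *ᵥ ev N (m + 2) =
    fun _ => (1 : F) := by
  rw [← u_ones, Matrix.mulVec_mulVec, ← Matrix.SpecialLinearGroup.coe_mul, inv_mul_cancel,
    Matrix.SpecialLinearGroup.coe_one, Matrix.one_mulVec]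

theorem v_eB {φ : Fin N → F} (hB : pad φ (m + 2) = 0) :
    vM m φ *ᵥ ev N (m + 2) = ev N (m + 2) := by
  funext i
  have := i.isLt
  rw [vM_apply, dot_ev, hB]
  by_cases h : i.val + 1 < N
  · rw [if_pos h, pad_ev h]
    split_ifs <;> first | omega | simp
  · rw [if_neg h, add_zero]

variable {s : ℕ}

/-- The transvection for an odd block. -/
theorem root_odd (hN : m + 3 = 2 ^ s * (m' + 3)) (c : F) {φ' : Fin (m' + 3) → F}
    (hφ' : φ' = c • ev (m' + 3) 0) (hB' : pad φ' (m' + 2) = 0)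
    (h0 : pad (phiCls m m' (2 ^ s) φ') 0 ≠ 0) {H : Subgroup SLN} (hu : jordanUp m ∈ H)
    (hv : vEl m (phiCls m m' (2 ^ s) φ') h0 (phiCls_last hN φ' hB') ∈ H) {x : Fin (m' + 3) → F}
    (hx : ((jordanUp m' : Matrix.SpecialLinearGroup (Fin (m' + 3)) F) :
        Matrix (Fin (m' + 3)) (Fin (m' + 3)) F) *ᵥ
      (((jordanUp m' : Matrix.SpecialLinearGroup (Fin (m' + 3)) F) :
        Matrix (Fin (m' + 3)) (Fin (m' + 3)) F) *ᵥ (x + ev (m' + 3) (m' + 2))) = ev (m' + 3) (m' + 2))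
    (hx1 : pad x 1 = 0) (hxB : pad x (m' + 2) = 0) :
    HasTv (H.comap (embHom (cls m m' (2 ^ s)) (cls m m' (2 ^ s)) (cls_dual hN))) (c • x)
      (ev (m' + 3) 1) := by
  set A := cls (F := F) m m' (2 ^ s) with hA
  set φ := phiCls m m' (2 ^ s) φ' with hφ
  set hh := 2 ^ s with hhdef
  have hpos : 0 < hh := Nat.pos_of_ne_zero (by simp [hhdef])
  have h2N : 2 ^ (s + 1) < N := by
    rw [pow_succ, hN]; exact Nat.mul_lt_mul_of_pos_left (by omega) hpos
  have two : ∀ y : Fin N → F, y + y = 0 := fun y => funext fun i => CharTwo.add_self_eq_zero (y i)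
  have hσ : ∀ a, sfun φ a (2 ^ (s + 1)) = c * pad a (hh * 2 - 1) := by
    intro a
    rw [sfun, hφ, phiCls_dot, Finset.sum_eq_single (⟨0, by omega⟩ : Fin (m' + 3))]
    · rw [pad_lt _ (show hh * 0 < N by omega)]
      have e0 : φ' ⟨0, by omega⟩ = c := by rw [hφ']; simp [ev]
      rw [e0]
      congr 1
      rw [show hh * 0 + 2 ^ (s + 1) = hh * 2 by rw [pow_succ, hhdef]; ring,
        if_pos (show hh * 2 < N by rw [hhdef, ← pow_succ]; exact h2N)]
    · intro b _ hb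
      rw [hφ', Pi.smul_apply, ev_apply, if_neg (fun h => hb (Fin.ext h)), smul_zero, zero_mul]
    · simp
  have hp1 : ∀ a : Fin N → F, pad a (hh * 2 - 1) = A ⟨1, by omega⟩ ⬝ᵥ a := fun a => by
    rw [hA, cls, ev_dot]; rfl
  set U2 : SLN := jordanUp m ^ 2 ^ (s + 1) with hU2
  set V2 : SLN := vEl m φ h0 (phiCls_last hN φ' hB') ^ 2 ^ (s + 1) with hV2
  have e2 : U2 = jordanUp m ^ hh * jordanUp m ^ hh := by rw [hU2, ← pow_add, pow_succ]; congr 1; omega
  set a1 := comb A (x + ev (m' + 3) (m' + 2)) with ha1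
  have hUa1 : (U2 : Matrix (Fin N) (Fin N) F) *ᵥ a1 = ev N (m + 2) := by
    rw [e2, Matrix.SpecialLinearGroup.coe_mul, ← Matrix.mulVec_mulVec, ha1,
      (inter_u hN).emb, (inter_u hN).emb, hx, comb_cls_last hN]
  have hB1 : pad (ev N (m + 2) : Fin N → F) (m + 2) = 1 := by rw [pad_ev (by omega), if_pos rfl]
  have hBp : pad (ev N (m + 2) : Fin N → F) (hh * 2 - 1) = 0 := by
    rw [← ev_dot, dot_ev, pad_ev (show m + 2 < N by omega), if_neg]
    have : hh * 2 < hh * (m' + 3) := Nat.mul_lt_mul_of_pos_left (by omega) hpos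
    omega
  have ha1p : pad a1 (hh * 2 - 1) = 0 := by
    rw [hp1, ha1, proj_comb hN, Pi.add_apply, ← pad_val x]
    show pad x 1 + _ = 0
    rw [hx1, ev_apply, if_neg (show (1 : ℕ) ≠ m' + 2 by omega), add_zero]
  have ha1B : pad a1 (m + 2) = 1 := by
    rw [ha1, pad_comb_last hN, pad_add, hxB, zero_add, pad_ev (by omega), if_pos rfl]
  have hz : ∀ a, ((U2⁻¹ * V2 : SLN) : Matrix (Fin N) (Fin N) F) *ᵥ a =
      a + (c * pad a (hh * 2 - 1)) • a1 + pad a (m + 2) • (ev N (m + 2) - a1) := by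
    intro a
    have hi : ∀ y, ((U2⁻¹ : SLN) : Matrix (Fin N) (Fin N) F) *ᵥ ((U2 : Matrix (Fin N) (Fin N) F) *ᵥ y) = y :=
      fun y => by rw [Matrix.mulVec_mulVec, ← Matrix.SpecialLinearGroup.coe_mul, inv_mul_cancel,
        Matrix.SpecialLinearGroup.coe_one, Matrix.one_mulVec]
    rw [Matrix.SpecialLinearGroup.coe_mul, ← Matrix.mulVec_mulVec, hV2,
      v_pow_eq_u_pow hN h2N h0 (phiCls_last hN φ' hB'), hσ, ← hU2]
    conv_lhs => rw [← hUa1]
    rw [← Matrix.mulVec_smul, ← Matrix.mulVec_sub, ← Matrix.mulVec_smul, ← Matrix.mulVec_add,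
      ← Matrix.mulVec_add, hi, hUa1]
  have hzm : U2⁻¹ * V2 ∈ H := mul_mem (inv_mem (pow_mem hu _)) (pow_mem hv _)
  have hT : HasTv H (comb A x) (comb A (c • ev (m' + 3) 1)) := by
    refine ⟨_, mul_mem hzm hzm, ?_⟩
    refine Matrix.ext_of_mulVec_single fun l => ?_
    generalize (Pi.single l 1 : Fin N → F) = a
    rw [Matrix.SpecialLinearGroup.coe_mul, ← Matrix.mulVec_mulVec, hz, hz a, Matrix.add_mulVec,
      Matrix.one_mulVec, vecMulVec_mulVec, op_smul_eq_smul, comb_cls_dot, smul_dotProduct, ev_dot,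
      pad_lt _ (show 1 < m' + 3 by omega), ← hp1, smul_eq_mul]
    simp only [pad_add, pad_sub, pad_smul, hB1, hBp, ha1p, ha1B, sub_self, mul_zero, add_zero, mul_one]
    simp only [ha1, comb, Pi.add_apply, add_smul, Finset.sum_add_distrib]
    rw [show ∑ i, (ev (m' + 3) (m' + 2) : Fin (m' + 3) → F) i • A i = ev N (m + 2) from comb_cls_last hN]
    set X := ∑ i, x i • A i
    funext i
    simp only [Pi.add_apply, Pi.sub_apply, Pi.smul_apply, smul_eq_mul]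
    have t2 : (2 : F) = 0 := CharTwo.two_eq_zero
    linear_combination (c * pad a (hh * 2 - 1) * ev N (m + 2) i - pad a (m + 2) * X i) * t2
  have := hasTv_comap_emb (cls_dual hN)
    (by rw [smul_dotProduct, ev_dot, hx1, smul_zero]) hT
  rwa [← hasTv_smul_swap] at this

/-- The transvection for a block of size four. -/
theorem root_four [Fintype F] (hN : m + 3 = 2 ^ s * (1 + 3)) (c : F)
    (hB' : pad (phi4 c) (1 + 2) = 0)
    (h0 : pad (phiCls m 1 (2 ^ s) (phi4 c)) 0 ≠ 0) {H : Subgroup SLN} (hu : jordanUp m ∈ H)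
    (hv : vEl m (phiCls m 1 (2 ^ s) (phi4 c)) h0 (phiCls_last hN _ hB') ∈ H) :
    HasTv (H.comap (embHom (cls m 1 (2 ^ s)) (cls m 1 (2 ^ s)) (cls_dual hN)))
      (c • ![0, 0, 1, 0]) (![1, 0, 0, 0] : Fin 4 → F) := by
  set A := cls (F := F) m 1 (2 ^ s) with hA
  set V1 : SLN := vEl m (phiCls m 1 (2 ^ s) (phi4 c)) h0 (phiCls_last hN _ hB') ^ 2 ^ s with hV1
  set U1 : SLN := jordanUp m ^ 2 ^ s with hU1
  have hsN : 2 ^ s < N := by rw [hN]; exact lt_mul_of_one_lt_right (Nat.pos_of_ne_zero (by simp)) (by omega)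
  have hU1B : ∀ b, pad ((U1 : Matrix (Fin N) (Fin N) F) *ᵥ b) (m + 2) = pad b (m + 2) := fun b => by
    rw [pad_lt _ (by omega : m + 2 < N), hU1, u_pow_apply, pad_ge b (by
      have : 0 < 2 ^ s := Nat.pos_of_ne_zero (by simp)
      simp only; omega), add_zero, pad_lt b (by omega : m + 2 < N)]
  have hBv : (U1 : Matrix (Fin N) (Fin N) F) *ᵥ ev N (m + 2) - ev N (m + 2) =
      comb A (![0, 0, 1, 0] : Fin 4 → F) := by
    rw [← comb_cls_last (m' := 1) hN, hU1, (inter_u hN).emb, u4_apply, sub_eq_iff_eq_add]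
    rw [comb, comb, comb, ← Finset.sum_add_distrib]
    refine Finset.sum_congr rfl fun i _ => ?_
    rw [← add_smul]
    congr 1
    fin_cases i <;> simp [ev]
  have hy : ∀ a, ((V1 * U1⁻¹ : SLN) : Matrix (Fin N) (Fin N) F) *ᵥ a =
      a + (c * (A 0 ⬝ᵥ a)) • ev N (m + 2) + pad a (m + 2) • comb A (![0, 0, 1, 0] : Fin 4 → F) := by
    intro a
    set b := ((U1⁻¹ : SLN) : Matrix (Fin N) (Fin N) F) *ᵥ a
    have hb : (U1 : Matrix (Fin N) (Fin N) F) *ᵥ b = a := by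
      rw [Matrix.mulVec_mulVec, ← Matrix.SpecialLinearGroup.coe_mul, mul_inv_cancel,
        Matrix.SpecialLinearGroup.coe_one, Matrix.one_mulVec]
    have h := v_pow_eq_u_pow hN hsN h0 (phiCls_last hN _ hB') b
    rw [sfun_cls hN _ hB', ← hV1, ← hU1, hb, hBv, ← hU1B b, hb] at h
    rw [Matrix.SpecialLinearGroup.coe_mul, ← Matrix.mulVec_mulVec, h]
    have e : A 0 ⬝ᵥ a = (fun j => A j ⬝ᵥ b) 0 + (fun j => A j ⬝ᵥ b) 1 := by
      rw [← hb, hU1, (inter_u hN).proj, u4_apply]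
      rfl
    rw [e]
    congr 3
    simp [phi4, dotProduct, Fin.sum_univ_four]
    ring
  have hB0 : A 0 ⬝ᵥ (ev N (m + 2) : Fin N → F) = 0 := by
    rw [← comb_cls_last (m' := 1) hN, proj_comb hN]
    simp [ev]
  have h20 : A 0 ⬝ᵥ comb A (![0, 0, 1, 0] : Fin 4 → F) = 0 := by rw [proj_comb hN]; simp
  have h2B : pad (comb A (![0, 0, 1, 0] : Fin 4 → F)) (m + 2) = 0 := by
    rw [pad_comb_last hN]; simp [pad]
  have hB1 : pad (ev N (m + 2) : Fin N → F) (m + 2) = 1 := by rw [pad_ev (by omega), if_pos rfl]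
  have hym : V1 * U1⁻¹ ∈ H := mul_mem (pow_mem hv _) (inv_mem (pow_mem hu _))
  have hT : HasTv H (comb A (![0, 0, 1, 0] : Fin 4 → F)) (comb A (c • ![1, 0, 0, 0])) := by
    refine ⟨_, mul_mem hym hym, ?_⟩
    refine Matrix.ext_of_mulVec_single fun l => ?_
    generalize (Pi.single l 1 : Fin N → F) = a
    rw [Matrix.SpecialLinearGroup.coe_mul, ← Matrix.mulVec_mulVec, hy, hy a, Matrix.add_mulVec,
      Matrix.one_mulVec, vecMulVec_mulVec, op_smul_eq_smul, comb_cls_dot, smul_dotProduct]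
    simp only [dotProduct_add, dotProduct_smul, pad_add, pad_smul, hB0, h20, h2B, hB1, smul_zero,
      mul_zero, add_zero, mul_one, smul_eq_mul]
    rw [show (![1, 0, 0, 0] : Fin 4 → F) ⬝ᵥ (fun j => cls m 1 (2 ^ s) j ⬝ᵥ a) = A 0 ⬝ᵥ a by
      rw [dotProduct, Fin.sum_univ_four]; simp [hA]]
    set X := comb A (![0, 0, 1, 0] : Fin 4 → F)
    funext i
    simp only [Pi.add_apply, Pi.smul_apply, smul_eq_mul]
    have t2 : (2 : F) = 0 := CharTwo.two_eq_zero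
    linear_combination (c * (A 0 ⬝ᵥ a) * ev N (m + 2) i + pad a (m + 2) * X i) * t2
  have := hasTv_comap_emb (cls_dual hN) (by simp) hT
  rwa [← hasTv_smul_swap] at this

variable [Fintype F]

/-- From a triple in the block to everything. -/
theorem top_of_cls_triple {h : ℕ} (hN : m + 3 = h * (m' + 3)) {φ : Fin N → F} (h0 : pad φ 0 ≠ 0)
    (hB : pad φ (m + 2) = 0) {H : Subgroup SLN} (hu : jordanUp m ∈ H) (hv : vEl m φ h0 hB ∈ H)
    {a ψ : Fin 3 → (Fin (m' + 3) → F)}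
    (hfull : ∀ i, FullRoot (H.comap (embHom (cls m m' h) (cls m m' h) (cls_dual hN))) (a i) (ψ i))
    (h01 : ψ 0 ⬝ᵥ a 1 ≠ 0) (h10 : ψ 1 ⬝ᵥ a 0 ≠ 0)
    (hdet : (ψ 0 ⬝ᵥ a 1) * (ψ 1 ⬝ᵥ a 2) * (ψ 2 ⬝ᵥ a 0) +
      (ψ 0 ⬝ᵥ a 2) * (ψ 1 ⬝ᵥ a 0) * (ψ 2 ⬝ᵥ a 1) ≠ 0)
    (hcon : ∃ i j, comb (cls m m' h) (ψ j) ⬝ᵥ
      ((((jordanUp m : SLN)⁻¹ : SLN) : Matrix (Fin N) (Fin N) F) *ᵥ comb (cls m m' h) (a i)) ≠ 0)
    (hcon' : ∃ i j, comb (cls m m' h) (ψ j) ⬝ᵥ (vM m φ *ᵥ comb (cls m m' h) (a i)) ≠ 0)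
    (htop : ∃ i, pad (a i) (m' + 2) ≠ 0) (htop' : ∃ i, pad (ψ i) (m' + 2) ≠ 0) :
    H = ⊤ := by
  refine top_of_triple (a := fun i => comb (cls m m' h) (a i)) (ψ := fun i => comb (cls m m' h) (ψ i))
    (fun i => fullRoot_emb _ (hfull i)) ?_ ?_ ?_ hu hv hcon hcon' (fun U hU => ?_) (fun U hU => ?_)
  · rwa [dotProduct_comb (cls_dual hN)]
  · rwa [dotProduct_comb (cls_dual hN)]
  · simp only [dotProduct_comb (cls_dual hN)]; exact hdet
  · obtain ⟨i, hi⟩ := htop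
    exact u_span_top m (by rw [pad_comb_last hN]; exact hi) fun k => hU k i
  · obtain ⟨i, hi⟩ := htop'
    exact v_span_top m φ h0 hB (by rw [pad_comb_last hN]; exact hi) fun k => hU k i

/-- Odd block of size at least five. -/
theorem even_generate_odd (r : ℕ) (hN : m + 3 = 2 ^ s * (2 * r + 2 + 3)) {c : F} (hc : c ≠ 0)
    (hgen : Subfield.closure ({c} : Set F) = ⊤)
    (h0 : pad (phiCls m (2 * r + 2) (2 ^ s) (phiOdd r c)) 0 ≠ 0)
    (hB : pad (phiCls m (2 * r + 2) (2 ^ s) (phiOdd r c)) (m + 2) = 0) :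
    Subgroup.closure ({jordanUp m, vEl m (phiCls m (2 * r + 2) (2 ^ s) (phiOdd r c)) h0 hB} :
      Set SLN) = ⊤ := by
  set H := Subgroup.closure ({jordanUp m, vEl m (phiCls m (2 * r + 2) (2 ^ s) (phiOdd r c)) h0 hB} :
      Set SLN)
  have hu : jordanUp m ∈ H := Subgroup.subset_closure (Or.inl rfl)
  have hv : vEl m (phiCls m (2 * r + 2) (2 ^ s) (phiOdd r c)) h0 hB ∈ H :=
    Subgroup.subset_closure (Or.inr rfl)
  have two : ∀ y : F, y + y = 0 := CharTwo.add_self_eq_zero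
  have hB' : pad (phiOdd r c) (2 * r + 2 + 2) = 0 := by
    rw [phiOdd, pad_smul, pad_ev (by omega), if_neg (by omega), mul_zero]
  have hJx : ((jordanUp (2 * r + 2) : Matrix.SpecialLinearGroup (Fin (2 * r + 2 + 3)) F) :
        Matrix (Fin (2 * r + 2 + 3)) (Fin (2 * r + 2 + 3)) F) *ᵥ
      (((jordanUp (2 * r + 2) : Matrix.SpecialLinearGroup (Fin (2 * r + 2 + 3)) F) :
        Matrix (Fin (2 * r + 2 + 3)) (Fin (2 * r + 2 + 3)) F) *ᵥ
          (xOdd r + ev (2 * r + 2 + 3) (2 * r + 2 + 2))) = ev (2 * r + 2 + 3) (2 * r + 2 + 2) := by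
    rw [Matrix.mulVec_add _ (xOdd r), u_xOdd, u_B]
    funext i
    have := i.isLt
    rw [u_apply, xUOdd]
    by_cases h : i.val + 1 < 2 * r + 2 + 3
    · rw [pad_add, pad_add, pad_indVec r _ h, pad_ev h, pad_ev h]
      simp only [Pi.add_apply, indVec, ev_apply]
      split_ifs <;> first | omega | simp [two]
    · rw [pad_ge _ (by omega)]
      simp only [Pi.add_apply, indVec, ev_apply]
      split_ifs <;> first | omega | simp
  have hx1 : pad (xOdd r : Fin (2 * r + 2 + 3) → F) 1 = 0 := by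
    rw [xOdd, pad_indVec r _ (show 1 < 2 * r + 2 + 3 by omega), if_neg (by omega)]
  have hxB : pad (xOdd r : Fin (2 * r + 2 + 3) → F) (2 * r + 2 + 2) = 0 := by
    rw [xOdd, pad_indVec r _ (show 2 * r + 2 + 2 < 2 * r + 2 + 3 by omega), if_neg (by omega)]
  obtain ⟨f0, f1, f2⟩ := block_odd r hc hgen (pairSys_cls hN hB' h0 hu hv)
    (root_odd hN c rfl hB' h0 hu hv hJx hx1 hxB)
  have eB1 : pad (ev (2 * r + 2 + 3) (2 * r + 4) : Fin _ → F) (2 * r + 2 + 2) = 1 := by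
    rw [pad_ev (by omega), if_pos rfl]
  have hN' : comb (cls (F := F) m (2 * r + 2) (2 ^ s)) (ev (2 * r + 2 + 3) (2 * r + 4)) = ev N (m + 2) :=
    comb_cls_last hN
  refine top_of_cls_triple hN h0 hB hu hv
    (a := ![ev (2 * r + 2 + 3) (2 * r + 4), xUOdd r,
      ev (2 * r + 2 + 3) (2 * r + 4) + ev (2 * r + 2 + 3) (2 * r + 3)])
    (ψ := ![ev (2 * r + 2 + 3) 1, ev (2 * r + 2 + 3) (2 * r + 4), axU r])
    (fun i => ?_) ?_ ?_ ?_ ⟨0, 1, ?_⟩ ⟨0, 1, ?_⟩ ⟨0, ?_⟩ ⟨1, ?_⟩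
  · fin_cases i
    exacts [f0, f1, f2]
  · show ev _ 1 ⬝ᵥ xUOdd r ≠ 0
    rw [ev_dot, xUOdd, pad_indVec r _ (show 1 < 2 * r + 2 + 3 by omega), if_pos (by omega)]
    exact one_ne_zero
  · show ev _ (2 * r + 4) ⬝ᵥ ev _ (2 * r + 4) ≠ 0
    rw [ev_dot, eB1]; exact one_ne_zero
  · show (ev (2 * r + 2 + 3) 1 ⬝ᵥ xUOdd r) * (ev (2 * r + 2 + 3) (2 * r + 4) ⬝ᵥ (ev _ (2 * r + 4) +
        ev _ (2 * r + 3))) * (axU r ⬝ᵥ ev _ (2 * r + 4)) +
      (ev (2 * r + 2 + 3) 1 ⬝ᵥ (ev _ (2 * r + 4) + ev _ (2 * r + 3))) *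
        (ev (2 * r + 2 + 3) (2 * r + 4) ⬝ᵥ ev _ (2 * r + 4)) * ((axU r : Fin _ → F) ⬝ᵥ xUOdd r) ≠ 0
    have z : (axU r : Fin (2 * r + 2 + 3) → F) ⬝ᵥ xUOdd r = 0 := by
      rw [dot_xUOdd, Finset.sum_range_succ', axU, pad_indVec r _ (show 0 < 2 * r + 2 + 3 by omega),
        if_neg (by omega), add_zero, Finset.sum_congr rfl (fun i hi => by
          rw [pad_indVec r _ (show i + 1 < 2 * r + 2 + 3 by have := Finset.mem_range.1 hi; omega),
            if_pos (by omega)]),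
        Finset.sum_const, Finset.card_range, nsmul_one, cast_even (by omega)]
    rw [z, dot_ev (axU r), axU, pad_indVec r _ (show 2 * r + 4 < 2 * r + 2 + 3 by omega), ev_dot,
      xUOdd, pad_indVec r _ (show 1 < 2 * r + 2 + 3 by omega), ev_dot, pad_add,
      pad_ev (show 2 * r + 4 < 2 * r + 2 + 3 by omega), pad_ev (show 2 * r + 4 < 2 * r + 2 + 3 by omega)]
    simp
  · show comb _ (ev (2 * r + 2 + 3) (2 * r + 4)) ⬝ᵥ (_ *ᵥ comb _ (ev (2 * r + 2 + 3) (2 * r + 4))) ≠ 0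
    rw [hN', uinv_eB, ev_dot, pad_lt _ (by omega)]; exact one_ne_zero
  · show comb _ (ev (2 * r + 2 + 3) (2 * r + 4)) ⬝ᵥ (_ *ᵥ comb _ (ev (2 * r + 2 + 3) (2 * r + 4))) ≠ 0
    rw [hN', v_eB hB, ev_dot, pad_ev (by omega), if_pos rfl]; exact one_ne_zero
  · show pad (ev (2 * r + 2 + 3) (2 * r + 4) : Fin _ → F) (2 * r + 2 + 2) ≠ 0
    rw [eB1]; exact one_ne_zero
  · show pad (ev (2 * r + 2 + 3) (2 * r + 4) : Fin _ → F) (2 * r + 2 + 2) ≠ 0
    rw [eB1]; exact one_ne_zero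

/-- Block of size three. -/
theorem even_generate_three (hN : m + 3 = 2 ^ s * (0 + 3)) {c : F} (hc : c ≠ 0)
    (hgen : Subfield.closure ({c} : Set F) = ⊤)
    (h0 : pad (phiCls m 0 (2 ^ s) (phi3 c)) 0 ≠ 0)
    (hB : pad (phiCls m 0 (2 ^ s) (phi3 c)) (m + 2) = 0) :
    Subgroup.closure ({jordanUp m, vEl m (phiCls m 0 (2 ^ s) (phi3 c)) h0 hB} : Set SLN) = ⊤ := by
  set H := Subgroup.closure ({jordanUp m, vEl m (phiCls m 0 (2 ^ s) (phi3 c)) h0 hB} : Set SLN)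
  have hu : jordanUp m ∈ H := Subgroup.subset_closure (Or.inl rfl)
  have hv : vEl m (phiCls m 0 (2 ^ s) (phi3 c)) h0 hB ∈ H := Subgroup.subset_closure (Or.inr rfl)
  have two : ∀ y : F, y + y = 0 := CharTwo.add_self_eq_zero
  have hB' : pad (phi3 c) (0 + 2) = 0 := by simp [pad, phi3]
  have hφ' : (phi3 c : Fin 3 → F) = c • ev (0 + 3) 0 := by
    funext i; fin_cases i <;> simp [phi3, ev]
  have hJx : ((jordanUp 0 : Matrix.SpecialLinearGroup (Fin 3) F) : Matrix (Fin 3) (Fin 3) F) *ᵥ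
      (((jordanUp 0 : Matrix.SpecialLinearGroup (Fin 3) F) : Matrix (Fin 3) (Fin 3) F) *ᵥ
        ((![1, 0, 0] : Fin 3 → F) + ev (0 + 3) (0 + 2))) = ev (0 + 3) (0 + 2) := by
    rw [u3_apply, u3_apply]
    funext i; fin_cases i <;> simp [ev, two]
  obtain ⟨f0, f1, f2⟩ := block_three hc hgen (pairSys_cls hN hB' h0 hu hv)
    (by
      have := root_odd (x := (![1, 0, 0] : Fin 3 → F)) hN c hφ' hB' h0 hu hv hJx (by simp [pad])
        (by simp [pad])
      convert this using 1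
      funext i; fin_cases i <;> simp [ev])
  have e2 : (![0, 0, 1] : Fin 3 → F) = ev (0 + 3) (0 + 2) := by
    funext i; fin_cases i <;> simp [ev]
  refine top_of_cls_triple hN h0 hB hu hv (a := ![![0, 1, 1], ![0, 0, 1], ![1, 0, c]])
    (ψ := ![![0, 1, 1], ![0, 1, 0], ![c, c, 1]]) (fun i => ?_) ?_ ?_ ?_ ⟨1, 2, ?_⟩ ⟨1, 2, ?_⟩
    ⟨1, ?_⟩ ⟨2, ?_⟩
  · fin_cases i
    exacts [f0, f1, f2]
  · simp [dot3]
  · simp [dot3]
  · simp [dot3, hc]
  · show comb _ (![c, c, 1] : Fin 3 → F) ⬝ᵥ (_ *ᵥ comb _ (![0, 0, 1] : Fin 3 → F)) ≠ 0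
    rw [e2, comb_cls_last hN, uinv_eB, comb_cls_dot]
    have e : ∀ j, (cls m 0 (2 ^ s) j ⬝ᵥ fun _ => (1 : F)) = 1 := fun j => by
      rw [cls, ev_dot, pad_lt _ (pos_lt hN j)]
    simp only [e]
    rw [dot3]
    simp [two]
  · show comb _ (![c, c, 1] : Fin 3 → F) ⬝ᵥ (_ *ᵥ comb _ (![0, 0, 1] : Fin 3 → F)) ≠ 0
    rw [e2, comb_cls_last hN, v_eB hB, dot_ev, pad_comb_last hN]
    simp [pad]
  · simp [pad]
  · simp [pad]

/-- Block of size four. -/
theorem even_generate_four (hN : m + 3 = 2 ^ s * (1 + 3)) {c : F} (hc : c ≠ 0)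
    (hgen : Subfield.closure ({c} : Set F) = ⊤)
    (h0 : pad (phiCls m 1 (2 ^ s) (phi4 c)) 0 ≠ 0)
    (hB : pad (phiCls m 1 (2 ^ s) (phi4 c)) (m + 2) = 0) :
    Subgroup.closure ({jordanUp m, vEl m (phiCls m 1 (2 ^ s) (phi4 c)) h0 hB} : Set SLN) = ⊤ := by
  set H := Subgroup.closure ({jordanUp m, vEl m (phiCls m 1 (2 ^ s) (phi4 c)) h0 hB} : Set SLN)
  have hu : jordanUp m ∈ H := Subgroup.subset_closure (Or.inl rfl)
  have hv : vEl m (phiCls m 1 (2 ^ s) (phi4 c)) h0 hB ∈ H := Subgroup.subset_closure (Or.inr rfl)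
  have two : ∀ y : F, y + y = 0 := CharTwo.add_self_eq_zero
  have hB' : pad (phi4 c) (1 + 2) = 0 := by simp [pad, phi4]
  obtain ⟨f0, f1, f2⟩ := block_four hc hgen (pairSys_cls hN hB' h0 hu hv) (root_four hN c hB' h0 hu hv)
  set h := 2 ^ s with hh
  have hpos : 0 < h := Nat.pos_of_ne_zero (by simp [hh])
  have dot4 : ∀ p q : Fin 4 → F, p ⬝ᵥ q = p 0 * q 0 + p 1 * q 1 + p 2 * q 2 + p 3 * q 3 := fun p q => by
    rw [dotProduct, Fin.sum_univ_four]
  refine top_of_cls_triple hN h0 hB hu hv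
    (a := ![![0, 1, 0, 0], ![1, 1, 0, 0], ![1, 0, 0, c]])
    (ψ := ![![1, 0, 0, 0], ![1, 1, 1, 1], ![c, 0, 0, 1]]) (fun i => ?_) ?_ ?_ ?_ ⟨2, 2, ?_⟩ ⟨0, 1, ?_⟩
    ⟨2, ?_⟩ ⟨2, ?_⟩
  · fin_cases i
    exacts [f0, f1, f2]
  · simp [dot4]
  · simp [dot4]
  · simp [dot4, two, hc]
  · show comb _ (![c, 0, 0, 1] : Fin 4 → F) ⬝ᵥ (_ *ᵥ comb _ (![1, 0, 0, c] : Fin 4 → F)) ≠ 0
    set w : Fin N → F := fun l => (if l.val + 1 ≤ h then 1 else 0) + c with hw
    have key : Uu *ᵥ w = comb (cls m 1 h) (![1, 0, 0, c] : Fin 4 → F) := by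
      have e : comb (cls m 1 h) (![1, 0, 0, c] : Fin 4 → F) = ev N (h - 1) + c • ev N (m + 2) := by
        rw [comb, Fin.sum_univ_four]
        have p0 : pos 1 h (0 : Fin 4) = h - 1 := by simp [pos]
        have p3 : pos 1 h (3 : Fin 4) = m + 2 := by simp [pos]; omega
        simp [cls, p0, p3]
      rw [e]
      funext l
      have := l.isLt
      rw [u_apply, Pi.add_apply, Pi.smul_apply, ev_apply, ev_apply, hw]
      by_cases hl : l.val + 1 < N
      · rw [pad_lt _ hl]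
        simp only
        split_ifs <;> first | omega | (simp [two]; done) | linear_combination (two c) | linear_combination (two c) + (two 1)
      · rw [pad_ge _ (by omega)]
        simp only
        split_ifs <;> first | omega | simp
    rw [← key, Matrix.mulVec_mulVec, ← Matrix.SpecialLinearGroup.coe_mul, inv_mul_cancel,
      Matrix.SpecialLinearGroup.coe_one, Matrix.one_mulVec, comb_cls_dot, dot4]
    have p0 : cls m 1 h (0 : Fin 4) ⬝ᵥ w = 1 + c := by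
      rw [cls, ev_dot, pad_lt _ (pos_lt hN (0 : Fin 4)), hw]
      show (if pos 1 h (0 : Fin 4) + 1 ≤ h then (1 : F) else 0) + c = 1 + c
      rw [if_pos (show pos 1 h (0 : Fin 4) + 1 ≤ h by simp [pos]; omega)]
    have p3 : cls m 1 h (3 : Fin 4) ⬝ᵥ w = c := by
      rw [cls, ev_dot, pad_lt _ (pos_lt hN (3 : Fin 4)), hw]
      show (if pos 1 h (3 : Fin 4) + 1 ≤ h then (1 : F) else 0) + c = c
      rw [if_neg (show ¬ pos 1 h (3 : Fin 4) + 1 ≤ h by simp [pos]; omega), zero_add]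
    simp only [p0, p3]
    convert mul_ne_zero hc hc using 1
    simp
    linear_combination two c
  · show comb _ (![1, 1, 1, 1] : Fin 4 → F) ⬝ᵥ (_ *ᵥ comb _ (![0, 1, 0, 0] : Fin 4 → F)) ≠ 0
    have e : comb (cls m 1 h) (![0, 1, 0, 0] : Fin 4 → F) = ev N (h * 2 - 1) := by
      rw [comb, Fin.sum_univ_four]
      have p1 : pos 1 h (1 : Fin 4) = h * 2 - 1 := by simp [pos]
      simp [cls, p1]
    rw [e, comb_cls_dot, dot4]
    simp only [cls, ev_dot, pos, Fin.val_zero, Fin.val_one, show ((2 : Fin 4).val) = 2 from rfl,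
      show ((3 : Fin 4).val) = 3 from rfl]
    simp only [pad_lt _ (show h * (0 + 1) - 1 < N by omega), pad_lt _ (show h * (1 + 1) - 1 < N by omega),
      pad_lt _ (show h * (2 + 1) - 1 < N by omega), pad_lt _ (show h * (3 + 1) - 1 < N by omega),
      vM_apply, ev_apply, dot_ev]
    rw [if_pos (show h * (0 + 1) - 1 + 1 < N by omega), if_pos (show h * (0 + 1) - 1 + 2 < N by omega),
      if_pos (show h * (1 + 1) - 1 + 1 < N by omega), if_pos (show h * (1 + 1) - 1 + 2 < N by omega),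
      if_pos (show h * (2 + 1) - 1 + 1 < N by omega), if_neg (show ¬ h * (3 + 1) - 1 + 1 < N by omega),
      pad_ev (show h * (0 + 1) - 1 + 1 < N by omega), pad_ev (show h * (1 + 1) - 1 + 1 < N by omega),
      if_neg (show ¬ h * (1 + 1) - 1 + 1 = h * 2 - 1 by omega)]
    rcases (show h = 1 ∨ 2 ≤ h by omega) with h1 | h1
    · have hm : m + 3 = 4 := by omega
      have hφ1 : pad (phiCls m 1 h (phi4 c)) (h * 2 - 1) = c := by
        rw [← dot_ev, phiCls_dot, Fin.sum_univ_four, pad_ev (show h * ((0 : Fin 4).val) < N by simp),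
          pad_ev (show h * ((1 : Fin 4).val) < N by simp; omega)]
        simp [phi4, h1]
      have hφ1' : ∀ hp, phiCls m 1 h (phi4 c) ⟨h * (1 + 1) - 1, hp⟩ = c := fun hp => by
        rw [← pad_lt (phiCls m 1 h (phi4 c)) hp, show h * (1 + 1) - 1 = h * 2 - 1 by omega, hφ1]
      simp only [hφ1']
      rw [pad_ev (show h * (2 + 1) - 1 + 1 < N by omega)]
      simp [h1, hm, two, hc]
    · have hφ1 : pad (phiCls m 1 h (phi4 c)) (h * 2 - 1) = 0 := by
        rw [← dot_ev, phiCls_dot, Fin.sum_univ_four, pad_ev (show h * ((0 : Fin 4).val) < N by simp),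
          pad_ev (show h * ((1 : Fin 4).val) < N by simp; omega),
          if_neg (show ¬ h * ((0 : Fin 4).val) = h * 2 - 1 by simp; omega),
          if_neg (show ¬ h * ((1 : Fin 4).val) = h * 2 - 1 by simp; omega)]
        simp [phi4]
      have hφ1' : ∀ hp, phiCls m 1 h (phi4 c) ⟨h * (1 + 1) - 1, hp⟩ = 0 := fun hp => by
        rw [← pad_lt (phiCls m 1 h (phi4 c)) hp, show h * (1 + 1) - 1 = h * 2 - 1 by omega, hφ1]
      simp only [hφ1']
      rw [if_neg (show ¬ h * (0 + 1) - 1 = h * 2 - 1 by omega),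
        if_neg (show ¬ h * (0 + 1) - 1 + 1 = h * 2 - 1 by omega),
        if_neg (show ¬ h * (2 + 1) - 1 = h * 2 - 1 by omega),
        if_neg (show ¬ h * (3 + 1) - 1 = h * 2 - 1 by omega)]
      rw [pad_ev (show h * (2 + 1) - 1 + 1 < N by omega),
        if_neg (show ¬ h * (2 + 1) - 1 + 1 = h * 2 - 1 by omega)]
      simp
  · simp [pad, hc]
  · simp [pad]

end H37
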