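import Cfsg.Agent.H37.TRCore

/-!
A second regular unipotent `vM φ`, conjugate to the Jordan block, with cyclicity facts.
-/

set_option autoImplicit false

namespace H37

open Matrix

universe u

section coords

variable {F : Type u} [Field F] {n : ℕ}

/-- The `j`-th unit vector, zero when out of range. -/
def ev (n : ℕ) (j : ℕ) : Fin n → F := fun i => if i.val = j then 1 else 0

/-- The `j`-th coordinate, zero when out of range. -/
def pad (a : Fin n → F) (j : ℕ) : F := if h : j < n then a ⟨j, h⟩ else 0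

theorem pad_val (a : Fin n → F) (i : Fin n) : pad a i.val = a i := dif_pos i.isLt

theorem pad_lt (a : Fin n → F) {j : ℕ} (h : j < n) : pad a j = a ⟨j, h⟩ := dif_pos h

theorem pad_ge (a : Fin n → F) {j : ℕ} (h : n ≤ j) : pad a j = 0 := dif_neg (by omega)

theorem pad_add (a b : Fin n → F) (j : ℕ) : pad (a + b) j = pad a j + pad b j := by
  unfold pad; split_ifs <;> simp

theorem pad_sub (a b : Fin n → F) (j : ℕ) : pad (a - b) j = pad a j - pad b j := by
  unfold pad; split_ifs <;> simp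

theorem pad_smul (c : F) (a : Fin n → F) (j : ℕ) : pad (c • a) j = c * pad a j := by
  unfold pad; split_ifs <;> simp

theorem pad_neg (a : Fin n → F) (j : ℕ) : pad (-a) j = -pad a j := by
  unfold pad; split_ifs <;> simp

theorem pad_zero (j : ℕ) : pad (0 : Fin n → F) j = 0 := by unfold pad; split_ifs <;> simp

theorem pad_ev {i : ℕ} (hi : i < n) (j : ℕ) : pad (ev n j : Fin n → F) i = if i = j then 1 else 0 :=
  by rw [pad_lt _ hi]; rfl

theorem ev_dot (j : ℕ) (a : Fin n → F) : ev n j ⬝ᵥ a = pad a j := by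
  unfold pad
  split_ifs with h
  · rw [dotProduct, Finset.sum_eq_single (⟨j, h⟩ : Fin n)]
    · simp [ev]
    · intro b _ hb
      simp [ev, show b.val ≠ j from fun h' => hb (Fin.ext h')]
    · simp
  · rw [dotProduct]
    exact Finset.sum_eq_zero fun b _ => by
      simp [ev, show b.val ≠ j from by have := b.isLt; omega]

theorem dot_ev (a : Fin n → F) (j : ℕ) : a ⬝ᵥ ev n j = pad a j := by
  rw [dotProduct_comm, ev_dot]

theorem ev_apply (j : ℕ) (i : Fin n) : (ev n j : Fin n → F) i = if i.val = j then 1 else 0 := rfl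

theorem eq_top_of_triangular {U : Submodule F (Fin n → F)} (w : Fin n → (Fin n → F))
    (hw : ∀ d, w d ∈ U) (hdiag : ∀ d, w d d ≠ 0) (hlow : ∀ d i : Fin n, i < d → w d i = 0) :
    U = ⊤ := by
  have hdet : (Matrix.of w).det ≠ 0 := by
    rw [Matrix.det_of_isUpperTriangular (M := Matrix.of w) (fun i j hji => hlow i j hji)]
    exact Finset.prod_ne_zero_iff.2 fun i _ => hdiag i
  refine eq_top_iff.2 fun y _ => ?_
  obtain ⟨c, hc⟩ := Matrix.vecMul_surjective_iff_isUnit.2
    ((Matrix.isUnit_iff_isUnit_det _).2 (isUnit_iff_ne_zero.2 hdet)) y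
  rw [← hc]
  have e : c ᵥ* Matrix.of w = ∑ d, c d • w d := by
    funext l; simp [Matrix.vecMul, dotProduct]
  show c ᵥ* Matrix.of w ∈ U
  rw [e]
  exact sum_mem fun d _ => U.smul_mem _ (hw d)

end coords

section jordan

variable {F : Type u} [Field F] (m : ℕ)

local notation "N" => m + 3
local notation "SLN" => Matrix.SpecialLinearGroup (Fin (m + 3)) F
local notation "Uu" => ((jordanUp m : Matrix.SpecialLinearGroup (Fin (m + 3)) F) :
  Matrix (Fin (m + 3)) (Fin (m + 3)) F)

theorem u_apply (a : Fin N → F) (i : Fin N) : (Uu *ᵥ a) i = a i + pad a (i.val + 1) := by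
  rw [← ev_dot, coe_jordanUp, Matrix.mulVec, dotProduct, dotProduct,
    ← Finset.add_sum_erase _ _ (Finset.mem_univ i)]
  rw [Matrix.of_apply, if_pos rfl, one_mul]
  congr 1
  rw [← Finset.add_sum_erase Finset.univ (fun x => ev N (i.val + 1) x * a x) (Finset.mem_univ i)]
  rw [show (ev N (i.val + 1) : Fin N → F) i = 0 by simp [ev], zero_mul, zero_add]
  refine Finset.sum_congr rfl fun x hx => ?_
  rw [Matrix.of_apply, if_neg (Finset.ne_of_mem_erase hx).symm, ev_apply]

theorem u_vecMul (ψ : Fin N → F) (i : Fin N) :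
    (ψ ᵥ* Uu) i = ψ i + if 0 < i.val then pad ψ (i.val - 1) else 0 := by
  have h : (ψ ᵥ* Uu) i = ψ ⬝ᵥ (Uu *ᵥ ev N i.val) := by
    rw [dotProduct_mulVec, dot_ev, pad_val]
  have e : Uu *ᵥ (ev N i.val : Fin N → F) = ev N i.val + if 0 < i.val then ev N (i.val - 1) else 0 := by
    funext j
    rw [u_apply, Pi.add_apply]
    congr 1
    have := i.isLt
    by_cases hj : j.val + 1 < N
    · rw [pad_ev hj]
      split_ifs <;> simp [ev] <;> omega
    · rw [pad_ge _ (by omega)]
      split_ifs <;> simp [ev]; omega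
  rw [h, e, dotProduct_add, dot_ev, pad_val]
  split_ifs
  · rw [dot_ev]
  · rw [dotProduct_zero]

/-- `P` with last row `φ`. -/
def pM (φ : Fin N → F) : Matrix (Fin N) (Fin N) F :=
  Matrix.of fun i j => if i.val + 1 < N then (if j.val = i.val + 1 then 1 else 0) else φ j

/-- The second regular unipotent. -/
def vM (φ : Fin N → F) : Matrix (Fin N) (Fin N) F :=
  1 + Matrix.of fun i j =>
    if i.val + 1 < N then (if i.val + 2 < N ∧ j.val = i.val + 1 then 1 else 0) else φ j

theorem pM_apply (φ a : Fin N → F) (i : Fin N) :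
    (pM m φ *ᵥ a) i = if i.val + 1 < N then pad a (i.val + 1) else φ ⬝ᵥ a := by
  split_ifs with h
  · rw [← ev_dot, Matrix.mulVec]
    simp only [pM, Matrix.of_apply, if_pos h]
    rfl
  · rw [Matrix.mulVec]
    simp only [pM, Matrix.of_apply, if_neg h]

theorem vM_apply (φ a : Fin N → F) (i : Fin N) :
    (vM m φ *ᵥ a) i = a i +
      if i.val + 1 < N then (if i.val + 2 < N then pad a (i.val + 1) else 0) else φ ⬝ᵥ a := by
  rw [vM, Matrix.add_mulVec, Matrix.one_mulVec, Pi.add_apply]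
  congr 1
  rw [Matrix.mulVec]
  split_ifs with h1 h2
  · rw [← ev_dot]
    simp only [Matrix.of_apply, if_pos h1, h2, true_and]
    rfl
  · exact Finset.sum_eq_zero fun x _ => by
      simp only [Matrix.of_apply, if_pos h1, h2, false_and, if_false, zero_mul]
  · simp only [Matrix.of_apply, if_neg h1]

theorem pM_det (φ : Fin N → F) : (pM m φ).det = (-1) ^ m * pad φ 0 := by
  rw [Matrix.det_succ_column_zero, Finset.sum_eq_single (Fin.last (m + 2))]
  · have hs : (pM m φ).submatrix (Fin.last (m + 2)).succAbove Fin.succ = 1 := by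
      ext i j
      rw [Fin.succAbove_last]
      simp [pM, Matrix.one_apply, Fin.ext_iff, eq_comm]
    rw [hs, Matrix.det_one, mul_one, pad_lt _ (by omega)]
    simp [pM, pow_add]
  · intro b _ hb
    have : b.val + 1 < N := by
      have := b.isLt
      have : b.val ≠ m + 2 := fun h => hb (Fin.ext h)
      omega
    simp [pM, this]
    intro hle
    omega
  · simp

theorem vM_mul_pM (φ : Fin N → F) (hB : pad φ (m + 2) = 0) : vM m φ * pM m φ = pM m φ * Uu := by
  refine Matrix.ext_of_mulVec_single fun j => ?_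
  generalize (Pi.single j 1 : Fin N → F) = a
  funext i
  rw [← Matrix.mulVec_mulVec, ← Matrix.mulVec_mulVec, vM_apply]
  have hi := i.isLt
  by_cases h1 : i.val + 1 < N
  · rw [if_pos h1, pM_apply, if_pos h1, pM_apply, if_pos h1,
      pad_lt (Uu *ᵥ a) h1, u_apply, pad_lt a h1]
    by_cases h2 : i.val + 2 < N
    · rw [if_pos h2, pad_lt (pM m φ *ᵥ a) h1, pM_apply, if_pos h2]
    · rw [if_neg h2, pad_ge a (show N ≤ i.val + 1 + 1 by omega)]
  · rw [if_neg h1, pM_apply, if_neg h1, pM_apply, if_neg h1]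
    have : Uu *ᵥ a = a + fun l => pad a (l.val + 1) := funext (u_apply m a)
    rw [this, dotProduct_add]
    congr 1
    refine Finset.sum_congr rfl fun l _ => ?_
    by_cases hl : l.val + 1 < N
    · rw [pM_apply, if_pos hl]
    · have : φ l = 0 := by
        rw [← pad_val φ l, show l.val = m + 2 by have := l.isLt; omega]; exact hB
      rw [this, zero_mul, zero_mul]

/-- The second generator in `SL`. -/
def vEl (φ : Fin N → F) (h0 : pad φ 0 ≠ 0) (hB : pad φ (m + 2) = 0) : SLN :=
  ⟨vM m φ, by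
    have h := congrArg Matrix.det (vM_mul_pM m φ hB)
    rw [Matrix.det_mul, Matrix.det_mul, (jordanUp m : SLN).2, mul_one] at h
    exact (mul_eq_right₀ (by rw [pM_det]; exact mul_ne_zero (by simp) h0)).1 h⟩

theorem coe_vEl (φ : Fin N → F) (h0 : pad φ 0 ≠ 0) (hB : pad φ (m + 2) = 0) :
    ((vEl m φ h0 hB : SLN) : Matrix (Fin N) (Fin N) F) = vM m φ := rfl

theorem vM_pow_mul (φ : Fin N → F) (hB : pad φ (m + 2) = 0) (k : ℕ) :
    (vM m φ - 1) ^ k * pM m φ = pM m φ * (Uu - 1) ^ k := by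
  induction k with
  | zero => simp
  | succ k ih =>
    rw [pow_succ, pow_succ, Matrix.mul_assoc, Matrix.sub_mul, Matrix.one_mul, vM_mul_pM m φ hB,
      show pM m φ * Uu - pM m φ = pM m φ * (Uu - 1) by rw [Matrix.mul_sub, Matrix.mul_one],
      ← Matrix.mul_assoc, ih, Matrix.mul_assoc]

theorem vEl_regular (φ : Fin N → F) (h0 : pad φ 0 ≠ 0) (hB : pad φ (m + 2) = 0) :
    IsNilpotent (((vEl m φ h0 hB : SLN) : Matrix (Fin N) (Fin N) F) - 1) ∧
      (((vEl m φ h0 hB : SLN) : Matrix (Fin N) (Fin N) F) - 1) ^ (N - 1) ≠ 0 := by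
  rw [coe_vEl]
  have hP : IsUnit (pM m φ) := (Matrix.isUnit_iff_isUnit_det _).2
    (isUnit_iff_ne_zero.2 (by rw [pM_det]; exact mul_ne_zero (by simp) h0))
  obtain ⟨⟨k, hk⟩, hne⟩ := jordanUp_regular (F := F) m
  refine ⟨⟨k, hP.mul_left_injective ?_⟩, fun h => hne (hP.mul_right_injective ?_)⟩
  · show (vM m φ - 1) ^ k * pM m φ = 0 * pM m φ
    rw [vM_pow_mul m φ hB, hk, mul_zero, zero_mul]
  · show pM m φ * (Uu - 1) ^ (N - 1) = pM m φ * 0
    rw [← vM_pow_mul m φ hB, h, zero_mul, mul_zero]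

theorem vEl_conj (φ : Fin N → F) (h0 : pad φ 0 ≠ 0) (hB : pad φ (m + 2) = 0)
    (h1 : (-1) ^ m * pad φ 0 = 1) :
    ∃ g : SLN, g * jordanUp m * g⁻¹ = vEl m φ h0 hB := by
  obtain ⟨g, hg⟩ : ∃ g : SLN, (g : Matrix (Fin N) (Fin N) F) = pM m φ :=
    ⟨⟨pM m φ, by rw [pM_det]; exact h1⟩, rfl⟩
  refine ⟨g, ?_⟩
  rw [mul_inv_eq_iff_eq_mul]
  apply Subtype.ext
  rw [Matrix.SpecialLinearGroup.coe_mul, Matrix.SpecialLinearGroup.coe_mul, coe_vEl, hg,
    vM_mul_pM m φ hB]

theorem uinv_vecMul_low (ψ : Fin N → F) (t : ℕ) (h : ∀ i, i < t → pad ψ i = 0) :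
    let η := ψ ᵥ* (((jordanUp m : SLN)⁻¹ : SLN) : Matrix (Fin N) (Fin N) F) - ψ
    (∀ i, i < t + 1 → pad η i = 0) ∧ (t + 1 < N → pad η (t + 1) = -pad ψ t) := by
  intro η
  set z := ψ ᵥ* (((jordanUp m : SLN)⁻¹ : SLN) : Matrix (Fin N) (Fin N) F) with hz
  have hzu : z ᵥ* Uu = ψ := by
    rw [hz, Matrix.vecMul_vecMul, ← Matrix.SpecialLinearGroup.coe_mul, inv_mul_cancel,
      Matrix.SpecialLinearGroup.coe_one, Matrix.vecMul_one]
  have hrec : ∀ i, i < N → pad ψ i = pad z i + if 0 < i then pad z (i - 1) else 0 := by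
    intro i hi
    rw [pad_lt ψ hi, pad_lt z hi]
    conv_lhs => rw [← hzu]
    rw [u_vecMul]
  have hz0 : ∀ i, i < t → pad z i = 0 := by
    intro i
    induction i with
    | zero =>
      intro hi
      have := hrec 0 (by omega)
      rw [h 0 hi] at this
      simpa using this.symm
    | succ i ih =>
      intro hi
      by_cases hN : i + 1 < N
      · have := hrec (i + 1) hN
        rw [h _ hi, if_pos (by omega), Nat.add_sub_cancel, ih (by omega), add_zero] at this
        exact this.symm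
      · exact pad_ge _ (by omega)
  have hzt : pad z t = pad ψ t := by
    by_cases hN : t < N
    · have := hrec t hN
      split_ifs at this with ht
      · rw [hz0 (t - 1) (by omega), add_zero] at this; exact this.symm
      · rw [add_zero] at this; exact this.symm
    · rw [pad_ge _ (by omega), pad_ge _ (by omega)]
  refine ⟨fun i hi => ?_, fun ht => ?_⟩
  · rw [pad_sub]
    rcases Nat.lt_succ_iff_lt_or_eq.1 hi with h' | rfl
    · rw [hz0 i h', h i h', sub_zero]
    · rw [hzt, sub_self]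
  · have := hrec (t + 1) ht
    rw [if_pos (by omega), Nat.add_sub_cancel, hzt] at this
    rw [pad_sub]
    linear_combination -this

/-- Cyclicity of the Jordan block. -/
theorem u_span_top {U : Submodule F (Fin N → F)} {a : Fin N → F} (ha : pad a (m + 2) ≠ 0)
    (h : ∀ k : ℕ, ((jordanUp m ^ k : SLN) : Matrix (Fin N) (Fin N) F) *ᵥ a ∈ U) : U = ⊤ := by
  have key : ∀ d, d ≤ m + 2 → ∃ w : Fin N → F,
      (∀ k : ℕ, ((jordanUp m ^ k : SLN) : Matrix (Fin N) (Fin N) F) *ᵥ w ∈ U) ∧
      pad w (m + 2 - d) ≠ 0 ∧ ∀ i, m + 2 - d < i → pad w i = 0 := by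
    intro d
    induction d with
    | zero => intro _; exact ⟨a, h, ha, fun i hi => pad_ge _ (by omega)⟩
    | succ d ih =>
      intro hd
      obtain ⟨w, hw, hne, hup⟩ := ih (by omega)
      refine ⟨Uu *ᵥ w - w, fun k => ?_, ?_, fun i hi => ?_⟩
      · rw [Matrix.mulVec_sub, Matrix.mulVec_mulVec, ← Matrix.SpecialLinearGroup.coe_mul, ← pow_succ]
        exact U.sub_mem (hw _) (hw _)
      · rw [pad_lt _ (show m + 2 - (d + 1) < N by omega), Pi.sub_apply, u_apply, add_sub_cancel_left]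
        show pad w (m + 2 - (d + 1) + 1) ≠ 0
        rwa [show m + 2 - (d + 1) + 1 = m + 2 - d by omega]
      · by_cases hiN : i < N
        · rw [pad_lt _ hiN, Pi.sub_apply, u_apply, add_sub_cancel_left]
          exact hup _ (show m + 2 - d < i + 1 by omega)
        · exact pad_ge _ (by omega)
  have hall : ∀ t, t ≤ N → ∀ y : Fin N → F, (∀ i, t ≤ i → pad y i = 0) → y ∈ U := by
    intro t
    induction t with
    | zero =>
      intro _ y hy
      rw [show y = 0 from funext fun i => (pad_val y i).symm.trans (hy _ (Nat.zero_le _))]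
      exact zero_mem _
    | succ t ih =>
      intro ht y hy
      obtain ⟨w, hw, hne, hup⟩ := key (m + 2 - t) (Nat.sub_le _ _)
      rw [show m + 2 - (m + 2 - t) = t by omega] at hne hup
      have hw0 : w ∈ U := by simpa using hw 0
      have hd : y - (pad y t / pad w t) • w ∈ U := by
        refine ih (by omega) _ fun i hi => ?_
        rw [pad_sub, pad_smul]
        rcases eq_or_lt_of_le hi with rfl | hlt
        · rw [div_mul_cancel₀ _ hne, sub_self]
        · rw [hy i hlt, hup i hlt, mul_zero, sub_zero]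
      simpa using U.add_mem hd (U.smul_mem (pad y t / pad w t) hw0)
  exact eq_top_iff.2 fun y _ => hall N le_rfl y fun i hi => pad_ge _ hi

/-- Cyclicity of `vM φ` on the dual. -/
theorem v_span_top (φ : Fin N → F) (h0 : pad φ 0 ≠ 0) (hB : pad φ (m + 2) = 0)
    {U : Submodule F (Fin N → F)} {ξ : Fin N → F} (hξ : pad ξ (m + 2) ≠ 0)
    (h : ∀ k : ℕ, ξ ᵥ* (((vEl m φ h0 hB ^ k)⁻¹ : SLN) : Matrix (Fin N) (Fin N) F) ∈ U) :
    U = ⊤ := by
  have hP : IsUnit (pM m φ) := (Matrix.isUnit_iff_isUnit_det _).2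
    (isUnit_iff_ne_zero.2 (by rw [pM_det]; exact mul_ne_zero (by simp) h0))
  set U' := U.map (pM m φ).vecMulLinear with hU'
  set Ui := (((jordanUp m : SLN)⁻¹ : SLN) : Matrix (Fin N) (Fin N) F) with hUi
  have hVi : ((((vEl m φ h0 hB))⁻¹ : SLN) : Matrix (Fin N) (Fin N) F) * pM m φ = pM m φ * Ui := by
    set Vi := ((((vEl m φ h0 hB))⁻¹ : SLN) : Matrix (Fin N) (Fin N) F)
    calc Vi * pM m φ = Vi * (pM m φ * (Uu * Ui)) := by
          rw [hUi, ← Matrix.SpecialLinearGroup.coe_mul, mul_inv_cancel,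
            Matrix.SpecialLinearGroup.coe_one, Matrix.mul_one]
      _ = Vi * ((vEl m φ h0 hB : SLN) : Matrix (Fin N) (Fin N) F) * pM m φ * Ui := by
          rw [coe_vEl, ← Matrix.mul_assoc (pM m φ), ← vM_mul_pM m φ hB]
          simp only [Matrix.mul_assoc]
      _ = _ := by rw [← Matrix.SpecialLinearGroup.coe_mul, inv_mul_cancel,
          Matrix.SpecialLinearGroup.coe_one, Matrix.one_mul]
  have hall : ∀ k : ℕ, (ξ ᵥ* pM m φ) ᵥ* (((jordanUp m ^ k)⁻¹ : SLN) : Matrix (Fin N) (Fin N) F) ∈ U' := by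
    intro k
    refine ⟨_, h k, ?_⟩
    rw [Matrix.vecMulLinear_apply, Matrix.vecMul_vecMul, Matrix.vecMul_vecMul]
    congr 1
    rw [← inv_pow, ← inv_pow, Matrix.SpecialLinearGroup.coe_pow, Matrix.SpecialLinearGroup.coe_pow,
      ← hUi]
    exact (SemiconjBy.pow_right (show SemiconjBy (pM m φ) Ui _ from hVi.symm) k).eq.symm
  have key : ∀ d, d < N → ∃ w : Fin N → F,
      (∀ k : ℕ, w ᵥ* (((jordanUp m ^ k)⁻¹ : SLN) : Matrix (Fin N) (Fin N) F) ∈ U') ∧
      pad w d ≠ 0 ∧ ∀ i, i < d → pad w i = 0 := by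
    intro d
    induction d with
    | zero =>
      intro _
      refine ⟨ξ ᵥ* pM m φ, hall, ?_, fun i hi => absurd hi (by omega)⟩
      have e : pad (ξ ᵥ* pM m φ) 0 = pad ξ (m + 2) * pad φ 0 := by
        rw [← dot_ev, ← dotProduct_mulVec,
          show pM m φ *ᵥ (ev N 0 : Fin N → F) = pad φ 0 • ev N (m + 2) from ?_,
          dotProduct_smul, dot_ev, smul_eq_mul, mul_comm]
        funext i
        rw [pM_apply, Pi.smul_apply, ev_apply, smul_eq_mul]
        have := i.isLt
        split_ifs with h1 h2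
        · omega
        · rw [pad_ev h1, if_neg (by omega), mul_zero]
        · rw [dot_ev, mul_one]
        · omega
      rw [e]
      exact mul_ne_zero hξ h0
    | succ d ih =>
      intro hd
      obtain ⟨w, hw, hne, hlow⟩ := ih (by omega)
      obtain ⟨a1, a2⟩ := uinv_vecMul_low m w d hlow
      refine ⟨w ᵥ* Ui - w, fun k => ?_, by rw [hUi, a2 hd]; exact neg_ne_zero.2 hne,
        fun i hi => a1 i hi⟩
      rw [Matrix.sub_vecMul, Matrix.vecMul_vecMul, hUi, ← Matrix.SpecialLinearGroup.coe_mul,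
        ← _root_.mul_inv_rev, ← pow_succ]
      exact U'.sub_mem (hw _) (hw _)
  choose w hw hne hlow using key
  have htop : U' = ⊤ := eq_top_of_triangular (fun d => w d.val d.isLt)
    (fun d => by simpa using hw d.val d.isLt 0)
    (fun d => by rw [← pad_val (w d.val d.isLt) d]; exact hne d.val d.isLt)
    (fun d i hi => by rw [← pad_val (w d.val d.isLt) i]; exact hlow d.val d.isLt i.val hi)
  refine eq_top_iff.2 fun y _ => ?_
  obtain ⟨y', hy', he⟩ : y ᵥ* pM m φ ∈ U' := htop ▸ Submodule.mem_top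
  rw [Matrix.vecMulLinear_apply] at he
  rwa [← Matrix.vecMul_injective_iff_isUnit.2 hP he]

end jordan

end H37
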