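import Cfsg.Agent.H37.TROdd
import Cfsg.Agent.H37.TREvenGen
import Cfsg.Agent.H37.SL3Gen

/-!
`SL_n(q)`, `n ≥ 4`, is generated by two regular unipotents, conjugate ones for prime `q`.
-/

set_option autoImplicit false

namespace H37

open Matrix

universe u

/-- The conclusion for the size `m + 3`. -/
def TwoRegular (F : Type u) [Field F] [Fintype F] (m : ℕ) : Prop :=
  (∃ (φ : Fin (m + 3) → F) (h0 : pad φ 0 ≠ 0) (hB : pad φ (m + 2) = 0),
    Subgroup.closure ({jordanUp m, vEl m φ h0 hB} :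
      Set (Matrix.SpecialLinearGroup (Fin (m + 3)) F)) = ⊤) ∧
  ((Fintype.card F).Prime →
    ∃ (φ : Fin (m + 3) → F) (h0 : pad φ 0 ≠ 0) (hB : pad φ (m + 2) = 0),
      (-1) ^ m * pad φ 0 = 1 ∧ Subgroup.closure ({jordanUp m, vEl m φ h0 hB} :
        Set (Matrix.SpecialLinearGroup (Fin (m + 3)) F)) = ⊤)

variable {F : Type u} [Field F] [Fintype F]

theorem closure_sq_gen_eq_top {g : Fˣ} (hg : ∀ x : Fˣ, x ∈ Subgroup.zpowers g) :
    Subfield.closure ({(g : F) ^ 2} : Set F) = ⊤ := by
  refine closure_eq_top_of_forall fun K hK => ?_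
  by_contra hne
  have := Fintype.one_lt_card (α := F)
  rcases card_le_of_pow_mem hg hne (by norm_num) hK with h | h <;> omega

theorem closure_gen_eq_top {g : Fˣ} (hg : ∀ x : Fˣ, x ∈ Subgroup.zpowers g) :
    Subfield.closure ({(g : F)} : Set F) = ⊤ := by
  refine top_unique ((closure_sq_gen_eq_top hg).symm.trans_le (Subfield.closure_le.2 ?_))
  exact Set.singleton_subset_iff.2 (pow_mem (Subfield.subset_closure (Set.mem_singleton _)) 2)

theorem twoRegular_odd (p : ℕ) [Fact p.Prime] [CharP F p] (hp2 : p ≠ 2) (j : ℕ) :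
    TwoRegular F (j + 1) := by
  classical
  have h2 : (2 : F) ≠ 0 := by
    intro h
    have h' : ((2 : ℕ) : F) = 0 := by exact_mod_cast h
    rw [CharP.cast_eq_zero_iff F p] at h'
    exact hp2 ((Nat.prime_dvd_prime_iff_eq Fact.out Nat.prime_two).1 h')
  have h8 : (8 : F) ≠ 0 := by
    rw [show (8 : F) = 2 ^ 3 by norm_num]; exact pow_ne_zero _ h2
  have h16 : (16 : F) ≠ 0 := by
    rw [show (16 : F) = 2 ^ 4 by norm_num]; exact pow_ne_zero _ h2
  obtain ⟨g, hg⟩ := IsCyclic.exists_generator (α := Fˣ)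
  set γ := (g : F) with hγ
  have hγ0 : γ ≠ 0 := g.ne_zero
  have hg1 := closure_gen_eq_top hg
  have hg2 := closure_sq_gen_eq_top hg
  set K : F := (((j + 1).choose 2 : ℕ) : F) with hK
  have hgen' : ∀ P : F, P = γ ∨ P = -γ → Subfield.closure ({P * P} : Set F) = ⊤ := by
    rintro P (rfl | rfl)
    · rw [← pow_two]; exact hg2
    · rw [neg_mul_neg, ← pow_two]; exact hg2
  rcases Nat.eq_zero_or_pos j with rfl | hj
  · -- `n = 4`
    refine ⟨?_, fun hprime => ?_⟩
    · by_cases h9 : Fintype.card F = 9 ∧ (γ * γ) ^ 2 = -1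
      · have h9' := h9.1
        have hp3 : p = 3 := by
          obtain ⟨n, -, hn⟩ := FiniteField.card F p
          have : p ∣ 3 ^ 2 := by
            rw [show (3 : ℕ) ^ 2 = 9 by norm_num, ← h9', hn]
            exact dvd_pow_self p (by have := n.pos; omega)
          exact (Nat.prime_dvd_prime_iff_eq Fact.out Nat.prime_three).1
            ((Fact.out : p.Prime).dvd_of_dvd_pow this)
        subst hp3
        have hz : (3 : F) = 0 := by exact_mod_cast CharP.cast_eq_zero F 3
        have hne1 : γ + 1 ≠ 0 := fun h => by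
          have e : γ = -1 := by linear_combination h
          rw [e] at h9
          exact h2 (by linear_combination h9.2)
        have hne2 : γ ^ 2 ≠ -1 := fun h => h2 (by
          have := h9.2
          rw [← pow_two, h] at this
          linear_combination this)
        refine ⟨oddPhi 0 γ 1 0, ?_, oddPhi_last 0 γ 1 0, odd_generate 0 h2 ?_ ?_ ?_ _ ?_⟩
        · rw [oddPhi_zero, if_pos rfl]
          convert hne1 using 1
          linear_combination (-6 : F) * hz
        · simpa using hγ0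
        · rw [mul_one]; exact hg1
        · rw [mul_one]; exact fun h => hne2 h.2
        · convert (mul_ne_zero (neg_ne_zero.2 hγ0) (pow_ne_zero 2 hne1)) using 1
          linear_combination (13 * γ ^ 2 + 2 * γ - 11) * hz
      · refine ⟨oddPhi 0 γ γ 0, ?_, oddPhi_last 0 γ γ 0,
          odd_generate 0 h2 (mul_ne_zero hγ0 hγ0) (hgen' _ (Or.inl rfl)) h9 _ ?_⟩
        · rw [oddPhi_zero, if_pos rfl]
          convert neg_ne_zero.2 h16 using 1
          push_cast; ring
        · convert mul_ne_zero h8 (pow_ne_zero 3 hγ0) using 1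
          push_cast; ring
    · have hn9 : ∀ x : Prop, ¬ (Fintype.card F = 9 ∧ x) := fun x h => by
        rw [h.1] at hprime
        exact absurd hprime (by norm_num)
      have htop : ∀ S : Subfield F, S = ⊤ := by
        obtain ⟨n, -, hn⟩ := FiniteField.card F p
        have hn1 : (n : ℕ) = 1 := Nat.Prime.eq_one_of_pow (n := (n : ℕ)) (hn ▸ hprime)
        rw [hn1, pow_one] at hn
        exact fun S => eq_top_iff.2 fun x _ => by
          obtain ⟨k, hk⟩ := (ZMod.ringEquivOfPrime F Fact.out hn).surjective x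
          rw [← hk, ← ZMod.natCast_zmod_val k, map_natCast]
          exact natCast_mem _ _
      have noCommon : ∀ a b : ℕ, Nat.gcd a b = 1 → ((a : ℕ) : F) = 0 → ((b : ℕ) : F) ≠ 0 := by
        intro a b hab ha hb
        rw [CharP.cast_eq_zero_iff F p] at ha hb
        exact (Fact.out : p.Prime).ne_one (Nat.dvd_one.1 (hab ▸ Nat.dvd_gcd ha hb))
      have main : ∀ M : F, (M + 15) * M ≠ 0 →
          (M + 15) * (M + 15) * (4 * M + 17) + M * M * (4 * M + 43) ≠ 0 →
          ∃ (φ : Fin (0 + 1 + 3) → F) (h0 : pad φ 0 ≠ 0) (hB : pad φ (0 + 1 + 2) = 0),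
            (-1) ^ (0 + 1) * pad φ 0 = 1 ∧ Subgroup.closure ({jordanUp (0 + 1), vEl (0 + 1) φ h0 hB} :
              Set (Matrix.SpecialLinearGroup (Fin (0 + 1 + 3)) F)) = ⊤ := by
        intro M hPM hD
        have e : pad (oddPhi 0 (M + 15) M 0) 0 = -1 := by
          rw [oddPhi_zero, if_pos rfl]; push_cast; ring
        refine ⟨oddPhi 0 (M + 15) M 0, by rw [e]; exact neg_ne_zero.2 one_ne_zero, oddPhi_last 0 _ _ _,
          by rw [e]; ring, odd_generate 0 h2 hPM (htop _) (hn9 _) _ ?_⟩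
        convert hD using 1
        push_cast; ring
      by_cases h : ((5423 : ℕ) : F) = 0
      · have h14 := noCommon 5423 14 (by norm_num) h
        have hb := noCommon 5423 2587 (by norm_num) h
        push_cast at h14 hb
        refine main (-1) ?_ ?_
        · convert neg_ne_zero.2 h14 using 1; ring
        · convert hb using 1; ring
      · refine main 1 ?_ ?_
        · convert h16 using 1; ring
        · push_cast at h
          convert h using 1; ring
  · -- `n ≥ 5`
    obtain ⟨i, rfl⟩ : ∃ i, j = i + 1 := ⟨j - 1, by omega⟩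
    have hzero : ∀ P M e : F, pad (oddPhi (i + 1) P M e) 0 = (-1) ^ (i + 1 + 3) * e := fun P M e => by
      rw [oddPhi_zero, if_neg (by omega), add_zero]
    by_cases h9 : Fintype.card F = 9 ∧ (γ * γ) ^ 2 = -1
    · have h9' := h9.1
      have hp3 : p = 3 := by
        obtain ⟨n, -, hn⟩ := FiniteField.card F p
        have : p ∣ 3 ^ 2 := by
          rw [show (3 : ℕ) ^ 2 = 9 by norm_num, ← h9', hn]
          exact dvd_pow_self p (by have := n.pos; omega)
        exact (Nat.prime_dvd_prime_iff_eq Fact.out Nat.prime_three).1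
          ((Fact.out : p.Prime).dvd_of_dvd_pow this)
      subst hp3
      have hz : (3 : F) = 0 := by exact_mod_cast CharP.cast_eq_zero F 3
      have hne1 : γ + 1 ≠ 0 := fun h => by
        have e : γ = -1 := by linear_combination h
        rw [e] at h9
        exact h2 (by linear_combination h9.2)
      have hne2 : γ ^ 2 ≠ -1 := fun h => h2 (by
        have := h9.2
        rw [← pow_two, h] at this
        linear_combination this)
      have hD0 : γ * γ * (-γ + 37) + (5 * γ - 33) ≠ 0 := by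
        convert (mul_ne_zero (neg_ne_zero.2 hγ0) (pow_ne_zero 2 hne1)) using 1
        linear_combination (13 * γ ^ 2 + 2 * γ - 11) * hz
      obtain ⟨e, he, hD⟩ : ∃ e : F, e ≠ 0 ∧
          γ * γ * (-γ + 37 + e * K) + (5 * γ - 33 + e * ((i + 1 : ℕ) : F)) ≠ 0 := by
        by_cases h : γ * γ * (-γ + 37 + 1 * K) + (5 * γ - 33 + 1 * ((i + 1 : ℕ) : F)) = 0
        · refine ⟨-1, neg_ne_zero.2 one_ne_zero, ?_⟩
          convert mul_ne_zero h2 hD0 using 1
          linear_combination (-1 : F) * h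
        · exact ⟨1, one_ne_zero, h⟩
      refine ⟨⟨oddPhi (i + 1) γ 1 e, by rw [hzero]; exact mul_ne_zero (by simp) he,
        oddPhi_last (i + 1) γ 1 e, odd_generate (i + 1) h2 (by simpa using hγ0)
          (by rw [mul_one]; exact hg1) (by rw [mul_one]; exact fun h => hne2 h.2) _ ?_⟩,
        fun hprime => absurd hprime (by rw [h9']; norm_num)⟩
      convert hD using 1
      simp only [hK]; ring
    · obtain ⟨P, hP, hD⟩ : ∃ P : F, (P = γ ∨ P = -γ) ∧ 8 * P + K + ((i + 1 : ℕ) : F) ≠ 0 := by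
        by_cases h : 8 * γ + K + ((i + 1 : ℕ) : F) = 0
        · refine ⟨-γ, Or.inr rfl, ?_⟩
          convert neg_ne_zero.2 (mul_ne_zero h16 hγ0) using 1
          linear_combination h
        · exact ⟨γ, Or.inl rfl, h⟩
      have hP0 : P ≠ 0 := by
        rcases hP with rfl | rfl
        exacts [hγ0, neg_ne_zero.2 hγ0]
      have hPP : P * P = γ * γ := by
        rcases hP with rfl | rfl
        exacts [rfl, neg_mul_neg _ _]
      have hh0 : pad (oddPhi (i + 1) P P 1) 0 ≠ 0 := by
        rw [hzero, mul_one]; exact pow_ne_zero _ (by simp)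
      have hD' : P * P * (-P + 32 + 5 * P + 1 * (((i + 1 + 1).choose 2 : ℕ) : F)) +
          P * P * (5 * P - 32 - P + 1 * ((i + 1 : ℕ) : F)) ≠ 0 := by
        convert mul_ne_zero (mul_ne_zero hP0 hP0) hD using 1
        simp only [hK]; ring
      have htop := odd_generate (i + 1) h2 (mul_ne_zero hP0 hP0) (hgen' P hP) (by rw [hPP]; exact h9)
        hh0 hD'
      refine ⟨⟨_, hh0, oddPhi_last (i + 1) P P 1, htop⟩,
        fun _ => ⟨_, hh0, oddPhi_last (i + 1) P P 1, ?_, htop⟩⟩
      rw [hzero, mul_one, ← pow_add, show i + 1 + 1 + (i + 1 + 3) = 2 * (i + 3) by ring, pow_mul]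
      simp

theorem twoRegular_even [CharP F 2] (m : ℕ) (hm : 1 ≤ m) : TwoRegular F m := by
  classical
  obtain ⟨g, hg⟩ := IsCyclic.exists_generator (α := Fˣ)
  have hgen := closure_gen_eq_top hg
  have hg0 := g.ne_zero
  suffices h : ∃ (φ : Fin (m + 3) → F) (h0 : pad φ 0 ≠ 0) (hB : pad φ (m + 2) = 0),
      pad φ 0 = (g : F) ∧ Subgroup.closure ({jordanUp m, vEl m φ h0 hB} :
        Set (Matrix.SpecialLinearGroup (Fin (m + 3)) F)) = ⊤ by
    obtain ⟨φ, h0, hB, e, htop⟩ := h
    refine ⟨⟨φ, h0, hB, htop⟩, fun hprime => ⟨φ, h0, hB, ?_, htop⟩⟩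
    have hcard : Fintype.card F = 2 := by
      obtain ⟨n, -, hn⟩ := FiniteField.card F 2
      have hn1 : (n : ℕ) = 1 := Nat.Prime.eq_one_of_pow (n := (n : ℕ)) (hn ▸ hprime)
      rw [hn, hn1, pow_one]
    have hg1 : (g : F) = 1 := by
      have := FiniteField.pow_card_sub_one_eq_one (g : F) hg0
      rwa [hcard, show 2 - 1 = 1 from rfl, pow_one] at this
    rw [e, hg1, mul_one, CharTwo.neg_eq, one_pow]
  obtain ⟨s, o, ho, hN⟩ := Nat.exists_eq_two_pow_mul_odd (show m + 3 ≠ 0 by omega)
  obtain ⟨t, rfl⟩ := ho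
  by_cases ht0 : t = 0
  · -- a power of two
    subst ht0
    obtain ⟨s', rfl⟩ : ∃ s', s = s' + 2 := by
      refine ⟨s - 2, ?_⟩
      rcases (show s = 0 ∨ s = 1 ∨ 2 ≤ s by omega) with rfl | rfl | h <;> omega
    have hN' : m + 3 = 2 ^ s' * (1 + 3) := by rw [hN, pow_add]; ring
    have e0 : pad (phi4 (g : F)) 0 = (g : F) := by simp [pad, phi4]
    have hz : pad (phiCls m 1 (2 ^ s') (phi4 (g : F))) 0 = (g : F) := by rw [phiCls_zero hN', e0]
    have hB : pad (phiCls m 1 (2 ^ s') (phi4 (g : F))) (m + 2) = 0 :=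
      phiCls_last hN' _ (by simp [pad, phi4])
    exact ⟨_, by rw [hz]; exact hg0, hB, hz, even_generate_four hN' hg0 hgen _ _⟩
  by_cases ht1 : t = 1
  · subst ht1
    have hN' : m + 3 = 2 ^ s * (0 + 3) := hN
    have e0 : pad (phi3 (g : F)) 0 = (g : F) := by simp [pad, phi3]
    have hz : pad (phiCls m 0 (2 ^ s) (phi3 (g : F))) 0 = (g : F) := by rw [phiCls_zero hN', e0]
    have hB : pad (phiCls m 0 (2 ^ s) (phi3 (g : F))) (m + 2) = 0 :=
      phiCls_last hN' _ (by simp [pad, phi3])
    exact ⟨_, by rw [hz]; exact hg0, hB, hz, even_generate_three hN' hg0 hgen _ _⟩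
  obtain ⟨r, rfl⟩ : ∃ r, t = r + 2 := ⟨t - 2, by omega⟩
  have hN' : m + 3 = 2 ^ s * (2 * r + 2 + 3) := by rw [hN]; ring
  have e0 : pad (phiOdd r (g : F)) 0 = (g : F) := by
    rw [phiOdd, pad_smul, pad_ev (by omega), if_pos rfl, mul_one]
  have hB' : pad (phiOdd r (g : F)) (2 * r + 2 + 2) = 0 := by
    rw [phiOdd, pad_smul, pad_ev (by omega), if_neg (by omega), mul_zero]
  have hz : pad (phiCls m (2 * r + 2) (2 ^ s) (phiOdd r (g : F))) 0 = (g : F) := by
    rw [phiCls_zero hN', e0]
  exact ⟨_, by rw [hz]; exact hg0, phiCls_last hN' _ hB', hz, even_generate_odd r hN' hg0 hgen _ _⟩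

theorem two_regular_main (F : Type u) [Field F] [Fintype F] (m : ℕ) (hm : 1 ≤ m) :
    TwoRegular F m := by
  obtain ⟨p, hpF⟩ := CharP.exists F
  haveI := hpF
  haveI : Fact p.Prime := ⟨CharP.char_is_prime F p⟩
  by_cases hp : p = 2
  · subst hp; exact twoRegular_even m hm
  · obtain ⟨j, rfl⟩ : ∃ j, m = j + 1 := ⟨m - 1, by omega⟩
    exact twoRegular_odd p hp j

end H37
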