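import Cfsg.Agent.H37.TRJordan

/-!
Two regular unipotents generating `SL_n(q)`, `q` odd, `n ≥ 4`.
-/

set_option autoImplicit false

namespace H37

open Matrix

universe u

variable {F : Type u} [Field F] (j : ℕ)

local notation "N" => j + 1 + 3
local notation "SLN" => Matrix.SpecialLinearGroup (Fin (j + 1 + 3)) F
local notation "Uu" => ((jordanUp (j + 1) : Matrix.SpecialLinearGroup (Fin (j + 1 + 3)) F) :
  Matrix (Fin (j + 1 + 3)) (Fin (j + 1 + 3)) F)
local notation "Ui" => (((jordanUp (j + 1) : Matrix.SpecialLinearGroup (Fin (j + 1 + 3)) F)⁻¹ :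
  Matrix.SpecialLinearGroup (Fin (j + 1 + 3)) F) :
  Matrix (Fin (j + 1 + 3)) (Fin (j + 1 + 3)) F)
local notation "eB" => (ev (j + 1 + 3) (j + 3) : Fin (j + 1 + 3) → F)

/-- The vector with signs alternating from the bottom, weighted by `f`. -/
def altVec (f : ℕ → F) : Fin N → F := fun l => (-1) ^ (j + 3 - l.val) * f (j + 3 - l.val)

theorem pad_altVec (f : ℕ → F) {l : ℕ} (hl : l ≤ j + 3) :
    pad (altVec j f) l = (-1) ^ (j + 3 - l) * f (j + 3 - l) := by
  rw [pad_lt _ (by omega)]; rfl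

theorem u_altVec (f g : ℕ → F) (h0 : f 0 = g 0) (h : ∀ d, f (d + 1) = f d + g (d + 1)) :
    Uu *ᵥ altVec j f = altVec j g := by
  funext i
  rw [u_apply]
  have hi := i.isLt
  by_cases hc : i.val + 1 < N
  · rw [pad_altVec j f (show i.val + 1 ≤ j + 3 by omega), altVec, altVec,
      show j + 3 - i.val = (j + 3 - (i.val + 1)) + 1 by omega, pow_succ, h]
    ring
  · rw [pad_ge _ (by omega), altVec, altVec, show j + 3 - i.val = 0 by omega, h0, add_zero]

theorem u_altOne : Uu *ᵥ altVec j (fun _ => (1 : F)) = eB := by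
  funext i
  rw [u_apply, ev_apply]
  have hi := i.isLt
  by_cases hc : i.val + 1 < N
  · rw [pad_altVec j _ (show i.val + 1 ≤ j + 3 by omega), altVec, if_neg (by omega),
      show j + 3 - i.val = (j + 3 - (i.val + 1)) + 1 by omega, pow_succ]
    ring
  · rw [pad_ge _ (by omega), altVec, if_pos (by omega), show j + 3 - i.val = 0 by omega]
    simp

theorem u_eB : Uu *ᵥ eB = eB + ev N (j + 2) := by
  funext i
  rw [u_apply, Pi.add_apply]
  congr 1
  have hi := i.isLt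
  by_cases hc : i.val + 1 < N
  · rw [pad_ev hc, ev_apply]
    split_ifs <;> first | rfl | omega
  · rw [pad_ge _ (by omega), ev_apply, if_neg (by omega)]

theorem u_eA : Uu *ᵥ (ev N (j + 2) : Fin N → F) = ev N (j + 2) + ev N (j + 1) := by
  funext i
  rw [u_apply, Pi.add_apply]
  congr 1
  have hi := i.isLt
  by_cases hc : i.val + 1 < N
  · rw [pad_ev hc, ev_apply]
    split_ifs <;> first | rfl | omega
  · rw [pad_ge _ (by omega), ev_apply, if_neg (by omega)]

theorem uinv_apply_eq {a b : Fin N → F} (h : Uu *ᵥ a = b) : Ui *ᵥ b = a := by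
  rw [← h, Matrix.mulVec_mulVec, ← Matrix.SpecialLinearGroup.coe_mul, inv_mul_cancel,
    Matrix.SpecialLinearGroup.coe_one, Matrix.one_mulVec]

/-- The row of parameters. -/
def oddPhi (P M e : F) : Fin N → F :=
  ((-1) ^ (j + 3) * e) • ev N 0 + (P - 4) • ev N (j + 2) +
    (2 * P - 24 - M + e * j) • ev N (j + 1) + (P - 16 - M + e * (j + 1)) • ev N j

theorem oddPhi_dot (P M e : F) (a : Fin N → F) :
    oddPhi j P M e ⬝ᵥ a = ((-1) ^ (j + 3) * e) * pad a 0 + (P - 4) * pad a (j + 2) +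
      (2 * P - 24 - M + e * j) * pad a (j + 1) + (P - 16 - M + e * (j + 1)) * pad a j := by
  simp [oddPhi, add_dotProduct, smul_dotProduct, ev_dot]

theorem oddPhi_zero (P M e : F) :
    pad (oddPhi j P M e) 0 =
      (-1) ^ (j + 3) * e + if j = 0 then P - 16 - M + e * (j + 1) else 0 := by
  simp only [oddPhi, pad_add, pad_smul, pad_ev (show 0 < N by omega)]
  split_ifs with h <;> first | omega | simp_all

theorem oddPhi_last (P M e : F) : pad (oddPhi j P M e) (j + 1 + 2) = 0 := by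
  simp only [oddPhi, pad_add, pad_smul, pad_ev (show j + 1 + 2 < N by omega)]
  simp
  intro h
  omega

/-- The three values at negative exponents. -/
theorem oddPhi_alt (P M e : F) (f : ℕ → F) :
    oddPhi j P M e ⬝ᵥ altVec j f = e * f (j + 3) - (P - 4) * f 1 +
      (2 * P - 24 - M + e * j) * f 2 - (P - 16 - M + e * (j + 1)) * f 3 := by
  rw [oddPhi_dot, pad_altVec j f (Nat.zero_le _), pad_altVec j f (by omega : j + 2 ≤ j + 3),
    pad_altVec j f (by omega : j + 1 ≤ j + 3), pad_altVec j f (by omega : j ≤ j + 3),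
    show j + 3 - (j + 2) = 1 by omega, show j + 3 - (j + 1) = 2 by omega,
    show j + 3 - j = 3 by omega, Nat.sub_zero]
  have h : ((-1 : F) ^ (j + 3)) * (-1) ^ (j + 3) = 1 := by rw [← mul_pow]; simp
  linear_combination (e * f (j + 3)) * h

variable [Fintype F]

/-- The main computation for odd `q`. -/
theorem odd_generate (h2 : (2 : F) ≠ 0) {P M e : F} (hPM : P * M ≠ 0)
    (hgen : Subfield.closure ({P * M} : Set F) = ⊤)
    (h9 : ¬ (Fintype.card F = 9 ∧ (P * M) ^ 2 = -1))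
    (h0 : pad (oddPhi j P M e) 0 ≠ 0)
    (hD : P * P * (-P + 32 + 5 * M + e * (((j + 1).choose 2 : ℕ) : F)) +
      M * M * (5 * P - 32 - M + e * j) ≠ 0) :
    Subgroup.closure ({jordanUp (j + 1), vEl (j + 1) (oddPhi j P M e) h0 (oddPhi_last j P M e)} :
      Set SLN) = ⊤ := by
  set φ := oddPhi j P M e with hφ
  set V : SLN := vEl (j + 1) φ h0 (oddPhi_last j P M e) with hV
  set H := Subgroup.closure ({jordanUp (j + 1), V} : Set SLN) with hH
  have hu : jordanUp (j + 1) ∈ H := Subgroup.subset_closure (Or.inl rfl)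
  have hv : V ∈ H := Subgroup.subset_closure (Or.inr rfl)
  set s1 := altVec j (fun _ => (1 : F)) with hs1
  set s2 := altVec j (fun d => ((d + 1 : ℕ) : F)) with hs2
  set s3 := altVec j (fun d => (((d + 2).choose 2 : ℕ) : F)) with hs3
  have i1 : Ui *ᵥ eB = s1 := uinv_apply_eq j (u_altOne j)
  have i2 : Ui *ᵥ s1 = s2 := uinv_apply_eq j (u_altVec j _ _ (by simp) (fun d => by push_cast; ring))
  have i3 : Ui *ᵥ s2 = s3 := uinv_apply_eq j (u_altVec j _ _ (by simp) (fun d => by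
    rw [show d + 1 + 2 = (d + 2) + 1 from rfl, Nat.choose_succ_succ' (d + 2) 1, Nat.choose_one_right]
    push_cast; ring))
  -- values of `φ`
  have pB : φ ⬝ᵥ eB = 0 := by
    rw [dot_ev]; exact oddPhi_last j P M e
  have pA : φ ⬝ᵥ (ev N (j + 2) : Fin N → F) = P - 4 := by
    rw [hφ, oddPhi_dot]
    simp [pad_ev (show 0 < N by omega), pad_ev (show j + 2 < N by omega),
      pad_ev (show j + 1 < N by omega), pad_ev (show j < N by omega)]
  have pA' : φ ⬝ᵥ (ev N (j + 1) : Fin N → F) = 2 * P - 24 - M + e * j := by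
    rw [hφ, oddPhi_dot]
    simp [pad_ev (show 0 < N by omega), pad_ev (show j + 2 < N by omega),
      pad_ev (show j + 1 < N by omega), pad_ev (show j < N by omega)]
  have p1 : φ ⬝ᵥ s1 = -4 := by rw [hφ, hs1, oddPhi_alt]; ring
  have p2 : φ ⬝ᵥ s2 = M := by rw [hφ, hs2, oddPhi_alt]; push_cast; ring
  have p3 : φ ⬝ᵥ s3 = -P + 28 + 4 * M + e * (((j + 1).choose 2 : ℕ) : F) := by
    rw [hφ, hs3, oddPhi_alt]
    have : (j + 3 + 2).choose 2 = (j + 1).choose 2 + (4 * j + 10) := by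
      rw [Nat.choose_succ_succ' (j + 4) 1, Nat.choose_succ_succ' (j + 3) 1,
        Nat.choose_succ_succ' (j + 2) 1, Nat.choose_succ_succ' (j + 1) 1]
      simp only [Nat.choose_one_right, show (1 : ℕ) + 1 = 2 from rfl]
      omega
    simp only [this, show (1 + 2).choose 2 = 3 from rfl, show (2 + 2).choose 2 = 6 from rfl,
      show (3 + 2).choose 2 = 10 from rfl]
    push_cast; ring
  set x := eB + s1 with hx
  set ξ := φ + (2 : F) • eB with hξ
  have hxi : ∀ a, ξ ⬝ᵥ a = φ ⬝ᵥ a + 2 * pad a (j + 3) := fun a => by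
    rw [hξ, add_dotProduct, smul_dotProduct, ev_dot, smul_eq_mul]
  have bB : pad eB (j + 3) = 1 := by rw [pad_ev (by omega), if_pos rfl]
  have bA : pad (ev N (j + 2) : Fin N → F) (j + 3) = 0 := by rw [pad_ev (by omega), if_neg (by omega)]
  have bA' : pad (ev N (j + 1) : Fin N → F) (j + 3) = 0 := by rw [pad_ev (by omega), if_neg (by omega)]
  have balt : ∀ f : ℕ → F, pad (altVec j f) (j + 3) = f 0 := fun f => by
    rw [pad_altVec j f le_rfl]; simp
  have hb1 : pad s1 (j + 3) = 1 := by rw [hs1, balt]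
  have hb2 : pad s2 (j + 3) = 1 := by rw [hs2, balt]; simp
  have hb3 : pad s3 (j + 3) = 1 := by rw [hs3, balt]; simp
  have hξx : ξ ⬝ᵥ x = 0 := by
    rw [hxi, hx, dotProduct_add, pad_add, pB, p1, bB, hb1]; ring
  -- the action of `V`
  have hVa : ∀ a, ((V : SLN) : Matrix (Fin N) (Fin N) F) *ᵥ a =
      Uu *ᵥ a + (φ ⬝ᵥ a) • eB - pad a (j + 3) • ev N (j + 2) := by
    intro a
    funext i
    rw [hV, coe_vEl, vM_apply, Pi.sub_apply, Pi.add_apply, Pi.smul_apply, Pi.smul_apply, u_apply,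
      ev_apply, ev_apply]
    have hi := i.isLt
    by_cases h1 : i.val + 1 < N
    · rw [if_pos h1]
      by_cases h3 : i.val + 2 < N
      · rw [if_pos h3, if_neg (by omega), if_neg (by omega)]; simp
      · rw [if_neg h3, if_neg (by omega), if_pos (by omega), show i.val + 1 = j + 3 by omega]; simp
    · rw [if_neg h1, if_pos (by omega), if_neg (by omega), pad_ge a (by omega)]; simp
  set w := (jordanUp (j + 1) : SLN)⁻¹ * V with hw
  have hwa : ∀ a, ((w : SLN) : Matrix (Fin N) (Fin N) F) *ᵥ a =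
      a + (φ ⬝ᵥ a) • s1 - pad a (j + 3) • (eB - s1) := by
    intro a
    have e1 : Ui *ᵥ (ev N (j + 2) : Fin N → F) = eB - s1 := by
      have h := congrArg (fun b => Ui *ᵥ b) (u_eB (F := F) j)
      simp only [Matrix.mulVec_add, i1] at h
      rw [uinv_apply_eq j (rfl : Uu *ᵥ eB = Uu *ᵥ eB)] at h
      exact eq_sub_of_add_eq' h.symm
    rw [hw, Matrix.SpecialLinearGroup.coe_mul, ← Matrix.mulVec_mulVec, hVa, Matrix.mulVec_sub,
      Matrix.mulVec_add, Matrix.mulVec_smul, Matrix.mulVec_smul, i1, e1,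
      uinv_apply_eq j (rfl : Uu *ᵥ a = Uu *ᵥ a)]
  have hT : HasTv H (-x) ξ := by
    refine ⟨w * w, mul_mem (mul_mem (inv_mem hu) hv) (mul_mem (inv_mem hu) hv), ?_⟩
    refine Matrix.ext_of_mulVec_single fun l => ?_
    generalize (Pi.single l 1 : Fin N → F) = a
    rw [Matrix.SpecialLinearGroup.coe_mul, ← Matrix.mulVec_mulVec, hwa (_ *ᵥ a), hwa a,
      Matrix.add_mulVec, Matrix.one_mulVec, vecMulVec_mulVec, op_smul_eq_smul, hxi, hx]
    simp only [pad_add, pad_sub, pad_smul, dotProduct_add, dotProduct_sub, dotProduct_smul,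
      smul_eq_mul, bB, hb1, pB, p1]
    module
  have hT' : HasTv H x ξ := by
    simpa using hasTv_neg hT (by rw [dotProduct_neg, hξx, neg_zero])
  -- conjugates
  set x1 := Uu *ᵥ x with hx1
  set x2 := Uu *ᵥ x1 with hx2
  set ξ1 := ξ ᵥ* Ui with hξ1
  set ξ2 := ξ1 ᵥ* Ui with hξ2
  have hc : ∀ a, Ui *ᵥ (Uu *ᵥ a) = a := fun a => uinv_apply_eq j rfl
  have e01 : ξ ⬝ᵥ x1 = P := by
    rw [hxi, hx1, hx, Matrix.mulVec_add, u_eB, hs1, u_altOne]
    simp only [dotProduct_add, pad_add, pB, pA, bB, bA]; ring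
  have e02 : ξ ⬝ᵥ x2 = 5 * P - 32 - M + e * j := by
    rw [hxi, hx2, hx1, hx, Matrix.mulVec_add, u_eB, hs1, u_altOne]
    simp only [Matrix.mulVec_add, u_eB, u_eA, dotProduct_add, pad_add, pB, pA, pA', bB, bA, bA']
    ring
  have eM1 : ξ ⬝ᵥ (Ui *ᵥ x) = M := by
    rw [hxi, hx, Matrix.mulVec_add, i1, i2, dotProduct_add, pad_add, p1, p2, hb1, hb2]; ring
  have eM2 : ξ ⬝ᵥ (Ui *ᵥ (Ui *ᵥ x)) = -P + 32 + 5 * M + e * (((j + 1).choose 2 : ℕ) : F) := by
    rw [hxi, hx, Matrix.mulVec_add, i1, i2, Matrix.mulVec_add, i2, i3, dotProduct_add, pad_add, p2,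
      p3, hb2, hb3]; ring
  have g10 : ξ1 ⬝ᵥ x = M := by rw [hξ1, ← dotProduct_mulVec, eM1]
  have g12 : ξ1 ⬝ᵥ x2 = P := by rw [hξ1, hx2, ← dotProduct_mulVec, hc, e01]
  have g20 : ξ2 ⬝ᵥ x = -P + 32 + 5 * M + e * (((j + 1).choose 2 : ℕ) : F) := by
    rw [hξ2, hξ1, ← dotProduct_mulVec, ← dotProduct_mulVec, eM2]
  have g21 : ξ2 ⬝ᵥ x1 = M := by rw [hξ2, hx1, ← dotProduct_mulVec, hc, g10]
  have hT1 : HasTv H x1 ξ1 := hasTv_conj hu hT'
  have full0 : FullRoot H x ξ :=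
    fullRoot_of_pair h2 hξx (by rw [hξ1, hx1, ← dotProduct_mulVec, hc, hξx])
      (by rw [e01, g10]) hPM hgen h9 hT' hT1
  have fconj : ∀ {a η : Fin N → F}, FullRoot H a η → FullRoot H (Uu *ᵥ a) (η ᵥ* Ui) := by
    intro a η h
    refine ⟨by rw [← dotProduct_mulVec, hc]; exact h.1, fun s => ?_⟩
    rw [← Matrix.mulVec_smul]
    exact hasTv_conj hu (h.2 s)
  have full1 : FullRoot H x1 ξ1 := fconj full0
  have full2 : FullRoot H x2 ξ2 := fconj full1
  refine top_of_triple (a := ![x, x1, x2]) (ψ := ![ξ, ξ1, ξ2]) (fun i => ?_) ?_ ?_ ?_ hu hv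
    ⟨0, 0, ?_⟩ ⟨0, 0, ?_⟩ (fun U hU => ?_) (fun U hU => ?_)
  · fin_cases i
    exacts [full0, full1, full2]
  · show ξ ⬝ᵥ x1 ≠ 0
    rw [e01]; exact left_ne_zero_of_mul hPM
  · show ξ1 ⬝ᵥ x ≠ 0
    rw [g10]; exact right_ne_zero_of_mul hPM
  · show (ξ ⬝ᵥ x1) * (ξ1 ⬝ᵥ x2) * (ξ2 ⬝ᵥ x) + (ξ ⬝ᵥ x2) * (ξ1 ⬝ᵥ x) * (ξ2 ⬝ᵥ x1) ≠ 0
    rw [e01, g12, g20, e02, g10, g21]
    convert hD using 1
    ring
  · show ξ ⬝ᵥ (Ui *ᵥ x) ≠ 0
    rw [eM1]; exact right_ne_zero_of_mul hPM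
  · show ξ ⬝ᵥ (((V : SLN) : Matrix (Fin N) (Fin N) F) *ᵥ x) ≠ 0
    rw [hVa, dotProduct_sub, dotProduct_add, ← hx1, e01, dotProduct_smul, dotProduct_smul, hxi eB,
      hxi (ev N (j + 2)), pB, pA, bB, bA, hx, dotProduct_add, pad_add, pB, p1, bB, hb1]
    have hP := left_ne_zero_of_mul hPM
    convert neg_ne_zero.2 hP using 1
    simp only [smul_eq_mul]; ring
  · refine u_span_top (j + 1) (a := x) ?_ fun k => hU k 0
    show pad x (j + 3) ≠ 0
    rw [hx, pad_add, bB, hb1]; rwa [one_add_one_eq_two]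
  · refine v_span_top (j + 1) φ h0 (oddPhi_last j P M e) (ξ := ξ) ?_ fun k => hU k 0
    show pad ξ (j + 3) ≠ 0
    rw [hξ, pad_add, pad_smul, bB, show pad φ (j + 3) = 0 from oddPhi_last j P M e]; simpa using h2

end H37
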