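import Cfsg.Agent.H37.TRJordan

/-!
Derivations of root groups in characteristic two from two unipotents `J`, `V` and one transvection.
-/

set_option autoImplicit false

namespace H37

open Matrix

universe u

variable {F : Type u} [Field F] (m : ℕ)

local notation "N" => m + 3
local notation "SLN" => Matrix.SpecialLinearGroup (Fin (m + 3)) F
local notation "Uu" => ((jordanUp m : Matrix.SpecialLinearGroup (Fin (m + 3)) F) :
  Matrix (Fin (m + 3)) (Fin (m + 3)) F)

/-- Covectors times `vM φ`. -/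
theorem v_vecMul (φ ψ : Fin N → F) (i : Fin N) :
    (ψ ᵥ* vM m φ) i = ψ i + (if 0 < i.val ∧ i.val + 1 < N then pad ψ (i.val - 1) else 0) +
      pad ψ (m + 2) * φ i := by
  have h : (ψ ᵥ* vM m φ) i = ψ ⬝ᵥ (vM m φ *ᵥ ev N i.val) := by
    rw [dotProduct_mulVec, dot_ev, pad_val]
  have e : vM m φ *ᵥ (ev N i.val : Fin N → F) = ev N i.val +
      (if 0 < i.val ∧ i.val + 1 < N then ev N (i.val - 1) else 0) + φ i • ev N (m + 2) := by
    funext l
    have := i.isLt
    have := l.isLt
    rw [vM_apply, Pi.add_apply, Pi.add_apply, Pi.smul_apply, dot_ev, pad_val, smul_eq_mul, add_assoc]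
    congr 1
    simp only [ev_apply]
    by_cases h1 : l.val + 1 < N
    · rw [if_pos h1, if_neg (show l.val ≠ m + 2 by omega), mul_zero, add_zero]
      by_cases h2 : l.val + 2 < N
      · rw [if_pos h2, pad_ev h1]
        split_ifs <;> simp [ev_apply] <;> omega
      · rw [if_neg h2]
        split_ifs <;> simp [ev_apply] <;> omega
    · rw [if_neg h1, if_pos (show l.val = m + 2 by omega), mul_one]
      split_ifs <;> simp [ev_apply] <;> omega
  rw [h, e, dotProduct_add, dotProduct_add, dotProduct_smul, dot_ev, dot_ev, pad_val, smul_eq_mul,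
    mul_comm (φ i)]
  split_ifs
  · rw [dot_ev]
  · rw [dotProduct_zero]

/-- Closure of a set of roots under conjugation by `J`, `V` and their inverses. -/
structure PairSys (φ : Fin N → F) (K : Subgroup SLN) : Prop where
  cU : ∀ {a b ψ χ : Fin N → F}, ψ ⬝ᵥ a = 0 → HasTv K a ψ → Uu *ᵥ a = b → χ ᵥ* Uu = ψ → HasTv K b χ
  cU' : ∀ {a b ψ χ : Fin N → F}, χ ⬝ᵥ b = 0 → HasTv K b χ → Uu *ᵥ a = b → χ ᵥ* Uu = ψ → HasTv K a ψ
  cV : ∀ {a b ψ χ : Fin N → F}, ψ ⬝ᵥ a = 0 → HasTv K a ψ → vM m φ *ᵥ a = b → χ ᵥ* vM m φ = ψ →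
    HasTv K b χ
  cV' : ∀ {a b ψ χ : Fin N → F}, χ ⬝ᵥ b = 0 → HasTv K b χ → vM m φ *ᵥ a = b → χ ᵥ* vM m φ = ψ →
    HasTv K a ψ

/-- The scalars of a root. -/
def scal (K : Subgroup SLN) (a ψ : Fin N → F) (h : ψ ⬝ᵥ a = 0) : AddSubgroup F where
  carrier := {s | HasTv K (s • a) ψ}
  zero_mem' := by simpa using hasTv_zero (H := K) ψ
  add_mem' := fun {s t} hs ht => by
    show HasTv K ((s + t) • a) ψ
    rw [add_smul]
    exact hasTv_add hs ht (by rw [dotProduct_smul, h, smul_zero])
  neg_mem' := fun {s} hs => by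
    show HasTv K ((-s) • a) ψ
    rw [neg_smul]
    exact hasTv_neg hs (by rw [dotProduct_smul, h, smul_zero])

/-- An additive subgroup stable under multiplication by a generator is everything. -/
theorem addSubgroup_eq_univ [Fintype F] {c : F} (hgen : Subfield.closure ({c} : Set F) = ⊤)
    (C : AddSubgroup F) (hc : c ≠ 0) (hcC : c ∈ C)
    (h : ∀ K : Subfield F, (∀ a : F, (∀ s ∈ C, a * s ∈ C) → a ∈ K) → c ∈ K) (s : F) : s ∈ C := by
  classical
  let K : Subring F :=
    { carrier := {x | ∀ s ∈ C, x * s ∈ C}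
      one_mem' := fun s hs => by simpa using hs
      mul_mem' := fun {a b} ha hb s hs => by rw [mul_assoc]; exact ha _ (hb s hs)
      zero_mem' := fun s _ => by simp [C.zero_mem]
      add_mem' := fun {a b} ha hb s hs => by rw [add_mul]; exact add_mem (ha s hs) (hb s hs)
      neg_mem' := fun {a} ha s hs => by rw [neg_mul]; exact neg_mem (ha s hs) }
  let L : Subfield F :=
    { K with
      inv_mem' := fun x hx => by
        rcases eq_or_ne x 0 with rfl | hx0
        · rw [_root_.inv_zero]; exact K.zero_mem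
        have : x⁻¹ = x ^ (Fintype.card F - 2) := by
          refine inv_eq_of_mul_eq_one_right ?_
          rw [← pow_succ', show Fintype.card F - 2 + 1 = Fintype.card F - 1 by
            have := Fintype.one_lt_card (α := F); omega]
          exact FiniteField.pow_card_sub_one_eq_one x hx0
        rw [this]
        exact pow_mem (show x ∈ K from hx) _ }
  have hL : L = ⊤ := top_unique (hgen ▸ Subfield.closure_le.2
    (Set.singleton_subset_iff.2 (h L fun a ha => ha)))
  have hs : s / c ∈ L := hL ▸ Subfield.mem_top _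
  have := hs c hcC
  rwa [div_mul_cancel₀ _ hc] at this

variable [CharP F 2]

theorem mem_of_sq_mem [Fintype F] {K : Subfield F} {c : F} (h : c ^ 2 ∈ K) : c ∈ K := by
  obtain ⟨n, -, hn⟩ := FiniteField.card F 2
  have hc := FiniteField.pow_card c
  obtain ⟨k, hk⟩ : ∃ k, (n : ℕ) = k + 1 := ⟨(n : ℕ) - 1, by have := n.pos; omega⟩
  rw [hn, hk, pow_succ', pow_mul] at hc
  rw [← hc]
  exact pow_mem h _

theorem scal_two {K : Subgroup SLN} {a b ψ : Fin N → F} (h : HasTv K a ψ) (h' : HasTv K (a + b) ψ)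
    (ha : ψ ⬝ᵥ a = 0) : HasTv K b ψ := by
  have := hasTv_add h' h ha
  rwa [add_right_comm, CharTwo.add_self_eq_zero, zero_add] at this

theorem axis_two {K : Subgroup SLN} {a ψ χ : Fin N → F} (h : HasTv K a ψ) (h' : HasTv K a (ψ + χ))
    (ha : ψ ⬝ᵥ a = 0) (ha' : χ ⬝ᵥ a = 0) : HasTv K a χ := by
  have := hasTv_axis_add h' h (by rw [add_dotProduct, ha, ha', add_zero])
  rwa [add_right_comm, CharTwo.add_self_eq_zero, zero_add] at this

end H37
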