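import Cfsg.Agent.H37.TRPair

/-!
Characteristic two, blocks of size three and four.
-/

set_option autoImplicit false

namespace H37

open Matrix
open scoped MatrixGroups

universe u

variable {F : Type u} [Field F]

theorem u3_apply (a : Fin 3 → F) :
    ((jordanUp 0 : SL(3, F)) : Matrix (Fin 3) (Fin 3) F) *ᵥ a = ![a 0 + a 1, a 1 + a 2, a 2] := by
  funext i; fin_cases i <;> simp [u_apply, pad]

theorem u3_vecMul (p : Fin 3 → F) :
    p ᵥ* ((jordanUp 0 : SL(3, F)) : Matrix (Fin 3) (Fin 3) F) = ![p 0, p 1 + p 0, p 2 + p 1] := by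
  funext i; fin_cases i <;> simp [u_vecMul, pad]

/-- The parameters in size three. -/
def phi3 (c : F) : Fin 3 → F := ![c, 0, 0]

theorem v3_apply (c : F) (a : Fin 3 → F) :
    vM 0 (phi3 c) *ᵥ a = ![a 0 + a 1, a 1, a 2 + c * a 0] := by
  funext i; fin_cases i <;> simp [vM_apply, pad, phi3, dotProduct, Fin.sum_univ_three]

theorem v3_vecMul (c : F) (p : Fin 3 → F) :
    p ᵥ* vM 0 (phi3 c) = ![p 0 + p 2 * c, p 1 + p 0, p 2] := by
  funext i; fin_cases i <;> simp [v_vecMul, pad, phi3]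

variable [CharP F 2] [Fintype F]

theorem block_three {c : F} (hc : c ≠ 0) (hgen : Subfield.closure ({c} : Set F) = ⊤)
    {K : Subgroup SL(3, F)} (S : PairSys 0 (phi3 c) K)
    (hT : HasTv K (c • ![1, 0, 0]) (![0, 1, 0] : Fin 3 → F)) :
    FullRoot K (![0, 1, 1] : Fin 3 → F) ![0, 1, 1] ∧
    FullRoot K (![0, 0, 1] : Fin 3 → F) ![0, 1, 0] ∧
    FullRoot K ![1, 0, c] ![c, c, 1] := by
  have two : ∀ x : F, x + x = 0 := CharTwo.add_self_eq_zero
  let C := scal 0 K (![1, 0, 0] : Fin 3 → F) ![0, 1, 0] (by simp)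
  have hcC : c ∈ C := hT
  have rE : ∀ t ∈ C, HasTv K (t • (![1, 0, 0] : Fin 3 → F)) ![0, 0, 1] := by
    intro t ht
    refine axis_two 0 (ψ := ![0, 1, 0]) ht ?_ (by simp) (by simp)
    refine S.cU (by simp) ht (by rw [Matrix.mulVec_smul, u3_apply]; simp) ?_
    rw [u3_vecMul]; funext i; fin_cases i <;> simp [two]
  have rB : ∀ t ∈ C, HasTv K ((c * t) • (![0, 0, 1] : Fin 3 → F)) ![0, 1, 0] := by
    intro t ht
    refine scal_two 0 (a := t • ![1, 0, 0]) ht ?_ (by simp)
    refine S.cV (by simp) ht ?_ ?_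
    · rw [Matrix.mulVec_smul, v3_apply]; funext i; fin_cases i <;> simp [mul_comm]
    · rw [v3_vecMul]; funext i; fin_cases i <;> simp
  have hcl : ∀ s ∈ C, (c * c) * s ∈ C := by
    intro s hs
    have h := hasTv_comm (rB c hcC) (rE s hs) (by simp) (by simp) (by simp)
    show HasTv K ((c * c * s) • ![1, 0, 0]) ![0, 1, 0]
    convert h using 1
    simp [smul_smul, mul_comm, mul_assoc]
  have hall : ∀ s, s ∈ C := addSubgroup_eq_univ hgen C hc hcC fun L hL => mem_of_sq_mem (hL _ (by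
    intro s hs; rw [pow_two]; exact hcl s hs))
  have fB : FullRoot K (![0, 0, 1] : Fin 3 → F) ![0, 1, 0] := ⟨by simp, fun s => by
    have := rB (s / c) (hall _); rwa [mul_div_cancel₀ _ hc] at this⟩
  refine ⟨⟨by simp [two], fun s => ?_⟩, fB, ⟨?_, fun s => ?_⟩⟩
  · refine S.cU (by simp) (fB.2 s) ?_ ?_
    · rw [Matrix.mulVec_smul, u3_apply]; simp
    · rw [u3_vecMul]; funext i; fin_cases i <;> simp [two]
  · rw [dotProduct, Fin.sum_univ_three]; simp [two]
  · refine S.cV (by simp) (rE s (hall s)) ?_ ?_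
    · rw [Matrix.mulVec_smul, v3_apply]; simp
    · rw [v3_vecMul]; funext i; fin_cases i <;> simp [two]

theorem u4_apply (a : Fin 4 → F) :
    ((jordanUp 1 : SL(4, F)) : Matrix (Fin 4) (Fin 4) F) *ᵥ a =
      ![a 0 + a 1, a 1 + a 2, a 2 + a 3, a 3] := by
  funext i; fin_cases i <;> simp [u_apply, pad]

theorem u4_vecMul (p : Fin 4 → F) :
    p ᵥ* ((jordanUp 1 : SL(4, F)) : Matrix (Fin 4) (Fin 4) F) =
      ![p 0, p 1 + p 0, p 2 + p 1, p 3 + p 2] := by
  funext i; fin_cases i <;> simp [u_vecMul, pad]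

/-- The parameters in size four. -/
def phi4 (c : F) : Fin 4 → F := ![c, c, 0, 0]

theorem v4_apply (c : F) (a : Fin 4 → F) :
    vM 1 (phi4 c) *ᵥ a = ![a 0 + a 1, a 1 + a 2, a 2, a 3 + (c * a 0 + c * a 1)] := by
  funext i; fin_cases i <;> simp [vM_apply, pad, phi4, dotProduct, Fin.sum_univ_four]

theorem v4_vecMul (c : F) (p : Fin 4 → F) :
    p ᵥ* vM 1 (phi4 c) = ![p 0 + p 3 * c, p 1 + p 0 + p 3 * c, p 2 + p 1, p 3] := by
  funext i; fin_cases i <;> simp [v_vecMul, pad, phi4]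

theorem block_four {c : F} (hc : c ≠ 0) (hgen : Subfield.closure ({c} : Set F) = ⊤)
    {K : Subgroup SL(4, F)} (S : PairSys 1 (phi4 c) K)
    (hT : HasTv K (c • ![0, 0, 1, 0]) (![1, 0, 0, 0] : Fin 4 → F)) :
    FullRoot K (![0, 1, 0, 0] : Fin 4 → F) ![1, 0, 0, 0] ∧
    FullRoot K (![1, 1, 0, 0] : Fin 4 → F) ![1, 1, 1, 1] ∧
    FullRoot K ![1, 0, 0, c] ![c, 0, 0, 1] := by
  have two : ∀ x : F, x + x = 0 := CharTwo.add_self_eq_zero
  let C := scal 1 K (![0, 0, 1, 0] : Fin 4 → F) ![1, 0, 0, 0] (by simp)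
  have hcC : c ∈ C := hT
  have key : ∀ t ∈ C,
      HasTv K (t • (![1, 0, 0, 0] : Fin 4 → F)) ![0, 0, 0, 1] ∧
      HasTv K ((c * t) • (![0, 1, 0, 0] : Fin 4 → F)) ![1, 0, 0, 0] ∧ c * t ∈ C := by
    intro t ht
    have ru : HasTv K (t • (![0, 1, 1, 0] : Fin 4 → F)) ![1, 1, 1, 1] := by
      refine S.cU (by simp) ht ?_ ?_
      · rw [Matrix.mulVec_smul, u4_apply]; simp
      · rw [u4_vecMul]; funext i; fin_cases i <;> simp [two]
    have rv : HasTv K (t • (![0, 1, 1, 0] : Fin 4 → F)) ![1, 1, 1, 0] := by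
      refine S.cV (by simp) ht ?_ ?_
      · rw [Matrix.mulVec_smul, v4_apply]; simp
      · rw [v4_vecMul]; funext i; fin_cases i <;> simp [two]
    have r12 : HasTv K (t • (![0, 1, 1, 0] : Fin 4 → F)) ![0, 0, 0, 1] := by
      refine axis_two 1 rv ?_ (by simp [two]) (by simp)
      convert ru using 1
      funext i; fin_cases i <;> simp
    have r2 : HasTv K (t • (![0, 0, 1, 0] : Fin 4 → F)) ![0, 0, 0, 1] := by
      refine S.cU' (by simp) r12 ?_ ?_
      · rw [Matrix.mulVec_smul, u4_apply]; simp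
      · rw [u4_vecMul]; funext i; fin_cases i <;> simp
    have r1 : HasTv K (t • (![0, 1, 0, 0] : Fin 4 → F)) ![0, 0, 0, 1] := by
      refine scal_two 1 r2 ?_ (by simp)
      convert r12 using 1
      funext i; fin_cases i <;> simp
    have r0 : HasTv K (t • (![1, 0, 0, 0] : Fin 4 → F)) ![0, 0, 0, 1] := by
      refine scal_two 1 r1 ?_ (by simp)
      refine S.cU (by simp) r1 ?_ ?_
      · rw [Matrix.mulVec_smul, u4_apply]; funext i; fin_cases i <;> simp
      · rw [u4_vecMul]; funext i; fin_cases i <;> simp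
    have v2 : HasTv K (t • (![0, 1, 1, 0] : Fin 4 → F)) ![c, 0, 0, 1] := by
      refine S.cV (by simp) r2 ?_ ?_
      · rw [Matrix.mulVec_smul, v4_apply]; simp
      · rw [v4_vecMul]; funext i; fin_cases i <;> simp [two]
    have v0 : HasTv K (t • (![1, 0, 0, c] : Fin 4 → F)) ![c, 0, 0, 1] := by
      refine S.cV (by simp) r0 ?_ ?_
      · rw [Matrix.mulVec_smul, v4_apply]; funext i; fin_cases i <;> simp [mul_comm]
      · rw [v4_vecMul]; funext i; fin_cases i <;> simp [two]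
    have v1 : HasTv K (t • (![1, 1, 0, c] : Fin 4 → F)) ![c, 0, 0, 1] := by
      refine S.cV (by simp) r1 ?_ ?_
      · rw [Matrix.mulVec_smul, v4_apply]; funext i; fin_cases i <;> simp [mul_comm]
      · rw [v4_vecMul]; funext i; fin_cases i <;> simp [two]
    have w1 : HasTv K (t • (![0, 1, 0, 0] : Fin 4 → F)) ![c, 0, 0, 1] := by
      refine scal_two 1 v0 ?_ (by simp [mul_comm, two])
      convert v1 using 1
      funext i; fin_cases i <;> simp
    have c1 : HasTv K (t • (![0, 1, 0, 0] : Fin 4 → F)) (c • ![1, 0, 0, 0]) := by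
      refine axis_two 1 r1 ?_ (by simp) (by simp)
      convert w1 using 1
      funext i; fin_cases i <;> simp
    have c12 : HasTv K (t • (![0, 1, 1, 0] : Fin 4 → F)) (c • ![1, 0, 0, 0]) := by
      refine axis_two 1 r12 ?_ (by simp) (by simp)
      convert v2 using 1
      funext i; fin_cases i <;> simp
    have c2 : HasTv K (t • (![0, 0, 1, 0] : Fin 4 → F)) (c • ![1, 0, 0, 0]) := by
      refine scal_two 1 c1 ?_ (by simp)
      convert c12 using 1
      funext i; fin_cases i <;> simp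
    rw [← hasTv_smul_swap, smul_smul] at c1 c2
    exact ⟨r0, c1, c2⟩
  have hall : ∀ s, s ∈ C := addSubgroup_eq_univ hgen C hc hcC fun L hL =>
    hL c fun s hs => (key s hs).2.2
  have f1 : FullRoot K (![0, 1, 0, 0] : Fin 4 → F) ![1, 0, 0, 0] := ⟨by simp, fun s => by
    have := (key (s / c) (hall _)).2.1; rwa [mul_div_cancel₀ _ hc] at this⟩
  refine ⟨f1, ⟨by simp [two], fun s => ?_⟩, ⟨by simp [two], fun s => ?_⟩⟩
  · refine S.cU (by simp) (f1.2 s) ?_ ?_
    · rw [Matrix.mulVec_smul, u4_apply]; simp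
    · rw [u4_vecMul]; funext i; fin_cases i <;> simp [two]
  · refine S.cV (by simp) (key s (hall s)).1 ?_ ?_
    · rw [Matrix.mulVec_smul, v4_apply]; funext i; fin_cases i <;> simp [mul_comm]
    · rw [v4_vecMul]; funext i; fin_cases i <;> simp [two]

end H37
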