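import Cfsg.Agent.H37.Generation

/-!
`SL_n(q)`, `n ≥ 3`, is generated by three conjugate regular unipotent elements.
-/

set_option autoImplicit false

namespace H37

open Matrix

universe u

section transv

variable {F : Type u} [Field F] {n : ℕ}

/-- `H` contains the map `x ↦ x + φ(x) a`. -/
def HasTv (H : Subgroup (Matrix.SpecialLinearGroup (Fin n) F)) (a φ : Fin n → F) : Prop :=
  ∃ h ∈ H, (h : Matrix (Fin n) (Fin n) F) = 1 + vecMulVec a φ

variable {H : Subgroup (Matrix.SpecialLinearGroup (Fin n) F)} {a b φ ψ : Fin n → F}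

theorem hasTv_zero (φ : Fin n → F) : HasTv H 0 φ := ⟨1, one_mem _, by simp⟩

theorem single_eq_vecMulVec (i j : Fin n) (y : F) :
    (Matrix.single i j y : Matrix (Fin n) (Fin n) F) =
      vecMulVec (y • Pi.single i 1) (Pi.single j 1) := by
  ext a b
  rw [vecMulVec_apply, Matrix.single_apply, Pi.smul_apply, Pi.single_apply, Pi.single_apply,
    smul_eq_mul]
  by_cases h1 : a = i
  · by_cases h2 : b = j
    · subst h1; subst h2; simp
    · subst h1; simp [h2, Ne.symm h2]
  · simp [h1, Ne.symm h1]

theorem one_add_vecMulVec_mul (a b φ ψ : Fin n → F) :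
    (1 + vecMulVec a φ) * (1 + vecMulVec b ψ) =
      1 + vecMulVec a φ + vecMulVec b ψ + (φ ⬝ᵥ b) • vecMulVec a ψ := by
  rw [Matrix.add_mul, Matrix.one_mul, Matrix.mul_add, Matrix.mul_one, vecMulVec_mul_vecMulVec]
  rw [show vecMulVec a ((φ ⬝ᵥ b) • ψ) = (φ ⬝ᵥ b) • vecMulVec a ψ from vecMulVec_smul _ _ _]
  abel

theorem hasTv_add (ha : HasTv H a φ) (hb : HasTv H b φ) (h : φ ⬝ᵥ b = 0) : HasTv H (a + b) φ := by
  obtain ⟨x, hx, hxm⟩ := ha
  obtain ⟨y, hy, hym⟩ := hb
  refine ⟨x * y, mul_mem hx hy, ?_⟩
  rw [Matrix.SpecialLinearGroup.coe_mul, hxm, hym, one_add_vecMulVec_mul, h, zero_smul, add_zero,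
    add_vecMulVec, add_assoc]

theorem coe_inv_of_tv {x : Matrix.SpecialLinearGroup (Fin n) F}
    (hx : (x : Matrix (Fin n) (Fin n) F) = 1 + vecMulVec a φ) (h : φ ⬝ᵥ a = 0) :
    ((x⁻¹ : Matrix.SpecialLinearGroup (Fin n) F) : Matrix (Fin n) (Fin n) F) = 1 + vecMulVec (-a) φ := by
  have h1 : (x : Matrix (Fin n) (Fin n) F) * (1 + vecMulVec (-a) φ) = 1 := by
    rw [hx, one_add_vecMulVec_mul, dotProduct_neg, h, neg_zero, zero_smul, add_zero, neg_vecMulVec]
    abel
  calc ((x⁻¹ : Matrix.SpecialLinearGroup (Fin n) F) : Matrix (Fin n) (Fin n) F)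
      = ((x⁻¹ : Matrix.SpecialLinearGroup (Fin n) F) : Matrix (Fin n) (Fin n) F) *
          ((x : Matrix (Fin n) (Fin n) F) * (1 + vecMulVec (-a) φ)) := by rw [h1, Matrix.mul_one]
    _ = _ := by rw [← Matrix.mul_assoc, ← Matrix.SpecialLinearGroup.coe_mul, inv_mul_cancel,
          Matrix.SpecialLinearGroup.coe_one, Matrix.one_mul]

theorem hasTv_neg (ha : HasTv H a φ) (h : φ ⬝ᵥ a = 0) : HasTv H (-a) φ := by
  obtain ⟨x, hx, hxm⟩ := ha
  exact ⟨x⁻¹, inv_mem hx, coe_inv_of_tv hxm h⟩

theorem hasTv_conj {g : Matrix.SpecialLinearGroup (Fin n) F} (hg : g ∈ H) (ha : HasTv H a φ) :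
    HasTv H ((g : Matrix (Fin n) (Fin n) F) *ᵥ a)
      (φ ᵥ* ((g⁻¹ : Matrix.SpecialLinearGroup (Fin n) F) : Matrix (Fin n) (Fin n) F)) := by
  obtain ⟨x, hx, hxm⟩ := ha
  refine ⟨g * x * g⁻¹, mul_mem (mul_mem hg hx) (inv_mem hg), ?_⟩
  rw [Matrix.SpecialLinearGroup.coe_mul, Matrix.SpecialLinearGroup.coe_mul, hxm, Matrix.mul_add, Matrix.mul_one,
    Matrix.add_mul, mul_vecMulVec, vecMulVec_mul]
  congr 1
  rw [← Matrix.SpecialLinearGroup.coe_mul, mul_inv_cancel, Matrix.SpecialLinearGroup.coe_one]

/-- Commutator of two transvections. -/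
theorem hasTv_comm (ha : HasTv H a φ) (hb : HasTv H b ψ) (hφa : φ ⬝ᵥ a = 0) (hφb : φ ⬝ᵥ b = 0)
    (hψb : ψ ⬝ᵥ b = 0) : HasTv H ((ψ ⬝ᵥ a) • b) φ := by
  obtain ⟨x, hx, hxm⟩ := hb
  have h1 := hasTv_conj hx ha
  rw [hxm, coe_inv_of_tv hxm hψb, Matrix.add_mulVec, Matrix.one_mulVec, vecMulVec_mulVec,
    Matrix.vecMul_add, Matrix.vecMul_one, vecMul_vecMulVec, dotProduct_neg, hφb, neg_zero,
    zero_smul, add_zero, op_smul_eq_smul] at h1
  have h2 := hasTv_add h1 (hasTv_neg ha hφa) (by rw [dotProduct_neg, hφa, neg_zero])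
  rwa [← sub_eq_add_neg, add_sub_cancel_left] at h2

end transv

section main

variable {F : Type u} [Field F] (m : ℕ)

local notation "N" => m + 3

/-- The index `j`. -/
def ix (j : ℕ) (h : j < N) : Fin N := ⟨j, h⟩

/-- The upper Jordan block. -/
def jordanUp : Matrix.SpecialLinearGroup (Fin N) F :=
  ⟨Matrix.of fun i j : Fin N => if i = j then 1 else if j.val = i.val + 1 then 1 else 0, by
    rw [Matrix.det_of_isUpperTriangular]
    · exact Finset.prod_eq_one fun i _ => by simp
    · intro i j hij
      have h : j.val < i.val := hij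
      rw [Matrix.of_apply, if_neg (fun he => by subst he; omega), if_neg (by omega)]⟩

theorem coe_jordanUp : ((jordanUp m : Matrix.SpecialLinearGroup (Fin N) F) : Matrix (Fin N) (Fin N) F) =
    Matrix.of fun i j : Fin N => if i = j then 1 else if j.val = i.val + 1 then 1 else 0 := rfl

theorem jordanUp_mulVec (i : Fin N) :
    ((jordanUp m : Matrix.SpecialLinearGroup (Fin N) F) : Matrix (Fin N) (Fin N) F) *ᵥ Pi.single i 1 =
      Pi.single i 1 + (if h : 0 < i.val then Pi.single (ix m (i.val - 1) (by omega)) 1 else 0) := by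
  ext j
  rw [Matrix.mulVec_single_one, Matrix.col_apply, coe_jordanUp, Matrix.of_apply, Pi.add_apply]
  by_cases hij : j = i
  · subst hij
    simp only [Pi.single_eq_same, ↓reduceIte]
    split_ifs with h
    · rw [Pi.single_eq_of_ne (by simp [ix, Fin.ext_iff]; omega), add_zero]
    · simp
  · rw [if_neg hij, Pi.single_eq_of_ne hij, zero_add]
    split_ifs with h1 h2 h2
    · rw [show ix m (i.val - 1) (by omega) = j from Fin.ext (by simp [ix]; omega), Pi.single_eq_same]
    · omega
    · rw [Pi.single_eq_of_ne]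
      intro he
      rw [he] at h1
      simp [ix] at h1
      omega
    · rfl

/-- The antidiagonal. -/
def antiDiag : Matrix (Fin N) (Fin N) F := Matrix.of fun i j => if j = i.rev then 1 else 0

/-- Lower bidiagonal matrix with weights `w`. -/
def jordanLow (w : Fin N → F) : Matrix (Fin N) (Fin N) F :=
  Matrix.of fun i j => if i = j then 1 else if i.val = j.val + 1 then w j else 0

theorem jordanLow_mulVec (w : Fin N → F) (i : Fin N) :
    jordanLow m w *ᵥ Pi.single i 1 =
      Pi.single i 1 + (if h : i.val + 1 < N then Pi.single (ix m (i.val + 1) h) (w i) else 0) := by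
  ext j
  rw [Matrix.mulVec_single_one, Matrix.col_apply, jordanLow, Matrix.of_apply, Pi.add_apply]
  by_cases hij : j = i
  · subst hij
    simp only [Pi.single_eq_same, ↓reduceIte]
    split_ifs with h
    · rw [Pi.single_eq_of_ne (by simp [ix, Fin.ext_iff]), add_zero]
    · simp
  · rw [if_neg hij, Pi.single_eq_of_ne hij, zero_add]
    split_ifs with h1 h2 h2
    · rw [show ix m (i.val + 1) h2 = j from Fin.ext (by simp [ix]; omega), Pi.single_eq_same]
    · omega
    · rw [Pi.single_eq_of_ne]
      intro he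
      rw [he] at h1
      simp [ix] at h1
    · rfl

variable [Fintype F]

/-- Three conjugates of a regular unipotent generate. -/
theorem exists_three_regular_generate :
    ∃ g h : Matrix.SpecialLinearGroup (Fin N) F,
      Subgroup.closure ({jordanUp m, g * jordanUp m * g⁻¹, h * jordanUp m * h⁻¹} :
        Set (Matrix.SpecialLinearGroup (Fin N) F)) = ⊤ := by
  classical
  -- the second conjugating element
  set d : F := (antiDiag m : Matrix (Fin N) (Fin N) F).det with hd
  have hd0 : d ≠ 0 := by
    have h1 : (antiDiag m : Matrix (Fin N) (Fin N) F) * antiDiag m = 1 := by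
      ext i j
      rw [Matrix.mul_apply, Finset.sum_eq_single i.rev] <;>
        simp +contextual [antiDiag, Matrix.one_apply, eq_comm]
    have := congrArg Matrix.det h1
    rw [Matrix.det_mul, Matrix.det_one, ← hd] at this
    exact left_ne_zero_of_mul_eq_one this
  set p : Fin N → F := fun j => if j.val = 1 then d⁻¹ else 1 with hp
  have hp0 : ∀ j, p j ≠ 0 := fun j => by simp only [hp]; split_ifs <;> simp [hd0]
  let P : Matrix.SpecialLinearGroup (Fin N) F := ⟨antiDiag m * Matrix.diagonal p, by
    rw [Matrix.det_mul, Matrix.det_diagonal, ← hd,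
      Finset.prod_eq_single (⟨1, by omega⟩ : Fin N)]
    · simp [hp, hd0]
    · intro b _ hb
      simp only [hp]
      rw [if_neg]
      exact fun h => hb (Fin.ext h)
    · simp⟩
  set w : Fin N → F := fun j => if h : j.val + 1 < N then
      p (ix m (m + 1 - j.val) (by omega)) / p (ix m (m + 2 - j.val) (by omega)) else 0 with hw
  have hw0 : ∀ j : Fin N, j.val + 1 < N → w j ≠ 0 := fun j hj => by
    rw [hw]; simp only [dif_pos hj]; exact div_ne_zero (hp0 _) (hp0 _)
  set L := P * jordanUp m * P⁻¹ with hL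
  have hLm : (L : Matrix (Fin N) (Fin N) F) = jordanLow m w := by
    have h1 : jordanLow m w * (P : Matrix (Fin N) (Fin N) F) =
        (P : Matrix (Fin N) (Fin N) F) * ((jordanUp m : Matrix.SpecialLinearGroup (Fin N) F) : Matrix (Fin N) (Fin N) F) := by
      ext i j
      show (jordanLow m w * (antiDiag m * Matrix.diagonal p) : Matrix (Fin N) (Fin N) F) i j =
        ((antiDiag m * Matrix.diagonal p : Matrix (Fin N) (Fin N) F) * ((jordanUp m : Matrix.SpecialLinearGroup (Fin N) F) : Matrix (Fin N) (Fin N) F)) i j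
      have hP : ∀ r s : Fin N, (antiDiag m * Matrix.diagonal p : Matrix (Fin N) (Fin N) F) r s =
          if s = r.rev then p s else 0 := fun r s => by
        rw [Matrix.mul_diagonal, antiDiag, Matrix.of_apply]; split_ifs <;> simp
      rw [Matrix.mul_apply, Matrix.mul_apply, Finset.sum_eq_single j.rev, Finset.sum_eq_single i.rev,
        hP, hP, if_pos (Fin.rev_rev j).symm, if_pos rfl, coe_jordanUp, jordanLow, Matrix.of_apply,
        Matrix.of_apply]
      · have e1 : (j.rev : ℕ) = m + 2 - j.val := by rw [Fin.val_rev]; omega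
        have e2 : (i.rev : ℕ) = m + 2 - i.val := by rw [Fin.val_rev]; omega
        by_cases hij : i = j.rev
        · rw [if_pos hij, one_mul, hij, Fin.rev_rev, if_pos rfl, mul_one]
        · rw [if_neg hij, if_neg (fun h : i.rev = j => hij (by rw [← h, Fin.rev_rev]))]
          by_cases hs : i.val = (j.rev : ℕ) + 1
          · rw [if_pos hs, if_pos (by omega), mul_one, hw]
            simp only [e1]
            rw [dif_pos (by omega)]
            have a1 : ix m (m + 2 - (m + 2 - j.val)) (by omega) = j := Fin.ext (by simp [ix]; omega)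
            have a2 : ix m (m + 1 - (m + 2 - j.val)) (by omega) = i.rev :=
              Fin.ext (by simp [ix]; omega)
            rw [a1, a2, div_mul_cancel₀ _ (hp0 j)]
          · rw [if_neg hs, if_neg (by omega), zero_mul, mul_zero]
      · intro b _ hb; rw [hP, if_neg hb, zero_mul]
      · simp
      · intro b _ hb; rw [hP, if_neg (fun h => hb (by rw [h, Fin.rev_rev])), mul_zero]
      · simp
    rw [hL, Matrix.SpecialLinearGroup.coe_mul, Matrix.SpecialLinearGroup.coe_mul, ← h1, Matrix.mul_assoc,
      ← Matrix.SpecialLinearGroup.coe_mul P, mul_inv_cancel, Matrix.SpecialLinearGroup.coe_one, Matrix.mul_one]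
  -- the functional
  set k : Fin N := ix m (m + 2) (by omega) with hk
  set e : Fin N → (Fin N → F) := fun i => Pi.single i 1 with he
  set o : Fin N := ix m 0 (by omega) with ho
  set φ : Fin N → F := e k with hφ
  set ψ : Fin N → F := φ ᵥ* ((L⁻¹ : Matrix.SpecialLinearGroup (Fin N) F) : Matrix (Fin N) (Fin N) F)
    with hψ
  have hψL : ∀ v, ψ ⬝ᵥ ((L : Matrix (Fin N) (Fin N) F) *ᵥ v) = φ ⬝ᵥ v := fun v => by
    rw [hψ, ← dotProduct_mulVec, Matrix.mulVec_mulVec, ← Matrix.SpecialLinearGroup.coe_mul, inv_mul_cancel,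
      Matrix.SpecialLinearGroup.coe_one, Matrix.one_mulVec]
  have hφe : ∀ i, φ ⬝ᵥ e i = if i = k then 1 else 0 := fun i => by
    simp [hφ, he, Pi.single_apply, eq_comm]
  have hψk : ψ k = 1 := by
    have := hψL (e k)
    rw [hLm, he, jordanLow_mulVec, dif_neg (by simp [hk, ix]), add_zero] at this
    simpa [hφ, he] using this
  have hψne : ∀ j : ℕ, (hj : j ≤ m + 2) → ψ (ix m (m + 2 - j) (by omega)) ≠ 0 := by
    intro j
    induction j with
    | zero => intro _; rw [show ix m (m + 2 - 0) (by omega) = k from rfl, hψk]; exact one_ne_zero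
    | succ j ih =>
      intro hj
      set i := ix m (m + 2 - (j + 1)) (by omega) with hi
      have hiv : i.val = m + 2 - (j + 1) := rfl
      have := hψL (e i)
      rw [hLm, he, jordanLow_mulVec, dif_pos (by omega : i.val + 1 < N)] at this
      simp only [dotProduct_add, dotProduct_single, mul_one] at this
      simp only [hφ, he] at this
      rw [Pi.single_eq_of_ne (by simp [hk, ix, Fin.ext_iff, hiv]; omega)] at this
      have hn : ix m (i.val + 1) (by omega) = ix m (m + 2 - j) (by omega) :=
        Fin.ext (by simp [ix, hiv]; omega)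
      rw [hn] at this
      intro h0
      rw [h0, zero_add] at this
      rcases mul_eq_zero.1 this with h | h
      · exact ih (by omega) h
      · exact hw0 i (by omega) h
  set μ := ψ o with hμ
  have hμ0 : μ ≠ 0 := by
    have := hψne (m + 2) le_rfl
    simpa [hμ, ho] using this
  -- the parameter
  obtain ⟨ν, hν⟩ := IsCyclic.exists_generator (α := Fˣ)
  set w₀ := w o with hw₀
  have hw₀0 : w₀ ≠ 0 := hw0 o (by simp [ho, ix])
  set x : F := (ν : F) / (μ * w₀) with hx
  -- the first conjugating element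
  set one' : Fin N := ix m 1 (by omega) with hone
  let g : Matrix.SpecialLinearGroup (Fin N) F :=
    Matrix.SpecialLinearGroup.transvection (show one' ≠ k by simp [hone, hk, ix]) (-x)
  let T : Matrix.SpecialLinearGroup (Fin N) F :=
    Matrix.SpecialLinearGroup.transvection (show o ≠ k by simp [ho, hk, ix]) x
  have hJ' : g * jordanUp m * g⁻¹ = jordanUp m * T := by
    rw [mul_inv_eq_iff_eq_mul]
    apply SL_ext_smul
    intro v
    simp only [g, T, mul_smul, transvection_smul]
    funext l
    have hJ : ∀ (u : Fin N → F) (l : Fin N), ((jordanUp m : Matrix.SpecialLinearGroup (Fin N) F) • u) l =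
        u l + (if h : l.val + 1 < N then u (ix m (l.val + 1) h) else 0) := by
      intro u l
      show (((jordanUp m : Matrix.SpecialLinearGroup (Fin N) F) : Matrix (Fin N) (Fin N) F) *ᵥ u) l = _
      rw [coe_jordanUp]
      simp only [Matrix.mulVec, dotProduct, Matrix.of_apply, ite_mul, one_mul, zero_mul]
      rw [Finset.sum_eq_add_sum_sdiff_singleton_of_mem (Finset.mem_univ l), if_pos rfl]
      congr 1
      split_ifs with h
      · rw [Finset.sum_eq_single (ix m (l.val + 1) h)]
        · rw [if_neg (by simp [ix, Fin.ext_iff])]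
          exact if_pos rfl
        · intro b hb hne
          simp only [Finset.mem_sdiff, Finset.mem_singleton] at hb
          rw [if_neg (Ne.symm hb.2)]
          exact if_neg (fun hh => hne (Fin.ext hh))
        · intro hh
          exact absurd (Finset.mem_sdiff.2 ⟨Finset.mem_univ _, by simp [ix, Fin.ext_iff]⟩) hh
      · refine Finset.sum_eq_zero fun b hb => ?_
        simp only [Finset.mem_sdiff, Finset.mem_singleton] at hb
        rw [if_neg (Ne.symm hb.2), if_neg (by omega)]
    have hkv : ∀ u : Fin N → F, ((jordanUp m : Matrix.SpecialLinearGroup (Fin N) F) • u) k = u k := by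
      intro u; rw [hJ, dif_neg (by simp [hk, ix]), add_zero]
    simp only [Pi.add_apply, hJ, hkv, Pi.single_apply]
    by_cases h1 : l = o
    · subst h1
      simp [ho, hone, hk, ix, Fin.ext_iff]
      ring
    · by_cases h2 : l = one'
      · subst h2
        simp [ho, hone, hk, ix, Fin.ext_iff]
        abel
      · have a1 : l.val ≠ 0 := fun h => h1 (Fin.ext (by simp [ho, ix, h]))
        have a2 : l.val ≠ 1 := fun h => h2 (Fin.ext (by simp [hone, ix, h]))
        simp only [ho, hone, hk, ix, Fin.ext_iff]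
        split_ifs <;> first | contradiction | omega | simp | ring
  refine ⟨g, P, ?_⟩
  set H := Subgroup.closure ({jordanUp m, g * jordanUp m * g⁻¹, P * jordanUp m * P⁻¹} :
    Set (Matrix.SpecialLinearGroup (Fin N) F)) with hH
  have hJm : jordanUp m ∈ H := Subgroup.subset_closure (Set.mem_insert _ _)
  have hLH : L ∈ H := Subgroup.subset_closure (Or.inr (Or.inr rfl))
  have hTH : T ∈ H := by
    have : g * jordanUp m * g⁻¹ ∈ H := Subgroup.subset_closure (Or.inr (Or.inl rfl))
    rw [hJ'] at this
    simpa using mul_mem (inv_mem hJm) this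
  have hφJ : φ ᵥ* ((jordanUp m : Matrix.SpecialLinearGroup (Fin N) F) : Matrix (Fin N) (Fin N) F) = φ := by
    simp only [hφ, he]
    rw [single_one_vecMul, coe_jordanUp]
    funext j
    rw [Matrix.row_apply, Matrix.of_apply, Pi.single_apply]
    by_cases h : j = k
    · rw [if_pos h, if_pos h.symm]
    · rw [if_neg h, if_neg (Ne.symm h), if_neg (by simp [hk, ix]; omega)]
  -- the centres with axis `φ`
  let W : AddSubgroup (Fin N → F) :=
    { carrier := {a | φ ⬝ᵥ a = 0 ∧ HasTv H a φ}
      zero_mem' := ⟨dotProduct_zero _, hasTv_zero _⟩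
      add_mem' := fun {a b} ha hb =>
        ⟨by rw [dotProduct_add, ha.1, hb.1, add_zero], hasTv_add ha.2 hb.2 hb.1⟩
      neg_mem' := fun {a} ha => ⟨by rw [dotProduct_neg, ha.1, neg_zero], hasTv_neg ha.2 ha.1⟩ }
  have hWJ : ∀ a ∈ W, ((jordanUp m : Matrix.SpecialLinearGroup (Fin N) F) : Matrix (Fin N) (Fin N) F) *ᵥ a
      ∈ W := by
    rintro a ⟨ha, hT⟩
    refine ⟨by rw [dotProduct_mulVec, hφJ, ha], ?_⟩
    have := hasTv_conj hJm hT
    have e2 : φ ᵥ* (((jordanUp m)⁻¹ : Matrix.SpecialLinearGroup (Fin N) F) : Matrix (Fin N) (Fin N) F) = φ := by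
      conv_lhs => rw [← hφJ]
      rw [Matrix.vecMul_vecMul, ← Matrix.SpecialLinearGroup.coe_mul, mul_inv_cancel,
        Matrix.SpecialLinearGroup.coe_one, Matrix.vecMul_one]
    rwa [e2] at this
  have hWL : ∀ a ∈ W, ∀ v ∈ W, φ ⬝ᵥ ((L : Matrix (Fin N) (Fin N) F) *ᵥ v) = 0 →
      (ψ ⬝ᵥ a) • ((L : Matrix (Fin N) (Fin N) F) *ᵥ v) ∈ W := by
    rintro a ⟨ha, hTa⟩ v ⟨hv, hTv⟩ h0
    refine ⟨by rw [dotProduct_smul, h0, smul_zero], ?_⟩
    exact hasTv_comm hTa (hasTv_conj hLH hTv) ha h0 (by rw [hψL, hv])
  have hLe : ∀ (i : Fin N) (hi : i.val + 1 < N) (c : F),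
      (L : Matrix (Fin N) (Fin N) F) *ᵥ (c • e i) =
        c • e i + (c * w i) • e (ix m (i.val + 1) hi) := by
    intro i hi c
    rw [Matrix.mulVec_smul, hLm, he, jordanLow_mulVec, dif_pos hi, smul_add, mul_smul]
    congr 2
    simp only [← Pi.single_smul, smul_eq_mul, mul_one]
  have hx0 : x • e o ∈ W := by
    refine ⟨by rw [dotProduct_smul, hφe, if_neg (by simp [ho, hk, ix]), smul_zero], T, hTH, ?_⟩
    simp only [T, Matrix.SpecialLinearGroup.transvection_coe, hφ, he]
    congr 1
    exact single_eq_vecMulVec _ _ _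
  have hS : ∀ c c' : F, c • e o ∈ W → c' • e o ∈ W → (μ * c' * c * w₀) • e o ∈ W := by
    intro c c' hc hc'
    have h0 : φ ⬝ᵥ ((L : Matrix (Fin N) (Fin N) F) *ᵥ (c • e o)) = 0 := by
      rw [hLe o (by simp [ho, ix]) c]
      simp only [dotProduct_add, dotProduct_smul, hφe]
      rw [if_neg (by simp [ho, hk, ix]), if_neg (by simp [ho, hk, ix])]
      simp
    have h1 := hWL _ hc' _ hc h0
    rw [hLe o (by simp [ho, ix]) c, smul_add, smul_smul, smul_smul] at h1
    have hψo : ψ ⬝ᵥ (c' • e o) = c' * μ := by simp [he, hμ, ho]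
    rw [hψo] at h1
    have h2 := sub_mem (hWJ _ h1) h1
    have hJo : ((jordanUp m : Matrix.SpecialLinearGroup (Fin N) F) : Matrix (Fin N) (Fin N) F) *ᵥ e o = e o := by
      rw [he, jordanUp_mulVec, dif_neg (by simp [ho, ix]), add_zero]
    have hJ1 : ((jordanUp m : Matrix.SpecialLinearGroup (Fin N) F) : Matrix (Fin N) (Fin N) F) *ᵥ
        e (ix m (o.val + 1) (by simp [ho, ix])) = e (ix m (o.val + 1) (by simp [ho, ix])) + e o := by
      rw [he, jordanUp_mulVec, dif_pos (by simp [ix])]
      congr 2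
    rw [Matrix.mulVec_add, Matrix.mulVec_smul, Matrix.mulVec_smul, hJo, hJ1, smul_add,
      ← add_assoc, add_sub_cancel_left] at h2
    convert h2 using 2
    rw [hw₀]; ring
  have hline : ∀ c : F, c • e o ∈ W := by
    have hpow : ∀ i : ℕ, ((ν : F) ^ (i + 1) / (μ * w₀)) • e o ∈ W := by
      intro i
      induction i with
      | zero => simpa [hx] using hx0
      | succ i ih =>
        convert hS _ _ ih hx0 using 2
        rw [hx, pow_succ]
        field_simp
    intro c
    rcases eq_or_ne c 0 with rfl | hc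
    · rw [zero_smul]; exact zero_mem W
    obtain ⟨i, hi⟩ := (isOfFinOrder_of_finite ν).mem_powers_iff_mem_zpowers.2
      (hν (Units.mk0 (c * (μ * w₀)) (mul_ne_zero hc (mul_ne_zero hμ0 hw₀0))))
    simp only at hi
    have hi' : (ν : F) ^ i = c * (μ * w₀) := by
      have := congrArg Units.val hi
      simpa using this
    have hco : c = (ν : F) ^ i / (μ * w₀) := by
      rw [hi', mul_div_cancel_right₀ _ (mul_ne_zero hμ0 hw₀0)]
    cases i with
    | zero =>
      have hν1 : (ν : F) ^ Fintype.card F / (μ * w₀) = (ν : F) / (μ * w₀) := by rw [FiniteField.pow_card]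
      have := hpow (Fintype.card F - 2)
      rw [show Fintype.card F - 2 + 1 = Fintype.card F - 1 by
        have := Fintype.one_lt_card (α := F); omega, FiniteField.pow_card_sub_one_eq_one _ ν.ne_zero]
        at this
      rw [hco, pow_zero]
      exact this
    | succ i => rw [hco]; exact hpow i
  have hall : ∀ j : ℕ, (hj : j ≤ m + 1) → ∀ c : F, c • e (ix m j (by omega)) ∈ W := by
    intro j
    induction j with
    | zero => exact fun _ => hline
    | succ j ih =>
      intro hj c
      set i := ix m j (show j < N by omega) with hi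
      have hiw := hw0 i (by simp [hi, ix]; omega)
      have h0 : φ ⬝ᵥ ((L : Matrix (Fin N) (Fin N) F) *ᵥ ((c / w i) • e i)) = 0 := by
        rw [hLe i (by simp [hi, ix]; omega)]
        simp only [dotProduct_add, dotProduct_smul, hφe]
        rw [if_neg (by simp [hi, hk, ix]; omega), if_neg (by simp [hi, hk, ix]; omega)]
        simp
      have h1 := hWL _ (hline μ⁻¹) _ (ih (by omega) (c / w i)) h0
      have hψ1 : ψ ⬝ᵥ (μ⁻¹ • e o) = 1 := by
        rw [dotProduct_smul, he, dotProduct_single, mul_one, ← hμ, smul_eq_mul, inv_mul_cancel₀ hμ0]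
      rw [hψ1, one_smul, hLe i (by simp [hi, ix]; omega), div_mul_cancel₀ _ hiw] at h1
      have h2 := sub_mem h1 (ih (by omega) (c / w i))
      rwa [add_sub_cancel_left] at h2
  have hker : ∀ a : Fin N → F, φ ⬝ᵥ a = 0 → a ∈ W := by
    intro a ha
    have hak : a k = 0 := by simpa [hφ, he] using ha
    rw [show a = ∑ i, a i • e i from pi_eq_sum_univ' a]
    refine sum_mem fun i _ => ?_
    by_cases hi : i = k
    · rw [hi, hak, zero_smul]; exact zero_mem W
    · have : i.val ≤ m + 1 := by
        have := i.isLt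
        have : i.val ≠ m + 2 := fun h => hi (Fin.ext (by simp [hk, ix, h]))
        omega
      exact hall i.val this (a i)
  -- the axes
  let θ : Fin N → (Fin N → F) :=
    fun j => φ ᵥ* ((L ^ j.val : Matrix.SpecialLinearGroup (Fin N) F) : Matrix (Fin N) (Fin N) F)
  have haxis : ∀ j a, θ j ⬝ᵥ a = 0 → HasTv H a (θ j) := by
    intro j a ha
    set g' := (L ^ j.val : Matrix.SpecialLinearGroup (Fin N) F) with hg'
    have h0 : φ ⬝ᵥ ((g' : Matrix (Fin N) (Fin N) F) *ᵥ a) = 0 := by
      rw [dotProduct_mulVec]; exact ha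
    have := hasTv_conj (inv_mem (pow_mem hLH j.val)) (hker _ h0).2
    rw [inv_inv, ← hg', Matrix.mulVec_mulVec, ← Matrix.SpecialLinearGroup.coe_mul, inv_mul_cancel,
      Matrix.SpecialLinearGroup.coe_one, Matrix.one_mulVec] at this
    exact this
  have hspan : ∀ j : ℕ, (hj : j ≤ m + 2) →
      e (ix m (m + 2 - j) (by omega)) ∈ Submodule.span F (θ '' {i | i.val ≤ j}) := by
    intro j
    induction j with
    | zero =>
      intro _
      refine Submodule.subset_span ⟨o, by simp [ho, ix], ?_⟩
      simp [θ, ho, ix, hφ, hk]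
    | succ j ih =>
      intro hj
      set M := (Submodule.span F (θ '' {i : Fin N | i.val ≤ j + 1})) with hM
      have hstep : ∀ y ∈ Submodule.span F (θ '' {i : Fin N | i.val ≤ j}),
          y ∈ M ∧ y ᵥ* (L : Matrix (Fin N) (Fin N) F) ∈ M := by
        intro y hy
        induction hy using Submodule.span_induction with
        | mem y hy =>
          obtain ⟨i, hi, rfl⟩ := hy
          simp only [Set.mem_setOf_eq] at hi
          refine ⟨Submodule.subset_span ⟨i, by simp only [Set.mem_setOf_eq]; omega, rfl⟩,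
            Submodule.subset_span ⟨ix m (i.val + 1) (by omega), by simp [ix]; omega, ?_⟩⟩
          simp only [θ, ix]
          rw [Matrix.vecMul_vecMul, ← Matrix.SpecialLinearGroup.coe_mul, ← pow_succ]
        | zero => simp
        | add y z _ _ hy hz => exact ⟨add_mem hy.1 hz.1, by rw [Matrix.add_vecMul]; exact add_mem hy.2 hz.2⟩
        | smul c y _ hy =>
          exact ⟨Submodule.smul_mem _ c hy.1, by rw [Matrix.smul_vecMul]; exact Submodule.smul_mem _ c hy.2⟩
      obtain ⟨h1, h2⟩ := hstep _ (ih (by omega))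
      set i := ix m (m + 2 - (j + 1)) (show m + 2 - (j + 1) < N by omega) with hi
      set i' := ix m (m + 2 - j) (show m + 2 - j < N by omega) with hi'
      have hiw := hw0 i (by simp [hi, ix]; omega)
      have hrow : e i' ᵥ* (L : Matrix (Fin N) (Fin N) F) - e i' = w i • e i := by
        rw [he, single_one_vecMul, hLm]
        funext r
        simp only [Pi.sub_apply, Matrix.row_apply, jordanLow, Matrix.of_apply, Pi.smul_apply,
          smul_eq_mul, Pi.single_apply]
        by_cases hr : r = i'
        · subst hr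
          simp [hi, hi', ix, Fin.ext_iff]
          omega
        · rw [if_neg (Ne.symm hr), if_neg hr, sub_zero]
          by_cases hr2 : r = i
          · rw [if_pos hr2, if_pos (by rw [hr2]; simp [hi, hi', ix]; omega), hr2, mul_one]
          · rw [if_neg hr2, if_neg (fun hh => hr2 (Fin.ext (by simp [hi', ix] at hh; simp [hi, ix]; omega))),
              mul_zero]
      have := Submodule.smul_mem M (w i)⁻¹ (sub_mem h2 h1)
      rwa [hrow, inv_smul_smul₀ hiw] at this
  have htop : ⊤ ≤ Submodule.span F (Set.range θ) := by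
    intro y _
    rw [show y = ∑ i, y i • e i from pi_eq_sum_univ' y]
    refine sum_mem fun i _ => Submodule.smul_mem _ _ ?_
    have := hspan (m + 2 - i.val) (by omega)
    rw [show ix m (m + 2 - (m + 2 - i.val)) (by omega) = i from Fin.ext (by simp [ix]; omega)] at this
    exact Submodule.span_mono (Set.image_subset_range θ _) this
  have hli : LinearIndependent F θ :=
    linearIndependent_of_top_le_span_of_card_eq_finrank htop (by simp)
  have hQ : IsUnit (Matrix.of θ) := Matrix.linearIndependent_rows_iff_isUnit.1 hli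
  set Q := hQ.unit with hQd
  have hQv : (Q : Matrix (Fin N) (Fin N) F) = Matrix.of θ := hQ.unit_spec
  let c : Matrix.SpecialLinearGroup (Fin N) F →* Matrix.SpecialLinearGroup (Fin N) F := MonoidHom.mk'
    (fun s => ⟨(↑Q⁻¹ : Matrix (Fin N) (Fin N) F) * s * (Q : Matrix (Fin N) (Fin N) F), by
      rw [Matrix.det_units_conj']; exact s.2⟩)
    (fun s t => Subtype.ext (by
      show (↑Q⁻¹ : Matrix (Fin N) (Fin N) F) * ((s * t : Matrix.SpecialLinearGroup (Fin N) F) : Matrix (Fin N) (Fin N) F) *
          (Q : Matrix (Fin N) (Fin N) F) =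
        ((↑Q⁻¹ : Matrix (Fin N) (Fin N) F) * s * (Q : Matrix (Fin N) (Fin N) F)) *
          ((↑Q⁻¹ : Matrix (Fin N) (Fin N) F) * t * (Q : Matrix (Fin N) (Fin N) F))
      simp [Matrix.mul_assoc]))
  have hc : Function.Surjective c := fun s => ⟨⟨(Q : Matrix (Fin N) (Fin N) F) * s * (↑Q⁻¹ : Matrix (Fin N) (Fin N) F), by
      rw [Matrix.det_units_conj]; exact s.2⟩, Subtype.ext (by
      show (↑Q⁻¹ : Matrix (Fin N) (Fin N) F) * ((Q : Matrix (Fin N) (Fin N) F) * s *
        (↑Q⁻¹ : Matrix (Fin N) (Fin N) F)) * (Q : Matrix (Fin N) (Fin N) F) = s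
      simp [Matrix.mul_assoc])⟩
  have hcH : H.comap c = ⊤ := by
    refine eq_top_of_transvection_mem _ fun i j hij y => ?_
    have h0 : θ j ⬝ᵥ ((↑Q⁻¹ : Matrix (Fin N) (Fin N) F) *ᵥ (y • e i)) = 0 := by
      have hθ : θ j = e j ᵥ* (Q : Matrix (Fin N) (Fin N) F) := by
        rw [hQv, he, single_one_vecMul]; rfl
      rw [hθ, ← dotProduct_mulVec, Matrix.mulVec_mulVec, ← Units.val_mul, mul_inv_cancel,
        Units.val_one, Matrix.one_mulVec]
      simp [he, hij, hij.symm]
    obtain ⟨h, hh, hhm⟩ := haxis j _ h0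
    show c (Matrix.SpecialLinearGroup.transvection hij y) ∈ H
    convert hh using 1
    apply Subtype.ext
    rw [hhm]
    show (↑Q⁻¹ : Matrix (Fin N) (Fin N) F) *
      (Matrix.SpecialLinearGroup.transvection hij y : Matrix.SpecialLinearGroup (Fin N) F) * (Q : Matrix (Fin N) (Fin N) F) = _
    rw [Matrix.SpecialLinearGroup.transvection_coe, Matrix.mul_add, Matrix.mul_one, Matrix.add_mul,
      ← Units.val_mul, inv_mul_cancel, Units.val_one]
    congr 1
    have hs : (Matrix.single i j y : Matrix (Fin N) (Fin N) F) = vecMulVec (y • e i) (e j) := by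
      simp only [he]
      exact single_eq_vecMulVec _ _ _
    rw [hs, mul_vecMulVec, vecMulVec_mul]
    congr 1
    rw [hQv, he, single_one_vecMul]; rfl
  rw [eq_top_iff]
  intro s _
  obtain ⟨r, rfl⟩ := hc s
  exact (hcH.symm ▸ Subgroup.mem_top r : r ∈ H.comap c)

omit [Fintype F] in
theorem jordanUp_regular :
    IsNilpotent (((jordanUp m : Matrix.SpecialLinearGroup (Fin N) F) : Matrix (Fin N) (Fin N) F) - 1) ∧
      (((jordanUp m : Matrix.SpecialLinearGroup (Fin N) F) : Matrix (Fin N) (Fin N) F) - 1) ^ (N - 1) ≠ 0 := by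
  set A := ((jordanUp m : Matrix.SpecialLinearGroup (Fin N) F) : Matrix (Fin N) (Fin N) F) - 1 with hA
  have hA' : ∀ i j : Fin N, A i j = if j.val = i.val + 1 then 1 else 0 := by
    intro i j
    rw [hA, Matrix.sub_apply, coe_jordanUp, Matrix.of_apply, Matrix.one_apply]
    by_cases h : i = j
    · subst h; simp
    · simp [h]
  have hpow : ∀ (r : ℕ) (i j : Fin N), (A ^ r) i j = if j.val = i.val + r then 1 else 0 := by
    intro r
    induction r with
    | zero => intro i j; simp [Matrix.one_apply, Fin.ext_iff, eq_comm]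
    | succ r ih =>
      intro i j
      rw [pow_succ, Matrix.mul_apply]
      simp only [ih, hA', ite_mul, one_mul, zero_mul]
      by_cases h : j.val = i.val + (r + 1)
      · rw [if_pos h, Finset.sum_eq_single (ix m (i.val + r) (by omega))]
        · have e1 : (ix m (i.val + r) (by omega) : Fin N).val = i.val + r := rfl
          exact (if_pos e1).trans (if_pos (by omega))
        · intro b _ hb
          exact if_neg (fun hh => hb (Fin.ext hh))
        · simp
      · rw [if_neg h]
        exact Finset.sum_eq_zero fun b _ => by split_ifs <;> first | rfl | omega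
  constructor
  · exact ⟨N, Matrix.ext fun i j => by rw [hpow, Matrix.zero_apply, if_neg (by omega)]⟩
  · intro h
    have := congrFun (congrFun h (ix m 0 (by omega))) (ix m (m + 2) (by omega))
    rw [hpow, if_pos (by simp [ix])] at this
    exact one_ne_zero this

end main

end H37
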